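import Groth.Agent.H16Derived.KInjRes.Main
import Mathlib.Algebra.Homology.DerivedCategory.KInjective
import Mathlib.Algebra.Homology.HomologicalComplexLimits

/-!
# The localization functor to the derived category of a Grothendieck abelian category preserves coproducts
-/

set_option autoImplicit false

universe w v u

open CategoryTheory CategoryTheory.Limits

namespace Groth.Agent.H16Derived.QCoprod

variable {A : Type u} [Category.{v} A] [Abelian A] [HasDerivedCategory.{w} A]

/-- Homotopies out of the summands of a coproduct give a homotopy out of the coproduct. -/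
lemma nonempty_homotopy {ι : Type v} {K : ι → CochainComplex A ℤ} {c : Cofan K}
    (hc : ∀ n : ℤ, IsColimit ((HomologicalComplex.eval A (ComplexShape.up ℤ) n).mapCocone c))
    {L : CochainComplex A ℤ} (f g : c.pt ⟶ L) (h : ∀ i, Nonempty (Homotopy (c.inj i ≫ f) (c.inj i ≫ g))) :
    Nonempty (Homotopy f g) := by
  let hh : ∀ p q : ℤ, c.pt.X p ⟶ L.X q := fun p q =>
    (hc p).desc ⟨L.X q, Discrete.natTrans fun i => (h i.as).some.hom p q⟩
  have fac : ∀ (i : ι) (p q : ℤ), (c.inj i).f p ≫ hh p q = (h i).some.hom p q := fun i p q =>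
    (hc p).fac _ ⟨i⟩
  refine ⟨{ hom := hh, zero := fun p q hpq => (hc p).hom_ext fun i => ?_, comm := fun n =>
    (hc n).hom_ext fun i => ?_ }⟩
  · exact (fac i.as p q).trans (((h i.as).some.zero p q hpq).trans comp_zero.symm)
  · show (c.inj i.as).f n ≫ f.f n = (c.inj i.as).f n ≫ _
    have e := (h i.as).some.comm n
    rw [HomologicalComplex.comp_f, HomologicalComplex.comp_f,
      dNext_eq (h i.as).some.hom (show (ComplexShape.up ℤ).Rel n (n + 1) from rfl),
      prevD_eq (h i.as).some.hom (show (ComplexShape.up ℤ).Rel (n - 1) n from sub_add_cancel n 1)] at e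
    rw [dNext_eq hh (show (ComplexShape.up ℤ).Rel n (n + 1) from rfl),
      prevD_eq hh (show (ComplexShape.up ℤ).Rel (n - 1) n from sub_add_cancel n 1),
      Preadditive.comp_add, Preadditive.comp_add, HomologicalComplex.Hom.comm_assoc, fac,
      reassoc_of% fac]
    exact e

variable [IsGrothendieckAbelian.{v} A]

/-- `Q` preserves coproducts. -/
theorem preservesColimit_Q {ι : Type v} (K : ι → CochainComplex A ℤ) :
    PreservesColimit (Discrete.functor K) (DerivedCategory.Q (C := A)) := by
  obtain ⟨N, j, hN⟩ := KInjRes.exists_resolution_functor (A := A)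
  refine preservesColimit_of_preserves_colimit_cocone (coproductIsCoproduct K)
    ((isColimitMapCoconeCofanMkEquiv _ K (Sigma.ι K)).symm ?_)
  have hiso : ∀ M, IsIso (DerivedCategory.Q.map (j.app M)) := fun M =>
    Localization.inverts _ (HomologicalComplex.quasiIso A (ComplexShape.up ℤ)) _ (hN M).2.1
  have hsurj : ∀ (X : CochainComplex A ℤ) (M : CochainComplex A ℤ)
      (φ : DerivedCategory.Q.obj X ⟶ DerivedCategory.Q.obj (N.obj M)),
      ∃ ψ : X ⟶ N.obj M, DerivedCategory.Q.map ψ = φ := fun X M φ => by
    have := (hN M).2.2.1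
    obtain ⟨ψ', hψ'⟩ := (CochainComplex.IsKInjective.Qh_map_bijective
      ((HomotopyCategory.quotient _ _).obj X) (N.obj M)).2
        ((DerivedCategory.quotientCompQhIso A).hom.app X ≫ φ ≫
          (DerivedCategory.quotientCompQhIso A).inv.app (N.obj M))
    obtain ⟨ψ, rfl⟩ := (HomotopyCategory.quotient _ _).map_surjective ψ'
    exact ⟨ψ, by
      rw [← cancel_epi ((DerivedCategory.quotientCompQhIso A).hom.app X),
        ← DerivedCategory.quotientCompQhIso_hom_naturality, hψ', Category.assoc, Category.assoc,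
        Iso.inv_hom_id_app]
      exact congrArg (_ ≫ ·) (Category.comp_id _)⟩
  have hinj : ∀ (X : CochainComplex A ℤ) (M : CochainComplex A ℤ) (ψ ψ' : X ⟶ N.obj M),
      DerivedCategory.Q.map ψ = DerivedCategory.Q.map ψ' → Nonempty (Homotopy ψ ψ') :=
    fun X M ψ ψ' e => by
      have := (hN M).2.2.1
      refine ⟨HomotopyCategory.homotopyOfEq _ _ ((CochainComplex.IsKInjective.Qh_map_bijective
        ((HomotopyCategory.quotient _ _).obj X) (N.obj M)).1 ?_)⟩
      rw [← cancel_mono ((DerivedCategory.quotientCompQhIso A).hom.app (N.obj M)),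
        DerivedCategory.quotientCompQhIso_hom_naturality,
        DerivedCategory.quotientCompQhIso_hom_naturality, e]
  have key : ∀ s : Cofan fun i => DerivedCategory.Q.obj (K i),
      ∃! m : DerivedCategory.Q.obj (∐ K) ⟶ s.pt, ∀ i, DerivedCategory.Q.map (Sigma.ι K i) ≫ m = s.inj i := by
    intro s
    obtain ⟨M, ⟨e⟩⟩ : ∃ M, Nonempty (DerivedCategory.Q.obj M ≅ s.pt) :=
      have := Localization.essSurj (DerivedCategory.Q (C := A))
        (HomologicalComplex.quasiIso A (ComplexShape.up ℤ))
      ⟨_, ⟨DerivedCategory.Q.objObjPreimageIso s.pt⟩⟩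
    have := hiso M
    let e' : DerivedCategory.Q.obj (N.obj M) ≅ s.pt := (asIso (DerivedCategory.Q.map (j.app M))).symm ≪≫ e
    choose φ hφ using fun i => hsurj (K i) M (s.inj i ≫ e'.inv)
    refine ⟨DerivedCategory.Q.map (Sigma.desc φ) ≫ e'.hom, fun i => ?_, fun m hm => ?_⟩
    · rw [← Functor.map_comp_assoc, Sigma.ι_desc, hφ, Category.assoc, Iso.inv_hom_id,
        Category.comp_id]
    · obtain ⟨ψ, hψ⟩ := hsurj _ M (m ≫ e'.inv)
      rw [← Iso.comp_inv_eq, ← hψ]
      obtain ⟨h⟩ := nonempty_homotopy (c := Cofan.mk _ (Sigma.ι K))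
        (fun n => isColimitOfPreserves (HomologicalComplex.eval A (ComplexShape.up ℤ) n)
          (coproductIsCoproduct K)) ψ (Sigma.desc φ) fun i => hinj _ M _ _ (by
            show DerivedCategory.Q.map (Sigma.ι K i ≫ ψ) = DerivedCategory.Q.map (Sigma.ι K i ≫ _)
            rw [Sigma.ι_desc, Functor.map_comp, hψ, reassoc_of% hm, hφ])
      refine (cancel_epi ((DerivedCategory.quotientCompQhIso A).hom.app _)).1 ?_
      rw [← DerivedCategory.quotientCompQhIso_hom_naturality,
        ← DerivedCategory.quotientCompQhIso_hom_naturality, HomotopyCategory.eq_of_homotopy _ _ h]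
  refine mkCofanColimit _ (fun s => (key s).choose) (fun s i => (key s).choose_spec.1 i)
    (fun s m hm => (key s).choose_spec.2 m hm)

/-- `Q` preserves small coproducts. -/
theorem preservesColimitsOfShape_Q (ι : Type v) :
    PreservesColimitsOfShape (Discrete ι) (DerivedCategory.Q (C := A)) :=
  ⟨fun {F} =>
    have : PreservesColimit (Discrete.functor (F.obj ∘ Discrete.mk)) (DerivedCategory.Q (C := A)) :=
      preservesColimit_Q (A := A) _
    preservesColimit_of_iso_diagram _ Discrete.natIsoFunctor.symm⟩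

end Groth.Agent.H16Derived.QCoprod
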