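import Mathlib.Algebra.Homology.DerivedCategory.TStructure
import Mathlib.Algebra.Homology.DerivedCategory.HomologySequence
import Mathlib.Algebra.Homology.DerivedCategory.FullyFaithful
import Mathlib.CategoryTheory.Triangulated.TStructure.TruncLTGE

/-!
# Morphisms vanishing on cohomology factor through truncations
-/

universe w v u

open CategoryTheory CategoryTheory.Limits CategoryTheory.Pretriangulated CategoryTheory.Triangulated
open DerivedCategory DerivedCategory.TStructure

namespace Groth.Agent.H16Derived.DTrunc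

variable {A : Type u} [Category.{v} A] [Abelian A] [HasDerivedCategory.{w} A]

lemma isIso_homology_truncGEπ (X : DerivedCategory A) (n i : ℤ) (h : n ≤ i) :
    IsIso ((homologyFunctor A i).map ((t.truncGEπ n).app X)) := by
  let T := (t.triangleLTGE n).obj X
  have hT : T ∈ distTriang _ := t.triangleLTGE_distinguished n X
  have h₁ : T.obj₁.IsLE (n - 1) := inferInstanceAs (t.IsLE ((t.truncLT n).obj X) (n - 1))
  have : Mono ((homologyFunctor A i).map T.mor₂) :=
    (HomologySequence.mono_homologyMap_mor₂_iff T hT i).2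
      ((T.obj₁.isZero_of_isLE (n - 1) i (by lia)).eq_of_src _ _)
  have : Epi ((homologyFunctor A i).map T.mor₂) :=
    (HomologySequence.epi_homologyMap_mor₂_iff T hT i (i + 1)).2
      ((T.obj₁.isZero_of_isLE (n - 1) (i + 1) (by lia)).eq_of_tgt _ _)
  exact isIso_of_mono_of_epi ((homologyFunctor A i).map T.mor₂)

lemma isIso_homology_truncLTι (X : DerivedCategory A) (n i : ℤ) (h : i < n) :
    IsIso ((homologyFunctor A i).map ((t.truncLTι n).app X)) := by
  let T := (t.triangleLTGE n).obj X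
  have hT : T ∈ distTriang _ := t.triangleLTGE_distinguished n X
  have h₃ : T.obj₃.IsGE n := inferInstanceAs (t.IsGE ((t.truncGE n).obj X) n)
  have : Epi ((homologyFunctor A i).map T.mor₁) :=
    (HomologySequence.epi_homologyMap_mor₁_iff T hT i).2
      ((T.obj₃.isZero_of_isGE n i h).eq_of_tgt _ _)
  have : Mono ((homologyFunctor A i).map T.mor₁) :=
    (HomologySequence.mono_homologyMap_mor₁_iff T hT (i - 1) i).2
      ((T.obj₃.isZero_of_isGE n (i - 1) (by lia)).eq_of_src _ _)
  exact isIso_of_mono_of_epi ((homologyFunctor A i).map T.mor₁)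

lemma isLE_truncGE (X : DerivedCategory A) (n m : ℤ) [X.IsLE m] :
    DerivedCategory.IsLE ((t.truncGE n).obj X) m := by
  rw [isLE_iff]
  intro i hi
  rcases le_or_gt n i with h | h
  · have := isIso_homology_truncGEπ X n i h
    exact (X.isZero_of_isLE m i hi).of_iso (asIso ((homologyFunctor A i).map ((t.truncGEπ n).app X))).symm
  · have : DerivedCategory.IsGE ((t.truncGE n).obj X) n := inferInstanceAs (t.IsGE _ n)
    exact DerivedCategory.isZero_of_isGE _ n i h

lemma isGE_truncLT (X : DerivedCategory A) (n m : ℤ) [X.IsGE m] :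
    DerivedCategory.IsGE ((t.truncLT n).obj X) m := by
  rw [isGE_iff]
  intro i hi
  rcases lt_or_ge i n with h | h
  · have := isIso_homology_truncLTι X n i h
    exact (X.isZero_of_isGE m i hi).of_iso (asIso ((homologyFunctor A i).map ((t.truncLTι n).app X)))
  · have : DerivedCategory.IsLE ((t.truncLT n).obj X) (n - 1) := inferInstanceAs (t.IsLE _ (n - 1))
    exact DerivedCategory.isZero_of_isLE _ (n - 1) i (by lia)

lemma eq_zero_of_heart {X W : DerivedCategory A} (g : X ⟶ W) (m : ℤ) [X.IsGE m] [X.IsLE m]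
    [W.IsGE m] [W.IsLE m] (hg : (homologyFunctor A m).map g = 0) : g = 0 := by
  obtain ⟨Y, ⟨e⟩⟩ := X.exists_iso_singleFunctor_obj_of_isGE_of_isLE m
  obtain ⟨Z, ⟨e'⟩⟩ := W.exists_iso_singleFunctor_obj_of_isGE_of_isLE m
  obtain ⟨h, hh⟩ := (singleFunctor A m).map_surjective (e.inv ≫ g ≫ e'.hom)
  have h₁ : (homologyFunctor A m).map ((singleFunctor A m).map h) = 0 := by
    rw [hh, Functor.map_comp, Functor.map_comp, hg, zero_comp, comp_zero]
  have h₂ := (singleFunctorCompHomologyFunctorIso A m).hom.naturality h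
  rw [Functor.comp_map, h₁, zero_comp] at h₂
  have h₃ : h = 0 := by
    rw [← cancel_epi ((singleFunctorCompHomologyFunctorIso A m).hom.app Y), comp_zero]
    exact h₂.symm
  rw [h₃, Functor.map_zero] at hh
  rw [← cancel_epi e.inv, ← cancel_mono e'.hom, Category.assoc, ← hh, comp_zero, zero_comp]

lemma eq_zero_of_homologyMap_eq_zero {X W : DerivedCategory A} (g : X ⟶ W) (m : ℤ)
    [X.IsLE m] [W.IsGE m] (hg : (homologyFunctor A m).map g = 0) : g = 0 := by
  let g₁ : (t.truncGE m).obj X ⟶ W := t.descTruncGE g m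
  have hg₁ : (t.truncGEπ m).app X ≫ g₁ = g := t.π_descTruncGE g m
  have : DerivedCategory.IsLE ((t.truncGE m).obj X) m := isLE_truncGE X m m
  have : DerivedCategory.IsGE ((t.truncGE m).obj X) m := inferInstanceAs (t.IsGE _ m)
  let g₂ : (t.truncGE m).obj X ⟶ (t.truncLT (m + 1)).obj W := t.liftTruncLT g₁ m (m + 1) rfl
  have hg₂ : g₂ ≫ (t.truncLTι (m + 1)).app W = g₁ := t.liftTruncLT_ι g₁ m (m + 1) rfl
  have : DerivedCategory.IsGE ((t.truncLT (m + 1)).obj W) m := isGE_truncLT W (m + 1) m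
  have : DerivedCategory.IsLE ((t.truncLT (m + 1)).obj W) m :=
    inferInstanceAs (t.IsLE ((t.truncLT (m + 1)).obj W) m)
  have := isIso_homology_truncGEπ X m m le_rfl
  have := isIso_homology_truncLTι W (m + 1) m (by lia)
  have h₂ : g₂ = 0 := eq_zero_of_heart g₂ m (by
    rw [← cancel_mono ((homologyFunctor A m).map ((t.truncLTι (m + 1)).app W)), zero_comp,
      ← cancel_epi ((homologyFunctor A m).map ((t.truncGEπ m).app X)), comp_zero,
      ← Functor.map_comp, hg₂, ← Functor.map_comp, hg₁, hg])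
  rw [← hg₁, ← hg₂, h₂, zero_comp, comp_zero]

/-- A morphism from an object `≤ m` vanishing on `H^m` factors through `τ^{<m}`. -/
lemma exists_factor_truncLT {X Y : DerivedCategory A} (f : X ⟶ Y) (m : ℤ) [X.IsLE m]
    (hf : (homologyFunctor A m).map f = 0) :
    ∃ f' : X ⟶ (t.truncLT m).obj Y, f' ≫ (t.truncLTι m).app Y = f := by
  have : DerivedCategory.IsGE ((t.truncGE m).obj Y) m := inferInstanceAs (t.IsGE _ m)
  have h : f ≫ (t.truncGEπ m).app Y = 0 := eq_zero_of_homologyMap_eq_zero _ m (by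
    rw [Functor.map_comp, hf, zero_comp])
  obtain ⟨f', hf'⟩ := Triangle.coyoneda_exact₂ _ (t.triangleLTGE_distinguished m Y) f h
  exact ⟨f', hf'.symm⟩

/-- A morphism to an object `≥ m` vanishing on `H^m` factors through `τ^{≥m+1}`. -/
lemma exists_factor_truncGE {X Y : DerivedCategory A} (f : X ⟶ Y) (m : ℤ) [Y.IsGE m]
    (hf : (homologyFunctor A m).map f = 0) :
    ∃ f' : (t.truncGE (m + 1)).obj X ⟶ Y, (t.truncGEπ (m + 1)).app X ≫ f' = f := by
  have : DerivedCategory.IsLE ((t.truncLT (m + 1)).obj X) m :=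
    inferInstanceAs (t.IsLE ((t.truncLT (m + 1)).obj X) m)
  have h : (t.truncLTι (m + 1)).app X ≫ f = 0 := eq_zero_of_homologyMap_eq_zero _ m (by
    rw [Functor.map_comp, hf, comp_zero])
  obtain ⟨f', hf'⟩ := Triangle.yoneda_exact₂ _ (t.triangleLTGE_distinguished (m + 1) X) f h
  exact ⟨f', hf'.symm⟩

lemma isGE_shortComplexTruncLE_X₃ (K : CochainComplex A ℤ) (m : ℤ) :
    DerivedCategory.IsGE (Q.obj (K.shortComplexTruncLE m).X₃) (m + 1) :=
  DerivedCategory.TStructure.t.isGE_of_iso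
    (asIso (Q.map (K.shortComplexTruncLEX₃ToTruncGE m (m + 1) rfl))).symm (m + 1)

lemma exists_lift_Q_ιTruncLE {X : DerivedCategory A} (K : CochainComplex A ℤ) (m : ℤ) [X.IsLE m]
    (f : X ⟶ Q.obj K) : ∃ φ : X ⟶ Q.obj (K.truncLE m), φ ≫ Q.map (K.ιTruncLE m) = f := by
  have h := K.shortComplexTruncLE_shortExact m
  have := isGE_shortComplexTruncLE_X₃ K m
  obtain ⟨φ, hφ⟩ := Triangle.coyoneda_exact₂ _ (triangleOfSES_distinguished h) f
    (t.zero_of_isLE_of_isGE _ m (m + 1) (by lia) inferInstance this)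
  exact ⟨φ, hφ.symm⟩

lemma exists_desc_Q_πTruncGE {Y : DerivedCategory A} (K : CochainComplex A ℤ) (m : ℤ) [Y.IsGE m]
    (f : Q.obj K ⟶ Y) : ∃ φ : Q.obj (K.truncGE m) ⟶ Y, Q.map (K.πTruncGE m) ≫ φ = f := by
  have h := K.shortComplexTruncLE_shortExact (m - 1)
  have : DerivedCategory.IsLE (Q.obj (K.truncLE (m - 1))) (m - 1) := inferInstance
  obtain ⟨φ, hφ⟩ := Triangle.yoneda_exact₂ _ (triangleOfSES_distinguished h) f
    (t.zero_of_isLE_of_isGE _ (m - 1) m (by lia) this inferInstance)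
  refine ⟨inv (Q.map (K.shortComplexTruncLEX₃ToTruncGE (m - 1) m (by lia))) ≫ φ, ?_⟩
  rw [← CochainComplex.g_shortComplexTruncLEX₃ToTruncGE K (m - 1) m (by lia)]
  erw [Functor.map_comp, Category.assoc, IsIso.hom_inv_id_assoc]
  exact hφ.symm

/-- A composite of `k` maps which vanish in the successive top degrees. -/
lemma exists_factor_of_chain (K : ℕ ⥤ DerivedCategory A) (b : ℤ) [(K.obj 0).IsLE b] (N : ℕ)
    (hz : ∀ j : ℕ, j < N → (homologyFunctor A (b - j)).map (K.map (homOfLE (Nat.le_succ j))) = 0) :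
    ∀ k : ℕ, k ≤ N → ∃ φ : K.obj 0 ⟶ (t.truncLT (b + 1 - k)).obj (K.obj k),
      φ ≫ (t.truncLTι (b + 1 - k)).app (K.obj k) = K.map (homOfLE (Nat.zero_le k)) := by
  intro k hk
  induction k with
  | zero =>
    refine ⟨t.liftTruncLT (K.map (homOfLE (Nat.zero_le 0))) b _ (by simp), ?_⟩
    exact t.liftTruncLT_ι _ b _ _
  | succ k ih =>
    obtain ⟨φ, hφ⟩ := ih (by lia)
    have : DerivedCategory.IsLE ((t.truncLT (b + 1 - k)).obj (K.obj k)) (b - k) :=
      t.isLE_truncLT_obj _ _ _ (by lia)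
    obtain ⟨ψ, hψ⟩ := exists_factor_truncLT
      ((t.truncLTι (b + 1 - k)).app (K.obj k) ≫ K.map (homOfLE (Nat.le_succ k))) (b - k) (by
        rw [Functor.map_comp, hz k (by lia), comp_zero])
    rw [show b + 1 - ((k + 1 : ℕ) : ℤ) = b - k by lia]
    refine ⟨φ ≫ ψ, ?_⟩
    rw [Category.assoc, hψ, reassoc_of% hφ, ← Functor.map_comp, homOfLE_comp]

end Groth.Agent.H16Derived.DTrunc
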