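import Mathlib.Algebra.Homology.DerivedCategory.SingleTriangle
import Mathlib.CategoryTheory.Abelian.Refinements
import Mathlib.CategoryTheory.Triangulated.Functor
import Groth.Agent.H16Derived.DTrunc

/-!
# The lemma on way-out functors
-/

set_option linter.unusedSectionVars false

universe w w' v v' u u'

open CategoryTheory CategoryTheory.Limits CategoryTheory.Pretriangulated CategoryTheory.Triangulated
open DerivedCategory DerivedCategory.TStructure

namespace Groth.Agent.H16Derived.WayOut

variable {A : Type u} [Category.{v} A] [Abelian A] [HasDerivedCategory.{w} A]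
  {B : Type u'} [Category.{v'} B] [Abelian B] [HasDerivedCategory.{w'} B]
  {F G : DerivedCategory A ⥤ DerivedCategory B} [F.CommShift ℤ] [G.CommShift ℤ]
  (η : F ⟶ G) [NatTrans.CommShift η ℤ]

omit [F.CommShift ℤ] [G.CommShift ℤ] [NatTrans.CommShift η ℤ] in
lemma isIso_of_iso {X Y : DerivedCategory A} (e : X ≅ Y) (h : IsIso (η.app X)) :
    IsIso (η.app Y) := by
  have : η.app Y = F.map e.inv ≫ η.app X ≫ G.map e.hom := by
    rw [← η.naturality, ← CategoryTheory.Functor.map_comp_assoc, e.inv_hom_id,
      CategoryTheory.Functor.map_id, Category.id_comp]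
  rw [this]; infer_instance

lemma isIso_shift (X : DerivedCategory A) (n : ℤ) (h : IsIso (η.app X)) :
    IsIso (η.app (X⟦n⟧)) := by
  rw [NatTrans.app_shift η n X]; infer_instance

/-- The morphism of triangles induced by `η`. -/
@[simps]
noncomputable def triangleHom (T : Triangle (DerivedCategory A)) :
    F.mapTriangle.obj T ⟶ G.mapTriangle.obj T where
  hom₁ := η.app T.obj₁
  hom₂ := η.app T.obj₂
  hom₃ := η.app T.obj₃
  comm₁ := η.naturality T.mor₁
  comm₂ := η.naturality T.mor₂
  comm₃ := by
    show (F.map T.mor₃ ≫ (F.commShiftIso (1 : ℤ)).hom.app T.obj₁) ≫ (η.app T.obj₁)⟦(1 : ℤ)⟧' =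
      η.app T.obj₃ ≫ (G.map T.mor₃ ≫ (G.commShiftIso (1 : ℤ)).hom.app T.obj₁)
    rw [Category.assoc, NatTrans.shift_app_comm, ← Category.assoc, η.naturality, Category.assoc]

variable [F.IsTriangulated] [G.IsTriangulated]

lemma isIso_of_triangle (T : Triangle (DerivedCategory A)) (hT : T ∈ distTriang _)
    (h₁ : IsIso (η.app T.obj₁)) (h₃ : IsIso (η.app T.obj₃)) : IsIso (η.app T.obj₂) :=
  isIso₂_of_isIso₁₃ (triangleHom η T) (F.map_distinguished T hT) (G.map_distinguished T hT) h₁ h₃

lemma isIso_of_isZero (X : DerivedCategory A) (h : IsZero X) : IsIso (η.app X) :=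
  isIso_of_source_target_iso_zero _ (F.map_isZero h).isoZero (G.map_isZero h).isoZero

variable (P : ObjectProperty A) [P.IsClosedUnderIsomorphisms]

omit [P.IsClosedUnderIsomorphisms] in
lemma isIso_single (hη : ∀ X : A, P X → IsIso (η.app ((singleFunctor A 0).obj X)))
    (M : A) (a : ℤ) (hM : P M) : IsIso (η.app ((singleFunctor A a).obj M)) :=
  isIso_of_iso η (((singleFunctors A).shiftIso (-a) a 0 (by simp)).app M)
    (isIso_shift η _ (-a) (hη M hM))

lemma p_truncLT (hP : ∀ Z : A, IsZero Z → P Z) {X : DerivedCategory A}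
    (hX : ∀ i, P ((homologyFunctor A i).obj X)) (n i : ℤ) :
    P ((homologyFunctor A i).obj ((t.truncLT n).obj X)) := by
  rcases lt_or_ge i n with h | h
  · have := DTrunc.isIso_homology_truncLTι X n i h
    exact P.prop_of_iso (asIso ((homologyFunctor A i).map ((t.truncLTι n).app X))).symm (hX i)
  · have : DerivedCategory.IsLE ((t.truncLT n).obj X) (n - 1) := inferInstanceAs (t.IsLE _ (n - 1))
    exact hP _ (DerivedCategory.isZero_of_isLE _ (n - 1) i (by lia))

lemma p_truncGE (hP : ∀ Z : A, IsZero Z → P Z) {X : DerivedCategory A}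
    (hX : ∀ i, P ((homologyFunctor A i).obj X)) (n i : ℤ) :
    P ((homologyFunctor A i).obj ((t.truncGE n).obj X)) := by
  rcases le_or_gt n i with h | h
  · have := DTrunc.isIso_homology_truncGEπ X n i h
    exact P.prop_of_iso (asIso ((homologyFunctor A i).map ((t.truncGEπ n).app X))) (hX i)
  · have : DerivedCategory.IsGE ((t.truncGE n).obj X) n := inferInstanceAs (t.IsGE _ n)
    exact hP _ (DerivedCategory.isZero_of_isGE _ n i h)

lemma isIso_bounded (hP : ∀ Z : A, IsZero Z → P Z)
    (hη : ∀ X : A, P X → IsIso (η.app ((singleFunctor A 0).obj X)))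
    (X : DerivedCategory A) (a b : ℤ) [X.IsGE a] [X.IsLE b]
    (hX : ∀ i, P ((homologyFunctor A i).obj X)) : IsIso (η.app X) := by
  rcases lt_or_ge b a with hab | hab
  · refine isIso_of_isZero η X ?_
    rw [IsZero.iff_id_eq_zero]
    exact t.zero_of_isLE_of_isGE _ b a hab inferInstance inferInstance
  obtain ⟨k, hk⟩ := Int.le.dest hab
  subst hk
  induction k generalizing X with
  | zero =>
    have : X.IsLE a := by simpa using ‹X.IsLE (a + ((0 : ℕ) : ℤ))›
    obtain ⟨M, ⟨e⟩⟩ := X.exists_iso_singleFunctor_obj_of_isGE_of_isLE a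
    refine isIso_of_iso η e.symm (isIso_single η P hη M a ?_)
    exact P.prop_of_iso ((homologyFunctor A a).mapIso e ≪≫
      (singleFunctorCompHomologyFunctorIso A a).app M) (hX a)
  | succ k ih =>
    have h1 : DerivedCategory.IsGE ((t.truncLT (a + k + 1)).obj X) a :=
      DTrunc.isGE_truncLT X _ a
    have h2 : DerivedCategory.IsLE ((t.truncLT (a + k + 1)).obj X) (a + k) :=
      inferInstanceAs (t.IsLE ((t.truncLT (a + k + 1)).obj X) (a + k))
    have h3 : DerivedCategory.IsGE ((t.truncGE (a + k + 1)).obj X) (a + k + 1) :=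
      inferInstanceAs (t.IsGE _ (a + k + 1))
    have h4 : DerivedCategory.IsLE ((t.truncGE (a + k + 1)).obj X) (a + k + 1) := by
      have : X.IsLE (a + k + 1) := by
        simpa [add_assoc] using ‹X.IsLE (a + ((k + 1 : ℕ) : ℤ))›
      exact DTrunc.isLE_truncGE X _ _
    refine isIso_of_triangle η _ (t.triangleLTGE_distinguished (a + k + 1) X)
      (@ih ((t.truncLT (a + k + 1)).obj X) h1 (p_truncLT P hP hX _) h2 (by lia)) ?_
    obtain ⟨M, ⟨e⟩⟩ :=
      DerivedCategory.exists_iso_singleFunctor_obj_of_isGE_of_isLE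
        ((t.truncGE (a + k + 1)).obj X) (a + k + 1)
    refine isIso_of_iso η e.symm (isIso_single η P hη M _ ?_)
    exact P.prop_of_iso ((homologyFunctor A _).mapIso e ≪≫
      (singleFunctorCompHomologyFunctorIso A _).app M) (p_truncGE P hP hX _ _)

omit [NatTrans.CommShift η ℤ] [F.CommShift ℤ] [G.CommShift ℤ] [F.IsTriangulated]
  [G.IsTriangulated] in
lemma isIso_homology_of_square {X Y : DerivedCategory A} (f : X ⟶ Y) (i : ℤ)
    (hX : IsIso (η.app X)) (h₁ : IsIso ((homologyFunctor B i).map (F.map f)))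
    (h₂ : IsIso ((homologyFunctor B i).map (G.map f))) :
    IsIso ((homologyFunctor B i).map (η.app Y)) := by
  have h : (homologyFunctor B i).map (F.map f) ≫ (homologyFunctor B i).map (η.app Y) =
      (homologyFunctor B i).map (η.app X) ≫ (homologyFunctor B i).map (G.map f) := by
    rw [← CategoryTheory.Functor.map_comp, η.naturality, CategoryTheory.Functor.map_comp]
  exact @IsIso.of_isIso_comp_left _ _ _ _ _ ((homologyFunctor B i).map (F.map f)) _ h₁ (h ▸ inferInstance)

lemma isIso_homology_mor₁ (T : Triangle (DerivedCategory B)) (hT : T ∈ distTriang _) (i : ℤ)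
    (h : T.obj₃.IsGE (i + 1)) : IsIso ((homologyFunctor B i).map T.mor₁) := by
  have : Epi ((homologyFunctor B i).map T.mor₁) :=
    (HomologySequence.epi_homologyMap_mor₁_iff T hT i).2
      ((T.obj₃.isZero_of_isGE (i + 1) i (by lia)).eq_of_tgt _ _)
  have : Mono ((homologyFunctor B i).map T.mor₁) :=
    (HomologySequence.mono_homologyMap_mor₁_iff T hT (i - 1) i).2
      ((T.obj₃.isZero_of_isGE (i + 1) (i - 1) (by lia)).eq_of_src _ _)
  exact isIso_of_mono_of_epi _

lemma isIso_homology_mor₂ (T : Triangle (DerivedCategory B)) (hT : T ∈ distTriang _) (i : ℤ)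
    (h : T.obj₁.IsLE (i - 1)) : IsIso ((homologyFunctor B i).map T.mor₂) := by
  have : Mono ((homologyFunctor B i).map T.mor₂) :=
    (HomologySequence.mono_homologyMap_mor₂_iff T hT i).2
      ((T.obj₁.isZero_of_isLE (i - 1) i (by lia)).eq_of_src _ _)
  have : Epi ((homologyFunctor B i).map T.mor₂) :=
    (HomologySequence.epi_homologyMap_mor₂_iff T hT i (i + 1)).2
      ((T.obj₁.isZero_of_isLE (i - 1) (i + 1) (by lia)).eq_of_tgt _ _)
  exact isIso_of_mono_of_epi _

/-- Way-out right functors. -/
lemma isIso_of_isGE (hP : ∀ Z : A, IsZero Z → P Z)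
    (hF : ∀ n₁ : ℤ, ∃ n₂ : ℤ, ∀ Y : DerivedCategory A, Y.IsGE n₂ → (F.obj Y).IsGE n₁)
    (hG : ∀ n₁ : ℤ, ∃ n₂ : ℤ, ∀ Y : DerivedCategory A, Y.IsGE n₂ → (G.obj Y).IsGE n₁)
    (hη : ∀ X : A, P X → IsIso (η.app ((singleFunctor A 0).obj X)))
    (X : DerivedCategory A) (a : ℤ) [X.IsGE a]
    (hX : ∀ i, P ((homologyFunctor A i).obj X)) : IsIso (η.app X) := by
  rw [DerivedCategory.isIso_iff]
  intro i
  obtain ⟨n, hn⟩ := hF (i + 1)
  obtain ⟨n', hn'⟩ := hG (i + 1)
  let N := max n n'
  have h₀ : DerivedCategory.IsGE ((t.truncGE N).obj X) n :=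
    t.isGE_truncGE_obj X N n (le_max_left _ _)
  have h₀' : DerivedCategory.IsGE ((t.truncGE N).obj X) n' :=
    t.isGE_truncGE_obj X N n' (le_max_right _ _)
  have : DerivedCategory.IsGE ((t.truncLT N).obj X) a := DTrunc.isGE_truncLT X _ a
  have : DerivedCategory.IsLE ((t.truncLT N).obj X) (N - 1) := inferInstanceAs (t.IsLE _ (N - 1))
  have hT := t.triangleLTGE_distinguished N X
  exact isIso_homology_of_square η ((t.truncLTι N).app X) i
    (isIso_bounded η P hP hη _ a (N - 1) (p_truncLT P hP hX _))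
    (isIso_homology_mor₁ _ (F.map_distinguished _ hT) i (hn _ h₀))
    (isIso_homology_mor₁ _ (G.map_distinguished _ hT) i (hn' _ h₀'))

omit [NatTrans.CommShift η ℤ] [F.CommShift ℤ] [G.CommShift ℤ] [F.IsTriangulated]
  [G.IsTriangulated] in
lemma isIso_homology_of_square' {X Y : DerivedCategory A} (f : X ⟶ Y) (i : ℤ)
    (hY : IsIso (η.app Y)) (h₁ : IsIso ((homologyFunctor B i).map (F.map f)))
    (h₂ : IsIso ((homologyFunctor B i).map (G.map f))) :
    IsIso ((homologyFunctor B i).map (η.app X)) := by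
  have h : (homologyFunctor B i).map (η.app X) ≫ (homologyFunctor B i).map (G.map f) =
      (homologyFunctor B i).map (F.map f) ≫ (homologyFunctor B i).map (η.app Y) := by
    rw [← CategoryTheory.Functor.map_comp, ← η.naturality, CategoryTheory.Functor.map_comp]
  exact @IsIso.of_isIso_comp_right _ _ _ _ _ _ ((homologyFunctor B i).map (G.map f)) h₂ (h ▸ inferInstance)

/-- Way-out left functors. -/
lemma isIso_of_isLE (hP : ∀ Z : A, IsZero Z → P Z)
    (hF : ∀ n₁ : ℤ, ∃ n₂ : ℤ, ∀ Y : DerivedCategory A, Y.IsLE n₂ → (F.obj Y).IsLE n₁)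
    (hG : ∀ n₁ : ℤ, ∃ n₂ : ℤ, ∀ Y : DerivedCategory A, Y.IsLE n₂ → (G.obj Y).IsLE n₁)
    (hη : ∀ X : A, P X → IsIso (η.app ((singleFunctor A 0).obj X)))
    (X : DerivedCategory A) (b : ℤ) [X.IsLE b]
    (hX : ∀ i, P ((homologyFunctor A i).obj X)) : IsIso (η.app X) := by
  rw [DerivedCategory.isIso_iff]
  intro i
  obtain ⟨n, hn⟩ := hF (i - 1)
  obtain ⟨n', hn'⟩ := hG (i - 1)
  let N := min n n'
  have h₀ : DerivedCategory.IsLE ((t.truncLT N).obj X) n :=
    t.isLE_truncLT_obj X N n (by lia)
  have h₀' : DerivedCategory.IsLE ((t.truncLT N).obj X) n' :=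
    t.isLE_truncLT_obj X N n' (by lia)
  have : DerivedCategory.IsLE ((t.truncGE N).obj X) b := DTrunc.isLE_truncGE X _ b
  have : DerivedCategory.IsGE ((t.truncGE N).obj X) N := inferInstanceAs (t.IsGE _ N)
  have hT := t.triangleLTGE_distinguished N X
  exact isIso_homology_of_square' η ((t.truncGEπ N).app X) i
    (isIso_bounded η P hP hη _ N b (p_truncGE P hP hX _))
    (isIso_homology_mor₂ _ (F.map_distinguished _ hT) i (hn _ h₀))
    (isIso_homology_mor₂ _ (G.map_distinguished _ hT) i (hn' _ h₀'))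

omit [P.IsClosedUnderIsomorphisms] in
/-- The case of a cogenerating class. -/
lemma isIso_single_of_cogenerating
    (hP : ∀ X : A, ∃ (Y : A) (i : X ⟶ Y), P Y ∧ Mono i)
    (hF : ∀ n₁ : ℤ, ∃ n₂ : ℤ, ∀ Y : DerivedCategory A, Y.IsGE n₂ → (F.obj Y).IsGE n₁)
    (hG : ∀ n₁ : ℤ, ∃ n₂ : ℤ, ∀ Y : DerivedCategory A, Y.IsGE n₂ → (G.obj Y).IsGE n₁)
    (hη : ∀ X : A, P X → IsIso (η.app ((singleFunctor A 0).obj X)))
    (X : A) : IsIso (η.app ((singleFunctor A 0).obj X)) := by
  -- a uniform lower bound
  have low : ∀ (K : DerivedCategory A ⥤ DerivedCategory B) [K.CommShift ℤ],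
      (∀ n₁ : ℤ, ∃ n₂ : ℤ, ∀ Y : DerivedCategory A, Y.IsGE n₂ → (K.obj Y).IsGE n₁) →
      ∃ m : ℤ, ∀ M : A, (K.obj ((singleFunctor A 0).obj M)).IsGE m := by
    intro K _ hK
    obtain ⟨n, hn⟩ := hK 0
    refine ⟨-n, fun M => ?_⟩
    have : (K.obj ((singleFunctor A n).obj M)).IsGE 0 := hn _ inferInstance
    have h : DerivedCategory.IsGE ((K.obj ((singleFunctor A n).obj M))⟦n⟧) (-n) :=
      t.isGE_shift _ 0 n (-n)
    exact @TStructure.isGE_of_iso _ _ _ _ _ _ _ t _ _ ((K.commShiftIso n).symm.app _ ≪≫
      K.mapIso (((singleFunctors A).shiftIso n 0 n (by simp)).app M)) (-n) h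
  obtain ⟨mF, hmF⟩ := low F hF
  obtain ⟨mG, hmG⟩ := low G hG
  suffices h : ∀ (i : ℤ) (M : A),
      IsIso ((homologyFunctor B i).map (η.app ((singleFunctor A 0).obj M))) by
    rw [DerivedCategory.isIso_iff]; exact fun i => h i X
  suffices h : ∀ (k : ℕ) (M : A), IsIso ((homologyFunctor B (min mF mG - 1 + k)).map
      (η.app ((singleFunctor A 0).obj M))) by
    intro i M
    rcases lt_or_ge i (min mF mG) with hi | hi
    · have := hmF M
      have := hmG M
      exact isIso_of_source_target_iso_zero _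
        (DerivedCategory.isZero_of_isGE (F.obj _) mF i (by lia)).isoZero
        (DerivedCategory.isZero_of_isGE (G.obj _) mG i (by lia)).isoZero
    · have := h (i - (min mF mG - 1)).toNat M
      rwa [Int.toNat_of_nonneg (by lia),
        show min mF mG - 1 + (i - (min mF mG - 1)) = i by lia] at this
  intro k
  induction k with
  | zero =>
    intro M
    have := hmF M
    have := hmG M
    exact isIso_of_source_target_iso_zero _
      (DerivedCategory.isZero_of_isGE (F.obj _) mF _ (by lia)).isoZero
      (DerivedCategory.isZero_of_isGE (G.obj _) mG _ (by lia)).isoZero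
  | succ k ih =>
    have hj : (min mF mG - 1 + (k : ℤ)) + 1 = min mF mG - 1 + ((k + 1 : ℕ) : ℤ) := by lia
    revert hj ih
    generalize min mF mG - 1 + (k : ℤ) = j
    generalize min mF mG - 1 + ((k + 1 : ℕ) : ℤ) = j'
    intro ih hj
    have step : ∀ M : A, Mono ((homologyFunctor B j').map (η.app ((singleFunctor A 0).obj M))) ∧
        ((∀ N : A, Mono ((homologyFunctor B j').map (η.app ((singleFunctor A 0).obj N)))) →
          Epi ((homologyFunctor B j').map (η.app ((singleFunctor A 0).obj M)))) := by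
      intro M
      obtain ⟨Y, f, hY, hf⟩ := hP M
      let S := ShortComplex.mk f (cokernel.π f) (cokernel.condition f)
      have hS : S.ShortExact :=
        { exact := S.exact_of_g_is_cokernel (cokernelIsCokernel f) }
      let T := hS.singleTriangle
      have hT : T ∈ distTriang _ := hS.singleTriangle_distinguished
      let φ := triangleHom η T
      let TF := F.mapTriangle.obj T
      let TG := G.mapTriangle.obj T
      have hTF : TF ∈ distTriang _ := F.map_distinguished T hT
      have hTG : TG ∈ distTriang _ := G.map_distinguished T hT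
      have hα : IsIso ((homologyFunctor B j).map φ.hom₃) := ih S.X₃
      have hY' : IsIso (η.app ((singleFunctor A 0).obj Y)) := hη Y hY
      have hγ : IsIso φ.hom₂ := hY'
      have cδ : (homologyFunctor B j).map φ.hom₃ ≫ HomologySequence.δ TG j j' hj =
          HomologySequence.δ TF j j' hj ≫ (homologyFunctor B j').map φ.hom₁ :=
        (homologyFunctor B 0).homologySequenceδ_naturality TF TG φ j j' hj
      have c1 : (homologyFunctor B j').map TF.mor₁ ≫ (homologyFunctor B j').map φ.hom₂ =
          (homologyFunctor B j').map φ.hom₁ ≫ (homologyFunctor B j').map TG.mor₁ := by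
        rw [← CategoryTheory.Functor.map_comp, φ.comm₁, CategoryTheory.Functor.map_comp]
      have c2 : (homologyFunctor B j).map TF.mor₂ ≫ (homologyFunctor B j).map φ.hom₃ =
          (homologyFunctor B j).map φ.hom₂ ≫ (homologyFunctor B j).map TG.mor₂ := by
        rw [← CategoryTheory.Functor.map_comp, φ.comm₂, CategoryTheory.Functor.map_comp]
      have c3 : (homologyFunctor B j').map TF.mor₂ ≫ (homologyFunctor B j').map φ.hom₃ =
          (homologyFunctor B j').map φ.hom₂ ≫ (homologyFunctor B j').map TG.mor₂ := by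
        rw [← CategoryTheory.Functor.map_comp, φ.comm₂, CategoryTheory.Functor.map_comp]
      refine ⟨?_, fun hmono => ?_⟩
      · show Mono ((homologyFunctor B j').map φ.hom₁)
        rw [Preadditive.mono_iff_cancel_zero]
        intro Z x hx
        have hx₁ : x ≫ (homologyFunctor B j').map TF.mor₁ = 0 := by
          rw [← cancel_mono ((homologyFunctor B j').map φ.hom₂), zero_comp, Category.assoc, c1,
            reassoc_of% hx, zero_comp]
        obtain ⟨Z₁, p, hp, y, hy⟩ :=
          (HomologySequence.exact₁ TF hTF j j' hj).exact_up_to_refinements x hx₁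
        dsimp at hy
        have hy₁ : (y ≫ (homologyFunctor B j).map φ.hom₃) ≫ HomologySequence.δ TG j j' hj = 0 := by
          rw [Category.assoc, cδ, ← Category.assoc, ← hy, Category.assoc, hx, comp_zero]
        obtain ⟨Z₂, q, hq, z, hz⟩ :=
          (HomologySequence.exact₃ TG hTG j j' hj).exact_up_to_refinements _ hy₁
        dsimp at hz
        have hq' : q ≫ y = (z ≫ inv ((homologyFunctor B j).map φ.hom₂)) ≫
            (homologyFunctor B j).map TF.mor₂ := by
          rw [← cancel_mono ((homologyFunctor B j).map φ.hom₃)]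
          simp only [Category.assoc, c2, IsIso.inv_hom_id_assoc]
          exact hz
        rw [← cancel_epi p, ← cancel_epi q, comp_zero, comp_zero, hy, ← Category.assoc, hq',
          Category.assoc, HomologySequence.comp_δ TF hTF j j' hj, comp_zero]
      · show Epi ((homologyFunctor B j').map φ.hom₁)
        have hδ : Mono ((homologyFunctor B j').map φ.hom₃) := hmono S.X₃
        rw [epi_iff_surjective_up_to_refinements]
        intro Z x
        let v := x ≫ (homologyFunctor B j').map TG.mor₁ ≫ inv ((homologyFunctor B j').map φ.hom₂)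
        have hv₁ : v ≫ (homologyFunctor B j').map φ.hom₂ =
            x ≫ (homologyFunctor B j').map TG.mor₁ := by simp [v]
        have hv : v ≫ (homologyFunctor B j').map TF.mor₂ = 0 := by
          rw [← cancel_mono ((homologyFunctor B j').map φ.hom₃), zero_comp, Category.assoc, c3,
            reassoc_of% hv₁, ← CategoryTheory.Functor.map_comp,
            comp_distTriang_mor_zero₁₂ _ hTG, CategoryTheory.Functor.map_zero, comp_zero]
        obtain ⟨Z₁, p, hp, u, hu⟩ :=
          (HomologySequence.exact₂ TF hTF j').exact_up_to_refinements v hv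
        dsimp at hu
        have hd : (p ≫ x - u ≫ (homologyFunctor B j').map φ.hom₁) ≫
            (homologyFunctor B j').map TG.mor₁ = 0 := by
          rw [Preadditive.sub_comp, Category.assoc, Category.assoc, ← c1, ← reassoc_of% hu, hv₁,
            sub_self]
        obtain ⟨Z₂, q, hq, z, hz⟩ :=
          (HomologySequence.exact₁ TG hTG j j' hj).exact_up_to_refinements _ hd
        dsimp at hz
        refine ⟨Z₂, q ≫ p, inferInstance,
          q ≫ u + (z ≫ inv ((homologyFunctor B j).map φ.hom₃)) ≫ HomologySequence.δ TF j j' hj, ?_⟩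
        rw [Preadditive.add_comp, Category.assoc, Category.assoc, Category.assoc, ← cδ, Category.assoc,
          IsIso.inv_hom_id_assoc, ← hz, Preadditive.comp_sub]
        abel
    intro M
    have := (step M).1
    have := (step M).2 fun N => (step N).1
    exact isIso_of_mono_of_epi _

end Groth.Agent.H16Derived.WayOut
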