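import Groth.Agent.H16Derived.DerAdj
import Mathlib.Algebra.Homology.DerivedCategory.ExactFunctor
import Mathlib.Algebra.Homology.DerivedCategory.KInjective

/-!
# Adjunctions of exact functors on derived categories
-/

set_option autoImplicit false

open CategoryTheory CategoryTheory.Limits

namespace Groth.Agent.H16Derived.ExactAdj

universe v v' u u'

variable {A : Type u} [Category.{v} A] [Abelian A] {B : Type u'} [Category.{v'} B] [Abelian B]
  {G : A ⥤ B} {F : B ⥤ A} [G.Additive] [F.Additive]

/-- A right adjoint of an exact functor preserves K-injectivity. -/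
theorem isKInjective_map (adj : G ⊣ F) [PreservesFiniteLimits G] [PreservesFiniteColimits G]
    (I : CochainComplex B ℤ) [hI : I.IsKInjective] :
    CochainComplex.IsKInjective ((F.mapHomologicalComplex (ComplexShape.up ℤ)).obj I) where
  nonempty_homotopy_zero {K} f hK := by
    let a := mapHomologicalComplexAdj adj (ComplexShape.up ℤ)
    let g := (a.homEquiv K I).symm f
    have hGK : HomologicalComplex.Acyclic ((G.mapHomologicalComplex (ComplexShape.up ℤ)).obj K) :=
      fun n => by
        rw [HomologicalComplex.exactAt_iff]
        exact ((HomologicalComplex.exactAt_iff _ _).1 (hK n)).map G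
    obtain ⟨h⟩ := hI.nonempty_homotopy_zero g hGK
    refine ⟨(Homotopy.ofEq ?_).trans ((((F.mapHomotopy h).compLeft (a.unit.app K))).trans
      (Homotopy.ofEq ?_))⟩
    · exact ((a.homEquiv K I).apply_symm_apply f).symm.trans (a.homEquiv_unit _ _ _)
    · rw [Functor.map_zero, comp_zero]

variable [PreservesFiniteLimits G] [PreservesFiniteColimits G] [PreservesFiniteLimits F]
  [PreservesFiniteColimits F] [HasDerivedCategory A] [HasDerivedCategory B]

/-- An adjunction between exact functors, on derived categories. -/
noncomputable def mapDerivedCategoryAdj (adj : G ⊣ F) :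
    G.mapDerivedCategory ⊣ F.mapDerivedCategory :=
  letI : CatCommSq (G.mapHomologicalComplex (ComplexShape.up ℤ)) DerivedCategory.Q DerivedCategory.Q
    G.mapDerivedCategory := ⟨G.mapDerivedCategoryFactors.symm⟩
  letI : CatCommSq (F.mapHomologicalComplex (ComplexShape.up ℤ)) DerivedCategory.Q DerivedCategory.Q
    F.mapDerivedCategory := ⟨F.mapDerivedCategoryFactors.symm⟩
  (mapHomologicalComplexAdj adj (ComplexShape.up ℤ)).localization
    DerivedCategory.Q (HomologicalComplex.quasiIso A (ComplexShape.up ℤ))
    DerivedCategory.Q (HomologicalComplex.quasiIso B (ComplexShape.up ℤ)) _ _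

end Groth.Agent.H16Derived.ExactAdj
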