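import Mathlib.Algebra.Homology.Refinements
import Mathlib.Algebra.Homology.QuasiIso
import Mathlib.Algebra.Homology.CochainComplexOpposite
import Mathlib.Algebra.Homology.Embedding.CochainComplex
import Mathlib.Algebra.Homology.HomologicalComplexAbelian
import Mathlib.Tactic.Abel

/-!
# Resolutions of bounded complexes by objects from a class

If every object of an abelian category embeds in an object of a class `I` containing a zero
object, every complex which vanishes below `a` maps by a termwise monomorphic quasi-isomorphism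
to such a complex with terms in `I`; and dually.
-/

universe v u

open CategoryTheory CategoryTheory.Limits Opposite

namespace Groth.Agent.H16Derived.Resolution

variable {A : Type u} [Category.{v} A] [Abelian A]

/-- A stage of the inductive construction: two consecutive terms of the resolution. -/
structure Stage (I : A → Prop) (K : CochainComplex A ℤ) (n : ℤ) where
  prev : A
  obj : A
  d : prev ⟶ obj
  α : K.X n ⟶ obj
  mem : I obj
  mono_α : Mono α
  inj : ∀ ⦃W : A⦄ (x : W ⟶ K.X n) (w : W ⟶ prev), x ≫ α = w ≫ d →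
    ∃ (W' : A) (π : W' ⟶ W) (_ : Epi π) (y : W' ⟶ K.X (n - 1)), π ≫ x = y ≫ K.d (n - 1) n

namespace Stage

variable {I : A → Prop} {K : CochainComplex A ℤ} {n : ℤ} (s : Stage I K n)

/-- The map whose cokernel is embedded at the next stage. -/
noncomputable def rel : s.prev ⊞ K.X n ⟶ s.obj ⊞ K.X (n + 1) :=
  biprod.desc (biprod.lift s.d 0) (biprod.lift s.α (-K.d n (n + 1)))

/-- The quotient of `s.obj ⊞ K.X (n + 1)` to be embedded at the next stage. -/
noncomputable abbrev quot : A := cokernel s.rel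

/-- The map `s.obj ⟶ s.quot`. -/
noncomputable def inl : s.obj ⟶ s.quot := biprod.inl ≫ cokernel.π s.rel

/-- The map `K.X (n + 1) ⟶ s.quot`. -/
noncomputable def inr : K.X (n + 1) ⟶ s.quot := biprod.inr ≫ cokernel.π s.rel

lemma inl_rel : biprod.inl ≫ s.rel = s.d ≫ biprod.inl := by
  apply biprod.hom_ext <;> simp [rel]

lemma inr_rel : biprod.inr ≫ s.rel = s.α ≫ biprod.inl + (-K.d n (n + 1)) ≫ biprod.inr := by
  apply biprod.hom_ext <;> simp [rel]

lemma d_inl : s.d ≫ s.inl = 0 := by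
  rw [inl, ← Category.assoc, ← inl_rel, Category.assoc, cokernel.condition, comp_zero]

lemma α_inl : s.α ≫ s.inl = K.d n (n + 1) ≫ s.inr := by
  have h : (biprod.inr ≫ s.rel) ≫ cokernel.π s.rel = 0 := by
    rw [Category.assoc, cokernel.condition, comp_zero]
  rw [inr_rel, Preadditive.add_comp, Preadditive.neg_comp, Preadditive.neg_comp, Category.assoc,
    Category.assoc, ← sub_eq_add_neg] at h
  exact eq_of_sub_eq_zero h

lemma eq_zero_iff {W : A} (l : W ⟶ s.obj) (y : W ⟶ K.X (n + 1))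
    (h : l ≫ s.inl + y ≫ s.inr = 0) :
    ∃ (W' : A) (π : W' ⟶ W) (_ : Epi π) (w : W' ⟶ s.prev) (x : W' ⟶ K.X n),
      π ≫ l = w ≫ s.d + x ≫ s.α ∧ π ≫ y = -(x ≫ K.d n (n + 1)) := by
  have hex : (ShortComplex.mk s.rel (cokernel.π s.rel) (cokernel.condition _)).Exact :=
    ShortComplex.exact_cokernel _
  obtain ⟨W', π, hπ, (v : W' ⟶ s.prev ⊞ K.X n), hv⟩ :=
    hex.exact_up_to_refinements (biprod.lift l y) (by
      change biprod.lift l y ≫ cokernel.π s.rel = 0
      rw [biprod.lift_eq, Preadditive.add_comp, Category.assoc, Category.assoc]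
      exact h)
  have hv' : π ≫ biprod.lift l y = v ≫ s.rel := hv
  refine ⟨W', π, hπ, v ≫ biprod.fst, v ≫ biprod.snd, ?_, ?_⟩
  · have e := hv' =≫ biprod.fst
    have hr : s.rel ≫ biprod.fst = biprod.fst ≫ s.d + biprod.snd ≫ s.α := by
      apply biprod.hom_ext' <;> simp [rel]
    rw [Category.assoc, biprod.lift_fst, Category.assoc, hr] at e
    simpa using e
  · have e := hv' =≫ biprod.snd
    have hr : s.rel ≫ biprod.snd = -(biprod.snd ≫ K.d n (n + 1)) := by
      apply biprod.hom_ext' <;> simp [rel]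
    rw [Category.assoc, biprod.lift_snd, Category.assoc, hr] at e
    simpa using e

/-- The next stage, given an embedding of the quotient in an object of `I`. -/
noncomputable def next {Y : A} (ι : s.quot ⟶ Y) [Mono ι] (hY : I Y) : Stage I K (n + 1) where
  prev := s.obj
  obj := Y
  d := s.inl ≫ ι
  α := s.inr ≫ ι
  mem := hY
  mono_α := by
    have : Mono s.inr := Preadditive.mono_of_cancel_zero _ fun {W} y hy => by
      obtain ⟨W', π, hπ, w, x, h₁, h₂⟩ := s.eq_zero_iff 0 y (by rw [zero_comp, zero_add, hy])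
      obtain ⟨W'', π', hπ', u, hu⟩ := s.inj x (-w) (by
        rw [comp_zero] at h₁
        rw [Preadditive.neg_comp, eq_neg_iff_add_eq_zero, add_comm, ← h₁])
      rw [← cancel_epi π, comp_zero, h₂, ← cancel_epi π', comp_zero, Preadditive.comp_neg,
        reassoc_of% hu, HomologicalComplex.d_comp_d, comp_zero, neg_zero]
    infer_instance
  inj := fun W y l h => by
    rw [← Category.assoc, ← Category.assoc, cancel_mono] at h
    obtain ⟨W', π, hπ, w, x, -, h₂⟩ := s.eq_zero_iff (-l) y (by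
      rw [Preadditive.neg_comp, h, neg_add_cancel])
    obtain ⟨p, hp⟩ : ∃ p : K.X n ⟶ K.X (n + 1 - 1),
        p ≫ K.d (n + 1 - 1) (n + 1) = K.d n (n + 1) := by
      refine ⟨(K.XIsoOfEq (by lia)).hom, ?_⟩
      simp
    exact ⟨W', π, hπ, -(x ≫ p), by rw [Preadditive.neg_comp, Category.assoc, hp, h₂]⟩

lemma next_exact {Y : A} (ι : s.quot ⟶ Y) [Mono ι] (hY : I Y) {W : A} (z : W ⟶ s.obj)
    (hz : z ≫ (s.next ι hY).d = 0) :
    ∃ (W' : A) (π : W' ⟶ W) (_ : Epi π) (w : W' ⟶ s.prev) (x : W' ⟶ K.X n),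
      x ≫ K.d n (n + 1) = 0 ∧ π ≫ z = x ≫ s.α + w ≫ s.d := by
  have h : (z ≫ s.inl) ≫ ι = 0 ≫ ι := by rw [Category.assoc, zero_comp]; exact hz
  rw [cancel_mono] at h
  obtain ⟨W', π, hπ, w, x, h₁, h₂⟩ := s.eq_zero_iff z 0 (by rw [h, zero_comp, add_zero])
  refine ⟨W', π, hπ, w, x, ?_, by rw [h₁, add_comm]⟩
  rwa [comp_zero, eq_comm, neg_eq_zero] at h₂

end Stage

section construction

variable (I : A → Prop) {Z : A} (hZ : IsZero Z) (hIZ : I Z)
  (e : A → A) (ι : ∀ X, X ⟶ e X) [∀ X, Mono (ι X)] (he : ∀ X, I (e X))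
  (K : CochainComplex A ℤ) (h₀ : IsZero (K.X 0))

/-- The stages of the construction in non-negative degrees. -/
noncomputable def stage : ∀ k : ℕ, Stage I K k
  | 0 =>
    { prev := Z, obj := Z, d := 0, α := 0, mem := hIZ
      mono_α := ⟨fun _ _ _ => h₀.eq_of_tgt _ _⟩
      inj := fun W x _ _ => ⟨W, 𝟙 W, inferInstance, 0, h₀.eq_of_tgt _ _⟩ }
  | k + 1 => (stage k).next (ι _) (he _)

/-- The terms of the resolution. -/
noncomputable def obj : ℤ → A
  | (k : ℕ) => (stage I hIZ e ι he K h₀ k).obj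
  | Int.negSucc _ => Z

/-- The differential of the resolution. -/
noncomputable def d : ∀ i : ℤ, obj I hIZ e ι he K h₀ i ⟶ obj I hIZ e ι he K h₀ (i + 1)
  | (k : ℕ) => (stage I hIZ e ι he K h₀ (k + 1)).d
  | Int.negSucc _ => 0

lemma d_d : ∀ i : ℤ, d I hIZ e ι he K h₀ i ≫ d I hIZ e ι he K h₀ (i + 1) = 0
  | (k : ℕ) => by
    change (stage I hIZ e ι he K h₀ (k + 1)).d ≫
      ((stage I hIZ e ι he K h₀ (k + 1)).inl ≫ ι _) = 0
    exact (reassoc_of% (stage I hIZ e ι he K h₀ (k + 1)).d_inl) _ |>.trans zero_comp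
  | Int.negSucc _ => zero_comp

/-- The resolution. -/
noncomputable def L : CochainComplex A ℤ :=
  CochainComplex.of (obj I hIZ e ι he K h₀) (d I hIZ e ι he K h₀) (d_d I hIZ e ι he K h₀)

/-- The components of the morphism to the resolution. -/
noncomputable def app : ∀ i : ℤ, K.X i ⟶ obj I hIZ e ι he K h₀ i
  | (k : ℕ) => (stage I hIZ e ι he K h₀ k).α
  | Int.negSucc _ => 0

lemma app_comm (hneg : ∀ i < 0, IsZero (K.X i)) : ∀ i : ℤ,
    app I hIZ e ι he K h₀ i ≫ d I hIZ e ι he K h₀ i =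
      K.d i (i + 1) ≫ app I hIZ e ι he K h₀ (i + 1)
  | (k : ℕ) => by
    change (stage I hIZ e ι he K h₀ k).α ≫ ((stage I hIZ e ι he K h₀ k).inl ≫ ι _) =
      K.d (k : ℤ) ((k : ℤ) + 1) ≫ ((stage I hIZ e ι he K h₀ k).inr ≫ ι _)
    rw [reassoc_of% (stage I hIZ e ι he K h₀ k).α_inl]
  | Int.negSucc k => (hneg _ (Int.negSucc_lt_zero k)).eq_of_src _ _

/-- The morphism to the resolution. -/
noncomputable def toL (hneg : ∀ i < 0, IsZero (K.X i)) : K ⟶ L I hIZ e ι he K h₀ where
  f := app I hIZ e ι he K h₀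
  comm' i j h := by
    obtain rfl : i + 1 = j := h
    exact (congrArg (app I hIZ e ι he K h₀ i ≫ ·) (CochainComplex.of_d _ _ _)).trans
      (app_comm I hIZ e ι he K h₀ hneg i)

include hZ in
lemma obj_isZero {i : ℤ} (hi : i ≤ 0) : IsZero (obj I hIZ e ι he K h₀ i) := by
  obtain ⟨k, rfl⟩ | ⟨k, rfl⟩ : (∃ k : ℕ, i = k) ∨ ∃ k, i = Int.negSucc k := by
    cases i with
    | ofNat k => exact Or.inl ⟨k, rfl⟩
    | negSucc k => exact Or.inr ⟨k, rfl⟩
  · obtain rfl : k = 0 := by lia
    exact hZ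
  · exact hZ

include hZ hIZ ι he h₀ in
lemma main (hneg : ∀ i < 0, IsZero (K.X i)) :
    ∃ (L : CochainComplex A ℤ) (α : K ⟶ L), L.IsStrictlyGE 1 ∧ (∀ n, I (L.X n)) ∧
      (∀ n, Mono (α.f n)) ∧ QuasiIso α := by
  refine ⟨L I hIZ e ι he K h₀, toL I hIZ e ι he K h₀ hneg, ?_, ?_, ?_, ⟨fun n => ?_⟩⟩
  · rw [CochainComplex.isStrictlyGE_iff]
    exact fun i hi => obj_isZero I hZ hIZ e ι he K h₀ (by lia)
  · rintro (k | k)
    · exact (stage I hIZ e ι he K h₀ k).mem
    · exact hIZ
  · rintro (k | k)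
    · exact (stage I hIZ e ι he K h₀ k).mono_α
    · exact ⟨fun _ _ _ => (hneg _ (Int.negSucc_lt_zero k)).eq_of_tgt _ _⟩
  · rw [quasiIsoAt_iff_isIso_homologyMap]
    cases n with
    | negSucc k =>
      apply (fun h₁ h₂ => ⟨⟨0, IsZero.eq_of_src h₁ _ _, IsZero.eq_of_src h₂ _ _⟩⟩ : IsZero _ → IsZero _ → IsIso _)
      · exact (HomologicalComplex.exactAt_iff_isZero_homology _ _).1
          (HomologicalComplex.ExactAt.of_isZero (hneg _ (Int.negSucc_lt_zero k)))
      · exact (HomologicalComplex.exactAt_iff_isZero_homology _ _).1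
          (HomologicalComplex.ExactAt.of_isZero (obj_isZero I hZ hIZ e ι he K h₀
            (Int.negSucc_lt_zero k).le))
    | ofNat k =>
      change IsIso (HomologicalComplex.homologyMap _ (k : ℤ))
      have hepi : Epi (HomologicalComplex.homologyMap (toL I hIZ e ι he K h₀ hneg) (k : ℤ)) := by
        rw [HomologicalComplex.epi_homologyMap_iff_up_to_refinements _ ((k : ℤ) - 1) k ((k : ℤ) + 1)
          (by simp) (by simp)]
        intro W z hz
        have hz' : z ≫ (stage I hIZ e ι he K h₀ (k + 1)).d = 0 :=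
          (congrArg (z ≫ ·) (CochainComplex.of_d (obj I hIZ e ι he K h₀) (d I hIZ e ι he K h₀) (k : ℤ)).symm).trans hz
        obtain ⟨W', π, hπ, w, x, hx, hzx⟩ :=
          (stage I hIZ e ι he K h₀ k).next_exact (ι _) (he _) z hz'
        obtain ⟨p, hp⟩ : ∃ p : W' ⟶ (L I hIZ e ι he K h₀).X ((k : ℤ) - 1),
            p ≫ (L I hIZ e ι he K h₀).d ((k : ℤ) - 1) k = w ≫ (stage I hIZ e ι he K h₀ k).d := by
          cases k with
          | zero => exact ⟨0, (obj_isZero I hZ hIZ e ι he K h₀ (le_refl (0 : ℤ))).eq_of_tgt _ _⟩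
          | succ j =>
            refine ⟨w ≫ ((L I hIZ e ι he K h₀).XIsoOfEq
              (show (j : ℤ) = ((j + 1 : ℕ) : ℤ) - 1 by lia)).hom, ?_⟩
            erw [Category.assoc, HomologicalComplex.XIsoOfEq_hom_comp_d]
            exact congrArg (w ≫ ·) (CochainComplex.of_d (obj I hIZ e ι he K h₀) (d I hIZ e ι he K h₀) (j : ℤ))
        exact ⟨W', π, hπ, x, hx, p, hzx.trans (congrArg (x ≫ _ + ·) hp.symm)⟩
      have hmono : Mono (HomologicalComplex.homologyMap (toL I hIZ e ι he K h₀ hneg) (k : ℤ)) := by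
        rw [HomologicalComplex.mono_homologyMap_iff_up_to_refinements _ ((k : ℤ) - 1) k ((k : ℤ) + 1)
          (by simp) (by simp)]
        intro W x _ y hxy
        cases k with
        | zero =>
          exact ⟨W, 𝟙 W, inferInstance, 0, h₀.eq_of_tgt _ _⟩
        | succ j =>
          obtain ⟨w, hw⟩ : ∃ w : W ⟶ obj I hIZ e ι he K h₀ (j : ℤ),
              w ≫ (stage I hIZ e ι he K h₀ (j + 1)).d =
                y ≫ (L I hIZ e ι he K h₀).d (((j + 1 : ℕ) : ℤ) - 1) (j + 1 : ℕ) := by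
            refine ⟨y ≫ ((L I hIZ e ι he K h₀).XIsoOfEq
              (show ((j + 1 : ℕ) : ℤ) - 1 = (j : ℤ) by lia)).hom, ?_⟩
            rw [← HomologicalComplex.XIsoOfEq_hom_comp_d _
              (show ((j + 1 : ℕ) : ℤ) - 1 = (j : ℤ) by lia)]
            exact ((congrArg ((y ≫ _) ≫ ·)
              (CochainComplex.of_d (obj I hIZ e ι he K h₀) (d I hIZ e ι he K h₀) (j : ℤ))).symm).trans
                (Category.assoc _ _ _)
          exact (stage I hIZ e ι he K h₀ (j + 1)).inj x w (hxy.trans hw.symm)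
      exact isIso_of_mono_of_epi _

end construction

/-- Every complex vanishing below `a` has a termwise monomorphic quasi-isomorphism to such a
complex with terms in `I`. -/
theorem exists_right_resolution (I : A → Prop) (hI0 : ∃ Z : A, IsZero Z ∧ I Z)
    (hI : ∀ X : A, ∃ (Y : A) (ι : X ⟶ Y), I Y ∧ Mono ι) (K : CochainComplex A ℤ) (a : ℤ)
    [K.IsStrictlyGE a] :
    ∃ (L : CochainComplex A ℤ) (α : K ⟶ L), L.IsStrictlyGE a ∧ (∀ n, I (L.X n)) ∧
      (∀ n, Mono (α.f n)) ∧ QuasiIso α := by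
  obtain ⟨Z, hZ, hIZ⟩ := hI0
  choose e ι he hι using hI
  let K' : CochainComplex A ℤ := K⟦a - 1⟧
  have hK' : K'.IsStrictlyGE 1 := K.isStrictlyGE_shift a (a - 1) 1 (by lia)
  obtain ⟨L', α', hL', hIL', hmono, hq⟩ := main I hZ hIZ e ι he K'
    (CochainComplex.isZero_of_isStrictlyGE K' 1 0 (by lia))
    (fun i hi => CochainComplex.isZero_of_isStrictlyGE K' 1 i (by lia))
  let u : K ⟶ L'⟦-(a - 1)⟧ :=
    (shiftShiftNeg K (a - 1)).inv ≫ α'⟦-(a - 1)⟧'
  refine ⟨L'⟦-(a - 1)⟧, u, L'.isStrictlyGE_shift 1 _ a (by lia), fun n => hIL' _, fun n => ?_, ?_⟩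
  · have : Mono ((α'⟦-(a - 1)⟧').f n) := hmono _
    have : IsIso ((shiftShiftNeg K (a - 1)).inv.f n) :=
      inferInstanceAs (IsIso ((HomologicalComplex.eval A _ n).map (shiftShiftNeg K (a - 1)).inv))
    rw [HomologicalComplex.comp_f]
    exact mono_comp _ _
  · have : QuasiIso (α'⟦-(a - 1)⟧') :=
      (CochainComplex.quasiIso_shift_iff α' _).2 hq
    exact inferInstanceAs (QuasiIso ((shiftShiftNeg K (a - 1)).inv ≫ α'⟦-(a - 1)⟧'))

/-- Dual statement: every complex vanishing above `a` receives a termwise epimorphic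
quasi-isomorphism from such a complex with terms in `P`. -/
theorem exists_left_resolution (P : A → Prop) (hP0 : ∃ Z : A, IsZero Z ∧ P Z)
    (hP : ∀ X : A, ∃ (Y : A) (π : Y ⟶ X), P Y ∧ Epi π) (K : CochainComplex A ℤ) (a : ℤ)
    [K.IsStrictlyLE a] :
    ∃ (Q : CochainComplex A ℤ) (α : Q ⟶ K), Q.IsStrictlyLE a ∧ (∀ n, P (Q.X n)) ∧
      (∀ n, Epi (α.f n)) ∧ QuasiIso α := by
  obtain ⟨Z, hZ, hPZ⟩ := hP0
  let F := CochainComplex.opEquivalence A
  let K' : CochainComplex Aᵒᵖ ℤ := F.functor.obj (op K)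
  have hK' : K'.IsStrictlyGE (-a) := by
    rw [CochainComplex.isStrictlyGE_iff]
    exact fun i hi => (CochainComplex.isZero_of_isStrictlyLE K a (-i) (by lia)).op
  obtain ⟨L, α, hL, hIL, hmono, hq⟩ := exists_right_resolution (fun X : Aᵒᵖ => P X.unop)
    ⟨op Z, hZ.op, hPZ⟩
    (fun X => by
      obtain ⟨Y, π, hY, hπ⟩ := hP X.unop
      exact ⟨op Y, π.op, hY, inferInstanceAs (Mono π.op)⟩) K' (-a)
  have hα : QuasiIso ((F.inverse.map α).unop) := by
    let α₁ := (ComplexShape.embeddingDownIntUpInt.restrictionFunctor Aᵒᵖ).map α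
    have h₁ : QuasiIso α₁ := ⟨fun n => by
      rw [quasiIsoAt_iff' _ (n + 1) n (n - 1) (by simp) (by simp)]
      exact (quasiIsoAt_iff' α (-(n + 1)) (-n) (-(n - 1))
        (by simp [CochainComplex.prev]; lia) (by simp; lia)).1 inferInstance⟩
    rw [← HomologicalComplex.quasiIso_opFunctor_map_iff]
    exact h₁
  refine ⟨(F.inverse.obj L).unop, (F.inverse.map α).unop ≫ (F.unitIso.app (op K)).hom.unop,
    ?_, fun n => hIL (-n), fun n => ?_, ?_⟩
  · rw [CochainComplex.isStrictlyLE_iff]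
    exact fun i hi => (CochainComplex.isZero_of_isStrictlyGE L (-a) (-i) (by lia)).unop
  · have : Epi (((F.inverse.map α).unop).f n) := by
      change Epi (α.f (-n)).unop
      infer_instance
    rw [HomologicalComplex.comp_f]
    infer_instance
  · infer_instance

end Groth.Agent.H16Derived.Resolution
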