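import Groth.Agent.H16Derived.Horseshoe
import Mathlib.CategoryTheory.Abelian.RightDerived
import Mathlib.CategoryTheory.Abelian.Injective.Extend
import Mathlib.CategoryTheory.Abelian.Injective.Resolution
import Mathlib.Algebra.Homology.Embedding.ExtendHomology
import Mathlib.Algebra.Homology.DerivedCategory.KInjective
import Mathlib.Algebra.Homology.DerivedCategory.HomologySequence
import Mathlib.Algebra.Homology.DerivedCategory.ShortExact
import Mathlib.Algebra.Homology.ShortComplex.ExactFunctor
import Mathlib.Algebra.Homology.HomotopyCategory.Pretriangulated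

/-!
# Acyclic objects for right derived functors

Computation of `F.rightDerived` by arbitrary bounded below injective resolutions and
consequences of the long exact sequence for the class of acyclic objects.
-/

universe v v' u u'

open CategoryTheory CategoryTheory.Limits
open scoped ZeroObject

namespace Groth.Agent.H16Derived.AcyclicLES

variable {A : Type u} [Category.{v} A] [Abelian A] {B : Type u'} [Category.{v'} B] [Abelian B]

lemma comp_cancel {C : Type*} [Category C] {P Q R R' S : C} (a : P ⟶ Q) (d : Q ⟶ R) (u : R ⟶ R')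
    (v : R' ⟶ R) (e : R ⟶ S) (h : u ≫ v = 𝟙 _) : a ≫ d ≫ e = (a ≫ d ≫ u) ≫ v ≫ e := by
  simp [reassoc_of% h]

section Extend

variable (F : A ⥤ B) [F.Additive]

/-- Applying an additive functor commutes with extension by zero. -/
noncomputable def mapExtendIso {X : A} (I : InjectiveResolution X) :
    (F.mapHomologicalComplex (ComplexShape.up ℤ)).obj I.cochainComplex ≅
      ((F.mapHomologicalComplex (ComplexShape.up ℕ)).obj I.cocomplex).extend
        ComplexShape.embeddingUpNat :=
  HomologicalComplex.Hom.isoOfComponents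
    (fun
      | Int.ofNat k => F.mapIso (I.cochainComplexXIso (k : ℤ) k rfl) ≪≫
          (HomologicalComplex.extendXIso ((F.mapHomologicalComplex (ComplexShape.up ℕ)).obj
            I.cocomplex) ComplexShape.embeddingUpNat (i := k) rfl).symm
      | Int.negSucc k => IsZero.iso
          (F.map_isZero (CochainComplex.isZero_of_isStrictlyGE I.cochainComplex 0 _
            (Int.negSucc_lt_zero k)))
          (HomologicalComplex.isZero_extend_X _ _ _ (fun i => by simp)))
    (fun
      | Int.negSucc k, _, _ => (F.map_isZero (CochainComplex.isZero_of_isStrictlyGE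
            I.cochainComplex 0 _ (Int.negSucc_lt_zero k))).eq_of_src _ _
      | Int.ofNat k, Int.negSucc l, h => absurd (h : (k : ℤ) + 1 = Int.negSucc l) (fun h' => by simp [Int.negSucc_eq] at h'; lia)
      | Int.ofNat k, Int.ofNat l, _ => by
        dsimp only
        rw [Iso.trans_hom, Iso.trans_hom, Iso.symm_hom, Iso.symm_hom, Functor.mapIso_hom,
          Functor.mapIso_hom]
        erw [HomologicalComplex.extend_d_eq _ ComplexShape.embeddingUpNat (i := k) (j := l) rfl rfl]
        simp only [Functor.mapHomologicalComplex_obj_d]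
        erw [I.cochainComplex_d (k : ℤ) (l : ℤ) k l rfl rfl]
        simp only [Functor.map_comp, Category.assoc]
        erw [Iso.inv_hom_id_assoc]
        exact comp_cancel _ _ _ _ _ ((F.map_comp _ _).symm.trans ((congrArg F.map
          (I.cochainComplexXIso (l : ℤ) l rfl).inv_hom_id).trans (F.map_id _))))

/-- Two bounded below injective resolutions of `X` have the same `F`-cohomology. -/
lemma nonempty_iso_of_resolutions {X : A} (J J' : CochainComplex A ℤ) [J.IsKInjective]
    [J'.IsKInjective] (ι : (CochainComplex.singleFunctor A 0).obj X ⟶ J)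
    (ι' : (CochainComplex.singleFunctor A 0).obj X ⟶ J') [QuasiIso ι] [QuasiIso ι'] :
    Nonempty ((HomotopyCategory.quotient B (ComplexShape.up ℤ)).obj
        ((F.mapHomologicalComplex (ComplexShape.up ℤ)).obj J) ≅
      (HomotopyCategory.quotient B (ComplexShape.up ℤ)).obj
        ((F.mapHomologicalComplex (ComplexShape.up ℤ)).obj J')) := by
  let := HasDerivedCategory.standard A
  let φ := (asIso (DerivedCategory.Q.map ι)).symm ≪≫ asIso (DerivedCategory.Q.map ι')
  let e : (HomotopyCategory.quotient A (ComplexShape.up ℤ)).obj J ≅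
      (HomotopyCategory.quotient A (ComplexShape.up ℤ)).obj J' :=
    { hom := ((CochainComplex.IsKInjective.Qh_map_bijective _ J').2 φ.hom).choose
      inv := ((CochainComplex.IsKInjective.Qh_map_bijective _ J).2 φ.inv).choose
      hom_inv_id := (CochainComplex.IsKInjective.Qh_map_bijective _ J).1
        ((Functor.map_comp _ _ _).trans ((congrArg₂ (· ≫ ·)
          ((CochainComplex.IsKInjective.Qh_map_bijective _ J').2 φ.hom).choose_spec
          ((CochainComplex.IsKInjective.Qh_map_bijective _ J).2 φ.inv).choose_spec).trans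
            (φ.hom_inv_id.trans (CategoryTheory.Functor.map_id _ _).symm)))
      inv_hom_id := (CochainComplex.IsKInjective.Qh_map_bijective _ J').1
        ((Functor.map_comp _ _ _).trans ((congrArg₂ (· ≫ ·)
          ((CochainComplex.IsKInjective.Qh_map_bijective _ J).2 φ.inv).choose_spec
          ((CochainComplex.IsKInjective.Qh_map_bijective _ J').2 φ.hom).choose_spec).trans
            (φ.inv_hom_id.trans (CategoryTheory.Functor.map_id _ _).symm))) }
  exact ⟨((F.mapHomotopyCategoryFactors (ComplexShape.up ℤ)).app J).symm ≪≫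
    (F.mapHomotopyCategory (ComplexShape.up ℤ)).mapIso e ≪≫
    (F.mapHomotopyCategoryFactors (ComplexShape.up ℤ)).app J'⟩

variable [HasInjectiveResolutions A]

/-- `R^nF(X) = H^n(F(J))` for any bounded below injective resolution. -/
lemma nonempty_rightDerived_iso {X : A} (J : CochainComplex A ℤ) (a : ℤ) [J.IsStrictlyGE a]
    (hJ : ∀ k, Injective (J.X k)) (ι : (CochainComplex.singleFunctor A 0).obj X ⟶ J) [QuasiIso ι]
    (n : ℕ) :
    Nonempty ((F.rightDerived n).obj X ≅
      ((F.mapHomologicalComplex (ComplexShape.up ℤ)).obj J).homology (n : ℤ)) := by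
  let I := injectiveResolution X
  have := CochainComplex.isKInjective_of_injective J a
  have := CochainComplex.isKInjective_of_injective I.cochainComplex 0
  obtain ⟨e⟩ := nonempty_iso_of_resolutions F I.cochainComplex J I.ι' ι
  exact ⟨I.isoRightDerivedObj F n ≪≫
    (HomologicalComplex.extendHomologyIso _ ComplexShape.embeddingUpNat (j := n) rfl).symm ≪≫
    (HomologicalComplex.homologyFunctor B _ (n : ℤ)).mapIso (mapExtendIso F I).symm ≪≫
    ((HomotopyCategory.homologyFunctorFactors B _ (n : ℤ)).app _).symm ≪≫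
    (HomotopyCategory.homologyFunctor B _ (n : ℤ)).mapIso e ≪≫
    (HomotopyCategory.homologyFunctorFactors B _ (n : ℤ)).app _⟩

end Extend

/-- `X` is right acyclic for `F`. -/
def IsAcyclic [HasInjectiveResolutions A] (F : A ⥤ B) [F.Additive] (X : A) : Prop :=
  ∀ i : ℕ, 0 < i → IsZero ((F.rightDerived i).obj X)

section Resolution

variable {X : A} {J : CochainComplex A ℤ} [J.IsStrictlyGE 0]
  (ι : (HomologicalComplex.single A (ComplexShape.up ℤ) 0).obj X ⟶ J)

/-- The augmentation. -/
noncomputable def aug : X ⟶ J.X 0 :=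
  (HomologicalComplex.singleObjXSelf (ComplexShape.up ℤ) 0 X).inv ≫ ι.f 0

omit [J.IsStrictlyGE 0] in
lemma aug_d : aug ι ≫ J.d 0 1 = 0 := by
  rw [aug, Category.assoc, ι.comm 0 1, HomologicalComplex.single_obj_d]
  simp

variable [QuasiIso ι]

lemma isIso_liftCycles_aug :
    IsIso (J.liftCycles (aug ι) 1 (by simp) (aug_d ι)) := by
  let S := (HomologicalComplex.single A (ComplexShape.up ℤ) 0).obj X
  have : IsIso (S.homologyπ 0) :=
    S.isIso_homologyπ (-1) 0 (by simp)
      ((HomologicalComplex.isZero_single_obj_X _ 0 X (-1) (by simp)).eq_of_src _ _)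
  have : IsIso (J.homologyπ 0) :=
    J.isIso_homologyπ (-1) 0 (by simp)
      ((CochainComplex.isZero_of_isStrictlyGE J 0 (-1) (by simp)).eq_of_src _ _)
  have h : J.liftCycles (aug ι) 1 (by simp) (aug_d ι) =
      (HomologicalComplex.singleObjCyclesSelfIso (ComplexShape.up ℤ) 0 X).inv ≫
        HomologicalComplex.cyclesMap ι 0 := by
    rw [← cancel_mono (J.iCycles 0), Category.assoc, HomologicalComplex.cyclesMap_i,
      HomologicalComplex.liftCycles_i,
      HomologicalComplex.singleObjCyclesSelfIso_inv_iCycles_assoc]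
    rfl
  have : IsIso (HomologicalComplex.cyclesMap ι 0) := by
    have : IsIso (HomologicalComplex.cyclesMap ι 0 ≫ J.homologyπ 0) := by
      rw [← HomologicalComplex.homologyπ_naturality]
      exact IsIso.comp_isIso' ‹IsIso (S.homologyπ 0)› inferInstance
    exact IsIso.of_isIso_comp_right _ (J.homologyπ 0)
  rw [h]
  infer_instance

variable (F : A ⥤ B) [F.Additive]

omit [J.IsStrictlyGE 0] [QuasiIso ι] in
lemma map_aug_d : F.map (aug ι) ≫ ((F.mapHomologicalComplex (ComplexShape.up ℤ)).obj J).d 0 1 = 0 := by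
  exact (F.map_comp _ _).symm.trans ((congrArg F.map (aug_d ι)).trans (F.map_zero _ _))

/-- The canonical map `F(X) ⟶ H^0(F(J))`. -/
noncomputable def toH0 : F.obj X ⟶ ((F.mapHomologicalComplex (ComplexShape.up ℤ)).obj J).homology 0 :=
  ((F.mapHomologicalComplex (ComplexShape.up ℤ)).obj J).liftCycles (F.map (aug ι)) 1 (by simp)
    (map_aug_d ι F) ≫ HomologicalComplex.homologyπ _ 0

lemma isIso_toH0 [PreservesFiniteLimits F] : IsIso (toH0 ι F) := by
  let K := (F.mapHomologicalComplex (ComplexShape.up ℤ)).obj J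
  have := isIso_liftCycles_aug ι
  have hlim : IsLimit (KernelFork.ofι (aug ι) (aug_d ι)) :=
    IsLimit.ofIsoLimit (J.cyclesIsKernel 0 1 (by simp))
      (Fork.ext (asIso (J.liftCycles (aug ι) 1 _ (aug_d ι))) (by simp)).symm
  have hlim' : IsLimit (KernelFork.ofι (F.map (aug ι)) (map_aug_d ι F)) :=
    KernelFork.mapIsLimit _ hlim F
  let e := hlim'.conePointUniqueUpToIso (K.cyclesIsKernel 0 1 (by simp))
  have he : e.hom = K.liftCycles (F.map (aug ι)) 1 (by simp) (map_aug_d ι F) := by
    rw [← cancel_mono (K.iCycles 0), HomologicalComplex.liftCycles_i]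
    exact hlim'.conePointUniqueUpToIso_hom_comp (K.cyclesIsKernel 0 1 (by simp))
      WalkingParallelPair.zero
  have : IsIso (K.homologyπ 0) :=
    K.isIso_homologyπ (-1) 0 (by simp)
      ((F.map_isZero (CochainComplex.isZero_of_isStrictlyGE J 0 (-1) (by simp))).eq_of_src _ _)
  have : IsIso (K.liftCycles (F.map (aug ι)) 1 (by simp) (map_aug_d ι F)) :=
    he ▸ Iso.isIso_hom e
  exact IsIso.comp_isIso' ‹_› ‹_›

end Resolution

lemma toH0_naturality (F : A ⥤ B) [F.Additive] {X Y : A} {J J' : CochainComplex A ℤ}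
    (ι : (HomologicalComplex.single A (ComplexShape.up ℤ) 0).obj X ⟶ J)
    (ι' : (HomologicalComplex.single A (ComplexShape.up ℤ) 0).obj Y ⟶ J') (f : X ⟶ Y) (φ : J ⟶ J')
    (h : ι ≫ φ = (HomologicalComplex.single A (ComplexShape.up ℤ) 0).map f ≫ ι') :
    toH0 ι F ≫ HomologicalComplex.homologyMap ((F.mapHomologicalComplex (ComplexShape.up ℤ)).map φ) 0 =
      F.map f ≫ toH0 ι' F := by
  have h' : aug ι ≫ φ.f 0 = f ≫ aug ι' := by
    rw [aug, aug, Category.assoc, ← HomologicalComplex.comp_f, h, HomologicalComplex.comp_f]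
    erw [HomologicalComplex.single_map_f_self]
    simp only [Category.assoc]
    erw [Iso.inv_hom_id_assoc]
  rw [toH0, toH0, Category.assoc, HomologicalComplex.homologyπ_naturality]
  simp only [← Category.assoc]
  congr 1
  rw [← cancel_mono (HomologicalComplex.iCycles _ 0), Category.assoc, Category.assoc,
    HomologicalComplex.cyclesMap_i, HomologicalComplex.liftCycles_i,
    HomologicalComplex.liftCycles_i_assoc]
  exact (F.map_comp _ _).symm.trans ((congrArg F.map h').trans (F.map_comp _ _))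

lemma shortExact_map_of_injective (F : A ⥤ B) [F.Additive]
    {T : ShortComplex (CochainComplex A ℤ)} (hT : T.ShortExact)
    (h : ∀ k, Injective (T.X₁.X k)) :
    (T.map (F.mapHomologicalComplex (ComplexShape.up ℤ))).ShortExact := by
  apply HomologicalComplex.shortExact_of_degreewise_shortExact
  intro k
  have hs := Horseshoe.shortExact_eval hT k
  have : Injective (T.map (HomologicalComplex.eval A _ k)).X₁ := h k
  exact (hs.splittingOfInjective.map F).shortExact

set_option linter.unusedSectionVars false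

variable [EnoughInjectives A] (F : A ⥤ B) [F.Additive] [PreservesFiniteLimits F]

omit [EnoughInjectives A] in
lemma isAcyclic_of_injective [HasInjectiveResolutions A] (X : A) [Injective X] : IsAcyclic F X := by
  intro i hi
  obtain ⟨j, rfl⟩ := Nat.exists_eq_succ_of_ne_zero hi.ne'
  exact F.isZero_rightDerived_obj_injective_succ j X

/-- The data of the long exact sequence attached to a short exact sequence. -/
lemma exists_les (S : ShortComplex A) (hS : S.ShortExact) :
    ∃ (T : ShortComplex (CochainComplex B ℤ)), T.ShortExact ∧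
      (∀ n : ℕ, Nonempty ((F.rightDerived n).obj S.X₁ ≅ T.X₁.homology n)) ∧
      (∀ n : ℕ, Nonempty ((F.rightDerived n).obj S.X₂ ≅ T.X₂.homology n)) ∧
      (∀ n : ℕ, Nonempty ((F.rightDerived n).obj S.X₃ ≅ T.X₃.homology n)) ∧
      ∃ (a₂ : F.obj S.X₂ ⟶ T.X₂.homology 0) (a₃ : F.obj S.X₃ ⟶ T.X₃.homology 0),
        IsIso a₂ ∧ IsIso a₃ ∧ a₂ ≫ HomologicalComplex.homologyMap T.g 0 = F.map S.g ≫ a₃ := by
  let S' := S.map (CochainComplex.singleFunctor A 0)
  have hS' : S'.ShortExact := hS.map_of_exact (HomologicalComplex.single A (ComplexShape.up ℤ) 0)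
  have : S'.X₁.IsStrictlyGE 0 :=
    inferInstanceAs (((CochainComplex.singleFunctor A 0).obj S.X₁).IsStrictlyGE 0)
  have : S'.X₃.IsStrictlyGE 0 :=
    inferInstanceAs (((CochainComplex.singleFunctor A 0).obj S.X₃).IsStrictlyGE 0)
  obtain ⟨T, φ, hT, h₁, h₂, h₃, hi, q₁, q₂, q₃⟩ :=
    Horseshoe.exists_injective_resolution S' hS' 0
  refine ⟨T.map (F.mapHomologicalComplex (ComplexShape.up ℤ)),
    shortExact_map_of_injective F hT (fun k => (hi k).1),
    fun n => @nonempty_rightDerived_iso A _ _ B _ _ F _ _ S.X₁ T.X₁ 0 h₁ (fun k => (hi k).1) φ.τ₁ q₁ n,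
    fun n => @nonempty_rightDerived_iso A _ _ B _ _ F _ _ S.X₂ T.X₂ 0 h₂ (fun k => (hi k).2.1) φ.τ₂ q₂ n,
    fun n => @nonempty_rightDerived_iso A _ _ B _ _ F _ _ S.X₃ T.X₃ 0 h₃ (fun k => (hi k).2.2) φ.τ₃ q₃ n,
    toH0 (X := S.X₂) φ.τ₂ F, toH0 (X := S.X₃) φ.τ₃ F,
    @isIso_toH0 A _ _ B _ _ S.X₂ T.X₂ h₂ φ.τ₂ q₂ F _ _,
    @isIso_toH0 A _ _ B _ _ S.X₃ T.X₃ h₃ φ.τ₃ q₃ F _ _,
    toH0_naturality F φ.τ₂ φ.τ₃ S.g T.g φ.comm₂₃⟩

lemma isAcyclic_X₂ {S : ShortComplex A} (hS : S.ShortExact)
    (h₁ : IsAcyclic F S.X₁) (h₃ : IsAcyclic F S.X₃) : IsAcyclic F S.X₂ := by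
  obtain ⟨T, hT, e₁, e₂, e₃, -⟩ := exists_les F S hS
  intro i hi
  exact ((hT.homology_exact₂ (i : ℤ)).isZero_X₂
    (((h₁ i hi).of_iso (e₁ i).some.symm).eq_of_src _ _)
    (((h₃ i hi).of_iso (e₃ i).some.symm).eq_of_tgt _ _)).of_iso (e₂ i).some

lemma isAcyclic_X₃ {S : ShortComplex A} (hS : S.ShortExact)
    (h₁ : IsAcyclic F S.X₁) (h₂ : IsAcyclic F S.X₂) : IsAcyclic F S.X₃ := by
  obtain ⟨T, hT, e₁, e₂, e₃, -⟩ := exists_les F S hS
  intro i hi
  exact ((hT.homology_exact₃ (i : ℤ) ((i + 1 : ℕ) : ℤ) (by simp)).isZero_X₂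
    (((h₂ i hi).of_iso (e₂ i).some.symm).eq_of_src _ _)
    (((h₁ (i + 1) (by lia)).of_iso (e₁ (i + 1)).some.symm).eq_of_tgt _ _)).of_iso (e₃ i).some

/-- If `R¹F(X₁) = 0` then `F` preserves the short exact sequence. -/
lemma epi_map_g {S : ShortComplex A} (hS : S.ShortExact)
    (h₁ : IsZero ((F.rightDerived 1).obj S.X₁)) : Epi (F.map S.g) := by
  obtain ⟨T, hT, e₁, -, -, a₂, a₃, ha₂, ha₃, hc⟩ := exists_les F S hS
  have : Epi (HomologicalComplex.homologyMap T.g 0) :=
    (hT.homology_exact₃ (0 : ℤ) ((1 : ℕ) : ℤ) (by simp)).epi_f_iff.2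
      ((h₁.of_iso (e₁ 1).some.symm).eq_of_tgt _ _)
  have : Epi (F.map S.g ≫ a₃) := by
    rw [← hc]; infer_instance
  rw [show F.map S.g = (F.map S.g ≫ a₃) ≫ inv a₃ by simp]
  infer_instance

omit [EnoughInjectives A] in
lemma shortExact_map_of_epi {S : ShortComplex A} (hS : S.ShortExact) (h : Epi (F.map S.g)) :
    (S.map F).ShortExact := by
  have := hS.mono_f
  have : Mono (S.map F).f := inferInstanceAs (Mono (F.map S.f))
  have : Epi (S.map F).g := h
  exact { exact := ShortComplex.exact_of_f_is_kernel _ (KernelFork.mapIsLimit _ hS.fIsKernel F) }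

lemma shortExact_map {S : ShortComplex A} (hS : S.ShortExact)
    (h₁ : IsAcyclic F S.X₁) : (S.map F).ShortExact :=
  shortExact_map_of_epi F hS (epi_map_g F hS (h₁ 1 one_pos))

lemma isAcyclic_X₁ {S : ShortComplex A} (hS : S.ShortExact)
    (h₂ : IsAcyclic F S.X₂) (h₃ : IsAcyclic F S.X₃) (he : Epi (F.map S.g)) :
    IsAcyclic F S.X₁ := by
  obtain ⟨T, hT, e₁, e₂, e₃, a₂, a₃, ha₂, ha₃, hc⟩ := exists_les F S hS
  intro i hi
  obtain ⟨j, rfl⟩ := Nat.exists_eq_succ_of_ne_zero hi.ne'
  have hz₂ := ((h₂ (j + 1) (by lia)).of_iso (e₂ (j + 1)).some.symm)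
  refine ((hT.homology_exact₁ (j : ℤ) ((j + 1 : ℕ) : ℤ) (by simp)).isZero_X₂ ?_
    (hz₂.eq_of_tgt _ _)).of_iso (e₁ (j + 1)).some
  rcases Nat.eq_zero_or_pos j with rfl | hj
  · have : Epi (a₂ ≫ HomologicalComplex.homologyMap T.g 0) := by rw [hc]; infer_instance
    have : Epi (HomologicalComplex.homologyMap T.g 0) := epi_of_epi a₂ _
    exact (hT.homology_exact₃ (0 : ℤ) ((0 + 1 : ℕ) : ℤ) (by simp)).epi_f_iff.1 this
  · exact ((h₃ j hj).of_iso (e₃ j).some.symm).eq_of_src _ _

/-- A complex of acyclic objects which is exact and bounded below is sent to an exact complex. -/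
lemma exactAt_map_of_acyclic (M : CochainComplex A ℤ) (a : ℤ) [M.IsStrictlyGE a]
    (hM : M.Acyclic) (hX : ∀ i, IsAcyclic F (M.X i)) (i : ℤ) :
    ((F.mapHomologicalComplex (ComplexShape.up ℤ)).obj M).ExactAt i := by
  let S (i : ℤ) : ShortComplex A := ShortComplex.mk (M.iCycles i) (M.toCycles i (i + 1)) (by
    rw [← cancel_mono (M.iCycles (i + 1)), Category.assoc, HomologicalComplex.toCycles_i,
      HomologicalComplex.iCycles_d, zero_comp])
  have epi : ∀ i j : ℤ, i + 1 = j → Epi (M.toCycles i j) := by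
    intro i j hij
    subst hij
    exact ((ShortComplex.exact_iff_epi_toCycles ((M.sc' i (i + 1) (i + 1 + 1)))).1
      ((HomologicalComplex.exactAt_iff' M i (i + 1) (i + 1 + 1) (by simp) (by simp)).1 (hM _))) |>
      fun h => by
        have e : M.toCycles i (i + 1) =
            (M.sc' i (i + 1) (i + 1 + 1)).toCycles ≫
              (M.cyclesIsoSc' i (i + 1) (i + 1 + 1) (by simp) (by simp)).inv := by
          rw [← cancel_mono (M.iCycles (i + 1)), HomologicalComplex.toCycles_i]
          erw [Category.assoc, HomologicalComplex.cyclesIsoSc'_inv_iCycles, ShortComplex.toCycles_i]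
          rfl
        rw [e]
        exact epi_comp' h inferInstance
  have hS : ∀ i, (S i).ShortExact := fun i => by
    have : Epi (S i).g := epi i (i + 1) rfl
    have : Mono (S i).f := inferInstanceAs (Mono (M.iCycles i))
    refine { exact := ?_ }
    refine ShortComplex.exact_of_f_is_kernel _ (KernelFork.IsLimit.ofι' _ _ (fun {W} k hk =>
      ⟨M.liftCycles k (i + 1) (by simp) ?_, M.liftCycles_i _ _ _ _⟩))
    rw [← M.toCycles_i i (i + 1), reassoc_of% (show k ≫ M.toCycles i (i + 1) = 0 from hk), zero_comp]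
  have hZ : ∀ i : ℤ, IsAcyclic F (M.cycles i) := by
    have low : ∀ i, i < a → IsAcyclic F (M.cycles i) := fun i hi => by
      have hz : IsZero (M.cycles i) :=
        (CochainComplex.isZero_of_isStrictlyGE M a i hi).of_mono (M.iCycles i)
      have := hz.injective
      exact isAcyclic_of_injective F _
    suffices h : ∀ (k : ℕ), IsAcyclic F (M.cycles (a - 1 + k)) by
      intro i
      rcases lt_or_ge i a with hi | hi
      · exact low i hi
      · have := h (i - (a - 1)).toNat
        rwa [Int.toNat_of_nonneg (by lia), show a - 1 + (i - (a - 1)) = i by lia] at this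
    intro k
    induction k with
    | zero => exact low _ (by lia)
    | succ k ih =>
      rw [show a - 1 + ((k + 1 : ℕ) : ℤ) = a - 1 + (k : ℤ) + 1 by lia]
      exact isAcyclic_X₃ F (hS _) ih (hX _)
  have hS' := shortExact_map F (hS i) (hZ i)
  have h2 : (ShortComplex.mk (F.map (M.iCycles i)) (F.map (M.toCycles i (i + 1)))
      (by rw [← F.map_comp, (S i).zero, F.map_zero])).Exact := hS'.exact
  have : Epi (F.map (M.toCycles (i - 1) i)) := by
    obtain ⟨j, rfl⟩ : ∃ j, i = j + 1 := ⟨i - 1, by lia⟩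
    rw [show j + 1 - 1 = j by lia]
    exact (shortExact_map F (hS j) (hZ j)).epi_g
  have : Mono (F.map (M.iCycles (i + 1))) := (shortExact_map F (hS (i + 1)) (hZ (i + 1))).mono_f
  have z₁ : F.map (M.d (i - 1) i) ≫ F.map (M.toCycles i (i + 1)) = 0 := by
    rw [← cancel_mono (F.map (M.iCycles (i + 1))), Category.assoc, ← F.map_comp (M.toCycles i (i+1)),
      HomologicalComplex.toCycles_i, ← F.map_comp, HomologicalComplex.d_comp_d, F.map_zero,
      zero_comp]
  let S₂ := ShortComplex.mk (F.map (M.d (i - 1) i)) (F.map (M.toCycles i (i + 1))) z₁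
  let S₁ := ShortComplex.mk (F.map (M.iCycles i)) (F.map (M.toCycles i (i + 1)))
      (by rw [← F.map_comp, (S i).zero, F.map_zero])
  let φ : S₂ ⟶ S₁ :=
    { τ₁ := F.map (M.toCycles (i - 1) i), τ₂ := 𝟙 _, τ₃ := 𝟙 _
      comm₁₂ := by simp [S₂, S₁, ← F.map_comp] }
  have : Epi φ.τ₁ := ‹Epi (F.map (M.toCycles (i - 1) i))›
  have : IsIso φ.τ₂ := inferInstanceAs (IsIso (𝟙 _))
  have : Mono φ.τ₃ := inferInstanceAs (Mono (𝟙 _))
  have h₂ : S₂.Exact := (ShortComplex.exact_iff_of_epi_of_isIso_of_mono φ).2 h2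
  rw [HomologicalComplex.exactAt_iff' _ (i - 1) i (i + 1) (by simp) (by simp)]
  let S₃ := ((F.mapHomologicalComplex (ComplexShape.up ℤ)).obj M).sc' (i - 1) i (i + 1)
  let ψ : S₂ ⟶ S₃ :=
    { τ₁ := 𝟙 _, τ₂ := 𝟙 _, τ₃ := F.map (M.iCycles (i + 1))
      comm₁₂ := (Category.id_comp _).trans (Category.comp_id _).symm
      comm₂₃ := (Category.id_comp _).trans
        ((congrArg F.map (M.toCycles_i i (i + 1)).symm).trans (F.map_comp _ _)) }
  have : Epi ψ.τ₁ := inferInstanceAs (Epi (𝟙 _))
  have : IsIso ψ.τ₂ := inferInstanceAs (IsIso (𝟙 _))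
  have : Mono ψ.τ₃ := ‹Mono (F.map (M.iCycles (i + 1)))›
  exact (ShortComplex.exact_iff_of_epi_of_isIso_of_mono ψ).1 h₂

omit [EnoughInjectives A] in
lemma quasiIso_iff_acyclic_mappingCone {C : Type*} [Category C] [Abelian C]
    {K L : CochainComplex C ℤ} (s : K ⟶ L) :
    QuasiIso s ↔ (CochainComplex.mappingCone s).Acyclic := by
  let := HasDerivedCategory.standard C
  let T := DerivedCategory.Qh.mapTriangle.obj (CochainComplex.mappingCone.triangleh s)
  have hT : T ∈ Pretriangulated.distinguishedTriangles :=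
    DerivedCategory.Qh.map_distinguished _ (HomotopyCategory.mappingCone_triangleh_distinguished s)
  have e₁ : QuasiIso s ↔ IsIso T.mor₁ := by
    rw [← DerivedCategory.isIso_Q_map_iff_quasiIso]
    exact (NatIso.isIso_map_iff (DerivedCategory.quotientCompQhIso C) s).symm
  have e₂ : (CochainComplex.mappingCone s).Acyclic ↔ IsZero T.obj₃ := by
    change _ ↔ IsZero ((HomotopyCategory.quotient _ _ ⋙ DerivedCategory.Qh).obj
      (CochainComplex.mappingCone s))
    rw [((DerivedCategory.quotientCompQhIso C).app (CochainComplex.mappingCone s)).isZero_iff]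
    constructor
    · intro h
      have h0 : IsIso (0 : DerivedCategory.Q.obj (CochainComplex.mappingCone s) ⟶ 0) := by
        rw [DerivedCategory.isIso_iff]
        intro n
        exact isIso_of_source_target_iso_zero _
          ((((HomologicalComplex.exactAt_iff_isZero_homology _ _).1 (h n)).of_iso
            ((DerivedCategory.homologyFunctorFactors C n).app _)).isoZero)
          (Functor.map_isZero _ (isZero_zero _)).isoZero
      exact (isZero_zero _).of_iso (asIso (0 : DerivedCategory.Q.obj (CochainComplex.mappingCone s) ⟶ 0))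
    · intro h n
      rw [HomologicalComplex.exactAt_iff_isZero_homology]
      exact (Functor.map_isZero _ h).of_iso ((DerivedCategory.homologyFunctorFactors C n).app _).symm
  rw [e₁, e₂, Pretriangulated.Triangle.isZero₃_iff_isIso₁ _ hT]

/-- Leray's acyclicity lemma. -/
theorem quasiIso_map {K L : CochainComplex A ℤ} (s : K ⟶ L) [QuasiIso s] (a : ℤ)
    [K.IsStrictlyGE a] [L.IsStrictlyGE a]
    (hK : ∀ i, IsAcyclic F (K.X i)) (hL : ∀ i, IsAcyclic F (L.X i)) :
    QuasiIso ((F.mapHomologicalComplex (ComplexShape.up ℤ)).map s) := by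
  let e (i : ℤ) : (CochainComplex.mappingCone s).X i ≅ K.X (i + 1) ⊞ L.X i :=
    HomologicalComplex.homotopyCofiber.XIsoBiprod s i (i + 1) rfl
  have : (CochainComplex.mappingCone s).IsStrictlyGE (a - 1) := by
    rw [CochainComplex.isStrictlyGE_iff]
    intro i hi
    refine IsZero.of_iso ?_ (e i)
    rw [IsZero.iff_id_eq_zero]
    apply biprod.hom_ext'
    · exact (CochainComplex.isZero_of_isStrictlyGE K a (i + 1) (by lia)).eq_of_src _ _
    · exact (CochainComplex.isZero_of_isStrictlyGE L a i (by lia)).eq_of_src _ _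
  have hc : ∀ i, IsAcyclic F ((CochainComplex.mappingCone s).X i) := by
    intro i j hj
    have h := isAcyclic_X₂ F
      (S := ShortComplex.mk (biprod.inl : K.X (i + 1) ⟶ K.X (i + 1) ⊞ L.X i) biprod.snd
        biprod.inl_snd)
      (ShortComplex.Splitting.ofHasBinaryBiproduct (K.X (i + 1)) (L.X i)).shortExact
      (hK (i + 1)) (hL i)
    exact (h j hj).of_iso ((F.rightDerived j).mapIso (e i))
  have hex := exactAt_map_of_acyclic F (CochainComplex.mappingCone s) (a - 1)
    ((quasiIso_iff_acyclic_mappingCone s).1 ‹_›) hc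
  rw [quasiIso_iff_acyclic_mappingCone]
  intro i
  exact HomologicalComplex.ExactAt.of_iso (hex i)
    (CochainComplex.mappingCone.mapHomologicalComplexIso s F)

end Groth.Agent.H16Derived.AcyclicLES
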