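import Groth.Agent.H16Derived.LeftDer
import Groth.Agent.H16Derived.AcyclicLES
import Groth.Agent.H16Derived.KFlat.Generic
import Mathlib.Algebra.Homology.DerivedCategory.ExactFunctor
import Mathlib.CategoryTheory.ObjectProperty.Shift

/-!
# Left derived functors computed on an adapted class of complexes are triangulated

`P`: a class of complexes stable under shift and cones with a functorial resolution `ψ : R ⟶ 𝟭` in `P`; `G`
an additive functor which preserves acyclicity of acyclic complexes in `P`.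
-/

set_option autoImplicit false

universe w w' v v' u u'

open CategoryTheory CategoryTheory.Limits CategoryTheory.Pretriangulated CochainComplex

namespace Groth.Agent.H16Derived.LeftDerTri

variable {A : Type u} [Category.{v} A] [Abelian A] [HasDerivedCategory.{w} A]
  {A' : Type u'} [Category.{v'} A'] [Abelian A'] [HasDerivedCategory.{w'} A']

/-- A class of complexes adapted to `G`. -/
structure Adapted (G : A ⥤ A') [G.Additive] (P : ObjectProperty (CochainComplex A ℤ)) where
  /-- the resolution -/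
  R : (CochainComplex A ℤ) ⥤ (CochainComplex A ℤ)
  /-- the augmentation -/
  ψ : R ⟶ 𝟭 _
  mem : ∀ X, P (R.obj X)
  quasiIso : ∀ X, QuasiIso (ψ.app X)
  cone : ∀ {X Y : (CochainComplex A ℤ)} (φ : X ⟶ Y), P X → P Y → P (CochainComplex.mappingCone φ)
  acyclic : ∀ W : (CochainComplex A ℤ), W.Acyclic → P W →
    ((G.mapHomologicalComplex (ComplexShape.up ℤ)).obj W).Acyclic

variable {G : A ⥤ A'} [G.Additive] {P : ObjectProperty (CochainComplex A ℤ)} [P.IsStableUnderShift ℤ]

/-- The quasi-isomorphisms of `P`. -/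
abbrev qis (P : ObjectProperty (CochainComplex A ℤ)) : MorphismProperty P.FullSubcategory :=
  (HomologicalComplex.quasiIso A (ComplexShape.up ℤ)).inverseImage P.ι

/-- `P` as localizer. -/
def localizer (P : ObjectProperty (CochainComplex A ℤ)) :
    LocalizerMorphism (qis P) (HomologicalComplex.quasiIso A (ComplexShape.up ℤ)) where
  functor := P.ι
  map := le_rfl

/-- Complexes in `P` localize to the derived category. -/
theorem isLocalization (h : Adapted G P) :
    (P.ι ⋙ DerivedCategory.Q).IsLocalization (qis P) := by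
  have hq : ∀ {X Y : (CochainComplex A ℤ)} (f : X ⟶ Y), QuasiIso f → QuasiIso (h.R.map f) := fun {X Y} f hf => by
    haveI := h.quasiIso X
    haveI := h.quasiIso Y
    haveI : QuasiIso (h.R.map f ≫ h.ψ.app Y) := by
      rw [h.ψ.naturality f]; exact quasiIso_comp (h.ψ.app X) f
    exact quasiIso_of_comp_right (h.R.map f) (h.ψ.app Y)
  let ρ : (CochainComplex A ℤ) ⥤ P.FullSubcategory := P.lift h.R h.mem
  let Ψ : LocalizerMorphism (HomologicalComplex.quasiIso A (ComplexShape.up ℤ)) (qis P) :=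
    { functor := ρ, map := fun X Y f hf => hq f hf }
  let Φ := localizer P
  let ε₁ : Φ.functor ⋙ ρ ⟶ 𝟭 P.FullSubcategory :=
    ((Functor.FullyFaithful.whiskeringRight P.fullyFaithfulι _).preimage
      (X := Φ.functor ⋙ ρ) (Y := 𝟭 _) (Functor.whiskerLeft P.ι h.ψ))
  have hε₁ : ∀ X, (qis P) (ε₁.app X) := fun X => h.quasiIso X.obj
  let ε₂ : ρ ⋙ Φ.functor ⟶ 𝟭 (CochainComplex A ℤ) := h.ψ
  have : IsIso (Functor.whiskerRight ε₁ (qis P).Q) := by
    rw [NatTrans.isIso_iff_isIso_app]
    exact fun _ ↦ Localization.inverts (qis P).Q (qis P) _ (hε₁ _)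
  have : IsIso (Functor.whiskerRight ε₂ (HomologicalComplex.quasiIso A (ComplexShape.up ℤ)).Q) := by
    rw [NatTrans.isIso_iff_isIso_app]
    exact fun _ ↦ Localization.inverts (HomologicalComplex.quasiIso A (ComplexShape.up ℤ)).Q (HomologicalComplex.quasiIso A (ComplexShape.up ℤ)) _ (h.quasiIso _)
  have : Φ.IsLocalizedEquivalence := ⟨by
    letI := Ψ.liftingLocalizedFunctor (HomologicalComplex.quasiIso A (ComplexShape.up ℤ)).Q (qis P).Q
    letI := Ψ.catCommSq (HomologicalComplex.quasiIso A (ComplexShape.up ℤ)).Q (qis P).Q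
    refine (Localization.equivalence (qis P).Q (qis P) (HomologicalComplex.quasiIso A (ComplexShape.up ℤ)).Q (HomologicalComplex.quasiIso A (ComplexShape.up ℤ)) (Φ.functor ⋙ (HomologicalComplex.quasiIso A (ComplexShape.up ℤ)).Q)
      (Φ.localizedFunctor (qis P).Q (HomologicalComplex.quasiIso A (ComplexShape.up ℤ)).Q)
      (Ψ.functor ⋙ (qis P).Q) (Ψ.localizedFunctor (HomologicalComplex.quasiIso A (ComplexShape.up ℤ)).Q (qis P).Q) ?_ ?_).isEquivalence_functor
    · exact Functor.associator _ _ _ ≪≫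
        Functor.isoWhiskerLeft _ (CatCommSq.iso Ψ.functor (HomologicalComplex.quasiIso A (ComplexShape.up ℤ)).Q (qis P).Q _).symm ≪≫
        (Functor.associator _ _ _).symm ≪≫
        asIso (Functor.whiskerRight ε₁ (qis P).Q) ≪≫ Functor.leftUnitor _
    · exact Functor.associator _ _ _ ≪≫
        Functor.isoWhiskerLeft _ (CatCommSq.iso Φ.functor (qis P).Q (HomologicalComplex.quasiIso A (ComplexShape.up ℤ)).Q _).symm ≪≫
        (Functor.associator _ _ _).symm ≪≫
        asIso (Functor.whiskerRight ε₂ (HomologicalComplex.quasiIso A (ComplexShape.up ℤ)).Q) ≪≫ Functor.leftUnitor _⟩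
  exact (inferInstance : (Φ.functor ⋙ DerivedCategory.Q).IsLocalization (qis P))

lemma isCompatibleWithShift : (qis P).IsCompatibleWithShift ℤ where
  condition n := by
    ext X Y f
    exact ((HomologicalComplex.quasiIso A (ComplexShape.up ℤ)).arrow_mk_iso_iff
      (((Functor.mapArrowFunctor _ _).mapIso (P.ι.commShiftIso n)).app (Arrow.mk f))).trans
        (CochainComplex.quasiIso_shift_iff (P.ι.map f) n)

omit [P.IsStableUnderShift ℤ] in
lemma isIso_map (h : Adapted G P) {X Y : (CochainComplex A ℤ)} (φ : X ⟶ Y) [QuasiIso φ] (hX : P X) (hY : P Y) :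
    IsIso ((G.mapHomologicalComplex (ComplexShape.up ℤ) ⋙ DerivedCategory.Q).map φ) :=
  Localization.inverts DerivedCategory.Q (HomologicalComplex.quasiIso _ _) _
    (by
      show QuasiIso ((G.mapHomologicalComplex (ComplexShape.up ℤ)).map φ)
      rw [AcyclicLES.quasiIso_iff_acyclic_mappingCone]
      exact fun i => HomologicalComplex.ExactAt.of_iso
        (h.acyclic _ ((AcyclicLES.quasiIso_iff_acyclic_mappingCone φ).1 ‹_›) (h.cone φ hX hY) i)
        (CochainComplex.mappingCone.mapHomologicalComplexIso φ G))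

variable {LF : DerivedCategory A ⥤ DerivedCategory A'}
  (η : (P.ι ⋙ DerivedCategory.Q) ⋙ LF ≅ P.ι ⋙ (G.mapHomologicalComplex (ComplexShape.up ℤ) ⋙ DerivedCategory.Q))

/-- The compatibility of `LF` with the shift. -/
@[instance_reducible]
noncomputable def commShift (h : Adapted G P) : LF.CommShift ℤ :=
  letI := isLocalization h
  letI : Localization.Lifting (P.ι ⋙ DerivedCategory.Q) (qis P) (P.ι ⋙ (G.mapHomologicalComplex (ComplexShape.up ℤ) ⋙ DerivedCategory.Q)) LF := ⟨η⟩
  letI := isCompatibleWithShift (P := P)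
  Functor.commShiftOfLocalization (P.ι ⋙ DerivedCategory.Q) (qis P) ℤ (P.ι ⋙ (G.mapHomologicalComplex (ComplexShape.up ℤ) ⋙ DerivedCategory.Q)) LF

lemma commShift_compat (h : Adapted G P) :
    letI := commShift η h
    NatTrans.CommShift η.hom ℤ :=
  letI := isLocalization h
  letI : Localization.Lifting (P.ι ⋙ DerivedCategory.Q) (qis P) (P.ι ⋙ (G.mapHomologicalComplex (ComplexShape.up ℤ) ⋙ DerivedCategory.Q)) LF := ⟨η⟩
  letI := isCompatibleWithShift (P := P)
  NatTrans.commShift_iso_hom_of_localization (P.ι ⋙ DerivedCategory.Q) (qis P) (A := ℤ) (P.ι ⋙ (G.mapHomologicalComplex (ComplexShape.up ℤ) ⋙ DerivedCategory.Q)) LF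

include η in
/-- `LF` is triangulated. -/
theorem isTriangulated (h : Adapted G P) :
    letI := commShift η h
    LF.IsTriangulated := by
  letI := commShift η h
  haveI := commShift_compat η h
  refine ⟨fun T hT => ?_⟩
  obtain ⟨X, Y, f, ⟨e⟩⟩ := (DerivedCategory.mem_distTriang_iff T).1 hT
  let φ := h.R.map f
  let t : DerivedCategory.Q.mapTriangle.obj (mappingCone.triangle φ) ⟶
      DerivedCategory.Q.mapTriangle.obj (mappingCone.triangle f) :=
    DerivedCategory.Q.mapTriangle.map (mappingCone.triangleMap φ f (h.ψ.app X) (h.ψ.app Y)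
      (h.ψ.naturality f))
  haveI h₁ : IsIso t.hom₁ := Localization.inverts DerivedCategory.Q
    (HomologicalComplex.quasiIso _ _) _ (h.quasiIso X)
  haveI h₂ : IsIso t.hom₂ := Localization.inverts DerivedCategory.Q
    (HomologicalComplex.quasiIso _ _) _ (h.quasiIso Y)
  haveI h₃ : IsIso t.hom₃ := isIso₃_of_isIso₁₂ t (DerivedCategory.mappingCone_triangle_distinguished φ)
    (DerivedCategory.mappingCone_triangle_distinguished f) h₁ h₂
  haveI : IsIso t := Triangle.isIso_of_isIsos t h₁ h₂ h₃
  let a : P.FullSubcategory := ⟨h.R.obj X, h.mem X⟩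
  let b : P.FullSubcategory := ⟨h.R.obj Y, h.mem Y⟩
  let c : P.FullSubcategory := ⟨CochainComplex.mappingCone φ, h.cone φ (h.mem X) (h.mem Y)⟩
  let T₀ : Triangle P.FullSubcategory := Triangle.mk (X := a) (Y := b) (Z := c) ⟨φ⟩
    ⟨CochainComplex.mappingCone.inr φ⟩
    (P.fullyFaithfulι.preimage ((mappingCone.triangle φ).mor₃ ≫ (P.ι.commShiftIso (1 : ℤ)).inv.app a))
  have e₀ : P.ι.mapTriangle.obj T₀ ≅ mappingCone.triangle φ :=
    Triangle.isoMk _ _ (Iso.refl _) (Iso.refl _) (Iso.refl _)
      ((Category.comp_id _).trans (Category.id_comp _).symm)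
      ((Category.comp_id _).trans (Category.id_comp _).symm)
      (by
        show (((mappingCone.triangle φ).mor₃ ≫ (P.ι.commShiftIso (1 : ℤ)).inv.app a) ≫
          (P.ι.commShiftIso (1 : ℤ)).hom.app a) ≫
            (CategoryTheory.shiftFunctor (CochainComplex A ℤ) (1 : ℤ)).map (𝟙 _) =
          𝟙 _ ≫ (mappingCone.triangle φ).mor₃
        rw [Category.assoc _ _ ((P.ι.commShiftIso (1 : ℤ)).hom.app a)]
        erw [Iso.inv_hom_id_app, CategoryTheory.Functor.map_id]
        exact (Category.comp_id _).trans ((Category.comp_id _).trans (Category.id_comp _).symm))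
  refine isomorphic_distinguished _
    (DerivedCategory.mappingCone_triangle_distinguished
      ((G.mapHomologicalComplex (ComplexShape.up ℤ)).map φ)) _ ?_
  exact LF.mapTriangle.mapIso (e ≪≫ (asIso t).symm ≪≫ DerivedCategory.Q.mapTriangle.mapIso e₀.symm ≪≫
      (Functor.mapTriangleCompIso P.ι DerivedCategory.Q).symm.app T₀) ≪≫
    (Functor.mapTriangleCompIso (P.ι ⋙ DerivedCategory.Q) LF).symm.app T₀ ≪≫
    (Functor.mapTriangleIso η).app T₀ ≪≫
    (Functor.mapTriangleCompIso P.ι (G.mapHomologicalComplex (ComplexShape.up ℤ) ⋙ DerivedCategory.Q)).app T₀ ≪≫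
    (G.mapHomologicalComplex (ComplexShape.up ℤ) ⋙ DerivedCategory.Q).mapTriangle.mapIso e₀ ≪≫
    (Functor.mapTriangleCompIso (G.mapHomologicalComplex (ComplexShape.up ℤ))
      DerivedCategory.Q).app _ ≪≫
    DerivedCategory.Q.mapTriangle.mapIso (CochainComplex.mappingCone.mapTriangleIso φ G)

section Coproducts

omit [P.IsStableUnderShift ℤ] in
/-- A functor on the derived category given by `F₀` on a class `P` with resolutions preserves coproducts. -/
theorem preservesColimit_discrete_of_functor (R : CochainComplex A ℤ ⥤ CochainComplex A ℤ) (ψ : R ⟶ 𝟭 _)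
    (mem : ∀ X, P (R.obj X)) (hq : ∀ X, QuasiIso (ψ.app X))
    (F₀ : CochainComplex A ℤ ⥤ CochainComplex A' ℤ) (η₀ : (P.ι ⋙ DerivedCategory.Q) ⋙ LF ≅ P.ι ⋙ F₀ ⋙ DerivedCategory.Q)
    {ι : Type v} [HasColimitsOfShape (Discrete ι) A]
    [PreservesColimitsOfShape (Discrete ι) (DerivedCategory.Q (C := A))]
    [PreservesColimitsOfShape (Discrete ι) (DerivedCategory.Q (C := A'))]
    [PreservesColimitsOfShape (Discrete ι) F₀]
    (hP : ∀ E : ι → CochainComplex A ℤ, (∀ i, P (E i)) → P (∐ E)) :
    PreservesColimitsOfShape (Discrete ι) LF := by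
  refine ⟨fun {K} => ?_⟩
  have hE : ∀ i : ι, ∃ E : CochainComplex A ℤ, P E ∧ Nonempty (DerivedCategory.Q.obj E ≅ K.obj ⟨i⟩) :=
    fun i => by
      have := Localization.essSurj (DerivedCategory.Q (C := A))
        (HomologicalComplex.quasiIso A (ComplexShape.up ℤ))
      let X := DerivedCategory.Q.objPreimage (K.obj ⟨i⟩)
      have : IsIso (DerivedCategory.Q.map (ψ.app X)) := Localization.inverts _
        (HomologicalComplex.quasiIso A (ComplexShape.up ℤ)) _ (hq X)
      exact ⟨R.obj X, mem X,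
        ⟨asIso (DerivedCategory.Q.map (ψ.app X)) ≪≫ DerivedCategory.Q.objObjPreimageIso _⟩⟩
  choose E hEP eE using hE
  let E' : ι → P.FullSubcategory := fun i => ⟨E i, hEP i⟩
  let c : Cofan E' := Cofan.mk ⟨∐ E, hP E hEP⟩ fun i => ObjectProperty.homMk (Sigma.ι E i)
  have hc : IsColimit (P.ι.mapCocone c) :=
    (isColimitMapCoconeCofanMkEquiv P.ι E' _).symm (coproductIsCoproduct E)
  have h₁ : IsColimit ((P.ι ⋙ DerivedCategory.Q).mapCocone c) :=
    isColimitOfPreserves (DerivedCategory.Q (C := A)) hc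
  have h₂ : IsColimit (((P.ι ⋙ DerivedCategory.Q) ⋙ LF).mapCocone c) :=
    IsColimit.mapCoconeEquiv η₀.symm (show IsColimit ((P.ι ⋙ F₀ ⋙ DerivedCategory.Q).mapCocone c) from
      isColimitOfPreserves (F₀ ⋙ DerivedCategory.Q) hc)
  have : PreservesColimit (Discrete.functor E' ⋙ P.ι ⋙ DerivedCategory.Q) LF :=
    preservesColimit_of_preserves_colimit_cocone h₁ h₂
  exact preservesColimit_of_iso_diagram (K₁ := Discrete.functor E' ⋙ P.ι ⋙ DerivedCategory.Q) _
    (Discrete.natIso fun i => (eE i.as).some)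

omit [P.IsStableUnderShift ℤ] in
include η in
/-- `LF` preserves coproducts. -/
theorem preservesColimit_discrete (h : Adapted G P) {ι : Type v} [HasColimitsOfShape (Discrete ι) A]
    [PreservesColimitsOfShape (Discrete ι) (DerivedCategory.Q (C := A))]
    [PreservesColimitsOfShape (Discrete ι) (DerivedCategory.Q (C := A'))]
    [PreservesColimitsOfShape (Discrete ι) G]
    (hP : ∀ E : ι → CochainComplex A ℤ, (∀ i, P (E i)) → P (∐ E)) :
    PreservesColimitsOfShape (Discrete ι) LF :=
  have : PreservesColimitsOfShape (Discrete ι) (G.mapHomologicalComplex (ComplexShape.up ℤ)) :=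
    ⟨fun {K} => ⟨fun {s} hs => ⟨HomologicalComplex.isColimitOfEval _ _ fun n =>
      isColimitOfPreserves G (isColimitOfPreserves (HomologicalComplex.eval A _ n) hs)⟩⟩⟩
  preservesColimit_discrete_of_functor h.R h.ψ h.mem h.quasiIso _ η hP

end Coproducts

section Counit

/-- The comparison iso of `Q ⋙ -` and `Qh ⋙ -`. -/
noncomputable def compIso :
    HomotopyCategory.quotient A (ComplexShape.up ℤ) ⋙
        (G.mapHomotopyCategory (ComplexShape.up ℤ) ⋙ DerivedCategory.Qh) ≅ (G.mapHomologicalComplex (ComplexShape.up ℤ) ⋙ DerivedCategory.Q) :=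
  (Functor.associator _ _ _).symm ≪≫
    Functor.isoWhiskerRight (G.mapHomotopyCategoryFactors (ComplexShape.up ℤ)) DerivedCategory.Qh ≪≫
    Functor.associator _ _ _ ≪≫ Functor.isoWhiskerLeft _ (DerivedCategory.quotientCompQhIso _)

variable {LF' : DerivedCategory A ⥤ DerivedCategory A'}
  (β : DerivedCategory.Qh ⋙ LF' ⟶ G.mapHomotopyCategory (ComplexShape.up ℤ) ⋙ DerivedCategory.Qh)
  [LF'.IsLeftDerivedFunctor β (HomotopyCategory.quasiIso A (ComplexShape.up ℤ))]

omit [P.IsStableUnderShift ℤ] in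
include β in
theorem isIso_counit (h : Adapted G P) (K : (CochainComplex A ℤ)) (hK : P K) :
    IsIso (β.app ((HomotopyCategory.quotient _ _).obj K)) := by
  haveI : (HomotopyCategory.quotient A (ComplexShape.up ℤ) ⋙
      DerivedCategory.Qh (C := A)).IsLocalization (HomologicalComplex.quasiIso A (ComplexShape.up ℤ)) :=
    Functor.IsLocalization.of_iso _ (DerivedCategory.quotientCompQhIso A).symm
  have hmap : ∀ {X Y : (CochainComplex A ℤ)} (φ : X ⟶ Y), QuasiIso φ → P X → P Y →
      IsIso ((HomotopyCategory.quotient A (ComplexShape.up ℤ) ⋙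
        (G.mapHomotopyCategory (ComplexShape.up ℤ) ⋙ DerivedCategory.Qh)).map φ) :=
    fun φ hφ hX hY => by
      rw [NatIso.isIso_map_iff compIso]; exact isIso_map h φ hX hY
  refine LeftDer.isIso_counit' (W₁ := HomologicalComplex.quasiIso A (ComplexShape.up ℤ))
    (HomotopyCategory.quasiIso A (ComplexShape.up ℤ)) DerivedCategory.Qh
    (HomotopyCategory.quotient A (ComplexShape.up ℤ))
    (HomologicalComplex.homotopyEquivalences A (ComplexShape.up ℤ))
    (ψ₀ := h.ψ) h.quasiIso (fun X Y f hf => ?_) (fun X => ?_) LF' β K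
    (hmap _ (h.quasiIso K) (h.mem K) hK)
  · haveI := h.quasiIso X
    haveI := h.quasiIso Y
    haveI : QuasiIso f := hf
    haveI : QuasiIso (h.R.map f ≫ h.ψ.app Y) := by
      rw [h.ψ.naturality f]; exact quasiIso_comp (h.ψ.app X) f
    exact hmap _ (quasiIso_of_comp_right (h.R.map f) (h.ψ.app Y)) (h.mem X) (h.mem Y)
  · exact hmap _ (h.quasiIso _) (h.mem _) (h.mem X)

omit [P.IsStableUnderShift ℤ] in
/-- `LF'(Q K) ≅ Q (G K)` for `K` in `P`. -/
noncomputable def derivedIso (h : Adapted G P) :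
    (P.ι ⋙ DerivedCategory.Q) ⋙ LF' ≅ P.ι ⋙ (G.mapHomologicalComplex (ComplexShape.up ℤ) ⋙ DerivedCategory.Q) :=
  haveI : ∀ K : P.FullSubcategory, IsIso (((P.ι ⋙ HomotopyCategory.quotient _ _).whiskerLeft β).app K) :=
    fun K => isIso_counit β h K.obj K.property
  haveI := NatIso.isIso_of_isIso_app ((P.ι ⋙ HomotopyCategory.quotient _ _).whiskerLeft β)
  Functor.isoWhiskerRight (Functor.isoWhiskerLeft P.ι (DerivedCategory.quotientCompQhIso A).symm) LF' ≪≫
    asIso ((P.ι ⋙ HomotopyCategory.quotient _ _).whiskerLeft β) ≪≫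
    Functor.isoWhiskerLeft P.ι compIso

end Counit

end Groth.Agent.H16Derived.LeftDerTri
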