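import Groth.Agent.H16Derived.TermwiseSplit
import Mathlib.Algebra.Homology.HomotopyCategory.KInjective
import Mathlib.Algebra.Homology.Double
import Mathlib.Algebra.Homology.HomologySequence
import Mathlib.Algebra.Homology.Refinements
import Mathlib.Algebra.Homology.HomologicalComplexAbelian

/-!
# Lifting against monomorphisms with acyclic cokernel
-/

universe v u

open CategoryTheory CategoryTheory.Limits CochainComplex CochainComplex.HomComplex

namespace Groth.Agent.H16Derived.Lifting

variable {A : Type u} [Category.{v} A] [Abelian A]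

lemma acyclic_X₃ {S : ShortComplex (CochainComplex A ℤ)} (hS : S.ShortExact)
    (h₁ : S.X₁.Acyclic) (h₂ : S.X₂.Acyclic) : S.X₃.Acyclic := by
  intro i
  rw [HomologicalComplex.exactAt_iff_isZero_homology]
  exact (hS.homology_exact₃ i (i + 1) rfl).isZero_X₂
    (((HomologicalComplex.exactAt_iff_isZero_homology _ _).1 (h₂ i)).eq_of_src _ _)
    (((HomologicalComplex.exactAt_iff_isZero_homology _ _).1 (h₁ (i + 1))).eq_of_tgt _ _)

lemma acyclic_of_homotopy_id_zero {K : CochainComplex A ℤ} (h : Homotopy (𝟙 K) 0) : K.Acyclic := by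
  intro i
  rw [HomologicalComplex.exactAt_iff_isZero_homology, IsZero.iff_id_eq_zero]
  have e := h.homologyMap_eq i
  rwa [HomologicalComplex.homologyMap_id, HomologicalComplex.homologyMap_zero] at e

lemma acyclic_cokernel_of_mono {K L : CochainComplex A ℤ} (α : K ⟶ L) [Mono α] [QuasiIso α] :
    (cokernel α).Acyclic := by
  let S := ShortComplex.mk α (cokernel.π α) (by simp)
  have hS : S.ShortExact :=
    { exact := ShortComplex.exact_of_g_is_cokernel _ (cokernelIsCokernel α) }
  intro i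
  rw [HomologicalComplex.exactAt_iff_isZero_homology]
  have h₁ : Epi (HomologicalComplex.homologyMap S.f i) := by dsimp [S]; infer_instance
  have h₂ : Mono (HomologicalComplex.homologyMap S.f (i + 1)) := by dsimp [S]; infer_instance
  exact (hS.homology_exact₃ i (i + 1) rfl).isZero_X₂
    ((hS.homology_exact₂ i).epi_f_iff.1 h₁)
    ((hS.homology_exact₁ i (i + 1) rfl).mono_g_iff.1 h₂)

/-- Extension along a monomorphism with acyclic cokernel into a K-injective complex of
injectives. -/
theorem exists_extension (I : CochainComplex A ℤ) [I.IsKInjective] (hI : ∀ n, Injective (I.X n))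
    (S : ShortComplex (CochainComplex A ℤ)) (hS : S.ShortExact) (h₃ : S.X₃.Acyclic)
    (φ : S.X₁ ⟶ I) : ∃ ψ : S.X₂ ⟶ I, S.f ≫ ψ = φ := by
  have hS' : ∀ n, (S.map (HomologicalComplex.eval A _ n)).ShortExact := fun n =>
    hS.map_of_exact _
  have hm : ∀ n, Mono (S.f.f n) := fun n => (hS' n).mono_f
  have hg : ∀ n, Epi (S.g.f n) := fun n => (hS' n).epi_g
  let ψ₀ : Cochain S.X₂ I 0 := Cochain.ofHoms fun n => Injective.factorThru (φ.f n) (S.f.f n)
  have hψ₀ : (Cochain.ofHom S.f).comp ψ₀ (zero_add 0) = Cochain.ofHom φ := by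
    ext n
    simp [ψ₀]
  let E : Cochain S.X₂ I 1 := δ 0 1 ψ₀
  have hE : ∀ p q (hpq : p + 1 = q), S.f.f p ≫ E.v p q hpq = 0 := by
    intro p q hpq
    have e := δ_ofHom_comp S.f ψ₀ 1
    rw [hψ₀, δ_ofHom] at e
    have e' := Cochain.congr_v e.symm p q hpq
    rwa [Cochain.zero_v, Cochain.zero_cochain_comp_v, Cochain.ofHom_v] at e'
  let c : Cochain S.X₃ I 1 := Cochain.mk fun p q hpq =>
    (haveI := (hS' p).epi_g; (hS' p).exact.desc (E.v p q hpq) (hE p q hpq))
  have hc : (Cochain.ofHom S.g).comp c (zero_add 1) = E := by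
    ext p q hpq
    rw [Cochain.zero_cochain_comp_v, Cochain.ofHom_v, Cochain.mk_v]
    haveI := (hS' p).epi_g
    exact (hS' p).exact.g_desc _ _
  have hδc : δ 1 2 c = 0 := by
    ext p q hpq
    have e := δ_ofHom_comp S.g c 2
    rw [hc, δ_δ] at e
    have e' := Cochain.congr_v e.symm p q hpq
    rw [Cochain.zero_cochain_comp_v, Cochain.ofHom_v, Cochain.zero_v] at e'
    rw [Cochain.zero_v, ← cancel_epi (S.g.f p), e', comp_zero]
  let z : Cocycle S.X₃ I 1 := Cocycle.mk c 2 rfl hδc
  let χ : S.X₃ ⟶ I⟦(1 : ℤ)⟧ := (Cocycle.equivHom _ _).symm (z.rightShift 1 0 (zero_add 1))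
  obtain ⟨h, hh⟩ := Cochain.equivHomotopy _ _ (IsKInjective.homotopyZero χ h₃)
  have hχ : Cochain.ofHom χ = c.rightShift 1 0 (zero_add 1) :=
    congrArg Subtype.val ((Cocycle.equivHom _ _).apply_symm_apply _)
  rw [hχ, Cochain.ofHom_zero, add_zero] at hh
  have hu : c = -δ 0 1 (h.rightUnshift 0 (by lia)) := by
    have e := congrArg (fun w => Cochain.rightUnshift w 1 (by lia)) hh
    simp only [Cochain.rightUnshift_rightShift] at e
    rw [e, Cochain.δ_rightUnshift h 0 (by lia) 1 0 (by lia)]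
    simp
  let w : Cochain S.X₂ I 0 := ψ₀ + (Cochain.ofHom S.g).comp (h.rightUnshift 0 (by lia)) (zero_add 0)
  have hw : δ 0 1 w = 0 := by
    rw [δ_add, δ_ofHom_comp]
    change E + _ = 0
    rw [← hc, hu, Cochain.comp_neg, neg_add_cancel]
  refine ⟨Cocycle.homOf (Cocycle.mk w 1 rfl hw), ?_⟩
  ext n
  rw [HomologicalComplex.comp_f, Cocycle.homOf_f]
  change S.f.f n ≫ w.v n n (add_zero n) = _
  have hz : S.f.f n ≫ S.g.f n = 0 := by
    rw [← HomologicalComplex.comp_f, S.zero, HomologicalComplex.zero_f]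
  simp [w, ψ₀, reassoc_of% hz]

theorem exists_extension_of_quasiIso {K L : CochainComplex A ℤ} (I : CochainComplex A ℤ)
    [I.IsKInjective] (hI : ∀ n, Injective (I.X n)) (α : K ⟶ L) [Mono α] [QuasiIso α]
    (φ : K ⟶ I) : ∃ ψ : L ⟶ I, α ≫ ψ = φ :=
  exists_extension I hI (ShortComplex.mk α (cokernel.π α) (by simp))
    { exact := ShortComplex.exact_of_g_is_cokernel _ (cokernelIsCokernel α) }
    (acyclic_cokernel_of_mono α) φ

section disk

lemma rel (n : ℤ) : (ComplexShape.up ℤ).Rel n (n + 1) := rfl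

/-- The disk complex `X = X` in degrees `n`, `n+1`. -/
noncomputable abbrev disk (X : A) (n : ℤ) : CochainComplex A ℤ :=
  HomologicalComplex.double (𝟙 X) (rel n)

lemma acyclic_disk (X : A) (n : ℤ) : (disk X n).Acyclic := by
  intro i
  rw [HomologicalComplex.exactAt_iff_exact_up_to_refinements _ (i - 1) i (i + 1)
    (by simp) (by simp)]
  intro W x hx
  refine ⟨W, 𝟙 W, inferInstance, ?_⟩
  by_cases h₀ : i = n
  · subst h₀
    refine ⟨0, ?_⟩
    rw [HomologicalComplex.double_d _ _ (by lia), Category.id_comp, ← Category.assoc] at hx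
    rw [zero_comp, Category.id_comp]
    exact (cancel_mono _).1 (((cancel_mono _).1 (hx.trans zero_comp.symm)).trans zero_comp.symm)
  · by_cases h₁ : i = n + 1
    · subst h₁
      rw [show n + 1 - 1 = n by lia]
      refine ⟨x ≫ (HomologicalComplex.doubleXIso₁ (𝟙 X) (rel n) (by lia)).hom ≫
        (HomologicalComplex.doubleXIso₀ (𝟙 X) (rel n)).inv, ?_⟩
      simp [HomologicalComplex.double_d _ (rel n) (by lia : n ≠ n + 1)]
    · exact ⟨0, (HomologicalComplex.isZero_double_X _ _ _ h₀ h₁).eq_of_tgt _ _⟩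

/-- Functoriality of the disk complex. -/
noncomputable def diskMap {X Y : A} (m : X ⟶ Y) (n : ℤ) : disk X n ⟶ disk Y n :=
  HomologicalComplex.mkHomFromDouble (rel n) (by lia)
    (m ≫ (HomologicalComplex.doubleXIso₀ (𝟙 Y) (rel n)).inv)
    (m ≫ (HomologicalComplex.doubleXIso₁ (𝟙 Y) (rel n) (by lia)).inv)
    (by simp [HomologicalComplex.double_d _ (rel n) (by lia : n ≠ n + 1)])
    (fun k hk => by
      rw [HomologicalComplex.double_d_eq_zero₀ _ _ _ _ (by lia : n + 1 ≠ n), comp_zero])

lemma mono_diskMap {X Y : A} (m : X ⟶ Y) [Mono m] (n : ℤ) : Mono (diskMap m n) := by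
  have : ∀ i, Mono ((diskMap m n).f i) := by
    intro i
    by_cases h₀ : i = n
    · subst h₀
      rw [diskMap, HomologicalComplex.mkHomFromDouble_f₀]
      infer_instance
    · by_cases h₁ : i = n + 1
      · subst h₁
        rw [diskMap, HomologicalComplex.mkHomFromDouble_f₁]
        infer_instance
      · exact ⟨fun _ _ _ => (HomologicalComplex.isZero_double_X _ _ _ h₀ h₁).eq_of_tgt _ _⟩
  exact HomologicalComplex.mono_of_mono_f _ this

end disk

theorem iff_lifting (I : CochainComplex A ℤ) :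
    (I.IsKInjective ∧ ∀ n : ℤ, Injective (I.X n)) ↔
      ∀ (S : ShortComplex (CochainComplex A ℤ)), S.ShortExact → S.X₃.Acyclic →
        ∀ φ : S.X₁ ⟶ I, ∃ ψ : S.X₂ ⟶ I, S.f ≫ ψ = φ := by
  constructor
  · rintro ⟨_, hI⟩ S hS h₃ φ
    exact exists_extension I hI S hS h₃ φ
  · intro H
    refine ⟨⟨fun {K} f hK => ?_⟩, fun n => ⟨fun {X Y} g m hm => ?_⟩⟩
    · let i : K ⟶ mappingCone (𝟙 K) := mappingCone.inr (𝟙 K)
      have : ∀ p, Mono (i.f p) := fun p =>
        mono_of_mono_fac (mappingCone.inr_f_snd_v (𝟙 K) p)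
      have : Mono i := HomologicalComplex.mono_of_mono_f _ this
      let S := ShortComplex.mk i (cokernel.π i) (by simp)
      have hS : S.ShortExact :=
        { exact := ShortComplex.exact_of_g_is_cokernel _ (cokernelIsCokernel i) }
      obtain ⟨ψ, hψ⟩ := H S hS (acyclic_X₃ hS hK
        (acyclic_of_homotopy_id_zero (TermwiseSplit.homotopyIdZero K))) f
      exact ⟨(Homotopy.ofEq (by rw [← hψ]; simp [S])).trans
        (((TermwiseSplit.homotopyIdZero K).compRight ψ).compLeft i |>.trans
          (Homotopy.ofEq (by simp)))⟩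
    · have := mono_diskMap m n
      let S := ShortComplex.mk (diskMap m n) (cokernel.π (diskMap m n)) (by simp)
      have hS : S.ShortExact :=
        { exact := ShortComplex.exact_of_g_is_cokernel _ (cokernelIsCokernel _) }
      let e := HomologicalComplex.evalCompCoyonedaCorepresentableByDoubleId (rel n) (by lia) X
      obtain ⟨ψ, hψ⟩ := H S hS (acyclic_X₃ hS (acyclic_disk X n) (acyclic_disk Y n))
        (e.homEquiv.symm g)
      refine ⟨(HomologicalComplex.doubleXIso₀ (𝟙 Y) (rel n)).inv ≫ ψ.f n, ?_⟩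
      have hh := (congrArg e.homEquiv hψ).trans (e.homEquiv.apply_symm_apply g)
      simp only [e, HomologicalComplex.evalCompCoyonedaCorepresentableByDoubleId_homEquiv_apply,
        HomologicalComplex.comp_f, S, diskMap, HomologicalComplex.mkHomFromDouble_f₀_assoc,
        Category.assoc, Iso.inv_hom_id_assoc] at hh
      erw [Iso.inv_hom_id_assoc] at hh
      exact hh

end Groth.Agent.H16Derived.Lifting
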