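import Groth.Agent.H16Derived.Resolution
import Groth.Agent.H16Derived.Lifting
import Mathlib.Algebra.Homology.HomologySequenceLemmas
import Mathlib.Algebra.Homology.HomologicalComplexLimits
import Mathlib.CategoryTheory.Preadditive.Injective.Basic

/-!
# Horseshoe: injective resolutions of short exact sequences of bounded below complexes
-/

universe v u

open CategoryTheory CategoryTheory.Limits

namespace Groth.Agent.H16Derived.Horseshoe

variable {A : Type u} [Category.{v} A] [Abelian A]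

/-- Given a pushout of a monomorphism, the induced map to the cokernel is a cokernel. -/
lemma shortExact_pushout {C : Type*} [Category C] [Abelian C] {X₁ X₂ X₃ I : C} (f : X₁ ⟶ X₂)
    (g : X₂ ⟶ X₃) (zero : f ≫ g = 0) (hS : (ShortComplex.mk f g zero).ShortExact) (ι : X₁ ⟶ I) :
    (ShortComplex.mk (pushout.inr f ι) (pushout.desc g 0 (by rw [zero, comp_zero]))
      (pushout.inr_desc _ _ _)).ShortExact := by
  have : Mono f := hS.mono_f
  have : Epi g := hS.epi_g
  have h1 : Mono (pushout.inr f ι) :=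
    Abelian.mono_inr_of_isColimit f ι (s := PushoutCocone.mk _ _ pushout.condition)
      (pushoutIsPushout f ι)
  have : Epi (pushout.desc g 0 (by rw [zero, comp_zero]) : pushout f ι ⟶ X₃) :=
    epi_of_epi_fac (pushout.inl_desc g 0 _)
  refine { exact := ?_ }
  refine ShortComplex.exact_of_g_is_cokernel
    (ShortComplex.mk (pushout.inr f ι) (pushout.desc g 0 _)
      (pushout.inr_desc _ _ _))
    (CokernelCofork.IsColimit.ofπ' _ _ (fun {W} k hk => Classical.choice ?_))
  refine ⟨?_⟩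
  have hk' : f ≫ pushout.inl f ι ≫ k = 0 := by
    rw [pushout.condition_assoc, hk, comp_zero]
  refine ⟨hS.exact.desc (pushout.inl f ι ≫ k) hk', ?_⟩
  apply pushout.hom_ext
  · rw [pushout.inl_desc_assoc]
    exact hS.exact.g_desc _ _
  · rw [pushout.inr_desc_assoc, zero_comp, hk]

lemma quasiIso_of_acyclic_cokernel {S : ShortComplex (CochainComplex A ℤ)} (hS : S.ShortExact)
    (h : S.X₃.Acyclic) : QuasiIso S.f := by
  refine ⟨fun i => ?_⟩
  rw [quasiIsoAt_iff_isIso_homologyMap]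
  have hz : ∀ j, IsZero (S.X₃.homology j) := fun j =>
    (HomologicalComplex.exactAt_iff_isZero_homology _ _).1 (h j)
  have : Mono (HomologicalComplex.homologyMap S.f i) :=
    (hS.homology_exact₁ (i - 1) i (by simp)).mono_g_iff.2 ((hz (i - 1)).eq_of_src _ _)
  have : Epi (HomologicalComplex.homologyMap S.f i) :=
    (hS.homology_exact₂ i).epi_f_iff.2 ((hz i).eq_of_tgt _ _)
  exact isIso_of_mono_of_epi _

lemma shortExact_eval {S : ShortComplex (CochainComplex A ℤ)} (hS : S.ShortExact) (i : ℤ) :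
    (S.map (HomologicalComplex.eval A (ComplexShape.up ℤ) i)).ShortExact :=
  hS.map_of_exact _

lemma isStrictlyGE_X₂ {S : ShortComplex (CochainComplex A ℤ)} (hS : S.ShortExact) (n : ℤ)
    (h₁ : S.X₁.IsStrictlyGE n) (h₃ : S.X₃.IsStrictlyGE n) : S.X₂.IsStrictlyGE n := by
  rw [CochainComplex.isStrictlyGE_iff]
  intro i hi
  exact (shortExact_eval hS i).exact.isZero_X₂
    ((CochainComplex.isZero_of_isStrictlyGE S.X₁ n i hi).eq_of_src _ _)
    ((CochainComplex.isZero_of_isStrictlyGE S.X₃ n i hi).eq_of_tgt _ _)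

/-- The horseshoe lemma for bounded below complexes. -/
theorem exists_injective_resolution [EnoughInjectives A]
    (S : ShortComplex (CochainComplex A ℤ)) (hS : S.ShortExact) (n : ℤ)
    [S.X₁.IsStrictlyGE n] [S.X₃.IsStrictlyGE n] :
    ∃ (T : ShortComplex (CochainComplex A ℤ)) (φ : S ⟶ T), T.ShortExact ∧
      T.X₁.IsStrictlyGE n ∧ T.X₂.IsStrictlyGE n ∧ T.X₃.IsStrictlyGE n ∧
      (∀ k : ℤ, Injective (T.X₁.X k) ∧ Injective (T.X₂.X k) ∧ Injective (T.X₃.X k)) ∧
      QuasiIso φ.τ₁ ∧ QuasiIso φ.τ₂ ∧ QuasiIso φ.τ₃ := by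
  obtain @⟨X₁, X₂, X₃, f, g, zero⟩ := S
  have hI : ∀ X : A, ∃ (Y : A) (ι : X ⟶ Y), Injective Y ∧ Mono ι := fun X =>
    ⟨_, Injective.ι X, inferInstance, inferInstance⟩
  have h0 : ∃ Z : A, IsZero Z ∧ Injective Z := by
    obtain ⟨Z, hZ⟩ := HasZeroObject.zero (C := A)
    exact ⟨Z, hZ, ⟨fun _ _ _ => ⟨0, hZ.eq_of_tgt _ _⟩⟩⟩
  obtain ⟨I, ι₁, hGE₁, hinj₁, hm₁, hq₁⟩ :=
    Resolution.exists_right_resolution (fun Y : A => Injective Y) h0 hI X₁ n
  have : Mono ι₁ := HomologicalComplex.mono_of_mono_f _ hm₁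
  have : Mono f := hS.mono_f
  have : Epi g := hS.epi_g
  have : Epi (ShortComplex.mk f g zero).g := hS.epi_g
  have hY := shortExact_pushout f g zero hS ι₁
  have hYGE : (pushout f ι₁).IsStrictlyGE n := isStrictlyGE_X₂ hY n hGE₁ ‹_›
  have hqY : QuasiIso (pushout.inl f ι₁) := by
    have hc : (ShortComplex.mk ι₁ (cokernel.π ι₁) (cokernel.condition ι₁)).ShortExact :=
      { exact := ShortComplex.exact_cokernel ι₁ }
    have h' := shortExact_pushout ι₁ (cokernel.π ι₁) (cokernel.condition ι₁) hc f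
    have hq := quasiIso_of_acyclic_cokernel h' (Lifting.acyclic_cokernel_of_mono ι₁)
    have : pushout.inr ι₁ f ≫ (pushoutSymmetry ι₁ f).hom = pushout.inl f ι₁ :=
      inr_comp_pushoutSymmetry_hom ι₁ f
    rw [← this]
    dsimp at hq
    infer_instance
  obtain ⟨J, ι₂, hGE₂, hinj₂, hm₂, hq₂⟩ :=
    Resolution.exists_right_resolution (fun Y : A => Injective Y) h0 hI (pushout f ι₁) n
  have : Mono ι₂ := HomologicalComplex.mono_of_mono_f _ hm₂
  have : Mono (pushout.inr f ι₁) := hY.mono_f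
  let i := pushout.inr f ι₁ ≫ ι₂
  let T := ShortComplex.mk i (cokernel.π i) (cokernel.condition i)
  have hT : T.ShortExact := { exact := ShortComplex.exact_cokernel i }
  have hc₁ : f ≫ pushout.inl f ι₁ ≫ ι₂ = ι₁ ≫ i := pushout.condition_assoc _
  let τ₃ : X₃ ⟶ cokernel i := hS.exact.desc ((pushout.inl f ι₁ ≫ ι₂) ≫ cokernel.π i)
    (by
      show f ≫ (pushout.inl f ι₁ ≫ ι₂) ≫ cokernel.π i = 0
      rw [← Category.assoc, hc₁, Category.assoc, cokernel.condition, comp_zero])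
  let φ : ShortComplex.mk f g zero ⟶ T :=
    { τ₁ := ι₁
      τ₂ := pushout.inl f ι₁ ≫ ι₂
      τ₃ := τ₃
      comm₁₂ := hc₁.symm
      comm₂₃ := (hS.exact.g_desc _ _).symm }
  have hτ₁ : QuasiIso φ.τ₁ := hq₁
  have hτ₂ : QuasiIso φ.τ₂ := inferInstanceAs (QuasiIso (pushout.inl f ι₁ ≫ ι₂))
  refine ⟨T, φ, hT, hGE₁, hGE₂, ?_, fun k => ⟨hinj₁ k, hinj₂ k, ?_⟩, hτ₁, hτ₂,
    HomologicalComplex.HomologySequence.quasiIso_τ₃ φ hS hT hτ₁ hτ₂⟩
  · rw [CochainComplex.isStrictlyGE_iff]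
    intro j hj
    have : Epi ((cokernel.π i).f j) := (shortExact_eval hT j).epi_g
    exact (CochainComplex.isZero_of_isStrictlyGE J n j hj).of_epi ((cokernel.π i).f j)
  · have : Injective ((T.map (HomologicalComplex.eval A _ k)).X₁) := hinj₁ k
    let sp := (shortExact_eval hT k).splittingOfInjective
    have := hinj₂ k
    exact Retract.injective (Y := T.X₂.X k) ⟨sp.s, (cokernel.π i).f k, sp.s_g⟩

lemma quasiIso_τ₁ {S₁ S₂ : ShortComplex (CochainComplex A ℤ)} (φ : S₁ ⟶ S₂)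
    (hS₁ : S₁.ShortExact) (hS₂ : S₂.ShortExact) (h₂ : QuasiIso φ.τ₂) (h₃ : QuasiIso φ.τ₃) :
    QuasiIso φ.τ₁ := by
  refine ⟨fun i => ?_⟩
  rw [quasiIsoAt_iff_isIso_homologyMap]
  have hij : (ComplexShape.up ℤ).Rel (i - 1) i := by simp
  exact CategoryTheory.Abelian.isIso_of_epi_of_isIso_of_isIso_of_mono
    (R₁ := (HomologicalComplex.HomologySequence.composableArrows₅ hS₁ (i - 1) i hij).δ₀)
    (R₂ := (HomologicalComplex.HomologySequence.composableArrows₅ hS₂ (i - 1) i hij).δ₀)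
    (HomologicalComplex.HomologySequence.composableArrows₅_exact hS₁ (i - 1) i hij).δ₀
    (HomologicalComplex.HomologySequence.composableArrows₅_exact hS₂ (i - 1) i hij).δ₀
    (φ := ComposableArrows.δ₀Functor.map
      (HomologicalComplex.HomologySequence.mapComposableArrows₅ φ hS₁ hS₂ (i - 1) i hij))
    (inferInstanceAs (Epi (HomologicalComplex.homologyMap φ.τ₂ (i - 1))))
    (inferInstanceAs (IsIso (HomologicalComplex.homologyMap φ.τ₃ (i - 1))))
    (inferInstanceAs (IsIso (HomologicalComplex.homologyMap φ.τ₂ i)))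
    (inferInstanceAs (Mono (HomologicalComplex.homologyMap φ.τ₃ i)))

lemma isStrictlyLE_X₂ {S : ShortComplex (CochainComplex A ℤ)} (hS : S.ShortExact) (n : ℤ)
    (h₁ : S.X₁.IsStrictlyLE n) (h₃ : S.X₃.IsStrictlyLE n) : S.X₂.IsStrictlyLE n := by
  rw [CochainComplex.isStrictlyLE_iff]
  intro i hi
  exact (shortExact_eval hS i).exact.isZero_X₂
    ((CochainComplex.isZero_of_isStrictlyLE S.X₁ n i hi).eq_of_src _ _)
    ((CochainComplex.isZero_of_isStrictlyLE S.X₃ n i hi).eq_of_tgt _ _)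

lemma shortExact_pullback {C : Type*} [Category C] [Abelian C] {X₁ X₂ X₃ P : C} (f : X₁ ⟶ X₂)
    (g : X₂ ⟶ X₃) (zero : f ≫ g = 0) (hS : (ShortComplex.mk f g zero).ShortExact) (π : P ⟶ X₃) :
    (ShortComplex.mk (pullback.lift f 0 (by rw [zero, zero_comp])) (pullback.snd g π)
      (pullback.lift_snd _ _ _)).ShortExact := by
  have : Mono f := hS.mono_f
  have : Mono (ShortComplex.mk f g zero).f := hS.mono_f
  have : Epi g := hS.epi_g
  have : Mono (pullback.lift f 0 (by rw [zero, zero_comp]) : X₁ ⟶ pullback g π) :=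
    mono_of_mono_fac (pullback.lift_fst f 0 _)
  refine { exact := ?_ }
  refine ShortComplex.exact_of_f_is_kernel
    (ShortComplex.mk (pullback.lift f 0 _) (pullback.snd g π)
      (pullback.lift_snd _ _ _))
    (KernelFork.IsLimit.ofι' _ _ (fun {W} k hk => Classical.choice ?_))
  refine ⟨?_⟩
  have hk' : (k ≫ pullback.fst g π) ≫ g = 0 := by
    rw [Category.assoc, pullback.condition, reassoc_of% hk, zero_comp]
  refine ⟨hS.exact.lift (k ≫ pullback.fst g π) hk', ?_⟩
  apply pullback.hom_ext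
  · rw [Category.assoc, pullback.lift_fst]
    exact hS.exact.lift_f _ _
  · rw [Category.assoc, pullback.lift_snd, comp_zero, hk]

lemma quasiIso_of_acyclic_kernel {S : ShortComplex (CochainComplex A ℤ)} (hS : S.ShortExact)
    (h : S.X₁.Acyclic) : QuasiIso S.g := by
  refine ⟨fun i => ?_⟩
  rw [quasiIsoAt_iff_isIso_homologyMap]
  have hz : ∀ j, IsZero (S.X₁.homology j) := fun j =>
    (HomologicalComplex.exactAt_iff_isZero_homology _ _).1 (h j)
  have : Mono (HomologicalComplex.homologyMap S.g i) :=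
    (hS.homology_exact₂ i).mono_g_iff.2 ((hz i).eq_of_src _ _)
  have : Epi (HomologicalComplex.homologyMap S.g i) :=
    (hS.homology_exact₃ i (i + 1) rfl).epi_f_iff.2 ((hz (i + 1)).eq_of_tgt _ _)
  exact isIso_of_mono_of_epi _

lemma acyclic_kernel_of_epi {K L : CochainComplex A ℤ} (α : K ⟶ L) [Epi α] [QuasiIso α] :
    (kernel α).Acyclic := by
  let S := ShortComplex.mk (kernel.ι α) α (kernel.condition α)
  have hS : S.ShortExact := { exact := ShortComplex.exact_kernel α }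
  intro i
  rw [HomologicalComplex.exactAt_iff_isZero_homology]
  have h₁ : Epi (HomologicalComplex.homologyMap S.g (i - 1)) := by dsimp [S]; infer_instance
  have h₂ : Mono (HomologicalComplex.homologyMap S.g i) := by dsimp [S]; infer_instance
  exact (hS.homology_exact₁ (i - 1) i (by simp)).isZero_X₂
    ((hS.homology_exact₃ (i - 1) i (by simp)).epi_f_iff.1 h₁)
    ((hS.homology_exact₂ i).mono_g_iff.1 h₂)

/-- The horseshoe lemma for bounded above complexes. -/
theorem exists_projective_resolution [EnoughProjectives A]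
    (S : ShortComplex (CochainComplex A ℤ)) (hS : S.ShortExact) (n : ℤ)
    [S.X₁.IsStrictlyLE n] [S.X₃.IsStrictlyLE n] :
    ∃ (T : ShortComplex (CochainComplex A ℤ)) (φ : T ⟶ S), T.ShortExact ∧
      T.X₁.IsStrictlyLE n ∧ T.X₂.IsStrictlyLE n ∧ T.X₃.IsStrictlyLE n ∧
      (∀ k : ℤ, Projective (T.X₁.X k) ∧ Projective (T.X₂.X k) ∧ Projective (T.X₃.X k)) ∧
      QuasiIso φ.τ₁ ∧ QuasiIso φ.τ₂ ∧ QuasiIso φ.τ₃ := by
  obtain @⟨X₁, X₂, X₃, f, g, zero⟩ := S
  have hP : ∀ X : A, ∃ (Y : A) (π : Y ⟶ X), Projective Y ∧ Epi π := fun X =>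
    ⟨_, Projective.π X, inferInstance, inferInstance⟩
  have h0 : ∃ Z : A, IsZero Z ∧ Projective Z := by
    obtain ⟨Z, hZ⟩ := HasZeroObject.zero (C := A)
    exact ⟨Z, hZ, ⟨fun _ _ _ => ⟨0, hZ.eq_of_src _ _⟩⟩⟩
  obtain ⟨P₃, π₃, hLE₃, hproj₃, he₃, hq₃⟩ :=
    Resolution.exists_left_resolution (fun Y : A => Projective Y) h0 hP X₃ n
  have : Epi π₃ := HomologicalComplex.epi_of_epi_f _ he₃
  have : Epi g := hS.epi_g
  have : Mono f := hS.mono_f
  have : Mono (ShortComplex.mk f g zero).f := hS.mono_f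
  have hY := shortExact_pullback f g zero hS π₃
  have hYLE : (pullback g π₃).IsStrictlyLE n := isStrictlyLE_X₂ hY n ‹_› hLE₃
  have hqY : QuasiIso (pullback.fst g π₃) := by
    have hc : (ShortComplex.mk (kernel.ι π₃) π₃ (kernel.condition π₃)).ShortExact :=
      { exact := ShortComplex.exact_kernel π₃ }
    have h' := shortExact_pullback (kernel.ι π₃) π₃ (kernel.condition π₃) hc g
    have hq := quasiIso_of_acyclic_kernel h' (acyclic_kernel_of_epi π₃)
    have : (pullbackSymmetry g π₃).hom ≫ pullback.snd π₃ g = pullback.fst g π₃ :=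
      pullbackSymmetry_hom_comp_snd g π₃
    rw [← this]
    dsimp at hq
    infer_instance
  obtain ⟨P₂, π₂, hLE₂, hproj₂, he₂, hq₂⟩ :=
    Resolution.exists_left_resolution (fun Y : A => Projective Y) h0 hP (pullback g π₃) n
  have : Epi π₂ := HomologicalComplex.epi_of_epi_f _ he₂
  have : Epi (pullback.snd g π₃) := hY.epi_g
  let p := π₂ ≫ pullback.snd g π₃
  let T := ShortComplex.mk (kernel.ι p) p (kernel.condition p)
  have hT : T.ShortExact := { exact := ShortComplex.exact_kernel p }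
  have hc₂ : (π₂ ≫ pullback.fst g π₃) ≫ g = p ≫ π₃ := by
    simp only [p, Category.assoc, pullback.condition]
  let τ₁ : kernel p ⟶ X₁ := hS.exact.lift (kernel.ι p ≫ π₂ ≫ pullback.fst g π₃)
    (by
      show (kernel.ι p ≫ π₂ ≫ pullback.fst g π₃) ≫ g = 0
      rw [Category.assoc, hc₂, kernel.condition_assoc, zero_comp])
  let φ : T ⟶ ShortComplex.mk f g zero :=
    { τ₁ := τ₁
      τ₂ := π₂ ≫ pullback.fst g π₃
      τ₃ := π₃
      comm₁₂ := hS.exact.lift_f _ _
      comm₂₃ := hc₂ }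
  have hτ₃ : QuasiIso φ.τ₃ := hq₃
  have hτ₂ : QuasiIso φ.τ₂ := inferInstanceAs (QuasiIso (π₂ ≫ pullback.fst g π₃))
  refine ⟨T, φ, hT, ?_, hLE₂, hLE₃, fun k => ⟨?_, hproj₂ k, hproj₃ k⟩,
    quasiIso_τ₁ φ hT hS hτ₂ hτ₃, hτ₂, hτ₃⟩
  · rw [CochainComplex.isStrictlyLE_iff]
    intro j hj
    have : Mono ((kernel.ι p).f j) := (shortExact_eval hT j).mono_f
    exact (CochainComplex.isZero_of_isStrictlyLE P₂ n j hj).of_mono ((kernel.ι p).f j)
  · have : Projective ((T.map (HomologicalComplex.eval A _ k)).X₃) := hproj₃ k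
    let sp := (shortExact_eval hT k).splittingOfProjective
    have := hproj₂ k
    exact Retract.projective (Y := T.X₂.X k) ⟨(kernel.ι p).f k, sp.r, sp.f_r⟩

end Groth.Agent.H16Derived.Horseshoe
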