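import Mathlib.Algebra.Homology.HomotopyCategory.MappingCone
import Mathlib.Algebra.Homology.HomotopyCategory.HomComplexShift
import Mathlib.Algebra.Homology.HomologicalComplexBiprod
import Mathlib.Algebra.Homology.Embedding.CochainComplex
import Mathlib.Algebra.Homology.HomotopyCategory.Plus
import Mathlib.Tactic.Abel

/-!
# Factorisations through termwise split morphisms

Every morphism of cochain complexes factors as a termwise split monomorphism followed by a
homotopy equivalence with a section, and as a morphism with a retraction which is a homotopy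
equivalence followed by a termwise split epimorphism.
-/

universe v u

open CategoryTheory CategoryTheory.Limits CochainComplex CochainComplex.HomComplex

namespace Groth.Agent.H16Derived.TermwiseSplit

variable {V : Type u} [Category.{v} V] [Preadditive V] [HasBinaryBiproducts V]

/-- The cone of an identity is contractible. -/
noncomputable def homotopyIdZero (K : CochainComplex V ℤ) :
    Homotopy (𝟙 (mappingCone (𝟙 K))) 0 :=
  mappingCone.descHomotopy (𝟙 K) _ _ 0 (mappingCone.inl (𝟙 K)) (by simp) (by simp)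

lemma isStrictlyGE_biprod (K L : CochainComplex V ℤ) (a : ℤ) [K.IsStrictlyGE a]
    [L.IsStrictlyGE a] : CochainComplex.IsStrictlyGE (K ⊞ L) a := by
  rw [CochainComplex.isStrictlyGE_iff]
  intro i hi
  refine IsZero.of_iso ?_ (HomologicalComplex.biprodXIso K L i)
  rw [biprod_isZero_iff]
  exact ⟨CochainComplex.isZero_of_isStrictlyGE _ a _ hi,
    CochainComplex.isZero_of_isStrictlyGE _ a _ hi⟩

lemma isStrictlyLE_biprod (K L : CochainComplex V ℤ) (a : ℤ) [K.IsStrictlyLE a]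
    [L.IsStrictlyLE a] : CochainComplex.IsStrictlyLE (K ⊞ L) a := by
  rw [CochainComplex.isStrictlyLE_iff]
  intro i hi
  refine IsZero.of_iso ?_ (HomologicalComplex.biprodXIso K L i)
  rw [biprod_isZero_iff]
  exact ⟨CochainComplex.isZero_of_isStrictlyLE _ a _ hi,
    CochainComplex.isZero_of_isStrictlyLE _ a _ hi⟩

lemma isStrictlyGE_cone_id (K : CochainComplex V ℤ) (a : ℤ) [K.IsStrictlyGE a] :
    (mappingCone (𝟙 K)).IsStrictlyGE (a - 1) :=
  isStrictlyGE_mappingCone (𝟙 K) a a _ (by simp) (by simp)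

lemma isStrictlyLE_cone_id (K : CochainComplex V ℤ) (a : ℤ) [K.IsStrictlyLE a] :
    (mappingCone (𝟙 K)).IsStrictlyLE a := by
  rw [CochainComplex.isStrictlyLE_iff]
  intro i hi
  rw [mappingCone.isZero_X_iff]
  exact ⟨CochainComplex.isZero_of_isStrictlyLE _ a _ (by lia),
    CochainComplex.isZero_of_isStrictlyLE _ a _ hi⟩

theorem exists_injective_factorization [HasZeroObject V] (K L : CochainComplex V ℤ) (α : K ⟶ L) :
    ∃ (L' : CochainComplex V ℤ) (α' : K ⟶ L') (π : L' ⟶ L) (s : L ⟶ L'),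
      α' ≫ π = α ∧ s ≫ π = 𝟙 L ∧ Nonempty (Homotopy (π ≫ s) (𝟙 L')) ∧
      (∀ n : ℤ, ∃ (C : V) (e : L'.X n ≅ K.X n ⊞ C), α'.f n ≫ e.hom = biprod.inl) ∧
      (∀ a : ℤ, K.IsStrictlyGE a → L.IsStrictlyGE a → L'.IsStrictlyGE (a - 1)) ∧
      (∀ a : ℤ, K.IsStrictlyLE a → L.IsStrictlyLE a → L'.IsStrictlyLE a) := by
  refine ⟨L ⊞ mappingCone (𝟙 K), biprod.lift α (mappingCone.inr (𝟙 K)), biprod.fst, biprod.inl,
    biprod.lift_fst _ _, biprod.inl_fst, ⟨?_⟩, fun n => ?_, ?_, ?_⟩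
  · have h : Homotopy ((biprod.snd : L ⊞ mappingCone (𝟙 K) ⟶ _) ≫ biprod.inr) 0 :=
      (Homotopy.ofEq (by simp)).trans ((((homotopyIdZero K).compRight
        (biprod.inr : _ ⟶ L ⊞ mappingCone (𝟙 K))).compLeft biprod.snd).trans
          (Homotopy.ofEq (by simp)))
    exact (Homotopy.ofEq (add_zero _).symm).trans
      (((Homotopy.refl _).add h.symm).trans (Homotopy.ofEq biprod.total))
  · obtain ⟨(pL : (L ⊞ mappingCone (𝟙 K)).X n ⟶ L.X n), hpL⟩ :
        ∃ p, p = (biprod.fst : L ⊞ mappingCone (𝟙 K) ⟶ L).f n := ⟨_, rfl⟩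
    obtain ⟨(pM : (L ⊞ mappingCone (𝟙 K)).X n ⟶ (mappingCone (𝟙 K)).X n), hpM⟩ :
        ∃ p, p = (biprod.snd : L ⊞ mappingCone (𝟙 K) ⟶ _).f n := ⟨_, rfl⟩
    obtain ⟨(iL : L.X n ⟶ (L ⊞ mappingCone (𝟙 K)).X n), hiL⟩ :
        ∃ p, p = (biprod.inl : L ⟶ L ⊞ mappingCone (𝟙 K)).f n := ⟨_, rfl⟩
    obtain ⟨(iM : (mappingCone (𝟙 K)).X n ⟶ (L ⊞ mappingCone (𝟙 K)).X n), hiM⟩ :
        ∃ p, p = (biprod.inr : _ ⟶ L ⊞ mappingCone (𝟙 K)).f n := ⟨_, rfl⟩
    have h₁ : iL ≫ pL = 𝟙 _ := by subst hiL hpL; simp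
    have h₂ : iM ≫ pM = 𝟙 _ := by subst hiM hpM; simp
    have h₃ : iL ≫ pM = 0 := by
      subst hiL hpM; rw [← HomologicalComplex.comp_f, biprod.inl_snd, HomologicalComplex.zero_f]
    have h₄ : iM ≫ pL = 0 := by
      subst hiM hpL; rw [← HomologicalComplex.comp_f, biprod.inr_fst, HomologicalComplex.zero_f]
    have h₅ : pL ≫ iL + pM ≫ iM = 𝟙 _ := by
      subst hiL hiM hpL hpM
      rw [← HomologicalComplex.comp_f, ← HomologicalComplex.comp_f,
        ← HomologicalComplex.add_f_apply, biprod.total, HomologicalComplex.id_f]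
    have hα : (biprod.lift α (mappingCone.inr (𝟙 K))).f n =
        α.f n ≫ iL + (mappingCone.inr (𝟙 K)).f n ≫ iM := by
      subst hiL hiM
      rw [← HomologicalComplex.comp_f, ← HomologicalComplex.comp_f,
        ← HomologicalComplex.add_f_apply, biprod.lift_eq]
    let q := (mappingCone.fst (𝟙 K)).1.v n (n + 1) rfl
    let k := (mappingCone.snd (𝟙 K)).v n n (add_zero n)
    have hk : (mappingCone.inr (𝟙 K)).f n ≫ k = 𝟙 _ := by simp [k]
    have hk' : (mappingCone.inl (𝟙 K)).v (n + 1) n (by lia) ≫ k = 0 := by simp [k]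
    have hq : (mappingCone.inr (𝟙 K)).f n ≫ q = 0 := by simp [q]
    have hq' : (mappingCone.inl (𝟙 K)).v (n + 1) n (by lia) ≫ q = 𝟙 _ := by simp [q]
    have hid : q ≫ (mappingCone.inl (𝟙 K)).v (n + 1) n (by lia) +
        k ≫ (mappingCone.inr (𝟙 K)).f n = 𝟙 _ := mappingCone.id_X (𝟙 K) n (n + 1) rfl
    refine ⟨L.X n ⊞ K.X (n + 1),
      { hom := biprod.lift (pM ≫ k) (biprod.lift (pL - pM ≫ k ≫ α.f n) (pM ≫ q))
        inv := biprod.desc (α.f n ≫ iL + (mappingCone.inr (𝟙 K)).f n ≫ iM)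
          (biprod.desc iL ((mappingCone.inl (𝟙 K)).v (n + 1) n (by lia) ≫ iM))
        hom_inv_id := ?_
        inv_hom_id := ?_ }, ?_⟩
    · rw [biprod.lift_desc, biprod.lift_desc, ← h₅]
      have e : pM ≫ iM = pM ≫ (q ≫ (mappingCone.inl (𝟙 K)).v (n + 1) n (by lia) +
          k ≫ (mappingCone.inr (𝟙 K)).f n) ≫ iM := by rw [hid, Category.id_comp]
      rw [e]
      simp only [Preadditive.comp_add, Preadditive.add_comp, Preadditive.sub_comp, Category.assoc]
      abel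
    · ext <;>
        simp [h₁, h₂, h₃, h₄, hk, hk', hq, hq', reassoc_of% h₁, reassoc_of% h₂, reassoc_of% h₃,
          reassoc_of% h₄, reassoc_of% hk, reassoc_of% hk']
    · rw [hα]
      ext <;>
        simp [h₁, h₂, h₃, h₄, hk, hq, reassoc_of% h₁, reassoc_of% h₂, reassoc_of% h₃,
          reassoc_of% h₄, reassoc_of% hk]
  · intro a _ _
    have := isStrictlyGE_cone_id K a
    have := CochainComplex.isStrictlyGE_of_ge L (a - 1) a (by lia)
    exact isStrictlyGE_biprod _ _ _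
  · intro a _ _
    have := isStrictlyLE_cone_id K a
    exact isStrictlyLE_biprod _ _ _

theorem exists_surjective_factorization [HasZeroObject V] (K L : CochainComplex V ℤ) (α : K ⟶ L) :
    ∃ (K' : CochainComplex V ℤ) (i : K ⟶ K') (α' : K' ⟶ L) (s : K' ⟶ K),
      i ≫ α' = α ∧ i ≫ s = 𝟙 K ∧ Nonempty (Homotopy (s ≫ i) (𝟙 K')) ∧
      (∀ n : ℤ, ∃ (C : V) (e : K'.X n ≅ C ⊞ L.X n), e.inv ≫ α'.f n = biprod.snd) ∧
      (∀ a : ℤ, K.IsStrictlyGE a → L.IsStrictlyGE a → K'.IsStrictlyGE a) ∧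
      (∀ a : ℤ, K.IsStrictlyLE a → L.IsStrictlyLE a → K'.IsStrictlyLE (a + 1)) := by
  let P : CochainComplex V ℤ := L⟦(-1 : ℤ)⟧
  let z : Cochain P L (-1) :=
    Cochain.mk (fun p q hpq => (L.shiftFunctorObjXIso (-1) p q (by lia)).hom)
  let β : P ⟶ L := Cocycle.homOf (Cocycle.mk (δ (-1) 0 z) 1 (by simp) (δ_δ (-1) 0 1 z))
  have hβ : δ (-1) 0 z = Cochain.ofHom (𝟙 P ≫ β) := by
    rw [Category.id_comp]
    exact (Cocycle.cochain_ofHom_homOf_eq_coe
      (Cocycle.mk (δ (-1) 0 z) 1 (by simp) (δ_δ (-1) 0 1 z))).symm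
  let π : mappingCone (𝟙 P) ⟶ L := mappingCone.desc (𝟙 P) z β hβ
  refine ⟨K ⊞ mappingCone (𝟙 P), biprod.inl, biprod.desc α π, biprod.fst,
    biprod.inl_desc _ _, biprod.inl_fst, ⟨?_⟩, fun n => ?_, ?_, ?_⟩
  · have h : Homotopy ((biprod.snd : K ⊞ mappingCone (𝟙 P) ⟶ _) ≫ biprod.inr) 0 :=
      (Homotopy.ofEq (by simp)).trans ((((homotopyIdZero P).compRight
        (biprod.inr : _ ⟶ K ⊞ mappingCone (𝟙 P))).compLeft biprod.snd).trans
          (Homotopy.ofEq (by simp)))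
    exact (Homotopy.ofEq (add_zero _).symm).trans
      (((Homotopy.refl _).add h.symm).trans (Homotopy.ofEq biprod.total))
  · obtain ⟨(pK : (K ⊞ mappingCone (𝟙 P)).X n ⟶ K.X n), hpK⟩ :
        ∃ p, p = (biprod.fst : K ⊞ mappingCone (𝟙 P) ⟶ K).f n := ⟨_, rfl⟩
    obtain ⟨(pM : (K ⊞ mappingCone (𝟙 P)).X n ⟶ (mappingCone (𝟙 P)).X n), hpM⟩ :
        ∃ p, p = (biprod.snd : K ⊞ mappingCone (𝟙 P) ⟶ _).f n := ⟨_, rfl⟩
    obtain ⟨(iK : K.X n ⟶ (K ⊞ mappingCone (𝟙 P)).X n), hiK⟩ :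
        ∃ p, p = (biprod.inl : K ⟶ K ⊞ mappingCone (𝟙 P)).f n := ⟨_, rfl⟩
    obtain ⟨(iM : (mappingCone (𝟙 P)).X n ⟶ (K ⊞ mappingCone (𝟙 P)).X n), hiM⟩ :
        ∃ p, p = (biprod.inr : _ ⟶ K ⊞ mappingCone (𝟙 P)).f n := ⟨_, rfl⟩
    have h₁ : iK ≫ pK = 𝟙 _ := by subst hiK hpK; simp
    have h₂ : iM ≫ pM = 𝟙 _ := by subst hiM hpM; simp
    have h₃ : iK ≫ pM = 0 := by
      subst hiK hpM; rw [← HomologicalComplex.comp_f, biprod.inl_snd, HomologicalComplex.zero_f]
    have h₄ : iM ≫ pK = 0 := by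
      subst hiM hpK; rw [← HomologicalComplex.comp_f, biprod.inr_fst, HomologicalComplex.zero_f]
    have h₅ : pK ≫ iK + pM ≫ iM = 𝟙 _ := by
      subst hiK hiM hpK hpM
      rw [← HomologicalComplex.comp_f, ← HomologicalComplex.comp_f,
        ← HomologicalComplex.add_f_apply, biprod.total, HomologicalComplex.id_f]
    have hα : (biprod.desc α π).f n = pK ≫ α.f n + pM ≫ π.f n := by
      subst hpK hpM
      rw [← HomologicalComplex.comp_f, ← HomologicalComplex.comp_f,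
        ← HomologicalComplex.add_f_apply, biprod.desc_eq]
    let e := L.shiftFunctorObjXIso (-1) (n + 1) n (by lia)
    let q := (mappingCone.fst (𝟙 P)).1.v n (n + 1) rfl
    let k := (mappingCone.snd (𝟙 P)).v n n (add_zero n)
    let sec : L.X n ⟶ (mappingCone (𝟙 P)).X n :=
      e.inv ≫ (mappingCone.inl (𝟙 P)).v (n + 1) n (by lia)
    have hsec : sec ≫ π.f n = 𝟙 _ := by
      simp [sec, π, z, e]
      try exact Iso.inv_hom_id _
    have hr : (mappingCone.inr (𝟙 P)).f n ≫ π.f n = β.f n := by simp [π]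
    have hk : (mappingCone.inr (𝟙 P)).f n ≫ k = 𝟙 _ := by simp [k]
    have hk' : sec ≫ k = 0 := by simp [k, sec]
    have hπ : π.f n = q ≫ e.hom + k ≫ β.f n := by
      rw [show π.f n = _ from mappingCone.desc_f (𝟙 P) z β hβ n (n + 1) rfl]
      rfl
    have hid : q ≫ e.hom ≫ sec + k ≫ (mappingCone.inr (𝟙 P)).f n = 𝟙 _ := by
      simpa [sec] using mappingCone.id_X (𝟙 P) n (n + 1) rfl
    refine ⟨K.X n ⊞ P.X n,
      { hom := biprod.lift (biprod.lift pK (pM ≫ k)) ((biprod.desc α π).f n)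
        inv := biprod.desc (biprod.desc (iK - α.f n ≫ sec ≫ iM)
          ((mappingCone.inr (𝟙 P)).f n ≫ iM - β.f n ≫ sec ≫ iM)) (sec ≫ iM)
        hom_inv_id := ?_
        inv_hom_id := ?_ }, ?_⟩
    · rw [biprod.lift_desc, biprod.lift_desc, hα, hπ, ← h₅]
      have e' : pM ≫ iM = pM ≫ (q ≫ e.hom ≫ sec + k ≫ (mappingCone.inr (𝟙 P)).f n) ≫ iM := by
        rw [hid, Category.id_comp]
      rw [e']
      simp only [Preadditive.comp_add, Preadditive.add_comp, Preadditive.comp_sub, Category.assoc]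
      abel
    · rw [hα]
      ext <;>
        simp [h₁, h₂, h₃, h₄, hk, hk', hr, hsec, reassoc_of% h₁, reassoc_of% h₂, reassoc_of% h₃,
          reassoc_of% h₄, reassoc_of% hk]
    · dsimp only
      rw [hα]
      ext <;>
        simp [h₁, h₂, h₃, h₄, hr, hsec, reassoc_of% h₁, reassoc_of% h₂, reassoc_of% h₃,
          reassoc_of% h₄]
  · intro a _ _
    have : P.IsStrictlyGE (a + 1) := L.isStrictlyGE_shift a (-1) (a + 1) (by lia)
    have h := isStrictlyGE_cone_id P (a + 1)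
    rw [add_sub_cancel_right] at h
    exact isStrictlyGE_biprod _ _ _
  · intro a _ _
    have : P.IsStrictlyLE (a + 1) := L.isStrictlyLE_shift a (-1) (a + 1) (by lia)
    have := isStrictlyLE_cone_id P (a + 1)
    have := CochainComplex.isStrictlyLE_of_le K a (a + 1) (by lia)
    exact isStrictlyLE_biprod _ _ _

end Groth.Agent.H16Derived.TermwiseSplit
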