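import Groth.Agent.H16Derived.PBQC
import Groth.Agent.H11Sym.InvertibleInverse
import Groth.Agent.H10Coh.SerreVanishing
import Groth.Agent.H22Alg.PBRel

set_option autoImplicit false
set_option linter.style.haveILetI false

universe u

open CategoryTheory CategoryTheory.Limits AlgebraicGeometry Opposite
open Groth.Agent.H10Coh.Stab
attribute [local instance] HasDerivedCategory.standard
attribute [local instance] Groth.Agent.H28Vert.picLaw
attribute [local instance 10000] Groth.Agent.H10Coh.hasSheafifyAb Groth.Agent.H10Coh.hasWeakSheafifyAb Groth.Agent.H10Coh.hasExtAb Groth.Agent.H10Coh.enoughInjAb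

noncomputable section

namespace Groth.Agent.H16Derived.PBQC

open Groth.Agent.H22Alg Groth.Agent.H22Alg.PB
open H16Derived.KFlat.Stalk

theorem isInvertible_of_inverse {X : Scheme.{u}} {L M : X.Modules} (hL : PicF.IsInvertible L)
    (h : ClSub.IsInverseOf L M) : PicF.IsInvertible M := by
  obtain ⟨N, hN, ⟨e⟩⟩ := H11Sym.exists_inverse hL
  obtain ⟨j⟩ := h
  exact H11Tilde.isInvertible_of_iso ((SecTwist.unitorR N).symm ≪≫
    PicGrp.tensorModIso (Iso.refl N) j.symm ≪≫ (H10Coh.Tw.assoc N L M).symm ≪≫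
    PicGrp.tensorModIso e (Iso.refl M) ≪≫ H10Coh.Tw.leftUnitIso M) hN

/-- The class of the powers of an inverse in a twist family. -/
theorem nonempty_tensorPow_inv {P : Scheme.{u}} {O : ℤ → P.Modules} (hO : IsTwistFamily O) {O1 Oinv : P.Modules}
    (h1 : PicF.IsInvertible O1) (e1 : Nonempty (O 1 ≅ O1)) (hinv : ClSub.IsInverseOf Oinv O1) (i : ℕ) :
    Nonempty (CohB1.tensorPow Oinv i ≅ O (-(i : ℤ))) := by
  have hinv' : ClSub.IsInverseOf O1 Oinv := ⟨H10Coh.Tw.commIso _ _ ≪≫ hinv.some⟩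
  have hi : PicF.IsInvertible Oinv := isInvertible_of_inverse h1 hinv'
  refine (PicGrp.cls_eq_cls_iff (H28Vert.isInvertible_tensorPow hi i) (hO.inv _)).1 ?_
  have h : PicGrp.cls Oinv hi = (PicGrp.cls O1 h1)⁻¹ :=
    eq_inv_of_mul_eq_one_left ((PicGrp.cls_mul_cls_eq_one_iff hi h1).2 hinv)
  rw [H28Vert.cls_tensorPow hi, cls_family hO, (PicGrp.cls_eq_cls_iff (hO.inv 1) h1).2 e1, h, zpow_neg, zpow_natCast, inv_pow]

variable {X P : Scheme.{u}}

/-- The basis by negative twists. -/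
theorem bijective_negTwists [CompactSpace ↥X] (r : ℕ) (E : X.Modules) (hE : FlatMod.IsFinLocFreeOfRank r E)
    (π : P ⟶ X) (O1 : P.Modules) (q : (Scheme.Modules.pullback π).obj E ⟶ O1) (hPB : KRR.IsProjBundle π E O1 q)
    (Oinv : P.Modules) (hinv : ClSub.IsInverseOf Oinv O1)
    (G : Fin r → (SGA6.Kvb X →+ SGA6.Kvb P))
    (hG : ∀ (i : Fin r) (N : X.Modules), FlatMod.IsFinLocFree N →
      G i (KRR.cl X N) = KRR.cl P (CohB1.tensorMod (CohB1.tensorPow Oinv (i : ℕ)) ((Scheme.Modules.pullback π).obj N))) :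
    Function.Bijective (fun a : Fin r → SGA6.Kvb X => ∑ i : Fin r, G i (a i)) := by
  rcases r with _ | r
  · have hz : IsZero ((Scheme.Modules.pullback π).obj E) :=
      (Scheme.Modules.pullback π).map_isZero (PBRel.isZero_of_rank_zero hE)
    haveI := hPB.epi
    have hO1 : IsZero O1 := IsZero.of_epi q hz
    have hU : IsZero (Coh.structureModule P) :=
      (((DCoh.tensorBi (X := P)).obj Oinv).map_isZero hO1).of_iso hinv.some.symm
    have hcl : ∀ F, FlatMod.IsFinLocFree F → KRR.cl P F = 0 := fun F hF =>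
      KModel.cl_isZero ((Functor.map_isZero ((DCoh.tensorBi (X := P)).flip.obj F) hU).of_iso (RegSheaf.leftUnit F).symm)
    have hx : ∀ x : SGA6.Kvb P, x = 0 := fun x => DFunLike.congr_fun
      (KModel.kvb_ext (a := AddMonoidHom.id _) (b := 0) fun F hF => hcl F hF) x
    haveI : Subsingleton (SGA6.Kvb P) := ⟨fun a b => (hx a).trans (hx b).symm⟩
    exact ⟨fun a b _ => funext fun i => i.elim0, fun y => ⟨0, Subsingleton.elim _ _⟩⟩
  obtain ⟨O, hO, e1, Ψ, hΨ, hb⟩ := exists_bijective hE hPB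
  have hGΨ : ∀ i : Fin (r + 1), G i = Ψ (-((i : ℕ) : ℤ)) := fun i => KModel.kvb_ext fun N hN => by
    rw [hG i N hN, hΨ _ N hN]
    obtain ⟨e⟩ := nonempty_tensorPow_inv hO (isInvertible_of_rank_one hPB.invertible) e1 hinv i
    exact (KModel.cl_iso (((DCoh.tensorBi (X := P)).mapIso e).app _).symm
      (isFinLocFree_tensor (PnVan.finLocFree_of_inv (hO.inv _)) (isFinLocFree_pullback π hN))).symm
  choose T hT using fun d => exists_term (𝟙 P) hO d
  have hT' : ∀ d F, FlatMod.IsFinLocFree F → T d (KRR.cl P F) = KRR.cl P (tw O d F) := fun d F hF => by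
    rw [hT d F hF]
    exact KModel.cl_iso (((DCoh.tensorBi (X := P)).obj (O d)).mapIso ((Scheme.Modules.pullbackId P).app F))
      (isFinLocFree_tensor (PnVan.finLocFree_of_inv (hO.inv _)) (isFinLocFree_pullback _ hF))
  have hTT : ∀ a b : ℤ, a + b = 0 → ∀ x, T a (T b x) = x := fun a b hab x => DFunLike.congr_fun
    (KModel.kvb_ext (a := (T a).comp (T b)) (b := AddMonoidHom.id _) fun F hF => by
      rw [AddMonoidHom.comp_apply, hT' b F hF, hT' a _ (isFinLocFree_tensor (PnVan.finLocFree_of_inv (hO.inv _)) hF)]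
      obtain ⟨e⟩ := nonempty_tw_tw hO a b 0 hab.symm F
      obtain ⟨z⟩ := nonempty_tw_zero hO F
      exact KModel.cl_iso (e ≪≫ z) (isFinLocFree_tensor (PnVan.finLocFree_of_inv (hO.inv _))
        (isFinLocFree_tensor (PnVan.finLocFree_of_inv (hO.inv _)) hF))) x
  have hTΨ : ∀ (i : Fin (r + 1)) x, Ψ (-((i : ℕ) : ℤ)) x = T (-(r : ℤ)) (Ψ (((Fin.rev i : Fin (r + 1)) : ℕ) : ℤ) x) :=
    fun i => DFunLike.congr_fun (KModel.kvb_ext (b := (T (-(r : ℤ))).comp (Ψ _)) fun N hN => by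
      rw [AddMonoidHom.comp_apply, hΨ _ N hN, hΨ _ N hN,
        hT' _ _ (isFinLocFree_tensor (PnVan.finLocFree_of_inv (hO.inv _)) (isFinLocFree_pullback π hN))]
      obtain ⟨e⟩ := nonempty_tw_tw hO (-(r : ℤ)) (((Fin.rev i : Fin (r + 1)) : ℕ) : ℤ) (-((i : ℕ) : ℤ))
        (by rw [Fin.val_rev]; omega) ((Scheme.Modules.pullback π).obj N)
      exact (KModel.cl_iso e (isFinLocFree_tensor (PnVan.finLocFree_of_inv (hO.inv _))
        (isFinLocFree_tensor (PnVan.finLocFree_of_inv (hO.inv _)) (isFinLocFree_pullback π hN)))).symm)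
  let ρ : (Fin (r + 1) → SGA6.Kvb X) ≃ (Fin (r + 1) → SGA6.Kvb X) :=
    Equiv.arrowCongr Fin.revPerm (Equiv.refl _)
  have he : (fun a : Fin (r + 1) → SGA6.Kvb X => ∑ i, G i (a i)) =
      (T (-(r : ℤ))) ∘ (PB.Φ fun i : Fin (r + 1) => Ψ ((i : ℕ) : ℤ)) ∘ ρ := by
    funext a
    simp only [Function.comp_apply, PB.Φ]
    rw [AddMonoidHom.mk'_apply, map_sum, ← Equiv.sum_comp Fin.revPerm fun i => (G i) (a i)]
    refine Finset.sum_congr rfl fun i _ => ?_
    rw [hGΨ, hTΨ]
    simp [ρ]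
  rw [he]
  have hTb : Function.Bijective (T (-(r : ℤ))) :=
    ⟨Function.LeftInverse.injective (hTT (r : ℤ) (-(r : ℤ)) (by omega)),
     Function.RightInverse.surjective (hTT (-(r : ℤ)) (r : ℤ) (by omega))⟩
  exact hTb.comp (hb.comp ρ.bijective)

end Groth.Agent.H16Derived.PBQC
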