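import Mathlib.Algebra.Homology.BifunctorAssociator
import Mathlib.Algebra.Homology.BifunctorHomotopy

/-!
# Naturality of the associator for total complexes, in the first variable
-/

set_option autoImplicit false

open CategoryTheory Category Limits HomologicalComplex

namespace Groth.Agent.H16Derived.AssocNat

variable {C₁ C₂ C₁₂ C₂₃ C₃ C₄ : Type*}
  [Category* C₁] [Category* C₂] [Category* C₃] [Category* C₄] [Category* C₁₂] [Category* C₂₃]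
  [HasZeroMorphisms C₁] [HasZeroMorphisms C₂] [HasZeroMorphisms C₃]
  [Preadditive C₁₂] [Preadditive C₂₃] [Preadditive C₄]
  {F₁₂ : C₁ ⥤ C₂ ⥤ C₁₂} {G : C₁₂ ⥤ C₃ ⥤ C₄}
  {F : C₁ ⥤ C₂₃ ⥤ C₄} {G₂₃ : C₂ ⥤ C₃ ⥤ C₂₃}
  [F₁₂.PreservesZeroMorphisms] [∀ (X₁ : C₁), (F₁₂.obj X₁).PreservesZeroMorphisms]
  [G.Additive] [∀ (X₁₂ : C₁₂), (G.obj X₁₂).PreservesZeroMorphisms]
  [G₂₃.PreservesZeroMorphisms] [∀ (X₂ : C₂), (G₂₃.obj X₂).PreservesZeroMorphisms]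
  [F.PreservesZeroMorphisms] [∀ (X₁ : C₁), (F.obj X₁).Additive]
  (associator : bifunctorComp₁₂ F₁₂ G ≅ bifunctorComp₂₃ F G₂₃)
  {ι₁ ι₂ ι₃ ι₁₂ ι₂₃ ι₄ : Type*} [DecidableEq ι₄] [DecidableEq ι₁₂] [DecidableEq ι₂₃]
  {c₁ : ComplexShape ι₁} {c₂ : ComplexShape ι₂} {c₃ : ComplexShape ι₃}
  {K₁ L₁ : HomologicalComplex C₁ c₁} (φ : K₁ ⟶ L₁) (K₂ : HomologicalComplex C₂ c₂)
  (K₃ : HomologicalComplex C₃ c₃)
  (c₁₂ : ComplexShape ι₁₂) (c₂₃ : ComplexShape ι₂₃) (c₄ : ComplexShape ι₄)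
  [TotalComplexShape c₁ c₂ c₁₂] [TotalComplexShape c₁₂ c₃ c₄]
  [TotalComplexShape c₂ c₃ c₂₃] [TotalComplexShape c₁ c₂₃ c₄]
  [HasMapBifunctor K₁ K₂ F₁₂ c₁₂] [HasMapBifunctor L₁ K₂ F₁₂ c₁₂] [HasMapBifunctor K₂ K₃ G₂₃ c₂₃]
  [ComplexShape.Associative c₁ c₂ c₃ c₁₂ c₂₃ c₄]
  [HasMapBifunctor (mapBifunctor K₁ K₂ F₁₂ c₁₂) K₃ G c₄]
  [HasMapBifunctor (mapBifunctor L₁ K₂ F₁₂ c₁₂) K₃ G c₄]
  [HasMapBifunctor K₁ (mapBifunctor K₂ K₃ G₂₃ c₂₃) F c₄]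
  [HasMapBifunctor L₁ (mapBifunctor K₂ K₃ G₂₃ c₂₃) F c₄]
  [HasGoodTrifunctor₁₂Obj F₁₂ G K₁ K₂ K₃ c₁₂ c₄]
  [HasGoodTrifunctor₁₂Obj F₁₂ G L₁ K₂ K₃ c₁₂ c₄]
  [HasGoodTrifunctor₂₃Obj F G₂₃ K₁ K₂ K₃ c₁₂ c₂₃ c₄]
  [HasGoodTrifunctor₂₃Obj F G₂₃ L₁ K₂ K₃ c₁₂ c₂₃ c₄]

set_option backward.isDefEq.respectTransparency false in
/-- The associator is natural in the first complex. -/
theorem naturality :
    mapBifunctorMap (mapBifunctorMap φ (𝟙 K₂) F₁₂ c₁₂) (𝟙 K₃) G c₄ ≫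
        (mapBifunctorAssociator associator L₁ K₂ K₃ c₁₂ c₂₃ c₄).hom =
      (mapBifunctorAssociator associator K₁ K₂ K₃ c₁₂ c₂₃ c₄).hom ≫
        mapBifunctorMap φ (𝟙 (mapBifunctor K₂ K₃ G₂₃ c₂₃)) F c₄ := by
  refine HomologicalComplex.hom_ext _ _ fun j => ?_
  refine mapBifunctor₁₂.hom_ext fun i₁ i₂ i₃ h => ?_
  simp only [comp_f, mapBifunctorAssociator, Hom.isoOfComponents_hom_f,
    ι_mapBifunctorAssociatorX_hom_assoc]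
  rw [mapBifunctor₁₂.ι_eq F₁₂ G K₁ K₂ K₃ c₁₂ c₄ i₁ i₂ i₃ _ j rfl h]
  rw [Category.assoc, ι_mapBifunctorMap_assoc]
  simp only [id_f, CategoryTheory.Functor.map_id, id_comp]
  rw [← NatTrans.comp_app_assoc, ← G.map_comp, ι_mapBifunctorMap]
  simp only [id_f, CategoryTheory.Functor.map_id, id_comp, Functor.map_comp, NatTrans.comp_app,
    Category.assoc]
  rw [← Category.assoc ((G.map _).app _) (ιMapBifunctor _ _ _ _ _ _ _ _),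
    ← mapBifunctor₁₂.ι_eq F₁₂ G L₁ K₂ K₃ c₁₂ c₄ i₁ i₂ i₃ _ j rfl h]
  simp only [ι_mapBifunctorAssociatorX_hom]
  rw [mapBifunctor₂₃.ι_eq F G₂₃ K₁ K₂ K₃ c₁₂ c₂₃ c₄ i₁ i₂ i₃ _ j rfl
      (by rw [← h]; exact (ComplexShape.assoc c₁ c₂ c₃ c₁₂ c₂₃ c₄ i₁ i₂ i₃).symm),
    mapBifunctor₂₃.ι_eq F G₂₃ L₁ K₂ K₃ c₁₂ c₂₃ c₄ i₁ i₂ i₃ _ j rfl
      (by rw [← h]; exact (ComplexShape.assoc c₁ c₂ c₃ c₁₂ c₂₃ c₄ i₁ i₂ i₃).symm)]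
  simp only [Category.assoc, ι_mapBifunctorMap, id_f, CategoryTheory.Functor.map_id, id_comp]
  have hn := NatTrans.naturality_app_app associator.hom (φ.f i₁) (K₂.X i₂) (K₃.X i₃)
  refine (Category.assoc _ _ _).symm.trans ((congrArg (· ≫ _) hn).trans ?_)
  refine (Category.assoc _ _ _).trans (congrArg (_ ≫ ·) ?_)
  exact ((F.map (φ.f i₁)).naturality_assoc _ _).symm

end Groth.Agent.H16Derived.AssocNat
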