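import Mathlib.CategoryTheory.Functor.Derived.PointwiseRightDerived
import Mathlib.CategoryTheory.Limits.Shapes.Terminal

/-!
# Pointwise right derived functors at local objects
-/

universe v₁ v₂ v₃ u₁ u₂ u₃

open CategoryTheory CategoryTheory.Limits

namespace Groth.Agent.H16Derived.RDerived

variable {C : Type u₁} [Category.{v₁} C] {D : Type u₂} [Category.{v₂} D]
  {H : Type u₃} [Category.{v₃} H] (L : C ⥤ D) (W : MorphismProperty C) [L.IsLocalization W]

/-- When `L` is bijective on morphisms into `I`, `(I, 𝟙)` is terminal in the comma category. -/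
noncomputable def isTerminalMk (I : C)
    (hI : ∀ Y : C, Function.Bijective (L.map : (Y ⟶ I) → (L.obj Y ⟶ L.obj I))) :
    IsTerminal (CostructuredArrow.mk (𝟙 (L.obj I)) : CostructuredArrow L (L.obj I)) :=
  IsTerminal.ofUniqueHom
    (fun Y => CostructuredArrow.homMk ((hI Y.left).surjective Y.hom).choose
      (by
        dsimp
        rw [((hI Y.left).surjective Y.hom).choose_spec]
        exact Category.comp_id _))
    (fun Y m => CostructuredArrow.hom_ext _ _ ((hI Y.left).injective (by
      have h : L.map m.left ≫ 𝟙 _ = Y.hom := CostructuredArrow.w m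
      rw [Category.comp_id] at h
      rw [h]
      exact ((hI Y.left).surjective Y.hom).choose_spec.symm)))

lemma hasPointwiseRightDerivedFunctorAt_of_bijective (F : C ⥤ H) (I : C)
    (hI : ∀ Y : C, Function.Bijective (L.map : (Y ⟶ I) → (L.obj Y ⟶ L.obj I))) :
    F.HasPointwiseRightDerivedFunctorAt W I := by
  rw [F.hasPointwiseRightDerivedFunctorAt_iff L W]
  have : HasTerminal (CostructuredArrow L (L.obj I)) := (isTerminalMk L I hI).hasTerminal
  exact hasColimit_of_domain_hasTerminal

lemma hasPointwiseRightDerivedFunctor_of_resolutions (F : C ⥤ H)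
    (h : ∀ X : C, ∃ (I : C) (s : X ⟶ I), W s ∧
      ∀ Y : C, Function.Bijective (L.map : (Y ⟶ I) → (L.obj Y ⟶ L.obj I))) :
    F.HasPointwiseRightDerivedFunctor W := by
  intro X
  obtain ⟨I, s, hs, hI⟩ := h X
  rw [F.hasPointwiseRightDerivedFunctorAt_iff_of_mem W s hs]
  exact hasPointwiseRightDerivedFunctorAt_of_bijective L W F I hI

lemma isIso_unit_app_of_bijective (F : C ⥤ H) [F.HasPointwiseRightDerivedFunctor W]
    (F' : D ⥤ H) (α : F ⟶ L ⋙ F') [F'.IsRightDerivedFunctor α W] (I : C)
    (hI : ∀ Y : C, Function.Bijective (L.map : (Y ⟶ I) → (L.obj Y ⟶ L.obj I))) :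
    IsIso (α.app I) := by
  have h := Functor.isPointwiseLeftKanExtensionOfHasPointwiseRightDerivedFunctor F' α W (L.obj I)
  have h' := IsColimit.isIso_ι_app_of_isTerminal h _ (isTerminalMk L I hI)
  simp at h'
  exact h'

end Groth.Agent.H16Derived.RDerived
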