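import Groth.Agent.H16Derived.LeftDer
import Groth.Agent.H16Derived.RDerived
import Mathlib.Algebra.Homology.HomotopyCategory
import Mathlib.CategoryTheory.Functor.Derived.Adjunction
import Mathlib.CategoryTheory.Localization.Adjunction
import Mathlib.Algebra.Homology.Localization

/-!
# Recognising absolute derived functors; adjunctions on complexes and homotopy categories
-/

set_option autoImplicit false

open CategoryTheory CategoryTheory.Limits CategoryTheory.Functor

namespace Groth.Agent.H16Derived

universe v v' v'' v₀ u u' u'' u₀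

namespace RDerived

variable {C : Type u} [Category.{v} C] {D : Type u'} [Category.{v'} D]
  {H : Type u''} [Category.{v''} H] (L : C ⥤ D) (W : MorphismProperty C) [L.IsLocalization W]

/-- A natural transformation inverted at enough local objects is a right derived functor. -/
theorem isRightDerivedFunctor_of_isIso_local (F : C ⥤ H) (G : D ⥤ H) (α : F ⟶ L ⋙ G)
    (h : ∀ X : C, ∃ (I : C) (s : X ⟶ I), W s ∧
      (∀ Y : C, Function.Bijective (L.map : (Y ⟶ I) → (L.obj Y ⟶ L.obj I))) ∧
      IsIso (α.app I)) :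
    G.IsRightDerivedFunctor α W := by
  let E := Functor.LeftExtension.mk G α
  have hE : E.IsPointwiseLeftKanExtension := fun Y => by
    haveI := Localization.essSurj L W
    choose I s hs hI hα using h
    let X := L.objPreimage Y
    haveI := Localization.inverts L W _ (hs X)
    refine E.isPointwiseLeftKanExtensionAtOfIso' (Y := L.obj (I X)) ?_
      ((asIso (L.map (s X))).symm ≪≫ L.objObjPreimageIso Y)
    refine IsColimit.ofIsoColimit (colimitOfDiagramTerminal (isTerminalMk L (I X) (hI X)) _) ?_
    refine Cocone.ext (@asIso _ _ _ _ (α.app (I X)) (hα X)) (fun j => ?_)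
    let w := (isTerminalMk L (I X) (hI X)).from j
    show F.map w.left ≫ α.app (I X) = α.app j.left ≫ G.map j.hom
    refine (α.naturality w.left).trans (congrArg (α.app j.left ≫ ·) ?_)
    show G.map (L.map w.left) = G.map j.hom
    refine congrArg G.map ?_
    simpa using CostructuredArrow.w w
  exact ⟨hE.isLeftKanExtension⟩

end RDerived

namespace LeftDer

variable {C : Type u} [Category.{v} C] {D : Type u'} [Category.{v'} D] {H : Type u''}
  [Category.{v''} H] {F : C ⥤ H} (W : MorphismProperty C) (L : C ⥤ D) [L.IsLocalization W]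
  {C₀ : Type u₀} [Category.{v₀} C₀] (Q₀ : C₀ ⥤ C) (W₀ : MorphismProperty C₀)
  [Q₀.IsLocalization W₀] {W₁ : MorphismProperty C₀} [(Q₀ ⋙ L).IsLocalization W₁]
  {R₀ : C₀ ⥤ C₀} {ψ₀ : R₀ ⟶ 𝟭 C₀}

include W₀ in
/-- A natural transformation inverted at the resolved objects is a left derived functor. -/
theorem isLeftDerivedFunctor_of_isIso_resolved (hψ : ∀ X, W₁ (ψ₀.app X))
    (hRF : W₁.IsInvertedBy (R₀ ⋙ Q₀ ⋙ F))
    (hRR : ∀ X, IsIso ((Q₀ ⋙ F).map (ψ₀.app (R₀.obj X)))) (G : D ⥤ H) (β : L ⋙ G ⟶ F)
    (h : ∀ X, IsIso (β.app (Q₀.obj (R₀.obj X)))) : G.IsLeftDerivedFunctor β W := by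
  haveI := isLeftDerivedFunctor' W L Q₀ W₀ hψ hRF hRR
  let l := (LF (Q₀ ⋙ L) hRF).leftDerivedLift (α' L Q₀ W₀ (ψ₀ := ψ₀) hRF) W G β
  have hl : whiskerLeft L l ≫ α' L Q₀ W₀ (ψ₀ := ψ₀) hRF = β :=
    Functor.leftDerived_fac _ _ _ _ _
  haveI : IsIso l := by
    haveI := Localization.essSurj (Q₀ ⋙ L) W₁
    haveI : ∀ Y : D, IsIso (l.app Y) := fun Y => by
      let X := (Q₀ ⋙ L).objPreimage Y
      have hi : IsIso (l.app ((Q₀ ⋙ L).obj (R₀.obj X))) := by
        have hh := congr_app hl (Q₀.obj (R₀.obj X))
        haveI := h X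
        haveI := isIso_counit' W L Q₀ W₀ hψ hRF hRR _ (α' L Q₀ W₀ (ψ₀ := ψ₀) hRF) (R₀.obj X) (hRR X)
        exact IsIso.of_isIso_fac_right hh
      haveI := Localization.inverts (Q₀ ⋙ L) W₁ _ (hψ X)
      exact (NatTrans.isIso_app_iff_of_iso l
        (asIso ((Q₀ ⋙ L).map (ψ₀.app X)) ≪≫ (Q₀ ⋙ L).objObjPreimageIso Y)).1 hi
    exact NatIso.isIso_of_isIso_app l
  refine (Functor.isLeftDerivedFunctor_iff_of_iso G (LF (Q₀ ⋙ L) hRF)
    (α' L Q₀ W₀ (ψ₀ := ψ₀) hRF) β W (asIso l).symm ?_).1 inferInstance
  ext Z
  have hz := congr_app hl Z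
  simp at hz ⊢
  exact hz.symm

end LeftDer

section

variable {A : Type u} [Category.{v} A] [Preadditive A] {B : Type u'} [Category.{v'} B]
  [Preadditive B] {G : A ⥤ B} {F : B ⥤ A} [G.Additive] [F.Additive] {ι : Type*}

/-- An adjunction applied termwise. -/
def mapHomologicalComplexAdj (adj : G ⊣ F) (c : ComplexShape ι) :
    G.mapHomologicalComplex c ⊣ F.mapHomologicalComplex c where
  unit :=
    { app := fun K => { f := fun i => adj.unit.app (K.X i)
                        comm' := fun i j _ => (adj.unit.naturality (K.d i j)).symm }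
      naturality := fun K L f => by ext i; exact adj.unit.naturality (f.f i) }
  counit :=
    { app := fun K => { f := fun i => adj.counit.app (K.X i)
                        comm' := fun i j _ => (adj.counit.naturality (K.d i j)).symm }
      naturality := fun K L f => by ext i; exact adj.counit.naturality (f.f i) }
  left_triangle_components K := by ext i; exact adj.left_triangle_components (K.X i)
  right_triangle_components K := by ext i; exact adj.right_triangle_components (K.X i)

instance catCommSq_mapHomotopyCategory (G' : A ⥤ B) [G'.Additive] (c : ComplexShape ι) :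
    CatCommSq (G'.mapHomologicalComplex c) (HomotopyCategory.quotient A c)
      (HomotopyCategory.quotient B c) (G'.mapHomotopyCategory c) :=
  ⟨(G'.mapHomotopyCategoryFactors c).symm⟩

end

end Groth.Agent.H16Derived
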