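import Groth.Agent.H16Derived.Brown
import Groth.Prelude.Def_CohDer
import Mathlib.CategoryTheory.Triangulated.Opposite.Functor
import Mathlib.CategoryTheory.Adjunction.PartialAdjoint
import Mathlib.CategoryTheory.Preadditive.Yoneda.Limits
import Mathlib.CategoryTheory.Limits.Preserves.Opposites

/-!
# Consequences of Brown representability
-/

universe v u u'

open CategoryTheory CategoryTheory.Limits CategoryTheory.Pretriangulated
  CategoryTheory.Pretriangulated.Opposite

namespace Groth.Agent.H16Derived.Brown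

variable {D : Type u} [Category.{v} D] [Preadditive D] [HasZeroObject D] [HasShift D ℤ]
  [∀ n : ℤ, (shiftFunctor D n).Additive] [Pretriangulated D] [HasCoproducts.{v} D]

lemma hasColimitsOfShape_nat : HasColimitsOfShape (Discrete ℕ) D :=
  hasColimitsOfShape_of_equivalence (Discrete.equivalence Equiv.ulift.{v})

lemma perfect_of_isCompactObject [HasColimitsOfShape (Discrete ℕ) D] {ι : Type v} (E : ι → D)
    (hE : ∀ i, CohDer.IsCompactObject (E i)) (X : ℕ → D) (i : ι) (α : E i ⟶ ∐ X) :
    ∃ (j : ℕ → ι) (β : ∀ n, E (j n) ⟶ X n) (γ : E i ⟶ ∐ (fun n => E (j n))),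
      α = γ ≫ Limits.Sigma.map β := by
  classical
  let X' : ULift.{v} ℕ → D := fun n => X n.down
  let a : (∐ X) ⟶ ∐ X' := Sigma.desc fun n => Sigma.ι X' ⟨n⟩
  let b : (∐ X') ⟶ ∐ X := Sigma.desc fun n => Sigma.ι X n.down
  have hab : a ≫ b = 𝟙 _ := Sigma.hom_ext _ _ fun n => by simp [a, b]
  obtain ⟨x, hx⟩ := (hE i _ X').2 (α ≫ a)
  refine ⟨fun _ => i, fun n => x ⟨n⟩,
    ∑ k ∈ DFinsupp.support x, Sigma.ι (fun _ : ℕ => E i) k.down, ?_⟩
  have h1 : α ≫ a = ∑ k ∈ DFinsupp.support x, x k ≫ Sigma.ι X' k := by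
    rw [← hx]
    conv_lhs => rw [← DirectSum.sum_support_of x]
    rw [map_sum]
    refine Finset.sum_congr rfl fun k _ => ?_
    erw [DirectSum.toAddMonoid_of]
    rfl
  calc α = (α ≫ a) ≫ b := by rw [Category.assoc, hab, Category.comp_id]
    _ = _ := by
      rw [h1, Preadditive.sum_comp, Preadditive.sum_comp]
      refine Finset.sum_congr rfl fun k _ => ?_
      simp [b, X']

/-- Generators from a generating family of compact objects. -/
lemma gen_of_compact [HasColimitsOfShape (Discrete ℕ) D] {ι : Type v} (E : ι → D)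
    (hE : ∀ i, CohDer.IsCompactObject (E i)) (hg : CohDer.Generates E) :
    Gen (fun p : ι × ULift.{v} ℤ => (shiftFunctor D p.2.down).obj (E p.1)) := by
  refine gen_of_family E (fun X hX => hg X fun i n f => ?_) (perfect_of_isCompactObject E hE)
  obtain ⟨g, rfl⟩ : ∃ g, ((shiftEquiv D n).symm.toAdjunction.homEquiv (E i) X) g = f :=
    ((shiftEquiv D n).symm.toAdjunction.homEquiv (E i) X).surjective f
  have : g = 0 := hX i (-n) g
  rw [this, Adjunction.homEquiv_unit]
  simp
  rfl

variable {D' : Type u'} [Category.{v} D'] [Preadditive D'] [HasZeroObject D'] [HasShift D' ℤ]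
  [∀ n : ℤ, (shiftFunctor D' n).Additive] [Pretriangulated D']

/-- An exact functor preserving coproducts out of a well generated category is a left adjoint. -/
theorem isLeftAdjoint [HasColimitsOfShape (Discrete ℕ) D] {ι : Type v} {E : ι → D} (hE : Gen E)
    (F : D ⥤ D') [F.CommShift ℤ] [F.IsTriangulated]
    [∀ (κ : Type v), PreservesColimitsOfShape (Discrete κ) F] : F.IsLeftAdjoint := by
  apply Functor.isLeftAdjoint_of_rightAdjointObjIsDefined_eq_top
  ext Y
  simp only [Pi.top_apply, Prop.top_eq_true, iff_true]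
  rw [Functor.rightAdjointObjIsDefined_iff]
  let H : Dᵒᵖ ⥤ AddCommGrpCat.{v} := F.op ⋙ preadditiveYoneda.obj Y
  have : H.IsHomological := inferInstanceAs ((F.op ⋙ preadditiveYoneda.obj Y).IsHomological)
  have : ∀ κ : Type v, PreservesLimitsOfShape (Discrete κ) H := fun κ => by
    have : PreservesColimitsOfShape (Discrete κ)ᵒᵖ F :=
      preservesColimitsOfShape_of_equiv (Discrete.opposite κ).symm F
    have : PreservesLimitsOfShape (Discrete κ) F.op := preservesLimitsOfShape_op _ _
    exact inferInstanceAs (PreservesLimitsOfShape (Discrete κ) (F.op ⋙ preadditiveYoneda.obj Y))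
  have h : (H ⋙ forget AddCommGrpCat.{v}).IsRepresentable := isRepresentable H hE
  exact h

end Groth.Agent.H16Derived.Brown
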