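import Groth.Prelude.Def_CohDer
import Mathlib.CategoryTheory.Triangulated.Generators
import Mathlib.CategoryTheory.Triangulated.Yoneda
import Mathlib.CategoryTheory.Limits.Preserves.Shapes.Products
import Mathlib.CategoryTheory.Limits.Preserves.Shapes.Biproducts
import Mathlib.Tactic.Abel

/-!
# Compact objects of triangulated categories
-/

universe v u

open CategoryTheory CategoryTheory.Limits CategoryTheory.Pretriangulated
open scoped ZeroObject

namespace Groth.Agent.H16Derived.Compact

variable {D : Type u} [Category.{v} D] [Preadditive D] [HasCoproducts.{v} D]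

open Classical in
/-- The projection from a coproduct to a component. -/
noncomputable def proj {κ : Type v} (X : κ → D) (i : κ) : (∐ X) ⟶ X i :=
  Sigma.desc fun k => if h : k = i then eqToHom (congrArg X h) else 0

/-- The projection onto a finite partial sum. -/
noncomputable def idem {κ : Type v} (X : κ → D) (s : Finset κ) : (∐ X) ⟶ ∐ X :=
  ∑ i ∈ s, proj X i ≫ Sigma.ι X i

open Classical in
lemma ι_idem {κ : Type v} (X : κ → D) (s : Finset κ) (k : κ) :
    Sigma.ι X k ≫ idem X s = if k ∈ s then Sigma.ι X k else 0 := by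
  rw [idem, Preadditive.comp_sum]
  by_cases hk : k ∈ s
  · rw [if_pos hk, Finset.sum_eq_single k]
    · simp [proj]
    · intro b _ hb
      simp [proj, Ne.symm hb]
    · exact fun h => (h hk).elim
  · rw [if_neg hk]
    refine Finset.sum_eq_zero fun b hb => ?_
    simp [proj, show k ≠ b from fun h => hk (h ▸ hb)]

lemma idem_union {κ : Type v} [DecidableEq κ] (X : κ → D) (s t : Finset κ) :
    (𝟙 _ - idem X s) ≫ (𝟙 _ - idem X t) = 𝟙 _ - idem X (s ∪ t) := by
  refine Sigma.hom_ext _ _ fun k => ?_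
  rw [← Category.assoc]
  simp only [Preadditive.comp_sub, Category.comp_id, ι_idem, Preadditive.sub_comp]
  by_cases hs : k ∈ s <;> by_cases ht : k ∈ t <;> simp [hs, ht, ι_idem]

lemma sum_comp_proj {κ : Type v} (X : κ → D) {K : D} (b : DirectSum κ (fun i => K ⟶ X i)) (i : κ) :
    CohDer.homSumToHomCoprod K X b ≫ proj X i = b i := by
  classical
  let l : DirectSum κ (fun i => K ⟶ X i) →+ (K ⟶ X i) :=
    (Preadditive.rightComp K (proj X i)).comp (CohDer.homSumToHomCoprod K X)
  let r : DirectSum κ (fun i => K ⟶ X i) →+ (K ⟶ X i) :=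
    AddMonoidHom.mk' (fun c => c i) fun _ _ => rfl
  suffices l = r from DFunLike.congr_fun this b
  refine DirectSum.addHom_ext' fun k => ?_
  ext x
  simp only [l, r, AddMonoidHom.comp_apply, AddMonoidHom.mk'_apply,
    CohDer.homSumToHomCoprod, DirectSum.toAddMonoid_of]
  change (x ≫ Sigma.ι X k) ≫ proj X i = DirectSum.of (fun j => K ⟶ X j) k x i
  by_cases h : k = i
  · subst h
    rw [DirectSum.of_eq_same]
    simp [proj]
  · rw [DirectSum.of_eq_of_ne _ _ _ (Ne.symm h)]
    simp [proj, h]

/-- Compactness: every morphism into a coproduct has finite support. -/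
lemma isCompactObject_iff (K : D) :
    CohDer.IsCompactObject K ↔
      ∀ (κ : Type v) (X : κ → D) (α : K ⟶ ∐ X), ∃ s : Finset κ, α ≫ idem X s = α := by
  classical
  constructor
  · intro h κ X α
    obtain ⟨b, rfl⟩ := (h κ X).2 α
    refine ⟨DFinsupp.support b, ?_⟩
    conv_rhs => rw [← DirectSum.sum_support_of b]
    rw [idem, Preadditive.comp_sum, map_sum]
    refine Finset.sum_congr rfl fun i _ => ?_
    rw [← Category.assoc, sum_comp_proj]
    simp [CohDer.homSumToHomCoprod, DirectSum.toAddMonoid_of, Preadditive.rightComp]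
  · intro h κ X
    refine ⟨fun b b' hb => ?_, fun α => ?_⟩
    · ext i
      rw [← sum_comp_proj, hb, sum_comp_proj]
    · obtain ⟨s, hs⟩ := h κ X α
      refine ⟨∑ i ∈ s, DirectSum.of (fun i => K ⟶ X i) i (α ≫ proj X i), ?_⟩
      rw [map_sum]
      conv_rhs => rw [← hs, idem, Preadditive.comp_sum]
      refine Finset.sum_congr rfl fun i _ => ?_
      simp [CohDer.homSumToHomCoprod, DirectSum.toAddMonoid_of, Preadditive.rightComp]

lemma of_retract {K K' : D} (r : Retract K K') (h : CohDer.IsCompactObject K') :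
    CohDer.IsCompactObject K := by
  rw [isCompactObject_iff] at h ⊢
  intro κ X α
  obtain ⟨s, hs⟩ := h κ X (r.r ≫ α)
  refine ⟨s, ?_⟩
  rw [Category.assoc] at hs
  rw [← r.retract_assoc (α ≫ idem X s), hs, r.retract_assoc]

omit [Preadditive D] [HasCoproducts.{v} D] in
lemma eq_of_comm {K L M N : D} (u : K ⟶ L) [Epi u] (a : L ⟶ M) (m : M ⟶ M) (w : M ⟶ N) [Mono w]
    (m' : N ⟶ N) (hm : w ≫ m' = m ≫ w) (h : (u ≫ a ≫ w) ≫ m' = u ≫ a ≫ w) : a ≫ m = a := by
  rw [← cancel_epi u, ← cancel_mono w]
  simp only [Category.assoc, hm] at h ⊢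
  exact h

section Triangulated

variable [HasZeroObject D] [HasShift D ℤ] [∀ n : ℤ, (shiftFunctor D n).Additive]

omit [∀ n : ℤ, (shiftFunctor D n).Additive] in
lemma of_shift {K : D} (h : CohDer.IsCompactObject K) (n : ℤ) :
    CohDer.IsCompactObject ((shiftFunctor D n).obj K) := by
  rw [isCompactObject_iff] at h ⊢
  intro κ X α
  let e := shiftEquiv D n
  have : PreservesColimit (Discrete.functor X) e.inverse := inferInstance
  let c := sigmaComparison e.inverse X
  obtain ⟨s, hs⟩ := h κ _ (e.unit.app K ≫ e.inverse.map α ≫ inv c)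
  refine ⟨s, e.inverse.map_injective ?_⟩
  have hc : idem (fun k => e.inverse.obj (X k)) s ≫ c = c ≫ e.inverse.map (idem X s) := by
    classical
    refine Sigma.hom_ext _ _ fun k => ?_
    rw [← Category.assoc, ι_idem, ι_comp_sigmaComparison_assoc, ← Functor.map_comp, ι_idem]
    by_cases hk : k ∈ s <;> simp [hk, c]
  rw [Functor.map_comp]
  refine eq_of_comm (e.unit.app K) (e.inverse.map α) (e.inverse.map (idem X s)) (inv c)
    (idem (fun k => e.inverse.obj (X k)) s) ?_ hs
  rw [IsIso.inv_comp_eq, reassoc_of% (hc.symm), IsIso.hom_inv_id, Category.comp_id]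

variable [Pretriangulated D]

lemma ext₂ {T : Triangle D} (hT : T ∈ distTriang D) (h₁ : CohDer.IsCompactObject T.obj₁)
    (h₃ : CohDer.IsCompactObject T.obj₃) : CohDer.IsCompactObject T.obj₂ := by
  classical
  rw [isCompactObject_iff] at h₁ h₃ ⊢
  intro κ X α
  obtain ⟨s, hs⟩ := h₁ κ X (T.mor₁ ≫ α)
  obtain ⟨γ, hγ⟩ := Triangle.yoneda_exact₂ T hT (α ≫ (𝟙 _ - idem X s)) (by
    rw [Preadditive.comp_sub, Category.comp_id, Preadditive.comp_sub, ← Category.assoc T.mor₁ α,
      hs, sub_self])
  obtain ⟨t, ht⟩ := h₃ κ X γ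
  refine ⟨s ∪ t, ?_⟩
  have h : α ≫ (𝟙 _ - idem X (s ∪ t)) = 0 := by
    rw [← idem_union, ← Category.assoc, hγ, Category.assoc, Preadditive.comp_sub, Category.comp_id,
      Preadditive.comp_sub, ← Category.assoc T.mor₂ γ]
    rw [Category.assoc T.mor₂ γ, ht, sub_self]
  rw [Preadditive.comp_sub, Category.comp_id, sub_eq_zero] at h
  exact h.symm

lemma isTriangulated :
    ObjectProperty.IsTriangulated (fun K : D => CohDer.IsCompactObject K) :=
  { exists_zero := ⟨0, isZero_zero D, (isCompactObject_iff _).2 fun _ _ _ =>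
      ⟨∅, (isZero_zero D).eq_of_src _ _⟩⟩
    isStableUnderShiftBy := fun n => ⟨fun _ h => of_shift h n⟩
    ext₂' := fun _ hT h₁ h₃ => ObjectProperty.le_isoClosure _ _ (ext₂ hT h₁ h₃) }

lemma biprod {K K' : D} [HasBinaryBiproduct K K'] (h : CohDer.IsCompactObject K)
    (h' : CohDer.IsCompactObject K') : CohDer.IsCompactObject (K ⊞ K') :=
  ext₂ (binaryBiproductTriangle_distinguished K K') h h'

end Triangulated

end Groth.Agent.H16Derived.Compact

namespace Groth.Agent.H16Derived.Compact

variable {D : Type u} [Category.{v} D] [Preadditive D] [HasCoproducts.{v} D] [HasZeroObject D]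
  [HasShift D ℤ] [∀ n : ℤ, (shiftFunctor D n).Additive] [Pretriangulated D]

/-- A morphism from a compact object into a coproduct factors through a finite partial sum. -/
lemma exists_finite_factor (P : ObjectProperty D) [P.IsTriangulated] [P.IsClosedUnderIsomorphisms]
    {κ : Type v} (X : κ → D) (hX : ∀ i, P (X i)) (hX' : ∀ i, CohDer.IsCompactObject (X i))
    {C : D} (hC : CohDer.IsCompactObject C) (α : C ⟶ ∐ X) :
    ∃ (Q : D) (v : C ⟶ Q) (u : Q ⟶ ∐ X), P Q ∧ CohDer.IsCompactObject Q ∧ v ≫ u = α := by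
  classical
  obtain ⟨s, hs⟩ := (isCompactObject_iff C).1 hC κ X α
  have key : ∀ t : Finset κ, ∃ (Q : D) (v : C ⟶ Q) (u : Q ⟶ ∐ X),
      P Q ∧ CohDer.IsCompactObject Q ∧ v ≫ u = α ≫ idem X t := by
    intro t
    induction t using Finset.induction_on with
    | empty =>
      exact ⟨0, 0, 0, P.prop_of_iso (P.exists_prop_of_containsZero.choose_spec.1.iso (isZero_zero D))
        P.exists_prop_of_containsZero.choose_spec.2,
        (isCompactObject_iff _).2 fun _ _ _ => ⟨∅, (isZero_zero D).eq_of_src _ _⟩, by simp [idem]⟩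
    | insert k t hk ih =>
      obtain ⟨Q, v, u, hQ, hQ', h⟩ := ih
      exact ⟨X k ⊞ Q, biprod.lift (α ≫ proj X k) v, biprod.desc (Sigma.ι X k) u,
        P.ext_of_isTriangulatedClosed₂ _ (binaryBiproductTriangle_distinguished (X k) Q) (hX k) hQ,
        biprod (hX' k) hQ', by simp [idem, Finset.sum_insert hk, h, Preadditive.comp_add]⟩
  obtain ⟨Q, v, u, h₁, h₂, h₃⟩ := key s
  exact ⟨Q, v, u, h₁, h₂, h₃.trans hs⟩

end Groth.Agent.H16Derived.Compact
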