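import Mathlib.CategoryTheory.Functor.Derived.LeftDerived
import Mathlib.CategoryTheory.Localization.Predicate

/-!
# Left derived functors from a functorial resolution

If `R : C ⥤ C`, `ψ : R ⟶ 𝟭` is pointwise in `W`, `R ⋙ F` inverts `W` and `F` inverts `ψ` on resolved objects,
then `F` has a left derived functor, whose counit is an isomorphism at `X` whenever `F.map (ψ.app X)` is.
-/

set_option autoImplicit false

open CategoryTheory CategoryTheory.Functor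

namespace Groth.Agent.H16Derived.LeftDer

universe v v' v'' u u' u''

variable {C : Type u} [Category.{v} C] {D : Type u'} [Category.{v'} D] {H : Type u''}
  [Category.{v''} H] {F : C ⥤ H} {W : MorphismProperty C} {R : C ⥤ C} {ψ : R ⟶ 𝟭 C}
  (L : C ⥤ D) [L.IsLocalization W]

/-- The derived functor. -/
noncomputable def LF (hRF : W.IsInvertedBy (R ⋙ F)) : D ⥤ H := Localization.lift (R ⋙ F) hRF L

/-- `L ⋙ LF ≅ R ⋙ F`. -/
noncomputable def fac (hRF : W.IsInvertedBy (R ⋙ F)) : L ⋙ LF L hRF ≅ R ⋙ F :=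
  Localization.fac (R ⋙ F) hRF L

/-- The counit. -/
noncomputable def α (ψ : R ⟶ 𝟭 C) (hRF : W.IsInvertedBy (R ⋙ F)) : L ⋙ LF L hRF ⟶ F :=
  (fac L hRF).hom ≫ whiskerRight ψ F ≫ F.leftUnitor.hom

lemma α_app (hRF : W.IsInvertedBy (R ⋙ F)) (X : C) :
    (α L ψ hRF).app X = (fac L hRF).hom.app X ≫ F.map (ψ.app X) := by
  simp [α]

variable (W)

/-- The extension of `β : L ⋙ G ⟶ F` to `G ⟶ LF`. -/
noncomputable def extLift (hψ : ∀ X, W (ψ.app X)) (hRF : W.IsInvertedBy (R ⋙ F)) (G : D ⥤ H)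
    (β : L ⋙ G ⟶ F) : G ⟶ LF L hRF :=
  haveI : ∀ X, IsIso (L.map (ψ.app X)) := fun X => Localization.inverts L W _ (hψ X)
  letI : Localization.Lifting L W (L ⋙ G) G := ⟨Iso.refl _⟩
  letI : Localization.Lifting L W (R ⋙ F) (LF L hRF) := ⟨fac L hRF⟩
  Localization.liftNatTrans L W (L ⋙ G) (R ⋙ F) G (LF L hRF)
    { app := fun X => inv (G.map (L.map (ψ.app X))) ≫ β.app (R.obj X)
      naturality := fun X Y f => by
        have h1 := β.naturality (R.map f)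
        dsimp at h1 ⊢
        rw [Category.assoc, ← h1, IsIso.eq_inv_comp, ← G.map_comp_assoc, ← L.map_comp,
          show ψ.app X ≫ f = R.map f ≫ ψ.app Y from (ψ.naturality f).symm, L.map_comp, G.map_comp,
          Category.assoc, IsIso.hom_inv_id_assoc] }

lemma extLift_fac (hψ : ∀ X, W (ψ.app X)) (hRF : W.IsInvertedBy (R ⋙ F)) (G : D ⥤ H)
    (β : L ⋙ G ⟶ F) : whiskerLeft L (extLift W L hψ hRF G β) ≫ α L ψ hRF = β := by
  ext X
  haveI : IsIso (L.map (ψ.app X)) := Localization.inverts L W _ (hψ X)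
  dsimp [extLift]
  rw [Localization.liftNatTrans_app, α_app]
  simp only [Category.assoc, Iso.inv_hom_id_app_assoc]
  dsimp
  rw [Category.id_comp, IsIso.inv_comp_eq]
  exact (β.naturality (ψ.app X)).symm

theorem isLeftDerivedFunctor (hψ : ∀ X, W (ψ.app X)) (hRF : W.IsInvertedBy (R ⋙ F))
    (hRR : ∀ X, IsIso (F.map (ψ.app (R.obj X)))) :
    (LF L hRF).IsLeftDerivedFunctor (α L ψ hRF) W := by
  haveI : ∀ X, IsIso (L.map (ψ.app X)) := fun X => Localization.inverts L W _ (hψ X)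
  refine ⟨⟨⟨Limits.IsTerminal.ofUniqueHom (fun G => CostructuredArrow.homMk (extLift W L hψ hRF G.left G.hom) ?_) ?_⟩⟩⟩
  · exact extLift_fac W L hψ hRF G.left G.hom
  · intro G m
    refine CostructuredArrow.hom_ext _ _ (Localization.natTrans_ext L W fun X => ?_)
    have key : ∀ Y, m.left.app (L.obj (R.obj Y)) =
        (extLift W L hψ hRF G.left G.hom).app (L.obj (R.obj Y)) := fun Y => by
      haveI := hRR Y
      haveI : IsIso ((α L ψ hRF).app (R.obj Y)) := by rw [α_app]; infer_instance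
      refine (cancel_mono ((α L ψ hRF).app (R.obj Y))).1 ?_
      exact (congr_app (CostructuredArrow.w m) (R.obj Y)).trans
        (congr_app (extLift_fac W L hψ hRF G.left G.hom) (R.obj Y)).symm
    refine (cancel_epi (G.left.map (L.map (ψ.app X)))).1 ?_
    exact ((m.left.naturality (L.map (ψ.app X))).trans
      (congrArg (· ≫ (LF L hRF).map (L.map (ψ.app X))) (key X))).trans
        ((extLift W L hψ hRF G.left G.hom).naturality (L.map (ψ.app X))).symm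

theorem hasLeftDerivedFunctor (hψ : ∀ X, W (ψ.app X)) (hRF : W.IsInvertedBy (R ⋙ F))
    (hRR : ∀ X, IsIso (F.map (ψ.app (R.obj X)))) : F.HasLeftDerivedFunctor W :=
  haveI := isLeftDerivedFunctor W W.Q hψ hRF hRR
  HasLeftDerivedFunctor.mk' (LF W.Q hRF) (α W.Q ψ hRF) (W := W)

/-- Any left derived functor agrees with `F` where `F` inverts `ψ`. -/
theorem isIso_counit (hψ : ∀ X, W (ψ.app X)) (hRF : W.IsInvertedBy (R ⋙ F))
    (hRR : ∀ X, IsIso (F.map (ψ.app (R.obj X)))) (LF' : D ⥤ H) (α' : L ⋙ LF' ⟶ F)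
    [LF'.IsLeftDerivedFunctor α' W] (X : C) (hX : IsIso (F.map (ψ.app X))) :
    IsIso (α'.app X) := by
  haveI := isLeftDerivedFunctor W L hψ hRF hRR
  have h := leftDerived_fac_app LF' α' W (LF L hRF) (α L ψ hRF) X
  haveI : IsIso (LF'.leftDerivedLift α' W (LF L hRF) (α L ψ hRF)) :=
    (isLeftDerivedFunctor_iff_isIso_leftDerivedLift LF' α' W _ _).1 inferInstance
  haveI : IsIso ((α L ψ hRF).app X) := by rw [α_app]; infer_instance
  exact IsIso.of_isIso_fac_left h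

section Transfer

universe v₀ u₀

variable {C₀ : Type u₀} [Category.{v₀} C₀] (Q₀ : C₀ ⥤ C) (W₀ : MorphismProperty C₀)
  [Q₀.IsLocalization W₀] {W₁ : MorphismProperty C₀} [(Q₀ ⋙ L).IsLocalization W₁]
  {R₀ : C₀ ⥤ C₀} {ψ₀ : R₀ ⟶ 𝟭 C₀}

/-- The counit on `C`, from the one on `C₀`. -/
noncomputable def α' (hRF : W₁.IsInvertedBy (R₀ ⋙ Q₀ ⋙ F)) :
    L ⋙ LF (Q₀ ⋙ L) hRF ⟶ F :=
  letI : Localization.Lifting Q₀ W₀ ((Q₀ ⋙ L) ⋙ LF (Q₀ ⋙ L) hRF) (L ⋙ LF (Q₀ ⋙ L) hRF) :=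
    ⟨(Functor.associator _ _ _).symm⟩
  letI : Localization.Lifting Q₀ W₀ (Q₀ ⋙ F) F := ⟨Iso.refl _⟩
  Localization.liftNatTrans Q₀ W₀ ((Q₀ ⋙ L) ⋙ LF (Q₀ ⋙ L) hRF) (Q₀ ⋙ F) _ _
    (α (F := Q₀ ⋙ F) (Q₀ ⋙ L) ψ₀ hRF)

lemma α'_app (hRF : W₁.IsInvertedBy (R₀ ⋙ Q₀ ⋙ F)) (X : C₀) :
    (α' L Q₀ W₀ (ψ₀ := ψ₀) hRF).app (Q₀.obj X) =
      (α (F := Q₀ ⋙ F) (Q₀ ⋙ L) ψ₀ hRF).app X := by
  dsimp [α']
  rw [Localization.liftNatTrans_app]
  simp

theorem isLeftDerivedFunctor' (hψ : ∀ X, W₁ (ψ₀.app X))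
    (hRF : W₁.IsInvertedBy (R₀ ⋙ Q₀ ⋙ F))
    (hRR : ∀ X, IsIso ((Q₀ ⋙ F).map (ψ₀.app (R₀.obj X)))) :
    (LF (Q₀ ⋙ L) hRF).IsLeftDerivedFunctor (α' L Q₀ W₀ (ψ₀ := ψ₀) hRF) W := by
  haveI := isLeftDerivedFunctor W₁ (Q₀ ⋙ L) (F := Q₀ ⋙ F) hψ hRF hRR
  refine ⟨⟨⟨Limits.IsTerminal.ofUniqueHom (fun G => CostructuredArrow.homMk
    ((LF (Q₀ ⋙ L) hRF).leftDerivedLift (α (F := Q₀ ⋙ F) (Q₀ ⋙ L) ψ₀ hRF) W₁ G.left
      ((Functor.associator _ _ _).hom ≫ whiskerLeft Q₀ G.hom)) ?_) ?_⟩⟩⟩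
  · refine Localization.natTrans_ext Q₀ W₀ fun X => ?_
    refine (congrArg (_ ≫ ·) (α'_app L Q₀ W₀ hRF X)).trans ?_
    exact ((LF (Q₀ ⋙ L) hRF).leftDerived_fac_app (α (F := Q₀ ⋙ F) (Q₀ ⋙ L) ψ₀ hRF) W₁ G.left
      ((Functor.associator _ _ _).hom ≫ whiskerLeft Q₀ G.hom) X).trans (Category.id_comp _)
  · intro G m
    refine CostructuredArrow.hom_ext _ _ ((LF (Q₀ ⋙ L) hRF).leftDerived_ext
      (α (F := Q₀ ⋙ F) (Q₀ ⋙ L) ψ₀ hRF) W₁ _ _ _ ?_)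
    ext X
    refine Eq.trans ?_ ((LF (Q₀ ⋙ L) hRF).leftDerived_fac_app _ W₁ G.left _ X).symm
    refine (congrArg (_ ≫ ·) (α'_app L Q₀ W₀ hRF X).symm).trans ?_
    exact (congr_app (CostructuredArrow.w m) (Q₀.obj X)).trans (Category.id_comp _).symm

include L W₀ in
/-- Existence of a left derived functor from a resolution upstairs. -/
theorem hasLeftDerivedFunctor' (hψ : ∀ X, W₁ (ψ₀.app X))
    (hRF : W₁.IsInvertedBy (R₀ ⋙ Q₀ ⋙ F))
    (hRR : ∀ X, IsIso ((Q₀ ⋙ F).map (ψ₀.app (R₀.obj X)))) : F.HasLeftDerivedFunctor W :=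
  haveI := isLeftDerivedFunctor' W L Q₀ W₀ hψ hRF hRR
  HasLeftDerivedFunctor.mk' (LF (Q₀ ⋙ L) hRF) (α' L Q₀ W₀ (ψ₀ := ψ₀) hRF) (W := W)

include W₀ in
/-- Any left derived functor agrees with `F` where `F` inverts the resolution. -/
theorem isIso_counit' (hψ : ∀ X, W₁ (ψ₀.app X))
    (hRF : W₁.IsInvertedBy (R₀ ⋙ Q₀ ⋙ F))
    (hRR : ∀ X, IsIso ((Q₀ ⋙ F).map (ψ₀.app (R₀.obj X)))) (LF' : D ⥤ H) (β : L ⋙ LF' ⟶ F)
    [LF'.IsLeftDerivedFunctor β W] (X : C₀) (hX : IsIso ((Q₀ ⋙ F).map (ψ₀.app X))) :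
    IsIso (β.app (Q₀.obj X)) := by
  haveI := isLeftDerivedFunctor' W L Q₀ W₀ hψ hRF hRR
  have h := leftDerived_fac_app LF' β W (LF (Q₀ ⋙ L) hRF) (α' L Q₀ W₀ (ψ₀ := ψ₀) hRF) (Q₀.obj X)
  haveI : IsIso (LF'.leftDerivedLift β W (LF (Q₀ ⋙ L) hRF) (α' L Q₀ W₀ (ψ₀ := ψ₀) hRF)) :=
    (isLeftDerivedFunctor_iff_isIso_leftDerivedLift LF' β W _ _).1 inferInstance
  haveI : IsIso ((α' L Q₀ W₀ (ψ₀ := ψ₀) hRF).app (Q₀.obj X)) := by
    rw [α'_app, α_app]; infer_instance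
  exact IsIso.of_isIso_fac_left h

end Transfer

end Groth.Agent.H16Derived.LeftDer
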