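import Mathlib.CategoryTheory.Shift.Basic
import Mathlib.CategoryTheory.Triangulated.Pretriangulated

/-!
Elementary facts on morphisms between shifted objects in a category with a shift by `ℤ`.
-/

namespace Groth.Agent.H16Derived

open CategoryTheory Category Limits Pretriangulated

universe v u

variable {C : Type u} [Category.{v} C] [Preadditive C] [HasShift C ℤ]
  [∀ n : ℤ, (shiftFunctor C n).Additive]

/-- If `a + b = 0`, every map `X⟦a⟧ ⟶ Y` vanishes as soon as every map `X ⟶ Y⟦b⟧` does. -/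
lemma shift_hom_eq_zero {X Y : C} (a b : ℤ) (hab : a + b = 0)
    (h : ∀ f : X ⟶ Y⟦b⟧, f = 0) (g : X⟦a⟧ ⟶ Y) : g = 0 := by
  apply (shiftFunctor C b).map_injective
  rw [Functor.map_zero, ← cancel_epi ((shiftFunctorCompIsoId C a b hab).inv.app X), comp_zero]
  exact h _

/-- If `a + b = 0`, every map `X ⟶ Y⟦b⟧` vanishes as soon as every map `X⟦a⟧ ⟶ Y` does. -/
lemma hom_shift_eq_zero {X Y : C} (a b : ℤ) (hab : a + b = 0)
    (h : ∀ g : X⟦a⟧ ⟶ Y, g = 0) (f : X ⟶ Y⟦b⟧) : f = 0 := by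
  apply (shiftFunctor C a).map_injective
  rw [Functor.map_zero,
    ← cancel_mono ((shiftFunctorCompIsoId C b a (by lia)).hom.app Y), zero_comp]
  exact h _

lemma shift_hom_eq_zero_iff {X Y : C} (a b : ℤ) (hab : a + b = 0) :
    (∀ g : X⟦a⟧ ⟶ Y, g = 0) ↔ ∀ f : X ⟶ Y⟦b⟧, f = 0 :=
  ⟨hom_shift_eq_zero a b hab, shift_hom_eq_zero a b hab⟩

/-- Vanishing of all maps `X ⟶ Y` is inherited by the shifted objects. -/
lemma map_shift_hom_eq_zero {X Y : C} (n : ℤ) (h : ∀ f : X ⟶ Y, f = 0)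
    (g : X⟦n⟧ ⟶ Y⟦n⟧) : g = 0 := by
  obtain ⟨f, rfl⟩ := (shiftFunctor C n).map_surjective g
  rw [h f, Functor.map_zero]

lemma map_shift_hom_eq_zero_iff {X Y : C} (n : ℤ) :
    (∀ g : X⟦n⟧ ⟶ Y⟦n⟧, g = 0) ↔ ∀ f : X ⟶ Y, f = 0 :=
  ⟨fun h f => (shiftFunctor C n).map_injective ((h _).trans ((shiftFunctor C n).map_zero X Y).symm),
    map_shift_hom_eq_zero n⟩

omit [∀ n : ℤ, (shiftFunctor C n).Additive] in
lemma hom_eq_zero_of_iso {X X' Y Y' : C} (e : X ≅ X') (e' : Y ≅ Y')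
    (h : ∀ f : X ⟶ Y, f = 0) (g : X' ⟶ Y') : g = 0 := by
  rw [← cancel_epi e.hom, ← cancel_mono e'.inv, assoc, h (e.hom ≫ g ≫ e'.inv)]
  simp

/-- Transport of vanishing along `X⟦a⟧⟦b⟧ ≅ X⟦a+b⟧`, on both sides. -/
lemma shift_shift_hom_eq_zero {X Y : C} (a b c a' b' c' : ℤ) (h : a + b = c) (h' : a' + b' = c')
    (hz : ∀ f : X⟦a⟧⟦b⟧ ⟶ Y⟦a'⟧⟦b'⟧, f = 0) (g : X⟦c⟧ ⟶ Y⟦c'⟧) : g = 0 :=
  hom_eq_zero_of_iso ((shiftFunctorAdd' C a b c h).app X).symm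
    ((shiftFunctorAdd' C a' b' c' h').app Y).symm hz g

/-- Vanishing of maps `X⟦a⟧ ⟶ Y⟦b⟧` only depends on `b - a`. -/
lemma shift_hom_eq_zero_of_diff {X Y : C} (a b a' b' : ℤ) (h : b - a = b' - a')
    (hz : ∀ f : X⟦a⟧ ⟶ Y⟦b⟧, f = 0) (g : X⟦a'⟧ ⟶ Y⟦b'⟧) : g = 0 :=
  shift_shift_hom_eq_zero a (a' - a) a' b (a' - a) b' (by lia) (by lia)
    (map_shift_hom_eq_zero _ hz) g

end Groth.Agent.H16Derived
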