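import Groth.Agent.H16Derived.GenAmple
import Groth.Agent.H16Derived.QCohD.AffineReflect
import Groth.Agent.H16Derived.KFlat.PerfCohSingle

/-! # Orthogonality to the powers of an invertible module -/

set_option autoImplicit false
set_option linter.style.haveILetI false
set_option backward.isDefEq.respectTransparency false

universe u

open CategoryTheory CategoryTheory.Limits CategoryTheory.Pretriangulated AlgebraicGeometry Opposite TopologicalSpace

attribute [local instance] HasDerivedCategory.standard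

noncomputable section

namespace Groth.Agent.H16Derived.GenAmple

open Groth.Agent.H11Tilde Groth.Agent.H11Ample Groth.Agent.H10Coh
open Groth.Agent.H16Derived.QCohD
open Groth.Agent.H16Derived.KFlat Groth.Agent.H16Derived.KFlat.Stalk

variable {X : Scheme.{u}} {L : X.Modules} (s : Coh.structureModule X ⟶ L)
  [PreservesFiniteLimits (tw L)] [PreservesFiniteColimits (tw L)] [CompactSpace X] [QuasiSeparatedSpace X]

theorem isZero_rd_of_orth (hL : PicF.IsInvertible L) (hU : IsAffineOpen (ns s)) {K : DCoh.D X} (hK : DCoh.IsQCohD K)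
    (h : ∀ (N : ℕ) (n : ℤ) (φ : (DCoh.inD X (Coh.structureModule X))⟦n⟧ ⟶ (TN (L := L) N).obj K), φ = 0) :
    IsZero ((rd (ns s).ι).obj K) := by
  let U := ns s
  haveI : IsAffine (U : Scheme.{u}) := hU
  refine MVPush.isZero_of_hd _ fun i => ?_
  have hq : DCoh.IsQCohD ((rd U.ι).obj K) := isQCohD_rd U.ι hK
  have hz : ∀ z : freeSh (⊤ : (U : Scheme.{u}).Opens) ⟶ DCoh.HD ((rd U.ι).obj K) i, z = 0 := fun z => by
    obtain ⟨φ, rfl⟩ := (bijective_θ_affine hq (isAffineOpen_top (U : Scheme.{u})) i).2 z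
    let σ := ((DerivedCategory.singleFunctors (U : Scheme.{u}).Modules).shiftIso (-i) i 0 (by omega)).app
      (freeSh (⊤ : (U : Scheme.{u}).Opens))
    let R := Scheme.Modules.restrictFunctor U.ι
    let e : (rd U.ι).obj ((DCoh.inD X (Coh.structureModule X))⟦-i⟧) ≅
        (DerivedCategory.singleFunctor (U : Scheme.{u}).Modules i).obj (freeSh (⊤ : (U : Scheme.{u}).Opens)) :=
      ((R.mapDerivedCategory).commShiftIso (-i)).app _ ≪≫
        (shiftFunctor _ (-i)).mapIso ((R.mapDerivedCategorySingleFunctor 0).app _ ≪≫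
          (DerivedCategory.singleFunctor (U : Scheme.{u}).Modules 0).mapIso
            ((Scheme.Modules.restrictFunctorIsoPullback U.ι).app _ ≪≫ structurePullbackIso U.ι ≪≫ freeShTopIso.symm)) ≪≫ σ
    have h0 := restrict_hom_eq_zero s hL hU.isCompact (isPerfect_inD (M := Coh.structureModule X) fun x => ⟨⊤, 1, trivial, ⟨(Scheme.Modules.restrictFunctorIsoPullback (⊤ : X.Opens).ι).app _ ≪≫ structurePullbackIso (⊤ : X.Opens).ι ≪≫ (coproductUniqueIso fun _ : Fin 1 => Coh.structureModule (↑(⊤ : X.Opens) : Scheme.{u})).symm⟩⟩) hK (-i)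
      (fun N => h N (-i)) (e.hom ≫ φ)
    rw [(cancel_epi e.hom).1 (h0.trans comp_zero.symm)]
    simp [θ]
  haveI : Subsingleton Γ(DCoh.HD ((rd U.ι).obj K) i, (⊤ : (U : Scheme.{u}).Opens)) :=
    ⟨fun a b => (freeShEquiv ⊤ _).symm.injective ((hz _).trans (hz _).symm)⟩
  exact H17.FPExt.isZero_of_stalk _ fun x =>
    AffineUnit.subsingleton_stalk_of_sections (hq i) (isAffineOpen_top (U : Scheme.{u})) (trivial : x ∈ (⊤ : (U : Scheme.{u}).Opens))

theorem isZero_of_cover {K : DCoh.D X} {ι : Type*} (V : ι → X.Opens) (hV : ∀ x : X, ∃ i, x ∈ V i)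
    (h : ∀ i, IsZero ((rd (V i).ι).obj K)) : IsZero K := by
  refine MVPush.isZero_of_hd K fun m => H17.FPExt.isZero_of_stalk _ fun x => ?_
  obtain ⟨i, hi⟩ := hV x
  by_contra hx
  obtain ⟨e⟩ := MVPush.nonempty_hd_restrict_iso (V i) K m
  have hz : IsZero ((Scheme.Modules.restrictFunctor (V i).ι).obj (DCoh.HD K m)) :=
    ((DerivedCategory.homologyFunctor _ m).map_isZero (h i)).of_iso e.symm
  have hmem : (⟨x, hi⟩ : (V i : Scheme.{u})) ∈ CohB1.support ((Scheme.Modules.restrictFunctor (V i).ι).obj (DCoh.HD K m)) :=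
    (MVPush.mem_support_restrict (V i) _ ⟨x, hi⟩).2 hx
  rw [Thomason.support_eq_empty_of_isZero hz] at hmem
  exact hmem

end Groth.Agent.H16Derived.GenAmple
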