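import Groth.Agent.H16Derived.GenAmpleGamma
import Groth.Agent.H11Ample.QuasiAffine

/-! # Cohomology of twists detects objects -/

set_option autoImplicit false
set_option linter.style.haveILetI false
set_option backward.isDefEq.respectTransparency false

universe u

open CategoryTheory CategoryTheory.Limits CategoryTheory.Pretriangulated AlgebraicGeometry Opposite TopologicalSpace

attribute [local instance] HasDerivedCategory.standard

noncomputable section

namespace Groth.Agent.H16Derived.GenAmple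

open Groth.Agent.H11Tilde Groth.Agent.H11Ample Groth.Agent.H10Coh
open Groth.Agent.H16Derived.QCohD
open Groth.Agent.H16Derived.KFlat Groth.Agent.H16Derived.KFlat.Stalk

/-- An object orthogonal to all negative powers of an ample module vanishes. -/
theorem isZero_of_isAmple {X : Scheme.{u}} (L : X.Modules) (hL : CohB1.IsAmple L)
    (hex : ∀ n, PreservesFiniteLimits (tw (CohB1.tensorPow L n)) ∧ PreservesFiniteColimits (tw (CohB1.tensorPow L n)))
    {K : DCoh.D X} (hK : DCoh.IsQCohD K)
    (h : ∀ (n : ℕ) (m : ℤ), haveI := (hex n).1; haveI := (hex n).2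
      ∀ φ : (DCoh.inD X (Coh.structureModule X))⟦m⟧ ⟶ (tw (CohB1.tensorPow L n)).mapDerivedCategory.obj K, φ = 0) :
    IsZero K := by
  haveI : CompactSpace X := hL.2.1
  haveI := quasiSeparatedSpace_of_isAmple hL
  choose k s hx hs using hL.2.2
  refine isZero_of_cover (fun x => CohB1.genLocus _ (s x)) (fun x => ⟨x, hx x⟩) fun x => ?_
  have hi := isInvertible_tensorPow hL.1 (k x + 1)
  haveI := (hex (k x + 1)).1
  haveI := (hex (k x + 1)).2
  have he := genLocus_eq_gen (s x)
  have h1 : IsAffineOpen (ns (s x)) := by rw [ns, ← he]; exact hs x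
  have hz := isZero_rd_of_orth (s x) hi h1 hK fun N m φ => by
    obtain ⟨j, -⟩ := exists_iso_mul hL.1 (k x + 1) N
    haveI := (hex ((k x + 1) * N)).1
    haveI := (hex ((k x + 1) * N)).2
    obtain ⟨e⟩ := nonempty_tn_tw hi N j K
    have := h ((k x + 1) * N) m (φ ≫ e.hom)
    exact (cancel_mono e.hom).1 (this.trans zero_comp.symm)
  show IsZero ((rd (CohB1.genLocus _ (s x)).ι).obj K)
  rw [he]
  exact hz

theorem exists_not_isZero_twist {X : Scheme.{u}} (L : X.Modules) (hL : CohB1.IsAmple L) [DCoh.HasRΓ X]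
    [∀ n : ℕ, DCoh.HasLTensorMod (CohB1.tensorPow L n)]
    (K : DCoh.D X) (hK : DCoh.IsQCohD K) (hK0 : ¬ IsZero K) :
    ∃ (n : ℕ) (p : ℤ), ¬ IsZero ((DerivedCategory.homologyFunctor AddCommGrpCat.{u} p).obj
      ((DCoh.RΓ X).obj ((DCoh.LTensorMod (CohB1.tensorPow L n)).obj K))) := by
  by_contra hne
  push Not at hne
  refine hK0 (isZero_of_isAmple L hL (fun n => exact_tw (L := CohB1.tensorPow L n) (isInvertible_tensorPow hL.1 n)) hK
    fun n m => ?_)
  haveI := (exact_tw (L := CohB1.tensorPow L n) (isInvertible_tensorPow hL.1 n)).1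
  haveI := (exact_tw (L := CohB1.tensorPow L n) (isInvertible_tensorPow hL.1 n)).2
  intro φ
  obtain ⟨e⟩ := nonempty_ltensorMod_tw (CohB1.tensorPow L n) K
  let σ : (DCoh.inD X (Coh.structureModule X))⟦m⟧ ≅
      (DerivedCategory.singleFunctor X.Modules (-m)).obj (freeSh (⊤ : X.Opens)) :=
    (shiftFunctor _ m).mapIso ((DerivedCategory.singleFunctor X.Modules 0).mapIso freeShTopIso.symm) ≪≫
      ((DerivedCategory.singleFunctors X.Modules).shiftIso m (-m) 0 (by omega)).app _
  have h0 := hom_eq_zero_of_rΓ (-m) (hne n (-m)) (σ.inv ≫ φ ≫ e.inv)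
  exact (cancel_mono e.inv).1 (((cancel_epi σ.inv).1 (h0.trans comp_zero.symm)).trans zero_comp.symm)

end Groth.Agent.H16Derived.GenAmple
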