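import Groth.Agent.H16Derived.PBQC
import Groth.Agent.H22Alg.PB.Exists

set_option autoImplicit false
set_option linter.style.haveILetI false

universe u

open CategoryTheory CategoryTheory.Limits AlgebraicGeometry Opposite
open Groth.Agent.H10Coh.Stab
attribute [local instance] HasDerivedCategory.standard
attribute [local instance 10000] Groth.Agent.H10Coh.hasSheafifyAb Groth.Agent.H10Coh.hasWeakSheafifyAb Groth.Agent.H10Coh.hasExtAb Groth.Agent.H10Coh.enoughInjAb

noncomputable section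

namespace Groth.Agent.H16Derived.PBQC

open Groth.Agent.H22Alg Groth.Agent.H22Alg.PB
open H16Derived.KFlat.Stalk

/-- Pull-back on `K₀` of bundles. -/
theorem exists_pullK {A B : Scheme.{u}} (f : A ⟶ B) :
    ∃ p : SGA6.Kvb B →+ SGA6.Kvb A, ∀ F, FlatMod.IsFinLocFree F →
      p (KRR.cl B F) = KRR.cl A ((Scheme.Modules.pullback f).obj F) :=
  KModel.exists_lift _ fun _ hS a b c =>
    KModel.cl_add (shortExact_pull hS c) (isFinLocFree_pullback f a) (isFinLocFree_pullback f b) (isFinLocFree_pullback f c)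

theorem mapSub_cl {X Y : Scheme.{u}} (F : X.Modules ⥤ Y.Modules) [F.Additive] [PreservesFiniteLimits F]
    [PreservesFiniteColimits F] (h : ∀ M, FlatMod.IsFinLocFree M → FlatMod.IsFinLocFree (F.obj M))
    {M : X.Modules} (hM : FlatMod.IsFinLocFree M) :
    SGA6.mapSub F (fun M : X.Modules => FlatMod.IsFinLocFree M) (fun M : Y.Modules => FlatMod.IsFinLocFree M) h
      (KRR.cl X M) = KRR.cl Y (F.obj M) := by
  rw [KRR.cl, KRR.cl, KZero.clSub, KZero.clSub, dif_pos (show KRR.vbP X M from hM),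
    dif_pos (show KRR.vbP Y (F.obj M) from h M hM)]
  rfl

/-- `K₀` of the trivial bundle `P^r_S`. -/
theorem bijective_trivial (S : Scheme.{u}) [CompactSpace ↥S] (r : ℕ)
    (Ψ : Fin (r + 1) → (SGA6.Kvb S →+ SGA6.Kvb (KRR.PY r S)))
    (hΨ : ∀ (i : Fin (r + 1)) A, FlatMod.IsFinLocFree A → Ψ i (KRR.cl S A) = KRR.cl (KRR.PY r S)
      (tw (fun d => Twist.twistOver r S d) ((i : ℕ) : ℤ) ((Scheme.Modules.pullback (KRR.pr r S)).obj A))) :
    Function.Bijective (fun a : Fin (r + 1) → SGA6.Kvb S => ∑ i, Ψ i (a i)) := by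
  have hE : FlatMod.IsFinLocFreeOfRank (r + 1) (FlatMod.freeMod S (r + 1)) := fun x =>
    ⟨⊤, trivial, ⟨(Scheme.Modules.restrictFunctorIsoPullback (⊤ : S.Opens).ι).app _ ≪≫
      freeModPullbackIso (⊤ : S.Opens).ι (r + 1)⟩⟩
  obtain ⟨P, π, O1, q, hPB⟩ := exists_isProjBundle _ (H8Props.FinLocFree.isQCoh_of_isFinLocFree _ (KModel.finLocFree_of_rank hE))
  obtain ⟨O, hO, ⟨e1⟩, Ψ', hΨ', hb⟩ := exists_bijective hE hPB
  obtain ⟨j, hj, hw, hr, ⟨τ⟩⟩ := exists_chart (U := ⊤) hPB
    ((Scheme.Modules.restrictFunctorIsoPullback (⊤ : S.Opens).ι).app _ ≪≫ freeModPullbackIso (⊤ : S.Opens).ι (r + 1))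
  haveI : IsIso j := by
    haveI : Surjective j := ⟨fun y => by
      have : y ∈ j.opensRange := by rw [hr]; trivial
      exact this⟩
    haveI : Epi j.base := (TopCat.epi_iff_surjective _).2 j.surjective
    exact IsOpenImmersion.isIso j
  let φ : S ⟶ (↑(⊤ : S.Opens) : Scheme.{u}) := S.topIso.inv
  let ψ := KRR.projSpaceMap r φ
  haveI : IsIso ψ := MorphismProperty.of_isPullback (P := MorphismProperty.isomorphisms Scheme.{u})
    (KBaseChangeCl.isPullback_map φ).flip (MorphismProperty.isomorphisms.infer_property φ)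
  let ι : KRR.PY r S ⟶ P := ψ ≫ j
  have hι : ι ≫ π = KRR.pr r S := by
    rw [Category.assoc, hw, ← Category.assoc, (KBaseChangeCl.isPullback_map φ).w, Category.assoc]
    show _ ≫ S.topIso.inv ≫ S.topIso.hom = _
    rw [Iso.inv_hom_id, Category.comp_id]
  obtain ⟨t⟩ := BCReg.nonempty_pull_twist (n := r) φ (1 : ℤ)
  let e : (Scheme.Modules.pullback ι).obj (O 1) ≅ Twist.twistOver r S 1 :=
    (Scheme.Modules.pullback ι).mapIso e1 ≪≫ ((Scheme.Modules.pullbackComp ψ j).app O1).symm ≪≫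
      (Scheme.Modules.pullback ψ).mapIso τ ≪≫ t
  obtain ⟨p, hp⟩ := exists_pullK ι
  obtain ⟨p', hp'⟩ := exists_pullK (inv ι)
  have h1 : p.comp p' = AddMonoidHom.id _ := KModel.kvb_ext fun F hF => by
    rw [AddMonoidHom.comp_apply, hp' F hF, hp _ (isFinLocFree_pullback _ hF)]
    exact KModel.cl_iso ((Scheme.Modules.pullbackComp ι (inv ι)).app F ≪≫
      (Scheme.Modules.pullbackCongr (IsIso.hom_inv_id ι)).app F ≪≫ (Scheme.Modules.pullbackId _).app F)
      (isFinLocFree_pullback _ (isFinLocFree_pullback _ hF))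
  have h2 : p'.comp p = AddMonoidHom.id _ := KModel.kvb_ext fun F hF => by
    rw [AddMonoidHom.comp_apply, hp F hF, hp' _ (isFinLocFree_pullback _ hF)]
    exact KModel.cl_iso ((Scheme.Modules.pullbackComp (inv ι) ι).app F ≪≫
      (Scheme.Modules.pullbackCongr (IsIso.inv_hom_id ι)).app F ≪≫ (Scheme.Modules.pullbackId _).app F)
      (isFinLocFree_pullback _ (isFinLocFree_pullback _ hF))
  have key : ∀ i : Fin (r + 1), Ψ i = p.comp (Ψ' ((i : ℕ) : ℤ)) := fun i => KModel.kvb_ext fun A hA => by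
    have hA' := isFinLocFree_pullback π hA
    rw [AddMonoidHom.comp_apply, hΨ i A hA, hΨ' _ A hA,
      hp _ (isFinLocFree_tensor (PnVan.finLocFree_of_inv (hO.inv _)) hA')]
    obtain ⟨a⟩ := nonempty_family_iso (hO.pullback ι) (isTwistFamily_twistOver r S) ⟨e⟩ ((i : ℕ) : ℤ)
    refine (KModel.cl_iso ((H16Derived.KFlat.Stalk.pullTensorLIso ι ((Scheme.Modules.pullback π).obj A)).app _ ≪≫
      ((DCoh.tensorBi (X := KRR.PY r S)).mapIso a).app _ ≪≫
      ((DCoh.tensorBi (X := KRR.PY r S)).obj _).mapIso ((Scheme.Modules.pullbackComp ι π).app A ≪≫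
        (Scheme.Modules.pullbackCongr hι).app A))
      (isFinLocFree_pullback _ (isFinLocFree_tensor (PnVan.finLocFree_of_inv (hO.inv _)) hA'))).symm
  have he : (fun a : Fin (r + 1) → SGA6.Kvb S => ∑ i, Ψ i (a i)) = p ∘ PB.Φ fun i : Fin (r + 1) => Ψ' ((i : ℕ) : ℤ) := by
    funext a
    simp only [Function.comp_apply, PB.Φ]
    rw [AddMonoidHom.mk'_apply, map_sum]
    exact Finset.sum_congr rfl fun i _ => by rw [key]; rfl
  rw [he]
  exact (Function.bijective_iff_has_inverse.2 ⟨p', fun x => DFunLike.congr_fun h2 x, fun x => DFunLike.congr_fun h1 x⟩).comp hb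

end Groth.Agent.H16Derived.PBQC
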