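import Mathlib.Algebra.Homology.DerivedCategory.KProjective
import Mathlib.Algebra.Homology.DerivedCategory.TStructure
import Mathlib.Algebra.Homology.HomotopyCategory.MappingCone
import Groth.Agent.H16Derived.Lifting

/-!
# Maps out of bounded above complexes of projectives
-/

universe w v u

open CategoryTheory CategoryTheory.Limits CochainComplex CochainComplex.HomComplex

namespace Groth.Agent.H16Derived.ProjLift

variable {A : Type u} [Category.{v} A] [Abelian A]

lemma Q_map_surjective [HasDerivedCategory.{w} A] (P : CochainComplex A ℤ) [P.IsKProjective]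
    (L : CochainComplex A ℤ) (φ : DerivedCategory.Q.obj P ⟶ DerivedCategory.Q.obj L) :
    ∃ g : P ⟶ L, DerivedCategory.Q.map g = φ := by
  obtain ⟨u, hu⟩ := (IsKProjective.Qh_map_bijective P ((HomotopyCategory.quotient _ _).obj L)).2
    ((DerivedCategory.quotientCompQhIso A).hom.app P ≫ φ ≫
      (DerivedCategory.quotientCompQhIso A).inv.app L)
  obtain ⟨g, rfl⟩ := (HomotopyCategory.quotient _ _).map_surjective u
  refine ⟨g, ?_⟩
  have h := (DerivedCategory.quotientCompQhIso A).hom.naturality g
  rw [Functor.comp_map, hu, Category.assoc, Category.assoc, Iso.inv_hom_id_app,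
    Category.comp_id] at h
  exact ((cancel_epi _).1 h).symm

lemma homotopic_of_Q_map [HasDerivedCategory.{w} A] (P : CochainComplex A ℤ) [P.IsKProjective]
    (L : CochainComplex A ℤ) (f g : P ⟶ L)
    (hfg : DerivedCategory.Q.map f = DerivedCategory.Q.map g) : Nonempty (Homotopy f g) := by
  refine ⟨HomotopyCategory.homotopyOfEq _ _ ((IsKProjective.Qh_map_bijective P _).1 ?_)⟩
  rw [← cancel_mono ((DerivedCategory.quotientCompQhIso A).hom.app L)]
  refine ((DerivedCategory.quotientCompQhIso A).hom.naturality f).trans ?_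
  rw [hfg]
  exact ((DerivedCategory.quotientCompQhIso A).hom.naturality g).symm

/-- A map from a complex of projectives in degrees `[n, b]` to a complex exact in degrees `≥ n`
is null-homotopic. -/
lemma nullhomotopic (P C : CochainComplex A ℤ) (n b : ℤ) [P.IsStrictlyGE n] [P.IsStrictlyLE b]
    (hP : ∀ i, Projective (P.X i)) (hC : ∀ i, n ≤ i → C.ExactAt i) (f : P ⟶ C) :
    Nonempty (Homotopy f 0) := by
  let := HasDerivedCategory.standard A
  have := CochainComplex.isKProjective_of_projective P b
  have : QuasiIso (C.ιTruncLE (n - 1)) := (CochainComplex.quasiIso_ιTruncLE_iff C _).2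
    ((CochainComplex.isLE_iff _ _).2 fun i hi => hC i (by lia))
  obtain ⟨g, hg⟩ := Q_map_surjective P (C.truncLE (n - 1))
    (DerivedCategory.Q.map f ≫ inv (DerivedCategory.Q.map (C.ιTruncLE (n - 1))))
  have hg0 : g = 0 := by
    ext i
    rcases lt_or_ge i n with h | h
    · exact (P.isZero_of_isStrictlyGE n i h).eq_of_src _ _
    · exact ((C.truncLE (n - 1)).isZero_of_isStrictlyLE (n - 1) i (by lia)).eq_of_tgt _ _
  refine homotopic_of_Q_map P C f 0 ?_
  rw [hg0, Functor.map_zero] at hg
  rw [Functor.map_zero]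
  exact (cancel_mono (inv (DerivedCategory.Q.map (C.ιTruncLE (n - 1))))).1
    (hg.symm.trans zero_comp.symm)

lemma exactAt_mappingCone {E L : CochainComplex A ℤ} (α : E ⟶ L) (n : ℤ)
    (hiso : ∀ i : ℤ, n < i → IsIso (HomologicalComplex.homologyMap α i))
    (hepi : Epi (HomologicalComplex.homologyMap α n)) (i : ℤ) (hi : n ≤ i) :
    (mappingCone α).ExactAt i := by
  let := HasDerivedCategory.standard A
  rw [HomologicalComplex.exactAt_iff_isZero_homology]
  refine IsZero.of_iso ?_ ((DerivedCategory.homologyFunctorFactors A i).app _).symm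
  have hm : ∀ j, n < j →
      Mono ((DerivedCategory.homologyFunctor A j).map (DerivedCategory.Q.map α)) := fun j hj =>
    have := hiso j hj
    have : IsIso ((DerivedCategory.homologyFunctor A j).map (DerivedCategory.Q.map α)) :=
      (NatIso.isIso_map_iff (DerivedCategory.homologyFunctorFactors A j) α).2 (hiso j hj)
    inferInstance
  have he : Epi ((DerivedCategory.homologyFunctor A i).map (DerivedCategory.Q.map α)) := by
    have : Epi (HomologicalComplex.homologyMap α i) := by
      rcases eq_or_lt_of_le hi with rfl | h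
      · exact hepi
      · have := hiso i h
        infer_instance
    have : Epi ((HomologicalComplex.homologyFunctor A (ComplexShape.up ℤ) i).map α) := this
    rw [← Functor.comp_map, ← NatIso.naturality_2 (DerivedCategory.homologyFunctorFactors A i) α]
    infer_instance
  have hT := DerivedCategory.mappingCone_triangle_distinguished α
  exact (DerivedCategory.HomologySequence.exact₃ _ hT i (i + 1)).isZero_X₂
    ((DerivedCategory.HomologySequence.epi_homologyMap_mor₁_iff _ hT i).1 he)
    ((DerivedCategory.HomologySequence.mono_homologyMap_mor₁_iff _ hT i (i + 1)).1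
      (hm (i + 1) (by lia)))

theorem exists_lift (P E L : CochainComplex A ℤ) (β : P ⟶ L) (α : E ⟶ L) (n b : ℤ)
    [P.IsStrictlyGE n] [P.IsStrictlyLE b] (hP : ∀ i : ℤ, Projective (P.X i))
    (hiso : ∀ i : ℤ, n < i → IsIso (HomologicalComplex.homologyMap α i))
    (hepi : Epi (HomologicalComplex.homologyMap α n)) :
    ∃ γ : P ⟶ E, Nonempty (Homotopy (γ ≫ α) β) := by
  obtain ⟨H⟩ := nullhomotopic P (mappingCone α) n b hP
    (exactAt_mappingCone α n hiso hepi) (β ≫ mappingCone.inr α)
  obtain ⟨h, hh⟩ := Cochain.equivHomotopy _ _ H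
  rw [Cochain.ofHom_zero, add_zero] at hh
  let c : Cochain P E 0 := h.comp (mappingCone.fst α).1 (by lia)
  have hc : δ 0 1 c = 0 := by
    have e := δ_comp h (mappingCone.fst α).1 (show (-1 : ℤ) + 1 = 0 by lia) 0 2 1 rfl rfl (by lia)
    simp only [← hh, Cochain.ofHom_comp, Cochain.comp_assoc_of_second_is_zero_cochain,
      mappingCone.inr_fst, Cochain.comp_zero, smul_zero, add_zero, Cocycle.δ_eq_zero] at e
    exact e
  let γ := Cocycle.homOf (Cocycle.mk c 1 rfl hc)
  refine ⟨γ, ⟨(Cochain.equivHomotopy _ _).symm ⟨-(h.comp (mappingCone.snd α) (add_zero (-1))), ?_⟩⟩⟩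
  rw [δ_neg, Cochain.ofHom_comp, Cocycle.cochain_ofHom_homOf_eq_coe,
    δ_comp h (mappingCone.snd α) (add_zero (-1)) 0 1 0 rfl rfl rfl, ← hh, mappingCone.δ_snd,
    Cochain.comp_neg, Cochain.ofHom_comp, Cochain.comp_assoc_of_second_is_zero_cochain,
    mappingCone.inr_snd, Cochain.comp_id, Int.negOnePow_zero, one_smul, neg_add, neg_neg,
    ← Cochain.comp_assoc_of_third_is_zero_cochain]
  abel

end Groth.Agent.H16Derived.ProjLift
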