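import Groth.Agent.H16Derived.GenAmpleZero
import Groth.Agent.H16Derived.MVPush.Main
import Groth.Agent.H16Derived.ProperSupp.Tensor
import Groth.Agent.H10Coh.SerreVanishing
import Groth.Agent.H10Coh.TensorBasics

/-! # Morphisms from the structure sheaf and global sections; iterated twists -/

set_option autoImplicit false
set_option linter.style.haveILetI false
set_option backward.isDefEq.respectTransparency false

universe u

open CategoryTheory CategoryTheory.Limits CategoryTheory.Pretriangulated AlgebraicGeometry Opposite TopologicalSpace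
open CochainComplex.HomComplex

attribute [local instance] HasDerivedCategory.standard

noncomputable section

namespace Groth.Agent.H16Derived.GenAmple

open Groth.Agent.H11Tilde Groth.Agent.H11Ample Groth.Agent.H10Coh
open Groth.Agent.H16Derived.QCohD
open Groth.Agent.H16Derived.KFlat Groth.Agent.H16Derived.KFlat.Stalk

variable {X : Scheme.{u}}

/-- If `H^i(RΓ E) = 0` there are no morphisms `O[-i] ⟶ E`. -/
theorem hom_eq_zero_of_rΓ [DCoh.HasRΓ X] {E : DCoh.D X} (i : ℤ)
    (h : IsZero ((DerivedCategory.homologyFunctor AddCommGrpCat.{u} i).obj ((DCoh.RΓ X).obj E)))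
    (φ : (DerivedCategory.singleFunctor X.Modules i).obj (freeSh (⊤ : X.Opens)) ⟶ E) : φ = 0 := by
  obtain ⟨I, hI, -, ⟨e⟩⟩ := MVPush.exists_rep E
  let G := ((DCoh.gammaAb X).mapHomologicalComplex (ComplexShape.up ℤ)).obj I
  have hG : G.ExactAt i := by
    rw [HomologicalComplex.exactAt_iff_isZero_homology]
    exact h.of_iso (((DerivedCategory.homologyFunctorFactors _ i).app G).symm ≪≫
      (DerivedCategory.homologyFunctor _ i).mapIso (MVPush.rΓObjIso X I e).symm)
  let S := (CochainComplex.singleFunctor X.Modules i).obj (freeSh (⊤ : X.Opens))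
  let q := DerivedCategory.quotientCompQhIso X.Modules
  let eS := (DerivedCategory.singleFunctorIsoCompQ X.Modules i).app (freeSh (⊤ : X.Opens))
  obtain ⟨g, hg⟩ := (CochainComplex.IsKInjective.Qh_map_bijective ((HomotopyCategory.quotient _ _).obj S) I).2
    ((q.app S).hom ≫ eS.inv ≫ φ ≫ e.inv ≫ (q.app I).inv)
  obtain ⟨ψ, rfl⟩ := (HomotopyCategory.quotient _ _).map_surjective g
  let f : freeSh (⊤ : X.Opens) ⟶ I.X i :=
    (HomologicalComplex.singleObjXSelf (ComplexShape.up ℤ) i _).inv ≫ ψ.f i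
  let x : Γ(I.X i, ⊤) := freeShEquiv ⊤ _ f
  have hx : (I.d i (i + 1)).app ⊤ x = 0 := by
    rw [← freeShEquiv_comp]
    have : f ≫ I.d i (i + 1) = 0 := by
      rw [Category.assoc, ψ.comm, (HomologicalComplex.isZero_single_obj_X _ _ _ _ (by omega : i + 1 ≠ i)).eq_of_tgt
        (S.d i (i + 1)) 0, zero_comp, comp_zero]
    rw [this, ← Limits.zero_comp (f := (0 : I.X (i + 1) ⟶ I.X (i + 1))) (X := freeSh (⊤ : X.Opens)), freeShEquiv_comp]
    rfl
  have hex := (ShortComplex.ab_exact_iff _).1 ((HomologicalComplex.exactAt_iff' G (i - 1) i (i + 1) (by simp) (by simp)).1 hG) x hx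
  obtain ⟨y, hy⟩ := hex
  change (I.d (i - 1) i).app ⊤ y = x at hy
  let f' : freeSh (⊤ : X.Opens) ⟶ I.X (i - 1) := (freeShEquiv ⊤ _).symm y
  have hf : f = f' ≫ I.d (i - 1) i := (freeShEquiv ⊤ _).injective (by
    show x = _
    refine ((freeShEquiv_comp ⊤ f' (I.d (i - 1) i)).trans ?_).symm
    exact (congrArg _ ((freeShEquiv ⊤ (I.X (i - 1))).apply_symm_apply y)).trans hy)
  let z : Cochain S I (-1) := Cochain.fromSingleMk f' (by omega)
  have hz : Cochain.ofHom ψ = δ (-1) 0 z + Cochain.ofHom 0 := by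
    rw [Cochain.ofHom_zero, add_zero, Cochain.δ_fromSingleMk f' _ 0 i (by omega)]
    refine (Cochain.fromSingleEquiv (add_zero i)).injective ?_
    rw [Cochain.fromSingleEquiv_fromSingleMk]
    show (HomologicalComplex.singleObjXSelf (ComplexShape.up ℤ) i _).inv ≫ (Cochain.ofHom ψ).v i i _ = _
    rw [Cochain.ofHom_v]
    exact hf
  have h0 : (HomotopyCategory.quotient _ _).map ψ = 0 := by
    rw [HomotopyCategory.eq_of_homotopy _ _ ((Cochain.equivHomotopy ψ 0).symm ⟨z, hz⟩), Functor.map_zero]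
  rw [h0, Functor.map_zero] at hg
  have h1 := hg.symm
  rw [← cancel_epi eS.inv, ← cancel_mono e.inv, ← cancel_epi (q.app S).hom, ← cancel_mono (q.app I).inv]
  simpa using h1

/-- `- ⊗^L M` for invertible `M` is the exact functor. -/
theorem nonempty_ltensorMod_tw (M : X.Modules) [DCoh.HasLTensorMod M] [PreservesFiniteLimits (tw M)]
    [PreservesFiniteColimits (tw M)] (E : DCoh.D X) :
    Nonempty ((DCoh.LTensorMod M).obj E ≅ (tw M).mapDerivedCategory.obj E) := by
  obtain ⟨P, -, hP, ⟨eP⟩⟩ := Dual.exists_rep E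
  exact ⟨(DCoh.LTensorMod M).mapIso eP.symm ≪≫ ltensorModObjIso M P hP ≪≫
    DerivedCategory.Q.mapIso ((NatIso.mapHomologicalComplex (tensorRightModIso M) (ComplexShape.up ℤ)).app P) ≪≫
    ((tw M).mapDerivedCategoryFactors.app P).symm ≪≫ (tw M).mapDerivedCategory.mapIso eP⟩

/-- Tensoring twice. -/
def twCompIso (A B : X.Modules) : tw A ⋙ tw B ≅ tw (CohB1.tensorMod A B) :=
  NatIso.ofComponents (fun F => H10Coh.Tw.assoc F A B) fun f =>
    congr_app (congr_app ((H15Site.ModTensor.tAssoc (O := X.sheaf)).hom.naturality f) A) B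

instance isIso_sig_id : IsIso (sig (𝟙 (Coh.structureModule X))) := by
  haveI : ∀ F, IsIso ((sig (𝟙 (Coh.structureModule X))).app F) := fun F => by
    show IsIso ((SecTwist.unitorR F).inv ≫ KoszTw.tensorMap (𝟙 F) (𝟙 _))
    unfold KoszTw.tensorMap
    infer_instance
  exact NatIso.isIso_of_isIso_app _

variable {L : X.Modules}

theorem exists_tn_iso (hL : PicF.IsInvertible L) [PreservesFiniteLimits (tw L)] [PreservesFiniteColimits (tw L)] :
    ∀ N : ℕ, ∃ A : X.Modules, Nonempty (A ≅ CohB1.tensorPow L N) ∧ ∀ C : CochainComplex X.Modules ℤ,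
      Nonempty ((TN (L := L) N).obj (DerivedCategory.Q.obj C) ≅
        DerivedCategory.Q.obj (((tw A).mapHomologicalComplex (ComplexShape.up ℤ)).obj C))
  | 0 => ⟨_, ⟨Iso.refl _⟩, fun C => ⟨DerivedCategory.Q.mapIso (HomologicalComplex.Hom.isoOfComponents
      (fun i => (asIso (sig (𝟙 (Coh.structureModule X)))).app (C.X i)) fun i j _ =>
        ((sig (𝟙 (Coh.structureModule X))).naturality (C.d i j)).symm)⟩⟩
  | N + 1 => by
      obtain ⟨A, ⟨a⟩, hA⟩ := exists_tn_iso hL N
      refine ⟨CohB1.tensorMod L A, ⟨H10Coh.Tw.commIso L A ≪≫ PicGrp.tensorModIso a (Iso.refl L)⟩, fun C => ?_⟩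
      obtain ⟨e⟩ := hA (((tw L).mapHomologicalComplex (ComplexShape.up ℤ)).obj C)
      exact ⟨(TN (L := L) N).mapIso ((tw L).mapDerivedCategoryFactors.app C) ≪≫ e ≪≫
        DerivedCategory.Q.mapIso (HomologicalComplex.Hom.isoOfComponents (fun i => (twCompIso L A).app (C.X i))
          fun i j _ => ((twCompIso L A).hom.naturality (C.d i j)).symm)⟩

theorem nonempty_tn_tw (hL : PicF.IsInvertible L) [PreservesFiniteLimits (tw L)] [PreservesFiniteColimits (tw L)]
    {M : X.Modules} [PreservesFiniteLimits (tw M)] [PreservesFiniteColimits (tw M)] (N : ℕ)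
    (e : CohB1.tensorPow L N ≅ M) (K : DCoh.D X) :
    Nonempty ((TN (L := L) N).obj K ≅ (tw M).mapDerivedCategory.obj K) := by
  obtain ⟨A, ⟨a⟩, hA⟩ := exists_tn_iso hL N
  let C := DerivedCategory.Q.objPreimage K
  let eC : DerivedCategory.Q.obj C ≅ K := DerivedCategory.Q.objObjPreimageIso K
  obtain ⟨b⟩ := hA C
  exact ⟨(TN (L := L) N).mapIso eC.symm ≪≫ b ≪≫
    DerivedCategory.Q.mapIso ((NatIso.mapHomologicalComplex ((DCoh.tensorBi (X := X)).flip.mapIso (a ≪≫ e))
      (ComplexShape.up ℤ)).app C) ≪≫ ((tw M).mapDerivedCategoryFactors.app C).symm ≪≫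
    (tw M).mapDerivedCategory.mapIso eC⟩

end Groth.Agent.H16Derived.GenAmple
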