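import Mathlib.Algebra.Homology.DerivedCategory.KInjective
import Mathlib.Algebra.Homology.DerivedCategory.TStructure
import Mathlib.Algebra.Homology.HomotopyCategory.HomComplexSingle
import Mathlib.Algebra.Homology.HomotopyCategory.HomComplexShift
import Mathlib.CategoryTheory.Abelian.Injective.Basic
import Mathlib.CategoryTheory.Abelian.Refinements
import Mathlib.Algebra.Homology.Refinements
import Groth.Agent.H16Derived.Resolution
import Mathlib.Algebra.Homology.HomotopyCategory.Plus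
import Mathlib.Algebra.Homology.Factorizations.CM5b

/-!
# Finite injective dimension of bounded below complexes
-/

universe w v u

open CategoryTheory CategoryTheory.Limits CochainComplex CochainComplex.HomComplex
open scoped ZeroObject

namespace Groth.Agent.H16Derived.InjDim

variable {A : Type u} [Category.{v} A] [Abelian A] [HasDerivedCategory.{w} A]

lemma exists_chain_map (I : CochainComplex A ℤ) [I.IsKInjective] (S : CochainComplex A ℤ)
    (φ : DerivedCategory.Q.obj S ⟶ DerivedCategory.Q.obj I) :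
    ∃ g : S ⟶ I, DerivedCategory.Q.map g = φ := by
  obtain ⟨u, hu⟩ := (IsKInjective.Qh_map_bijective ((HomotopyCategory.quotient _ _).obj S) I).2
    ((DerivedCategory.quotientCompQhIso A).hom.app S ≫ φ ≫
      (DerivedCategory.quotientCompQhIso A).inv.app I)
  obtain ⟨g, rfl⟩ := (HomotopyCategory.quotient _ _).map_surjective u
  refine ⟨g, ?_⟩
  have h := (DerivedCategory.quotientCompQhIso A).hom.naturality g
  rw [Functor.comp_map, hu, Category.assoc, Category.assoc, Iso.inv_hom_id_app,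
    Category.comp_id] at h
  exact ((cancel_epi _).1 h).symm

lemma homotopic_zero_of_Q_map (I : CochainComplex A ℤ) [I.IsKInjective] (S : CochainComplex A ℤ)
    (g : S ⟶ I) (hg : DerivedCategory.Q.map g = 0) : Nonempty (Homotopy g 0) := by
  refine ⟨HomotopyCategory.homotopyOfEq _ _ ((IsKInjective.Qh_map_bijective _ I).1 ?_)⟩
  rw [Functor.map_zero, Functor.map_zero]
  have h := (DerivedCategory.quotientCompQhIso A).hom.naturality g
  rw [hg, comp_zero] at h
  exact (cancel_mono ((DerivedCategory.quotientCompQhIso A).hom.app I)).1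
    (h.trans zero_comp.symm)

/-- Maps from a single object in degree zero into a shift of a complex of injectives vanishing
in that degree are zero. -/
lemma hom_shift_eq_zero_of_isZero (I : CochainComplex A ℤ) [I.IsKInjective] (Y : A) (i : ℤ)
    (hI : IsZero (I.X i))
    (φ : (DerivedCategory.singleFunctor A 0).obj Y ⟶ (DerivedCategory.Q.obj I)⟦i⟧) : φ = 0 := by
  let e₁ := (DerivedCategory.singleFunctorIsoCompQ A 0).app Y
  let e₂ := (DerivedCategory.Q.commShiftIso i).app I
  obtain ⟨g, hg⟩ := exists_chain_map (I⟦i⟧) _ (e₁.inv ≫ φ ≫ e₂.inv)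
  have hg0 : g = 0 := by
    ext p
    by_cases hp : p = 0
    · subst hp
      exact (IsZero.of_iso (hI) (I.shiftFunctorObjXIso i 0 i (by lia))).eq_of_tgt _ _
    · exact (HomologicalComplex.isZero_single_obj_X _ _ _ _ hp).eq_of_src _ _
  rw [hg0, Functor.map_zero] at hg
  rw [← cancel_epi e₁.inv, ← cancel_mono e₂.inv, comp_zero, zero_comp, Category.assoc, ← hg]

/-- Cycles become boundaries when the corresponding morphisms vanish. -/
lemma exists_boundary (I : CochainComplex A ℤ) [I.IsKInjective] (Y : A) (i : ℤ)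
    (hv : ∀ φ : (DerivedCategory.singleFunctor A 0).obj Y ⟶ (DerivedCategory.Q.obj I)⟦i⟧, φ = 0)
    (z : Y ⟶ I.X i) (hz : z ≫ I.d i (i + 1) = 0) :
    ∃ y : Y ⟶ I.X (i - 1), y ≫ I.d (i - 1) i = z := by
  let α : Cochain ((CochainComplex.singleFunctor A 0).obj Y) I i :=
    Cochain.fromSingleMk z (zero_add i)
  have hα : δ i (i + 1) α = 0 := by
    rw [Cochain.δ_fromSingleMk z (zero_add i) (i + 1) (i + 1) (zero_add _), hz,
      Cochain.fromSingleMk_zero]
  let c := (Cocycle.mk α (i + 1) rfl hα).rightShift i 0 (zero_add i)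
  let e₁ := (DerivedCategory.singleFunctorIsoCompQ A 0).app Y
  let e₂ := (DerivedCategory.Q.commShiftIso i).app I
  have hg : DerivedCategory.Q.map (Cocycle.homOf c) = 0 := by
    have := hv (e₁.hom ≫ DerivedCategory.Q.map (Cocycle.homOf c) ≫ e₂.hom)
    rw [← cancel_epi e₁.hom, ← cancel_mono e₂.hom, comp_zero, zero_comp, Category.assoc]
    exact this
  obtain ⟨H⟩ := homotopic_zero_of_Q_map _ _ _ hg
  obtain ⟨h, hh⟩ := Cochain.equivHomotopy _ _ H
  rw [Cocycle.cochain_ofHom_homOf_eq_coe, Cochain.ofHom_zero, add_zero] at hh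
  have hh' : α = i.negOnePow • δ (i - 1) i (h.rightUnshift (i - 1) (by lia)) := by
    have e := congrArg (fun w => Cochain.rightUnshift w i (zero_add i)) hh
    simp only [c, Cocycle.rightShift_coe, Cochain.rightUnshift_rightShift, Cocycle.mk_coe] at e
    rw [e, Cochain.δ_rightUnshift h (i - 1) (by lia) i 0 (zero_add i), smul_smul,
      Int.units_mul_self, one_smul]
  obtain ⟨y, hy⟩ := Cochain.fromSingleMk_surjective (h.rightUnshift (i - 1) (by lia)) (i - 1)
    (zero_add _)
  rw [← hy, Cochain.δ_fromSingleMk y (zero_add (i - 1)) i i (zero_add i)] at hh'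
  refine ⟨i.negOnePow • y, ?_⟩
  have := congrArg (Cochain.fromSingleEquiv (zero_add i)) hh'
  simp only [α, Units.smul_def, map_zsmul, Cochain.fromSingleEquiv_fromSingleMk] at this
  rw [this, Units.smul_def, Preadditive.zsmul_comp]

/-- A bounded below complex of injectives with vanishing `Hom` into its high shifts has a bounded
model of injectives. -/
lemma exists_truncation (I : CochainComplex A ℤ) (a : ℤ) [I.IsStrictlyGE a]
    (hI : ∀ n, Injective (I.X n)) (n₀ : ℤ)
    (hv : ∀ (Y : A) (i : ℤ), n₀ < i →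
      ∀ φ : (DerivedCategory.singleFunctor A 0).obj Y ⟶ (DerivedCategory.Q.obj I)⟦i⟧, φ = 0) :
    QuasiIso (I.ιTruncLE n₀) ∧ (∀ n, Injective ((I.truncLE n₀).X n)) := by
  have := CochainComplex.isKInjective_of_injective I a
  have hex : ∀ i, n₀ < i → I.ExactAt i := fun i hi => by
    rw [HomologicalComplex.exactAt_iff_exact_up_to_refinements _ (i - 1) i (i + 1) (by simp)
      (by simp)]
    intro Y z hz
    obtain ⟨y, hy⟩ := exists_boundary I Y i (hv Y i hi) z hz
    exact ⟨Y, 𝟙 Y, inferInstance, y, by rw [Category.id_comp, hy]⟩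
  refine ⟨(CochainComplex.quasiIso_ιTruncLE_iff I _).2
    ((CochainComplex.isLE_iff _ _).2 fun i hi => hex i hi), fun n => ?_⟩
  rcases lt_trichotomy n n₀ with h | h | h
  · exact Injective.of_iso (I.truncLEXIso n₀ n h).symm (hI n)
  · subst h
    obtain ⟨y, hy⟩ := exists_boundary I _ (n + 1) (hv _ _ (by lia)) (I.iCycles (n + 1)) (by simp)
    obtain ⟨s, hs⟩ : ∃ s : I.cycles (n + 1) ⟶ I.X n, s ≫ I.toCycles n (n + 1) = 𝟙 _ := by
      refine ⟨y ≫ (I.XIsoOfEq (add_sub_cancel_right n 1)).hom, ?_⟩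
      rw [← cancel_mono (I.iCycles (n + 1)), Category.assoc, I.toCycles_i, Category.assoc,
        HomologicalComplex.XIsoOfEq_hom_comp_d, hy, Category.id_comp]
    have h₀ : (𝟙 (I.X n) - I.toCycles n (n + 1) ≫ s) ≫ I.d n (n + 1) = 0 := by
      rw [Preadditive.sub_comp, Category.id_comp, ← I.toCycles_i n (n + 1), Category.assoc,
        reassoc_of% hs, sub_self]
    have := hI n
    have hc : Injective (I.cycles n) := Retract.injective (Y := I.X n)
      { i := I.iCycles n, r := I.liftCycles _ (n + 1) (by simp) h₀,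
        retract := by
          rw [← cancel_mono (I.iCycles n), Category.assoc, I.liftCycles_i, Category.id_comp,
            Preadditive.comp_sub, Category.comp_id, ← Category.assoc]
          have hz : I.iCycles n ≫ I.toCycles n (n + 1) = 0 := by
            rw [← cancel_mono (I.iCycles (n + 1)), Category.assoc, I.toCycles_i, I.iCycles_d,
              zero_comp]
          rw [hz, zero_comp, sub_zero] }
    exact Injective.of_iso (I.truncLEXIsoCycles n).symm hc
  · exact ((I.truncLE n₀).isZero_of_isStrictlyLE n₀ n h).injective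

theorem finite_iff [EnoughInjectives A] (K : CochainComplex A ℤ) (a : ℤ) [K.IsStrictlyGE a] :
    (∃ (I : CochainComplex A ℤ) (b c : ℤ) (f : K ⟶ I), I.IsStrictlyGE b ∧ I.IsStrictlyLE c ∧
        (∀ n : ℤ, Injective (I.X n)) ∧ QuasiIso f) ↔
      ∃ n₀ : ℤ, ∀ (Y : A) (i : ℤ), n₀ < i →
        ∀ φ : (DerivedCategory.singleFunctor A 0).obj Y ⟶ (DerivedCategory.Q.obj K)⟦i⟧, φ = 0 := by
  constructor
  · rintro ⟨I, b, c, f, _, _, hI, _⟩
    have := CochainComplex.isKInjective_of_injective I b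
    refine ⟨c, fun Y i hi φ => ?_⟩
    have h := hom_shift_eq_zero_of_isZero I Y i (I.isZero_of_isStrictlyLE c i hi)
      (φ ≫ (DerivedCategory.Q.map f)⟦i⟧')
    exact (cancel_mono ((DerivedCategory.Q.map f)⟦i⟧')).1 (h.trans zero_comp.symm)
  · rintro ⟨n₀, hv⟩
    obtain ⟨I, f, hGE, hI, -, hf⟩ := Resolution.exists_right_resolution (fun X : A => Injective X)
      ⟨0, isZero_zero A, inferInstance⟩
      (fun X => ⟨Injective.under X, Injective.ι X, inferInstance, inferInstance⟩) K a
    let m := max n₀ a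
    have hv' : ∀ (Y : A) (i : ℤ), m < i →
        ∀ φ : (DerivedCategory.singleFunctor A 0).obj Y ⟶ (DerivedCategory.Q.obj I)⟦i⟧, φ = 0 := by
      intro Y i hi φ
      have h := hv Y i (by omega) (φ ≫ (inv (DerivedCategory.Q.map f))⟦i⟧')
      exact (cancel_mono ((inv (DerivedCategory.Q.map f))⟦i⟧')).1 (h.trans zero_comp.symm)
    obtain ⟨hq, hinj⟩ := exists_truncation I a hI m hv'
    have hGE' : (I.truncLE m).IsStrictlyGE a := inferInstance
    have := CochainComplex.isKInjective_of_injective (I.truncLE m) a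
    obtain ⟨g, hg⟩ := exists_chain_map (I.truncLE m) K
      (DerivedCategory.Q.map f ≫ inv (DerivedCategory.Q.map (I.ιTruncLE m)))
    refine ⟨I.truncLE m, a, m, g, hGE', inferInstance, hinj, ?_⟩
    rw [← DerivedCategory.isIso_Q_map_iff_quasiIso, hg]
    infer_instance

end Groth.Agent.H16Derived.InjDim

namespace Groth.Agent.H16Derived.InjDim

open CategoryTheory.Pretriangulated

variable {A : Type u} [Category.{v} A] [Abelian A] [HasDerivedCategory.{w} A]

/-- Objects with a bounded model by injectives are closed under extensions. -/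
theorem extension (T : Triangle (DerivedCategory A)) (hT : T ∈ distTriang (DerivedCategory A))
    (I₁ : CochainComplex A ℤ) (b₁ c₁ : ℤ) [I₁.IsStrictlyGE b₁] [I₁.IsStrictlyLE c₁]
    (h₁ : ∀ n, Injective (I₁.X n)) (e₁ : T.obj₁ ≅ DerivedCategory.Q.obj I₁)
    (I₃ : CochainComplex A ℤ) (b₃ c₃ : ℤ) [I₃.IsStrictlyGE b₃] [I₃.IsStrictlyLE c₃]
    (h₃ : ∀ n, Injective (I₃.X n)) (e₃ : T.obj₃ ≅ DerivedCategory.Q.obj I₃) :
    ∃ (I : CochainComplex A ℤ) (b c : ℤ), I.IsStrictlyGE b ∧ I.IsStrictlyLE c ∧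
        (∀ n : ℤ, Injective (I.X n)) ∧ Nonempty (T.obj₂ ≅ DerivedCategory.Q.obj I) := by
  have := I₁.isStrictlyGE_shift b₁ 1 (b₁ - 1) (by lia)
  have := I₁.isStrictlyLE_shift c₁ 1 (c₁ - 1) (by lia)
  have hinj : ∀ n, Injective ((I₁⟦(1 : ℤ)⟧).X n) := fun n => h₁ _
  have := CochainComplex.isKInjective_of_injective (I₁⟦(1 : ℤ)⟧) (b₁ - 1)
  let e₁' : T.obj₁⟦(1 : ℤ)⟧ ≅ DerivedCategory.Q.obj (I₁⟦(1 : ℤ)⟧) :=
    (CategoryTheory.shiftFunctor _ (1 : ℤ)).mapIso e₁ ≪≫ ((DerivedCategory.Q.commShiftIso (1 : ℤ)).app I₁).symm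
  obtain ⟨g, hg⟩ := exists_chain_map (I₁⟦(1 : ℤ)⟧) I₃ (e₃.inv ≫ T.mor₃ ≫ e₁'.hom)
  let M := mappingCone g
  let b := min (b₃ - 1) (b₁ - 1)
  have hMGE : M.IsStrictlyGE b := isStrictlyGE_mappingCone g b₃ (b₁ - 1) b (by simp [b]) (by simp [b])
  let c := max c₃ c₁
  have hMLE : M.IsStrictlyLE c := by
    rw [CochainComplex.isStrictlyLE_iff]
    intro i hi
    rw [mappingCone.isZero_X_iff]
    exact ⟨I₃.isZero_of_isStrictlyLE c₃ _ (by omega),
      (I₁⟦(1 : ℤ)⟧).isZero_of_isStrictlyLE (c₁ - 1) _ (by omega)⟩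
  have := M.isStrictlyGE_shift b (-1) (b + 1) (by lia)
  have := M.isStrictlyLE_shift c (-1) (c + 1) (by lia)
  refine ⟨M⟦(-1 : ℤ)⟧, b + 1, c + 1, inferInstance, inferInstance, fun n => ?_, ?_⟩
  · change Injective (M.X _)
    exact Injective.of_iso (HomologicalComplex.homotopyCofiber.XIsoBiprod g _ _ rfl).symm
      (@CategoryTheory.Injective.instBiprod _ _ _ _ _ _ (h₃ _) (hinj _))
  · have hT' := rot_of_distTriang _ (rot_of_distTriang _ hT)
    obtain ⟨i⟩ : Nonempty (T.obj₂⟦(1 : ℤ)⟧ ≅ DerivedCategory.Q.obj M) :=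
      ⟨Triangle.π₃.mapIso (isoTriangleOfIso₁₂ T.rotate.rotate _ hT'
        (DerivedCategory.mappingCone_triangle_distinguished g) e₃ e₁' (by
          change T.mor₃ ≫ e₁'.hom = e₃.hom ≫ DerivedCategory.Q.map g
          rw [hg, Iso.hom_inv_id_assoc]))⟩
    exact ⟨(shiftShiftNeg T.obj₂ (1 : ℤ)).symm ≪≫ (CategoryTheory.shiftFunctor _ (-1 : ℤ)).mapIso i ≪≫
      ((DerivedCategory.Q.commShiftIso (-1 : ℤ)).app M).symm⟩

end Groth.Agent.H16Derived.InjDim
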