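import Groth.Agent.H16Derived.KInjRes.Products
import Mathlib.Algebra.Homology.Functor
import Mathlib.Algebra.Homology.DerivedCategory.Fractions
import Mathlib.CategoryTheory.Abelian.GrothendieckAxioms.Basic

/-!
# Countable products in derived categories with exact products
-/

set_option autoImplicit false
set_option linter.style.haveILetI false

universe w v u

open CategoryTheory CategoryTheory.Limits HomologicalComplex

namespace Groth.Agent.H16Derived.QProd

variable {B : Type u} [Category.{v} B] [Abelian B]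

/-- The complex of functors attached to a sequence of complexes. -/
def seqCx (K : ℕ → CochainComplex B ℤ) : CochainComplex (Discrete ℕ ⥤ B) ℤ where
  X p := Discrete.functor fun n => (K n).X p
  d p q := Discrete.natTrans fun n => (K n.as).d p q
  shape p q h := by ext n; exact (K n.as).shape p q h
  d_comp_d' p q r _ _ := by ext n; exact (K n.as).d_comp_d p q r

/-- The map of complexes of functors attached to a sequence of maps. -/
def seqMap {K K' : ℕ → CochainComplex B ℤ} (s : ∀ n, K n ⟶ K' n) : seqCx K ⟶ seqCx K' where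
  f p := Discrete.natTrans fun n => (s n.as).f p
  comm' p q _ := by ext n; exact (s n.as).comm p q

lemma quasiIso_seqMap {K K' : ℕ → CochainComplex B ℤ} (s : ∀ n, K n ⟶ K' n)
    (hs : ∀ n, QuasiIso (s n)) : QuasiIso (seqMap s) :=
  (HomologicalComplex.quasiIso_iff_evaluation _).2 fun t => hs t.as

variable [HasProductsOfShape ℕ B] [(lim : (Discrete ℕ ⥤ B) ⥤ B).PreservesEpimorphisms]

/-- The degreewise product of a sequence of complexes. -/
noncomputable def prodFan (K : ℕ → CochainComplex B ℤ) : Fan K :=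
  Fan.mk (((lim : (Discrete ℕ ⥤ B) ⥤ B).mapHomologicalComplex _).obj (seqCx K)) fun n =>
    { f := fun p => limit.π ((seqCx K).X p) ⟨n⟩
      comm' := fun p q _ => (limMap_π ((seqCx K).d p q) ⟨n⟩).symm }

noncomputable def isLimitProdFan (K : ℕ → CochainComplex B ℤ) : IsLimit (prodFan K) :=
  Fan.IsLimit.mk _
    (fun s =>
      { f := fun p => limit.lift ((seqCx K).X p) ⟨_, Discrete.natTrans fun n => (s.proj n.as).f p⟩
        comm' := fun p q _ => limit.hom_ext fun ⟨n⟩ => by
          refine (Category.assoc _ _ _).trans ?_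
          refine (congrArg (_ ≫ ·) (limMap_π ((seqCx K).d p q) ⟨n⟩)).trans ?_
          refine ((Category.assoc _ _ _).symm.trans (congrArg (· ≫ _) (limit.lift_π _ _))).trans ?_
          refine ((s.proj n).comm p q).trans ?_
          exact ((congrArg (s.pt.d p q ≫ ·) (limit.lift_π _ _)).symm.trans (Category.assoc _ _ _).symm) })
    (fun s n => by ext p; exact limit.lift_π _ _)
    (fun s m hm => by
      ext p
      refine limit.hom_ext fun ⟨n⟩ => ?_
      refine (congrArg (fun t => HomologicalComplex.Hom.f t p) (hm n)).trans ?_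
      exact (limit.lift_π (⟨s.pt.X p, Discrete.natTrans fun n => (s.proj n.as).f p⟩ : Cone ((seqCx K).X p)) ⟨n⟩).symm)

/-- The map of degreewise products. -/
noncomputable def prodMap {K K' : ℕ → CochainComplex B ℤ} (s : ∀ n, K n ⟶ K' n) :
    (prodFan K).pt ⟶ (prodFan K').pt :=
  ((lim : (Discrete ℕ ⥤ B) ⥤ B).mapHomologicalComplex _).map (seqMap s)

lemma prodMap_proj {K K' : ℕ → CochainComplex B ℤ} (s : ∀ n, K n ⟶ K' n) (n : ℕ) :
    prodMap s ≫ (prodFan K').proj n = (prodFan K).proj n ≫ s n := by
  ext p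
  exact limMap_π ((seqMap s).f p) ⟨n⟩

lemma quasiIso_prodMap {K K' : ℕ → CochainComplex B ℤ} (s : ∀ n, K n ⟶ K' n)
    (hs : ∀ n, QuasiIso (s n)) : QuasiIso (prodMap s) := by
  haveI := hasExactLimitsOfShape_of_preservesEpi (J := Discrete ℕ) (C := B)
  haveI := quasiIso_seqMap s hs
  haveI : (lim : (Discrete ℕ ⥤ B) ⥤ B).Additive := by
    haveI := preservesBinaryBiproducts_of_preservesBinaryProducts (lim : (Discrete ℕ ⥤ B) ⥤ B)
    exact Functor.additive_of_preservesBinaryBiproducts _
  exact quasiIso_map_of_preservesHomology _ (lim : (Discrete ℕ ⥤ B) ⥤ B)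

/-- Quasi-isomorphisms out of a product of complexes. -/
lemma exists_qis_out {K K' : ℕ → CochainComplex B ℤ} (c : Fan K) (hc : IsLimit c)
    (s : ∀ n, K n ⟶ K' n) (hs : ∀ n, QuasiIso (s n)) :
    ∃ u : c.pt ⟶ (prodFan K').pt, QuasiIso u ∧ ∀ n, u ≫ (prodFan K').proj n = c.proj n ≫ s n := by
  let e := hc.conePointUniqueUpToIso (isLimitProdFan K)
  haveI := quasiIso_prodMap s hs
  refine ⟨e.hom ≫ prodMap s, inferInstance, fun n => ?_⟩
  rw [Category.assoc, prodMap_proj, ← Category.assoc]
  exact congrArg (· ≫ s n) (hc.conePointUniqueUpToIso_hom_comp (isLimitProdFan K) ⟨n⟩)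

variable [HasDerivedCategory.{w} B]

lemma isIso_Qh_map {K L : CochainComplex B ℤ} (s : K ⟶ L) [QuasiIso s] :
    IsIso (DerivedCategory.Qh.map ((HomotopyCategory.quotient B (ComplexShape.up ℤ)).map s)) :=
  Localization.inverts DerivedCategory.Qh (HomotopyCategory.quasiIso B (ComplexShape.up ℤ)) _
    ((HomotopyCategory.quotient_map_mem_quasiIso_iff s).2 ‹_›)

local notation "q" => HomotopyCategory.quotient B (ComplexShape.up ℤ)

/-- The localization functor sends countable products of complexes to products. -/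
theorem nonempty_isLimit (K : ℕ → CochainComplex B ℤ) (c : Fan K) (hc : IsLimit c) :
    Nonempty (IsLimit (Fan.mk (DerivedCategory.Qh.obj ((q).obj c.pt)) (fun n =>
      DerivedCategory.Qh.map ((q).map (c.proj n))) :
        Fan fun n => DerivedCategory.Qh.obj ((q).obj (K n)))) := by
  let W := HomotopyCategory.quasiIso B (ComplexShape.up ℤ)
  haveI : W.HasRightCalculusOfFractions := by
    dsimp [W]
    rw [HomotopyCategory.quasiIso_eq_trW_subcategoryAcyclic]
    infer_instance
  have ex : ∀ (M : CochainComplex B ℤ)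
      (f : ∀ n, DerivedCategory.Qh.obj ((q).obj M) ⟶ DerivedCategory.Qh.obj ((q).obj (K n))),
      ∃ m : DerivedCategory.Qh.obj ((q).obj M) ⟶ DerivedCategory.Qh.obj ((q).obj c.pt),
        ∀ n, m ≫ DerivedCategory.Qh.map ((q).map (c.proj n)) = f n := by
    intro M f
    have h : ∀ n, ∃ (K' : CochainComplex B ℤ) (g : M ⟶ K') (s : K n ⟶ K') (_ : QuasiIso s),
        f n ≫ DerivedCategory.Qh.map ((q).map s) = DerivedCategory.Qh.map ((q).map g) := by
      intro n
      obtain ⟨φ, hφ⟩ := Localization.exists_leftFraction DerivedCategory.Qh W (f n)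
      obtain ⟨g, hg⟩ := (q).map_surjective (X := M) (Y := φ.Y'.as) φ.f
      obtain ⟨s, hs⟩ := (q).map_surjective (X := K n) (Y := φ.Y'.as) φ.s
      refine ⟨φ.Y'.as, g, s, (HomotopyCategory.quotient_map_mem_quasiIso_iff s).1 (hs ▸ φ.hs), ?_⟩
      rw [hφ, hs, hg]
      exact φ.map_comp_map_s _ _
    choose K' g s hs hfg using h
    obtain ⟨u, hu, hup⟩ := exists_qis_out c hc s hs
    haveI := isIso_Qh_map u
    refine ⟨DerivedCategory.Qh.map ((q).map (Fan.IsLimit.lift (isLimitProdFan K') g)) ≫
      inv (DerivedCategory.Qh.map ((q).map u)), fun n => ?_⟩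
    haveI := hs n
    haveI := isIso_Qh_map (s n)
    rw [← cancel_mono (DerivedCategory.Qh.map ((q).map (s n))), hfg, Category.assoc, Category.assoc,
      ← Functor.map_comp, ← Functor.map_comp, ← hup n, Functor.map_comp, Functor.map_comp,
      IsIso.inv_hom_id_assoc, ← Functor.map_comp, ← Functor.map_comp, Fan.IsLimit.fac]
  have uniq : ∀ (M : CochainComplex B ℤ)
      (m : DerivedCategory.Qh.obj ((q).obj M) ⟶ DerivedCategory.Qh.obj ((q).obj c.pt)),
      (∀ n, m ≫ DerivedCategory.Qh.map ((q).map (c.proj n)) = 0) → m = 0 := by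
    intro M m hm
    obtain ⟨φ, hφ⟩ := Localization.exists_rightFraction DerivedCategory.Qh W m
    haveI := Localization.inverts DerivedCategory.Qh W _ φ.hs
    have hφ' : DerivedCategory.Qh.map φ.s ≫ m = DerivedCategory.Qh.map φ.f := by
      rw [hφ]; exact φ.map_s_comp_map _ _
    obtain ⟨g, hg⟩ := (q).map_surjective (X := φ.X'.as) (Y := c.pt) φ.f
    have hg0 : ∀ n, DerivedCategory.Qh.map ((q).map (g ≫ c.proj n)) = DerivedCategory.Qh.map 0 := fun n => by
      rw [Functor.map_comp, Functor.map_comp, hg, Functor.map_zero]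
      exact ((congrArg (· ≫ DerivedCategory.Qh.map ((q).map (c.proj n))) hφ'.symm).trans
        (Category.assoc _ _ _)).trans ((congrArg (DerivedCategory.Qh.map φ.s ≫ ·) (hm n)).trans comp_zero)
    have hh : ∀ n, ∃ (K' : CochainComplex B ℤ) (t : K n ⟶ K') (_ : QuasiIso t),
        (q).map ((g ≫ c.proj n) ≫ t) = 0 := fun n => by
      obtain ⟨Z, t, ht, e⟩ := (MorphismProperty.map_eq_iff_postcomp DerivedCategory.Qh W _ _).1 (hg0 n)
      obtain ⟨t', ht'⟩ := (q).map_surjective (X := K n) (Y := Z.as) t
      refine ⟨Z.as, t', (HomotopyCategory.quotient_map_mem_quasiIso_iff t').1 (ht' ▸ ht), ?_⟩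
      rw [Functor.map_comp, ht']
      exact e.trans zero_comp
    choose K' t ht hgt using hh
    obtain ⟨u, hu, hup⟩ := exists_qis_out c hc t ht
    haveI := isIso_Qh_map u
    obtain ⟨H⟩ := KInjRes.nonempty_homotopy_zero_of_fan (prodFan K') (isLimitProdFan K') (g ≫ u) fun n =>
      ⟨HomotopyCategory.homotopyOfEq _ _ (by
        rw [Category.assoc, hup n, ← Category.assoc, hgt n]
        exact ((q).map_zero _ _).symm)⟩
    have h0 : DerivedCategory.Qh.map ((q).map g) ≫ DerivedCategory.Qh.map ((q).map u) = 0 := by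
      rw [← Functor.map_comp, ← Functor.map_comp, HomotopyCategory.eq_of_homotopy _ _ H,
        Functor.map_zero, Functor.map_zero]
    rw [← cancel_epi (DerivedCategory.Qh.map φ.s), comp_zero, hφ', ← hg,
      ← cancel_mono (DerivedCategory.Qh.map ((q).map u))]
    exact h0.trans zero_comp.symm
  have hrep : ∀ Z : DerivedCategory B, ∃ M : CochainComplex B ℤ,
      Nonempty (DerivedCategory.Qh.obj ((q).obj M) ≅ Z) := fun Z => by
    haveI := Localization.essSurj DerivedCategory.Qh W
    exact ⟨(DerivedCategory.Qh.objPreimage Z).as, ⟨DerivedCategory.Qh.objObjPreimageIso Z⟩⟩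
  choose M e using hrep
  choose m hm using fun s : Fan fun n => DerivedCategory.Qh.obj ((q).obj (K n)) =>
    ex (M s.pt) fun n => (e s.pt).some.hom ≫ s.proj n
  refine ⟨Fan.IsLimit.mk _ (fun s => (e s.pt).some.inv ≫ m s) (fun s n => ?_) fun s m' hm' => ?_⟩
  · exact (Category.assoc _ _ _).trans (((congrArg ((e s.pt).some.inv ≫ ·) (hm s n))).trans
      (Iso.inv_hom_id_assoc _ _))
  · rw [Iso.eq_inv_comp, ← sub_eq_zero]
    refine uniq _ _ fun n => ?_
    rw [Preadditive.sub_comp, hm s n, Category.assoc, sub_eq_zero]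
    exact congrArg ((e s.pt).some.hom ≫ ·) (hm' n)

end Groth.Agent.H16Derived.QProd
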