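import Groth.Prelude.Def_DCoh2
import Groth.Agent.H16Derived.QProd
import Groth.Agent.H16Derived.RDerived
import Mathlib.Algebra.Homology.DerivedCategory.ExactFunctor

/-!
# Right derived functors commute with derived limits
-/

set_option autoImplicit false
set_option linter.style.haveILetI false

universe w w' v v' u u'

open CategoryTheory CategoryTheory.Limits CategoryTheory.Pretriangulated

namespace Groth.Agent.H16Derived.RlimRF

variable {A : Type u} [Category.{v} A] [Abelian A] [IsGrothendieckAbelian.{v} A]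
  [HasDerivedCategory.{w} A]

/-- The fan of projections in the derived category from a product of K-injective complexes. -/
noncomputable def isLimitKInj {T : Type} (I : T → CochainComplex A ℤ) (hI : ∀ i, (I i).IsKInjective)
    (c : Fan I) (hc : IsLimit c) :
    IsLimit (Fan.mk (DerivedCategory.Qh.obj ((HomotopyCategory.quotient A (ComplexShape.up ℤ)).obj c.pt))
      (fun i => DerivedCategory.Qh.map ((HomotopyCategory.quotient A (ComplexShape.up ℤ)).map (c.proj i))) :
      Fan fun i => DerivedCategory.Qh.obj ((HomotopyCategory.quotient A (ComplexShape.up ℤ)).obj (I i))) :=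
  Nonempty.some (by
    let q := HomotopyCategory.quotient A (ComplexShape.up ℤ)
    have hb : ∀ (J : CochainComplex A ℤ) [J.IsKInjective] (Y : HomotopyCategory A (ComplexShape.up ℤ)),
        Function.Bijective (DerivedCategory.Qh.map : (Y ⟶ q.obj J) → _) := fun J _ Y =>
      CochainComplex.IsKInjective.Qh_map_bijective Y J
    haveI := KInjRes.isKInjective_of_fan c hc hI
    have hrep : ∀ Z : DerivedCategory A, ∃ M : CochainComplex A ℤ,
        Nonempty (DerivedCategory.Qh.obj (q.obj M) ≅ Z) := fun Z => by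
      haveI := Localization.essSurj DerivedCategory.Qh (HomotopyCategory.quasiIso A (ComplexShape.up ℤ))
      exact ⟨(DerivedCategory.Qh.objPreimage Z).as, ⟨DerivedCategory.Qh.objObjPreimageIso Z⟩⟩
    choose M e using hrep
    have hex : ∀ s : Fan fun i => DerivedCategory.Qh.obj (q.obj (I i)),
        ∃ m : s.pt ⟶ DerivedCategory.Qh.obj (q.obj c.pt),
          ∀ i, m ≫ DerivedCategory.Qh.map (q.map (c.proj i)) = s.proj i := fun s => by
      choose g hg using fun i =>
        haveI := hI i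
        (hb (I i) (q.obj (M s.pt))).2 ((e s.pt).some.hom ≫ s.proj i)
      choose g' hg' using fun i => q.map_surjective (g i)
      refine ⟨(e s.pt).some.inv ≫ DerivedCategory.Qh.map (q.map (Fan.IsLimit.lift hc g')), fun i => ?_⟩
      rw [Category.assoc, ← Functor.map_comp, ← Functor.map_comp, Fan.IsLimit.fac, hg', hg]
      simp
    choose m hm using hex
    refine ⟨Fan.IsLimit.mk _ m hm fun s m' hm' => ?_⟩
    rw [← cancel_epi (e s.pt).some.hom]
    obtain ⟨g₁, hg₁⟩ := (hb c.pt (q.obj (M s.pt))).2 ((e s.pt).some.hom ≫ m')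
    obtain ⟨g₂, hg₂⟩ := (hb c.pt (q.obj (M s.pt))).2 ((e s.pt).some.hom ≫ m s)
    obtain ⟨f₁, rfl⟩ := q.map_surjective g₁
    obtain ⟨f₂, rfl⟩ := q.map_surjective g₂
    obtain ⟨H⟩ := KInjRes.nonempty_homotopy_zero_of_fan c hc (f₁ - f₂) fun i => by
      haveI := hI i
      refine ⟨HomotopyCategory.homotopyOfEq _ _ ?_⟩
      rw [Functor.map_zero, Preadditive.sub_comp, Functor.map_sub, sub_eq_zero]
      refine (hb (I i) _).1 ?_
      simp only [q, Functor.map_comp]
      erw [hg₁, hg₂, Category.assoc, Category.assoc]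
      exact congrArg ((e s.pt).some.hom ≫ ·) ((hm' i).trans (hm s i).symm)
    rw [← hg₁, ← hg₂]
    refine congrArg DerivedCategory.Qh.map ?_
    rw [← sub_eq_zero, ← Functor.map_sub, HomotopyCategory.eq_of_homotopy _ _ H, Functor.map_zero])

lemma exists_kInjective_iso (X : DerivedCategory A) :
    ∃ (I : CochainComplex A ℤ) (_ : I.IsKInjective),
      Nonempty (X ≅ DerivedCategory.Qh.obj ((HomotopyCategory.quotient A (ComplexShape.up ℤ)).obj I)) := by
  obtain ⟨I, hI, ⟨e⟩⟩ := KInjRes.exists_kInjective_iso X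
  exact ⟨I, hI, ⟨e ≪≫ ((DerivedCategory.quotientCompQhIso A).app I).symm⟩⟩

variable {B : Type u'} [Category.{v'} B] [Abelian B] [HasDerivedCategory.{w'} B]
  [HasProductsOfShape ℕ B] [(lim : (Discrete ℕ ⥤ B) ⥤ B).PreservesEpimorphisms]
  (F : A ⥤ B) [F.Additive] [PreservesLimitsOfShape (Discrete ℕ) F]

theorem isRlim_map (G : DerivedCategory A ⥤ DerivedCategory B)
    (α : F.mapHomotopyCategory (ComplexShape.up ℤ) ⋙ DerivedCategory.Qh ⟶ DerivedCategory.Qh ⋙ G)
    [G.IsRightDerivedFunctor α (HomotopyCategory.quasiIso A (ComplexShape.up ℤ))]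
    (K : ℕ → DerivedCategory A) (t : ∀ n, K (n + 1) ⟶ K n) (L : DerivedCategory A) [HasProduct K]
    [HasProduct fun n => G.obj (K n)] (hL : DCoh.IsRlim K t L) :
    DCoh.IsRlim (fun n => G.obj (K n)) (fun n => G.map (t n)) (G.obj L) := by
  obtain ⟨a, c, hT⟩ := hL
  let qA := HomotopyCategory.quotient A (ComplexShape.up ℤ)
  let qB := HomotopyCategory.quotient B (ComplexShape.up ℤ)
  let H := F.mapHomotopyCategory (ComplexShape.up ℤ) ⋙ DerivedCategory.Qh
  choose I hI e using fun n => exists_kInjective_iso (K n)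
  have hb : ∀ (X : HomotopyCategory A (ComplexShape.up ℤ)),
      (HomotopyCategory.subcategoryAcyclic A).rightOrthogonal X → IsIso (α.app X) := fun X hX => by
    haveI : H.HasPointwiseRightDerivedFunctor (HomotopyCategory.quasiIso A (ComplexShape.up ℤ)) :=
      RDerived.hasPointwiseRightDerivedFunctor_of_resolutions DerivedCategory.Qh _ H fun Y => by
        obtain ⟨N, j, h⟩ := KInjRes.exists_resolution_functor (A := A)
        obtain ⟨Y, rfl⟩ := HomotopyCategory.quotient_obj_surjective Y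
        haveI := (h Y).2.2.1
        exact ⟨_, qA.map (j.app Y), (HomotopyCategory.quotient_map_mem_quasiIso_iff _).2 (h Y).2.1,
          fun Z => CochainComplex.IsKInjective.Qh_map_bijective Z _⟩
    exact RDerived.isIso_unit_app_of_bijective DerivedCategory.Qh
      (HomotopyCategory.quasiIso A (ComplexShape.up ℤ)) H G α X
      fun Y => hX.map_bijective_of_isTriangulated (DerivedCategory.Qh (C := A)) Y
  have hI' : ∀ n, (HomotopyCategory.subcategoryAcyclic A).rightOrthogonal (qA.obj (I n)) := fun n =>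
    haveI := hI n
    CochainComplex.IsKInjective.rightOrthogonal _
  choose τ' hτ' using fun n =>
    haveI := hI n
    (CochainComplex.IsKInjective.Qh_map_bijective (qA.obj (I (n + 1))) (I n)).2
      ((e (n + 1)).some.inv ≫ t n ≫ (e n).some.hom)
  choose τ hτ using fun n => qA.map_surjective (τ' n)
  have hQτ : ∀ n, DerivedCategory.Qh.map (qA.map (τ n)) = (e (n + 1)).some.inv ≫ t n ≫ (e n).some.hom :=
    fun n => by rw [hτ, hτ']
  let P : CochainComplex A ℤ := ∏ᶜ I
  let δ : P ⟶ P := Pi.lift fun n => Pi.π I n - Pi.π I (n + 1) ≫ τ n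
  have hδ : ∀ n, δ ≫ Pi.π I n = Pi.π I n - Pi.π I (n + 1) ≫ τ n := fun n => Pi.lift_π _ _
  haveI : CochainComplex.IsKInjective P := KInjRes.isKInjective_of_fan _ (productIsProduct I) hI
  have hP : (HomotopyCategory.subcategoryAcyclic A).rightOrthogonal (qA.obj P) :=
    CochainComplex.IsKInjective.rightOrthogonal _
  let fA : Fan fun n => DerivedCategory.Qh.obj (qA.obj (I n)) :=
    Fan.mk (DerivedCategory.Qh.obj (qA.obj P)) fun n => DerivedCategory.Qh.map (qA.map (Pi.π I n))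
  have hfA : IsLimit fA := isLimitKInj I hI _ (productIsProduct I)
  let b₀ : (∏ᶜ K) ⟶ DerivedCategory.Qh.obj (qA.obj P) :=
    Fan.IsLimit.lift hfA fun n => Pi.π K n ≫ (e n).some.hom
  let b₁ : DerivedCategory.Qh.obj (qA.obj P) ⟶ ∏ᶜ K :=
    Pi.lift fun n => DerivedCategory.Qh.map (qA.map (Pi.π I n)) ≫ (e n).some.inv
  have hb₀ : ∀ n, b₀ ≫ DerivedCategory.Qh.map (qA.map (Pi.π I n)) = Pi.π K n ≫ (e n).some.hom :=
    fun n => Fan.IsLimit.fac hfA _ n
  let b : (∏ᶜ K) ≅ DerivedCategory.Qh.obj (qA.obj P) :=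
    { hom := b₀
      inv := b₁
      hom_inv_id := Pi.hom_ext _ _ fun n => by simp [b₁, reassoc_of% (hb₀ n)]
      inv_hom_id := Fan.IsLimit.hom_ext hfA _ _ fun n => by
        show (b₁ ≫ b₀) ≫ DerivedCategory.Qh.map (qA.map (Pi.π I n)) = 𝟙 _ ≫ _
        simp [hb₀, b₁]
        rfl }
  have hbδ : (Pi.lift fun n => Pi.π K n - Pi.π K (n + 1) ≫ t n) ≫ b₀ =
      b₀ ≫ DerivedCategory.Qh.map (qA.map δ) := by
    refine Fan.IsLimit.hom_ext hfA _ _ fun n => ?_
    show (_ ≫ b₀) ≫ DerivedCategory.Qh.map (qA.map (Pi.π I n)) =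
      (b₀ ≫ DerivedCategory.Qh.map (qA.map δ)) ≫ DerivedCategory.Qh.map (qA.map (Pi.π I n))
    rw [Category.assoc, Category.assoc, hb₀, ← Functor.map_comp, ← Functor.map_comp, hδ,
      Functor.map_sub, Functor.map_sub, Functor.map_comp, Functor.map_comp, Preadditive.comp_sub,
      hb₀, reassoc_of% (hb₀ (n + 1)), hQτ]
    simp
  obtain ⟨C', g', h', hC⟩ := distinguished_cocone_triangle (qA.map δ)
  let TK := (Triangle.mk (qA.map δ) g' h').invRotate
  have hTK : TK ∈ distTriang _ := inv_rot_of_distTriang _ hC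
  have hX₁ : (HomotopyCategory.subcategoryAcyclic A).rightOrthogonal TK.obj₁ :=
    (HomotopyCategory.subcategoryAcyclic A).rightOrthogonal.ext_of_isTriangulatedClosed₁ _ hTK hP hP
  let TL := Triangle.mk a (Pi.lift fun n => Pi.π K n - Pi.π K (n + 1) ≫ t n) c
  obtain ⟨a', ha'₁, ha'₂⟩ := complete_distinguished_triangle_morphism₁ TL
    (DerivedCategory.Qh.mapTriangle.obj TK) hT (DerivedCategory.Qh.map_distinguished TK hTK) b₀ b₀ hbδ
  let ψ : TL ⟶ DerivedCategory.Qh.mapTriangle.obj TK := Triangle.homMk _ _ a' b₀ b₀ ha'₁ hbδ ha'₂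
  haveI : IsIso a' := isIso₁_of_isIso₂₃ ψ hT (DerivedCategory.Qh.map_distinguished TK hTK)
    b.isIso_hom b.isIso_hom
  haveI := hb _ hX₁
  let θ : H.obj TK.obj₁ ≅ G.obj L := asIso (α.app TK.obj₁) ≪≫ G.mapIso (asIso a').symm
  let FP : CochainComplex B ℤ := (F.mapHomologicalComplex _).obj P
  let fB : Fan fun n => (F.mapHomologicalComplex (ComplexShape.up ℤ)).obj (I n) :=
    Fan.mk FP fun n => (F.mapHomologicalComplex _).map (Pi.π I n)
  have hfB : IsLimit fB := by
    refine Nonempty.some ?_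
    haveI : PreservesLimit (Discrete.functor I) (F.mapHomologicalComplex (ComplexShape.up ℤ)) :=
      ⟨fun {d} hd => ⟨HomologicalComplex.isLimitOfEval _ _ fun p => IsLimit.ofIsoLimit
        (isLimitOfPreserves F (isLimitOfPreserves (HomologicalComplex.eval A (ComplexShape.up ℤ) p) hd))
        (Iso.refl _)⟩⟩
    exact ⟨isLimitFanMkObjOfIsLimit (F.mapHomologicalComplex (ComplexShape.up ℤ)) I _ (productIsProduct I)⟩
  obtain ⟨hD⟩ := QProd.nonempty_isLimit _ fB hfB
  let eG : ∀ n, H.obj (qA.obj (I n)) ≅ G.obj (K n) := fun n =>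
    (@asIso _ _ _ _ (α.app (qA.obj (I n))) (hb _ (hI' n))) ≪≫ G.mapIso (e n).some.symm
  let φ₀ : H.obj (qA.obj P) ⟶ ∏ᶜ fun n => G.obj (K n) :=
    Pi.lift fun n => H.map (qA.map (Pi.π I n)) ≫ (eG n).hom
  let φ₁ : (∏ᶜ fun n => G.obj (K n)) ⟶ H.obj (qA.obj P) :=
    Fan.IsLimit.lift hD fun n => Pi.π _ n ≫ (eG n).inv
  have hφ₁ : ∀ n, φ₁ ≫ H.map (qA.map (Pi.π I n)) = Pi.π _ n ≫ (eG n).inv :=
    fun n => Fan.IsLimit.fac hD _ n
  let φ : H.obj (qA.obj P) ≅ ∏ᶜ fun n => G.obj (K n) :=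
    { hom := φ₀
      inv := φ₁
      hom_inv_id := Fan.IsLimit.hom_ext hD _ _ fun n => by
        show (φ₀ ≫ φ₁) ≫ H.map (qA.map (Pi.π I n)) = 𝟙 _ ≫ H.map (qA.map (Pi.π I n))
        rw [Category.assoc, hφ₁, Category.id_comp, Pi.lift_π_assoc, Category.assoc, Iso.hom_inv_id,
          Category.comp_id]
      inv_hom_id := Pi.hom_ext _ _ fun n => by simp [φ₀, reassoc_of% (hφ₁ n)] }
  have heG : ∀ n, H.map (qA.map (τ n)) ≫ (eG n).hom = (eG (n + 1)).hom ≫ G.map (t n) := by
    intro n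
    simp only [eG, Iso.trans_hom, asIso_hom, Functor.mapIso_hom, Iso.symm_hom, Category.assoc]
    rw [← Functor.map_comp, ← Category.assoc, α.naturality]
    simp only [Functor.comp_map, Category.assoc, ← Functor.map_comp, hQτ, Iso.hom_inv_id,
      Category.comp_id]
  have hφδ : H.map (qA.map δ) ≫ φ₀ =
      φ₀ ≫ Pi.lift fun n => Pi.π (fun n => G.obj (K n)) n - Pi.π _ (n + 1) ≫ G.map (t n) := by
    refine Pi.hom_ext _ _ fun n => ?_
    simp only [φ₀, Category.assoc, Pi.lift_π, Preadditive.comp_sub, Pi.lift_π_assoc]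
    rw [← heG, ← Category.assoc, ← Functor.map_comp, ← Functor.map_comp,
      hδ, Functor.map_sub, Functor.map_sub, Preadditive.sub_comp, Functor.map_comp, Functor.map_comp,
      Category.assoc]
  let TB := (H.mapTriangle).obj TK
  have hTB : TB ∈ distTriang _ := H.map_distinguished TK hTK
  refine ⟨θ.inv ≫ H.map TK.mor₁ ≫ φ.hom, φ.inv ≫ TB.mor₃ ≫ θ.hom⟦(1 : ℤ)⟧', ?_⟩
  refine isomorphic_distinguished _ hTB _ ?_
  refine Triangle.isoMk _ _ θ.symm φ.symm φ.symm ?_ ?_ ?_
  · show (θ.inv ≫ H.map TK.mor₁ ≫ φ.hom) ≫ φ.inv = θ.inv ≫ H.map TK.mor₁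
    rw [Category.assoc, Category.assoc]
    exact congrArg (θ.inv ≫ ·) ((congrArg (H.map TK.mor₁ ≫ ·) φ.hom_inv_id).trans (Category.comp_id _))
  · show (Pi.lift fun n => Pi.π (fun n => G.obj (K n)) n - Pi.π _ (n + 1) ≫ G.map (t n)) ≫ φ.inv =
      φ.inv ≫ H.map (qA.map δ)
    rw [Iso.comp_inv_eq, Category.assoc, Iso.eq_inv_comp]
    exact hφδ.symm
  · show (φ.inv ≫ TB.mor₃ ≫ θ.hom⟦(1 : ℤ)⟧') ≫ θ.inv⟦(1 : ℤ)⟧' = φ.inv ≫ TB.mor₃
    rw [Category.assoc, Category.assoc]
    refine congrArg (φ.inv ≫ ·) ?_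
    exact (congrArg (TB.mor₃ ≫ ·) ((shiftFunctor (DerivedCategory B) (1 : ℤ)).mapIso θ).hom_inv_id).trans
      (Category.comp_id _)

end Groth.Agent.H16Derived.RlimRF
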