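import Mathlib.CategoryTheory.Triangulated.Pretriangulated
import Mathlib.CategoryTheory.Limits.Shapes.Products

/-!
A criterion for a candidate triangle to be distinguished.
-/

namespace Groth.Agent.H16Derived

open CategoryTheory Category Limits Pretriangulated
open scoped ZeroObject

universe w v u

variable {C : Type u} [Category.{v} C] [Preadditive C] [HasZeroObject C] [HasShift C ℤ]
  [∀ n : ℤ, (shiftFunctor C n).Additive] [Pretriangulated C]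

/-- A candidate triangle with enough exactness which maps to a distinguished triangle
by identities on the first two objects is distinguished. -/
lemma distinguished_of_yoneda_exact {X Y W Z : C} (f : X ⟶ Y) (g : Y ⟶ W) (k : W ⟶ X⟦(1 : ℤ)⟧)
    (h₁₂ : f ≫ g = 0)
    (ha : ∀ ⦃A : C⦄ (φ : W ⟶ A), g ≫ φ = 0 → ∃ ψ, φ = k ≫ ψ)
    (hb : ∀ ⦃A : C⦄ (ψ : X⟦(1 : ℤ)⟧ ⟶ A), k ≫ ψ = 0 → ∃ χ, ψ = f⟦(1 : ℤ)⟧' ≫ χ)
    {g' : Y ⟶ Z} {h' : Z ⟶ X⟦(1 : ℤ)⟧}
    (hT' : Triangle.mk f g' h' ∈ distTriang C)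
    (c : W ⟶ Z) (hc₂ : g ≫ c = g') (hc₃ : c ≫ h' = k) :
    Triangle.mk f g k ∈ distTriang C := by
  have : IsIso c := by
    refine isIso_of_coyoneda_map_bijective _ fun A => ⟨fun f₁ f₂ hf => sub_eq_zero.1 ?_, fun φ => ?_⟩
    · have h0 : c ≫ (f₁ - f₂) = 0 := by
        rw [Preadditive.comp_sub, sub_eq_zero]; exact hf
      obtain ⟨(ψ : X⟦(1 : ℤ)⟧ ⟶ A), hψ⟩ := Triangle.yoneda_exact₃ _ hT' (f₁ - f₂)
        (show g' ≫ (f₁ - f₂) = 0 by rw [← hc₂, assoc, h0, comp_zero])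
      have hψ' : f₁ - f₂ = h' ≫ ψ := hψ
      obtain ⟨χ, hχ⟩ := hb ψ (by rw [← hc₃, assoc, ← hψ', h0])
      have hz : h' ≫ f⟦(1 : ℤ)⟧' = 0 := comp_distTriang_mor_zero₃₁ _ hT'
      rw [hψ', hχ, reassoc_of% hz, zero_comp]
    · obtain ⟨(φ' : Z ⟶ A), hφ⟩ := Triangle.yoneda_exact₂ _ hT' (g ≫ φ)
        (show f ≫ g ≫ φ = 0 by rw [reassoc_of% h₁₂, zero_comp])
      have hφ' : g ≫ φ = g' ≫ φ' := hφ
      obtain ⟨ψ, hψ⟩ := ha (φ - c ≫ φ') (by
        rw [Preadditive.comp_sub, reassoc_of% hc₂, hφ', sub_self])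
      exact ⟨φ' + h' ≫ ψ, by
        change c ≫ (φ' + h' ≫ ψ) = φ
        rw [Preadditive.comp_add, reassoc_of% hc₃, ← hψ, add_sub_cancel]⟩
  refine isomorphic_distinguished _ hT' _ ?_
  refine Triangle.isoMk _ _ (Iso.refl _) (Iso.refl _) (@asIso _ _ _ _ c this) ?_ ?_ ?_
  · exact (comp_id f).trans (id_comp f).symm
  · exact hc₂.trans (id_comp g').symm
  · change k ≫ (𝟙 X)⟦(1 : ℤ)⟧' = c ≫ h'
    rw [CategoryTheory.Functor.map_id, comp_id, hc₃]

omit [HasZeroObject C] [Pretriangulated C] [∀ n : ℤ, (shiftFunctor C n).Additive] [Preadditive C] in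
/-- Maps out of the shift of a coproduct. -/
lemma exists_shift_desc {J : Type w} (X : J → C) [HasCoproduct X] {A : C} (n : ℤ)
    (g : ∀ j, (X j)⟦n⟧ ⟶ A) : ∃ G : (∐ X)⟦n⟧ ⟶ A, ∀ j, (Sigma.ι X j)⟦n⟧' ≫ G = g j := by
  let ε : A⟦(-n)⟧⟦n⟧ ≅ A := (shiftFunctorCompIsoId C (-n) n (by lia)).app A
  refine ⟨(Sigma.desc fun j => (shiftFunctor C n).preimage (g j ≫ ε.inv))⟦n⟧' ≫ ε.hom, fun j => ?_⟩
  rw [← Functor.map_comp_assoc, Sigma.ι_desc, Functor.map_preimage, assoc, ε.inv_hom_id, comp_id]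

omit [HasZeroObject C] [Pretriangulated C] [∀ n : ℤ, (shiftFunctor C n).Additive] [Preadditive C] in
lemma shift_sigma_hom_ext {J : Type w} (X : J → C) [HasCoproduct X] {A : C} (n : ℤ)
    {G G' : (∐ X)⟦n⟧ ⟶ A} (h : ∀ j, (Sigma.ι X j)⟦n⟧' ≫ G = (Sigma.ι X j)⟦n⟧' ≫ G') : G = G' := by
  let ε : A⟦(-n)⟧⟦n⟧ ≅ A := (shiftFunctorCompIsoId C (-n) n (by lia)).app A
  rw [← cancel_mono ε.inv]
  obtain ⟨a, ha⟩ := (shiftFunctor C n).map_surjective (G ≫ ε.inv)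
  obtain ⟨b, hb⟩ := (shiftFunctor C n).map_surjective (G' ≫ ε.inv)
  rw [← ha, ← hb]
  congr 1
  refine Sigma.hom_ext _ _ fun j => (shiftFunctor C n).map_injective ?_
  rw [Functor.map_comp, Functor.map_comp, ha, hb, reassoc_of% (h j)]

/-- A coproduct of distinguished triangles is distinguished. -/
lemma coproductTriangle_distinguished {J : Type w} (T : J → Triangle C)
    (hT : ∀ j, T j ∈ distTriang C)
    [HasCoproduct (fun j => (T j).obj₁)] [HasCoproduct (fun j => (T j).obj₂)]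
    [HasCoproduct (fun j => (T j).obj₃)] :
    Triangle.mk (Limits.Sigma.map (fun j => (T j).mor₁)) (Limits.Sigma.map (fun j => (T j).mor₂))
      (Sigma.desc (fun j => (T j).mor₃ ≫
        (shiftFunctor C (1 : ℤ)).map (Sigma.ι (fun j => (T j).obj₁) j))) ∈ distTriang C := by
  obtain ⟨Z, g', h', hT'⟩ := distinguished_cocone_triangle
    (Limits.Sigma.map (fun j => (T j).mor₁))
  have hc : ∀ j, ∃ c : (T j).obj₃ ⟶ Z, (T j).mor₂ ≫ c = Sigma.ι (fun j => (T j).obj₂) j ≫ g' ∧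
      (T j).mor₃ ≫ (Sigma.ι (fun j => (T j).obj₁) j)⟦(1 : ℤ)⟧' = c ≫ h' := fun j =>
    complete_distinguished_triangle_morphism _ _ (hT j) hT' (Sigma.ι (fun j => (T j).obj₁) j)
      (Sigma.ι (fun j => (T j).obj₂) j) (Sigma.ι_map (fun j => (T j).mor₁) j).symm
  choose c hc₂ hc₃ using hc
  refine distinguished_of_yoneda_exact _ _ _ ?_ ?_ ?_ hT' (Sigma.desc c) ?_ ?_
  · refine Sigma.hom_ext _ _ fun j => ?_
    rw [Sigma.ι_map_assoc, Sigma.ι_map, comp_zero, reassoc_of% (comp_distTriang_mor_zero₁₂ _ (hT j)), zero_comp]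
  · intro A f hf
    have h : ∀ j, ∃ g, Sigma.ι (fun j => (T j).obj₃) j ≫ f = (T j).mor₃ ≫ g := fun j =>
      (T j).yoneda_exact₃ (hT j) _ (by
        have := Sigma.ι (fun j => (T j).obj₂) j ≫= hf
        rwa [comp_zero, Sigma.ι_map_assoc] at this)
    choose g hg using h
    obtain ⟨G, hG⟩ := exists_shift_desc (fun j => (T j).obj₁) (1 : ℤ) g
    refine ⟨G, ?_⟩
    refine Sigma.hom_ext _ _ fun j => ?_
    rw [Sigma.ι_desc_assoc, assoc, hG, hg]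
  · intro A g hg
    have h : ∀ j, ∃ h, (Sigma.ι (fun j => (T j).obj₁) j)⟦(1 : ℤ)⟧' ≫ g =
        (T j).mor₁⟦(1 : ℤ)⟧' ≫ h := fun j => by
      obtain ⟨h, hh⟩ := Triangle.yoneda_exact₃ _ (rot_of_distTriang _ (hT j))
        ((Sigma.ι (fun j => (T j).obj₁) j)⟦(1 : ℤ)⟧' ≫ g) (by
          have := Sigma.ι (fun j => (T j).obj₃) j ≫= hg
          rw [comp_zero, Sigma.ι_desc_assoc, assoc] at this
          exact this)
      refine ⟨-h, hh.trans ?_⟩
      exact (Preadditive.neg_comp _ _).trans (Preadditive.comp_neg _ _).symm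
    choose h hh using h
    obtain ⟨H, hH⟩ := exists_shift_desc (fun j => (T j).obj₂) (1 : ℤ) h
    refine ⟨H, ?_⟩
    refine shift_sigma_hom_ext _ _ fun j => ?_
    rw [hh, ← hH j, ← Functor.map_comp_assoc, ← Functor.map_comp_assoc, Sigma.ι_map]
  · refine Sigma.hom_ext _ _ fun j => ?_
    rw [Sigma.ι_map_assoc, Sigma.ι_desc, hc₂]
  · refine Sigma.hom_ext _ _ fun j => ?_
    rw [Sigma.ι_desc_assoc, Sigma.ι_desc, ← hc₃]

end Groth.Agent.H16Derived
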