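import Mathlib.Algebra.Homology.HomotopyCategory.Pretriangulated
import Mathlib.Algebra.Homology.HomologicalComplexLimits
import Mathlib.CategoryTheory.Abelian.Basic
import Mathlib.Algebra.Homology.HomologicalComplexAbelian

/-!
# Brutal truncations and their telescope
-/

set_option autoImplicit false
set_option linter.style.haveILetI false

universe v u

open CategoryTheory CategoryTheory.Limits

namespace Groth.Agent.H16Derived.Stupid

variable {A : Type u} [Category.{v} A] [Abelian A] (K : CochainComplex A ℤ)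

/-- The subcomplex of the terms of degree `≥ a`. -/
noncomputable def σ (a : ℤ) : CochainComplex A ℤ where
  X p := ∐ fun _ : PLift (a ≤ p) => K.X p
  d p q := if hpq : p + 1 = q then
    Sigma.desc fun h => K.d p q ≫ Sigma.ι (fun _ : PLift (a ≤ q) => K.X q) ⟨le_trans h.down (by omega)⟩
    else 0
  shape p q h := dif_neg (fun e => h e)
  d_comp_d' p q r hpq hqr := by
    obtain rfl : p + 1 = q := hpq
    obtain rfl : p + 1 + 1 = r := hqr
    rw [dif_pos rfl, dif_pos rfl]
    refine Sigma.hom_ext _ _ fun h => ?_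
    rw [Sigma.ι_desc_assoc, Category.assoc, Sigma.ι_desc, K.d_comp_d_assoc, zero_comp, comp_zero]

/-- The inclusion of a brutal truncation. -/
noncomputable def ι (a : ℤ) : σ K a ⟶ K where
  f p := Sigma.desc fun _ => 𝟙 (K.X p)
  comm' p q hpq := by
    obtain rfl : p + 1 = q := hpq
    refine Sigma.hom_ext _ _ fun h => ?_
    simp [σ]

/-- The inclusions between brutal truncations. -/
noncomputable def tr (a b : ℤ) (hab : b ≤ a) : σ K a ⟶ σ K b where
  f p := Sigma.desc fun h => Sigma.ι (fun _ : PLift (b ≤ p) => K.X p) ⟨hab.trans h.down⟩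
  comm' p q hpq := by
    obtain rfl : p + 1 = q := hpq
    refine Sigma.hom_ext _ _ fun h => ?_
    simp [σ]

@[reassoc]
lemma tr_ι (a b : ℤ) (hab : b ≤ a) : tr K a b hab ≫ ι K b = ι K a := by
  ext p : 1
  refine Sigma.hom_ext _ _ fun h => ?_
  simp [tr, ι]
  erw [Sigma.ι_desc_assoc, Sigma.ι_desc]

lemma isIso_ι_f (a p : ℤ) (h : a ≤ p) : IsIso ((ι K a).f p) :=
  ⟨Sigma.ι (fun _ : PLift (a ≤ p) => K.X p) ⟨h⟩,
    Sigma.hom_ext _ _ fun h' => by simp [ι, σ], by simp [ι]; erw [Sigma.ι_desc]⟩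

lemma isZero_X (a p : ℤ) (h : p < a) : IsZero ((σ K a).X p) := by
  rw [IsZero.iff_id_eq_zero]
  exact Sigma.hom_ext _ _ fun h' => absurd h'.down (by omega)

lemma isIso_tr_f (a b p : ℤ) (hab : b ≤ a) (h : a ≤ p) : IsIso ((tr K a b hab).f p) := by
  haveI := isIso_ι_f K a p h
  haveI := isIso_ι_f K b p (hab.trans h)
  have e : (tr K a b hab).f p ≫ (ι K b).f p = (ι K a).f p := by
    rw [← HomologicalComplex.comp_f, tr_ι]
  exact IsIso.of_isIso_fac_right e

variable [HasColimitsOfShape (Discrete (ULift.{v} ℕ)) A]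

/-- The family of brutal truncations `σ_{≥ -n}`. -/
noncomputable abbrev T (n : ULift.{v} ℕ) : CochainComplex A ℤ := σ K (-(n.down : ℤ))

/-- The inclusions of the family. -/
noncomputable abbrev s (n : ULift.{v} ℕ) : T K n ⟶ T K ⟨n.down + 1⟩ :=
  tr K _ _ (by push_cast; omega)

/-- One minus the shift. -/
noncomputable def shift : (∐ T K) ⟶ ∐ T K :=
  Sigma.desc fun n => Sigma.ι (T K) n - s K n ≫ Sigma.ι (T K) ⟨n.down + 1⟩

/-- The augmentation. -/
noncomputable def aug : (∐ T K) ⟶ K := Sigma.desc fun n => ι K _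

lemma shift_aug : shift K ≫ aug K = 0 := by
  refine Sigma.hom_ext _ _ fun n => ?_
  rw [shift, aug, Sigma.ι_desc_assoc, Preadditive.sub_comp, Category.assoc, Sigma.ι_desc,
    Sigma.ι_desc, tr_ι, sub_self, comp_zero]

/-- The telescope short complex. -/
noncomputable def tele : ShortComplex (CochainComplex A ℤ) :=
  ShortComplex.mk (shift K) (aug K) (shift_aug K)

/-- The telescope is degreewise split exact. -/
theorem exists_splitting (p : ℤ) :
    Nonempty (((tele K).map (HomologicalComplex.eval A (ComplexShape.up ℤ) p)).Splitting) := by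
  classical
  let X : ULift.{v} ℕ → A := fun n => (T K n).X p
  have hc : IsColimit (Cofan.mk ((∐ T K).X p) fun n => (Sigma.ι (T K) n).f p : Cofan X) :=
    isColimitCofanMkObjOfIsColimit (HomologicalComplex.eval A (ComplexShape.up ℤ) p) (T K) _
      (coproductIsCoproduct (T K))
  let u : ∀ n, X n ⟶ (∐ T K).X p := fun n => (Sigma.ι (T K) n).f p
  have hzero : ∀ n : ULift.{v} ℕ, p < -(n.down : ℤ) → ∀ {Z : A} (a b : X n ⟶ Z), a = b :=
    fun n hn Z a b => (isZero_X K _ p hn).eq_of_src a b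
  let r' : ∀ n : ℕ, X ⟨n⟩ ⟶ (∐ T K).X p := fun n =>
    Nat.rec (motive := fun n => X ⟨n⟩ ⟶ (∐ T K).X p) 0 (fun n r =>
      if h : -(n : ℤ) ≤ p then
        @inv _ _ _ _ ((s K ⟨n⟩).f p) (isIso_tr_f K _ _ p _ h) ≫ (r - u ⟨n⟩)
      else 0) n
  let r : (∐ T K).X p ⟶ (∐ T K).X p := Cofan.IsColimit.desc hc fun n => r' n.down
  have hr : ∀ n : ULift.{v} ℕ, u n ≫ r = r' n.down := fun n => Cofan.IsColimit.fac hc _ n
  let N : ULift.{v} ℕ := ⟨(-p).toNat⟩
  haveI : IsIso ((ι K (-(N.down : ℤ))).f p) := isIso_ι_f K _ p (by simp [N]; omega)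
  let sec : K.X p ⟶ (∐ T K).X p := inv ((ι K (-(N.down : ℤ))).f p) ≫ u N
  have hφ : ∀ n, u n ≫ (shift K).f p = u n - (s K n).f p ≫ u ⟨n.down + 1⟩ := fun n => by
    have e := congrArg (fun t => HomologicalComplex.Hom.f t p)
      (show Sigma.ι (T K) n ≫ shift K = _ from Sigma.ι_desc _ n)
    simp only [HomologicalComplex.comp_f, HomologicalComplex.sub_f_apply] at e
    exact e
  have hπ : ∀ n, u n ≫ (aug K).f p = (ι K (-(n.down : ℤ))).f p := fun n => by
    rw [← HomologicalComplex.comp_f, show Sigma.ι (T K) n ≫ aug K = _ from Sigma.ι_desc _ n]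
  have hstep : ∀ n : ℕ, -(n : ℤ) ≤ p → (s K ⟨n⟩).f p ≫ r' (n + 1) = r' n - u ⟨n⟩ := fun n h => by
    show (s K ⟨n⟩).f p ≫ (if h : -(n : ℤ) ≤ p then _ else 0) = _
    rw [dif_pos h]
    haveI := isIso_tr_f K (-(n : ℤ)) (-((n + 1 : ℕ) : ℤ)) p (by push_cast; omega) h
    exact IsIso.hom_inv_id_assoc _ _
  have main : ∀ n : ℕ, (ι K (-(n : ℤ))).f p ≫ sec + r' n ≫ (shift K).f p = u ⟨n⟩ := by
    intro n
    induction n with
    | zero =>
      by_cases h : -((0 : ℕ) : ℤ) ≤ p
      · have hN : N = ⟨0⟩ := by ext; simp [N]; omega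
        show (ι K (-((0 : ℕ) : ℤ))).f p ≫ sec + 0 ≫ _ = _
        rw [zero_comp, add_zero]
        dsimp only [sec]
        generalize_proofs h1
        clear_value N
        subst hN
        exact IsIso.hom_inv_id_assoc _ _
      · exact hzero _ (by simp at h ⊢; omega) _ _
    | succ n ih =>
      by_cases h : -(n : ℤ) ≤ p
      · haveI := isIso_tr_f K (-(n : ℤ)) (-((n + 1 : ℕ) : ℤ)) p (by push_cast; omega) h
        rw [← cancel_epi ((s K ⟨n⟩).f p), Preadditive.comp_add, reassoc_of% (hstep n h),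
          ← Category.assoc, ← HomologicalComplex.comp_f, tr_ι, Preadditive.sub_comp, hφ]
        dsimp only
        rw [← ih]
        abel
      · by_cases h' : -((n + 1 : ℕ) : ℤ) ≤ p
        · have hN : N = ⟨n + 1⟩ := by ext; simp [N]; omega
          show _ + (if h : -(n : ℤ) ≤ p then _ else 0) ≫ _ = _
          rw [dif_neg h, zero_comp, add_zero]
          dsimp only [sec]
          generalize_proofs h1
          clear_value N
          subst hN
          exact IsIso.hom_inv_id_assoc _ _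
        · exact hzero _ (by simp at h' ⊢; omega) _ _
  refine ⟨{ r := r, s := sec, f_r := ?_, s_g := ?_, id := ?_ }⟩
  · refine Cofan.IsColimit.hom_ext hc _ _ fun n => ?_
    show u n ≫ (shift K).f p ≫ r = u n ≫ 𝟙 _
    by_cases h : -(n.down : ℤ) ≤ p
    · rw [← Category.assoc, hφ, Preadditive.sub_comp, Category.assoc, hr, hr, hstep n.down h]
      simp
    · exact hzero _ (by omega) _ _
  · show sec ≫ (aug K).f p = 𝟙 _
    simp [sec, hπ]
  · refine Cofan.IsColimit.hom_ext hc _ _ fun n => ?_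
    show u n ≫ (r ≫ (shift K).f p + (aug K).f p ≫ sec) = u n ≫ 𝟙 _
    rw [Preadditive.comp_add, ← Category.assoc, hr, ← Category.assoc, hπ, add_comm]
    exact (main n.down).trans (Category.comp_id _).symm

theorem shortExact_tele : (tele K).ShortExact :=
  HomologicalComplex.shortExact_of_degreewise_shortExact _ fun p => (exists_splitting K p).some.shortExact

end Groth.Agent.H16Derived.Stupid
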