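import Groth.Agent.H16Derived.AcyclicLES
import Groth.Agent.H15Site.SpAbutment
import Groth.Agent.H15Site.SpHomological
import Mathlib.Algebra.Homology.DerivedCategory.RightDerivedFunctorPlus
import Mathlib.CategoryTheory.Triangulated.TStructure.SpectralObject
import Mathlib.Algebra.Homology.SingleHomology
import Mathlib.CategoryTheory.Triangulated.Adjunction

/-!
# The Grothendieck spectral sequence

The homological functor `H⁰ ∘ RS` on the bounded below derived category is computed with complexes of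
injectives; applied to the truncations of `RT(A)` it gives the spectral object.
-/

set_option autoImplicit false
set_option linter.style.haveILetI false
set_option linter.unusedSectionVars false
set_option backward.isDefEq.respectTransparency false

universe w w' v v' u u'

open ZeroObject CategoryTheory CategoryTheory.Limits CategoryTheory.Pretriangulated CategoryTheory.Triangulated
  CategoryTheory.ComposableArrows

namespace Groth.Agent.H16Derived.GrothSS

variable {B : Type u} [Category.{v} B] [Abelian B] [EnoughInjectives B] [HasDerivedCategory.{w} B]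
  {C : Type u'} [Category.{v'} C] [Abelian C] [HasDerivedCategory.{w'} C]

section

variable (B) in
/-- `K⁺(injectives) ⥤ D⁺`. -/
noncomputable abbrev J : HomotopyCategory.Plus (InjectiveObject B) ⥤ DerivedCategory.Plus B :=
  (InjectiveObject.ι B).mapHomotopyCategoryPlus ⋙ DerivedCategory.Plus.Qh

theorem bijective_Qh (K : HomotopyCategory.Plus B) (L : HomotopyCategory.Plus (InjectiveObject B)) :
    Function.Bijective (DerivedCategory.Plus.Qh.map :
      (K ⟶ (InjectiveObject.ι B).mapHomotopyCategoryPlus.obj L) → ((DerivedCategory.Plus.Qh (C := B)).obj K ⟶ DerivedCategory.Plus.Qh.obj ((InjectiveObject.ι B).mapHomotopyCategoryPlus.obj L))) := by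
  obtain ⟨L, rfl⟩ := HomotopyCategory.Plus.quotient_obj_surjective L
  haveI : CochainComplex.IsKInjective
      ((InjectiveObject.ι B).mapHomotopyCategoryPlus.obj
        ((HomotopyCategory.Plus.quotient _).obj L)).obj.as :=
    inferInstanceAs (CochainComplex.IsKInjective
      (((InjectiveObject.ι B).mapHomologicalComplex (ComplexShape.up ℤ)).obj L.obj))
  exact DerivedCategory.Plus.Qh_map_bijective_of_isKInjective K
    ((InjectiveObject.ι B).mapHomotopyCategoryPlus.obj ((HomotopyCategory.Plus.quotient _).obj L)) (by assumption)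

instance full_J : (J B).Full where
  map_surjective {_ L} f := by
    obtain ⟨g, hg⟩ := (bijective_Qh _ L).2 f
    obtain ⟨h, rfl⟩ := (InjectiveObject.ι B).mapHomotopyCategoryPlus.map_surjective g
    exact ⟨h, hg⟩

instance faithful_J : (J B).Faithful where
  map_injective {_ L} _ _ h :=
    (InjectiveObject.ι B).mapHomotopyCategoryPlus.map_injective
      ((bijective_Qh _ L).1 h)

instance isEquivalence_J : (J B).IsEquivalence where

/-- `D⁺ ⥤ K⁺(injectives)`. -/
noncomputable abbrev JI (B : Type u) [Category.{v} B] [Abelian B] [EnoughInjectives B]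
    [HasDerivedCategory.{w} B] : DerivedCategory.Plus B ⥤ HomotopyCategory.Plus (InjectiveObject B) :=
  (J B).asEquivalence.inverse

noncomputable instance commShift_functor : (J B).asEquivalence.functor.CommShift ℤ :=
  (inferInstance : (J B).CommShift ℤ)

noncomputable instance commShift_JI : (JI B).CommShift ℤ :=
  (J B).asEquivalence.commShiftInverse ℤ

instance isTriangulated_JI : (JI B).IsTriangulated := by
  haveI : (J B).asEquivalence.CommShift ℤ := (J B).asEquivalence.commShift_of_functor ℤ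
  haveI : (J B).asEquivalence.functor.IsTriangulated := inferInstanceAs ((J B).IsTriangulated)
  haveI : (J B).asEquivalence.toAdjunction.CommShift ℤ := inferInstance
  exact (J B).asEquivalence.toAdjunction.isTriangulated_rightAdjoint

variable (S : B ⥤ C) [S.Additive]

/-- `RS` on `K⁺(injectives)`. -/
noncomputable abbrev Φ₀ : HomotopyCategory.Plus (InjectiveObject B) ⥤ DerivedCategory.Plus C :=
  (InjectiveObject.ι B ⋙ S).mapHomotopyCategoryPlus ⋙ DerivedCategory.Plus.Qh

/-- `H⁰ ∘ RS` on `D⁺`. -/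
noncomputable abbrev G : DerivedCategory.Plus B ⥤ C :=
  (JI B ⋙ Φ₀ S) ⋙ DerivedCategory.Plus.homologyFunctor C 0

noncomputable instance shiftSequence_G : (G S).ShiftSequence ℤ :=
  Functor.ShiftSequence.tautological _ ℤ

/-- The values of `H⁰ ∘ RS` through injective complexes. -/
theorem nonempty_G_shift (M : CochainComplex.Plus (InjectiveObject B)) {X : DerivedCategory.Plus B}
    (e : (J B).obj ((HomotopyCategory.Plus.quotient _).obj M) ≅ X) (n : ℤ) :
    Nonempty (((G S).shift n).obj X ≅
      ((S.mapHomologicalComplex (ComplexShape.up ℤ)).obj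
        (((InjectiveObject.ι B).mapHomologicalComplex (ComplexShape.up ℤ)).obj M.obj)).homology n) := by
  let qM := (HomotopyCategory.Plus.quotient (InjectiveObject B)).obj M
  let e₁ : (JI B).obj (X⟦n⟧) ≅ qM⟦n⟧ :=
    (J B).preimageIso ((J B).asEquivalence.counitIso.app (X⟦n⟧) ≪≫
      (CategoryTheory.shiftFunctor _ n).mapIso e.symm ≪≫ (((J B).commShiftIso n).app qM).symm)
  let Y := (Φ₀ S).obj qM
  let e₂ : ((G S).shift n).obj X ≅
      (DerivedCategory.homologyFunctor C 0).obj ((DerivedCategory.Plus.ι.obj Y)⟦n⟧) :=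
    (DerivedCategory.Plus.ι ⋙ DerivedCategory.homologyFunctor C 0).mapIso
        ((Φ₀ S).mapIso e₁ ≪≫ ((Φ₀ S).commShiftIso n).app qM) ≪≫
      (DerivedCategory.homologyFunctor C 0).mapIso
        ((DerivedCategory.Plus.ι.commShiftIso n).app Y)
  let Z : CochainComplex C ℤ := (S.mapHomologicalComplex (ComplexShape.up ℤ)).obj
    (((InjectiveObject.ι B).mapHomologicalComplex (ComplexShape.up ℤ)).obj M.obj)
  let e₃ : DerivedCategory.Plus.ι.obj Y ≅ DerivedCategory.Q.obj Z :=
    (DerivedCategory.quotientCompQhIso C).app Z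
  exact ⟨e₂ ≪≫ (((DerivedCategory.homologyFunctor C 0).shiftIso n 0 n (by simp)).app _) ≪≫
    (DerivedCategory.homologyFunctor C n).mapIso e₃ ≪≫
    (DerivedCategory.homologyFunctorFactors C n).app Z⟩

/-- An injective resolution of a bounded below complex, in `D⁺`. -/
theorem exists_resolution {X : DerivedCategory.Plus B} {K : CochainComplex B ℤ} (a : ℤ)
    [K.IsStrictlyGE a] (e : DerivedCategory.Plus.ι.obj X ≅ DerivedCategory.Q.obj K) :
    ∃ (M : CochainComplex.Plus (InjectiveObject B))
      (i : K ⟶ ((InjectiveObject.ι B).mapHomologicalComplex (ComplexShape.up ℤ)).obj M.obj),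
      QuasiIso i ∧
      CochainComplex.IsStrictlyGE
        (((InjectiveObject.ι B).mapHomologicalComplex (ComplexShape.up ℤ)).obj M.obj) a ∧
      Nonempty ((J B).obj ((HomotopyCategory.Plus.quotient _).obj M) ≅ X) := by
  obtain ⟨M, hM, i, hi⟩ := CochainComplex.Plus.exists_quasiIso_injective ⟨K, a, inferInstance⟩ a
  haveI hi' : QuasiIso i.hom := hi
  haveI : IsIso (DerivedCategory.Q.map i.hom) :=
    (DerivedCategory.isIso_Q_map_iff_quasiIso B i.hom).2 hi'
  refine ⟨M, i.hom, hi', ?_, ⟨DerivedCategory.Plus.ι.preimageIso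
    ((DerivedCategory.quotientCompQhIso B).app _ ≪≫ (asIso (DerivedCategory.Q.map i.hom)).symm ≪≫
      e.symm)⟩⟩
  rw [CochainComplex.isStrictlyGE_mapHomologicalComplex_obj_iff]
  exact hM

/-- Leray: the values of `H⁰ ∘ RS` through acyclic complexes. -/
theorem nonempty_G_shift_of_acyclic {X : DerivedCategory.Plus B} {K : CochainComplex B ℤ} (a : ℤ)
    [K.IsStrictlyGE a] (e : DerivedCategory.Plus.ι.obj X ≅ DerivedCategory.Q.obj K)
    [PreservesFiniteLimits S] (hK : ∀ i, AcyclicLES.IsAcyclic S (K.X i)) (n : ℤ) :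
    Nonempty (((G S).shift n).obj X ≅ ((S.mapHomologicalComplex (ComplexShape.up ℤ)).obj K).homology n) := by
  obtain ⟨M, i, hi, hM, ⟨eM⟩⟩ := exists_resolution a e
  obtain ⟨e'⟩ := nonempty_G_shift S M eM n
  haveI := AcyclicLES.quasiIso_map S i a hK fun k =>
    haveI : Injective ((((InjectiveObject.ι B).mapHomologicalComplex (ComplexShape.up ℤ)).obj M.obj).X k) :=
      (M.obj.X k).property
    AcyclicLES.isAcyclic_of_injective S _
  exact ⟨e' ≪≫ (asIso (HomologicalComplex.homologyMap
    ((S.mapHomologicalComplex (ComplexShape.up ℤ)).map i) n)).symm⟩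

/-- `H⁰ ∘ RS` of an object `≥ a` vanishes below `a`. -/
theorem isZero_G_shift (X : DerivedCategory.Plus B) (a : ℤ) [X.IsGE a] (n : ℤ) (hn : n < a) :
    IsZero (((G S).shift n).obj X) := by
  obtain ⟨K, hK, ⟨e⟩⟩ := DerivedCategory.exists_iso_Q_obj_of_isGE (DerivedCategory.Plus.ι.obj X) a
  obtain ⟨M, i, hi, hM, ⟨eM⟩⟩ := exists_resolution a e
  obtain ⟨e'⟩ := nonempty_G_shift S M eM n
  refine IsZero.of_iso ?_ e'
  exact (ShortComplex.exact_iff_isZero_homology _).1 (ShortComplex.exact_of_isZero_X₂ _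
    (S.map_isZero (CochainComplex.isZero_of_isStrictlyGE _ a n hn)))

end

section SS

variable {A : Type u} [Category.{v} A] [Abelian A] [EnoughInjectives A]
  (T : A ⥤ B) [T.Additive] (S : B ⥤ C) [S.Additive] [PreservesFiniteLimits S]


variable (X : DerivedCategory.Plus B)

/-- `τ_{≥ i} τ_{< j} X`. -/
noncomputable abbrev piece (i j : EInt) : DerivedCategory.Plus B :=
  ((DerivedCategory.Plus.TStructure.t (C := B)).eTruncGE.obj i).obj
    (((DerivedCategory.Plus.TStructure.t (C := B)).eTruncLT.obj j).obj X)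

/-- The spectral object. -/
noncomputable abbrev spObj : Abelian.SpectralObject C EInt :=
  H15Site.SpHomological.mk ((DerivedCategory.Plus.TStructure.t (C := B)).spectralObject X) (G S)

theorem isFirstQuadrant [X.IsGE 0] : (spObj S X).IsFirstQuadrant where
  isZero₁ i j hij hj n := by
    show IsZero (((G S).shift n).obj (piece X i j))
    exact Functor.map_isZero _ (Functor.map_isZero _
      ((DerivedCategory.Plus.TStructure.t (C := B)).isZero_eTruncLT_obj_obj X 0 j hj))
  isZero₂ i j hij n hi := by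
    have hi' : ((n + 1 : ℤ) : EInt) ≤ i := by
      induction i using WithBotTop.rec with
      | bot => exact absurd hi (by simp)
      | coe a => simp at hi ⊢; lia
      | top => exact le_top
    haveI : (piece X i j).IsGE (n + 1) :=
      (DerivedCategory.Plus.TStructure.t (C := B)).isGE_eTruncGE_obj_obj (n + 1) i hi'
        (((DerivedCategory.Plus.TStructure.t (C := B)).eTruncLT.obj j).obj X)
    exact isZero_G_shift S (piece X i j) (n + 1) n (by lia)

/-- `H^q` of the `q`-th piece is `H^q(X)`. -/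
theorem nonempty_homology_piece (q : ℤ) :
    Nonempty ((DerivedCategory.homologyFunctor B q).obj
        (DerivedCategory.Plus.ι.obj (piece X (q : EInt) ((q + 1 : ℤ) : EInt))) ≅
      (DerivedCategory.homologyFunctor B q).obj (DerivedCategory.Plus.ι.obj X)) := by
  let τ := DerivedCategory.Plus.TStructure.t (C := B)
  let ι := DerivedCategory.Plus.ι (C := B)
  let H := DerivedCategory.homologyFunctor B q
  let Y := (τ.truncLT (q + 1)).obj X
  have : IsIso (H.map (ι.map ((τ.truncLTι (q + 1)).app X))) := by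
    let T' := ι.mapTriangle.obj ((τ.triangleLTGE (q + 1)).obj X)
    have hT : T' ∈ distTriang _ := ι.map_distinguished _ (τ.triangleLTGE_distinguished (q + 1) X)
    haveI : ((τ.truncGE (q + 1)).obj X).IsGE (q + 1) :=
      inferInstanceAs (τ.IsGE ((τ.truncGE (q + 1)).obj X) (q + 1))
    have h₁ : IsZero ((DerivedCategory.homologyFunctor B (q - 1)).obj T'.obj₃) :=
      DerivedCategory.Plus.isZero_homology_of_isGE ((τ.truncGE (q + 1)).obj X) (q + 1) (q - 1) (by lia)
    have h₂ : IsZero (H.obj T'.obj₃) :=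
      DerivedCategory.Plus.isZero_homology_of_isGE ((τ.truncGE (q + 1)).obj X) (q + 1) q (by lia)
    have := (DerivedCategory.HomologySequence.mono_homologyMap_mor₁_iff T' hT (q - 1) q).2 (h₁.eq_of_src _ _)
    have := (DerivedCategory.HomologySequence.epi_homologyMap_mor₁_iff T' hT q).2 (h₂.eq_of_tgt _ _)
    exact isIso_of_mono_of_epi (H.map T'.mor₁)
  have : IsIso (H.map (ι.map ((τ.truncGEπ q).app Y))) := by
    let T' := ι.mapTriangle.obj ((τ.triangleLTGE q).obj Y)
    have hT : T' ∈ distTriang _ := ι.map_distinguished _ (τ.triangleLTGE_distinguished q Y)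
    haveI : ((τ.truncLT q).obj Y).IsLE (q - 1) :=
      inferInstanceAs (τ.IsLE ((τ.truncLT q).obj Y) (q - 1))
    have h₁ : IsZero (H.obj T'.obj₁) :=
      DerivedCategory.Plus.isZero_homology_of_isLE ((τ.truncLT q).obj Y) (q - 1) q (by lia)
    have h₂ : IsZero ((DerivedCategory.homologyFunctor B (q + 1)).obj T'.obj₁) :=
      DerivedCategory.Plus.isZero_homology_of_isLE ((τ.truncLT q).obj Y) (q - 1) (q + 1) (by lia)
    have := (DerivedCategory.HomologySequence.mono_homologyMap_mor₂_iff T' hT q).2 (h₁.eq_of_src _ _)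
    have := (DerivedCategory.HomologySequence.epi_homologyMap_mor₂_iff T' hT q (q + 1)).2 (h₂.eq_of_tgt _ _)
    exact isIso_of_mono_of_epi (H.map T'.mor₂)
  exact ⟨(asIso (H.map (ι.map ((τ.truncGEπ q).app Y)))).symm ≪≫
    asIso (H.map (ι.map ((τ.truncLTι (q + 1)).app X)))⟩

/-- The `E₂` terms: `H^{p+q}` of the piece is `R^pS(H^q X)`. -/
theorem nonempty_E₂ (p : ℕ) (q : ℤ) :
    Nonempty (((G S).shift ((p : ℤ) + q)).obj (piece X (q : EInt) ((q + 1 : ℤ) : EInt)) ≅
      (S.rightDerived p).obj
        ((DerivedCategory.homologyFunctor B q).obj (DerivedCategory.Plus.ι.obj X))) := by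
  let P := piece X (q : EInt) ((q + 1 : ℤ) : EInt)
  let τ := DerivedCategory.Plus.TStructure.t (C := B)
  haveI : P.IsGE q := inferInstanceAs (τ.IsGE ((τ.truncGE q).obj _) q)
  haveI : P.IsLE q := inferInstanceAs (τ.IsLE ((τ.truncGE q).obj ((τ.truncLT (q + 1)).obj X)) q)
  obtain ⟨Y, ⟨e⟩⟩ := DerivedCategory.exists_iso_singleFunctor_obj_of_isGE_of_isLE
    (DerivedCategory.Plus.ι.obj P) q
  obtain ⟨eh⟩ := nonempty_homology_piece X q
  let eY : Y ≅ (DerivedCategory.homologyFunctor B q).obj (DerivedCategory.Plus.ι.obj X) :=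
    ((DerivedCategory.homologyFunctor B q).mapIso ((DerivedCategory.singleFunctorIsoCompQ B q).app Y) ≪≫
      (DerivedCategory.homologyFunctorFactors B q).app _ ≪≫
      HomologicalComplex.singleObjHomologySelfIso (ComplexShape.up ℤ) q Y).symm ≪≫
    (DerivedCategory.homologyFunctor B q).mapIso e.symm ≪≫ eh
  let I := injectiveResolution Y
  let K : CochainComplex B ℤ := I.cochainComplex⟦-q⟧
  haveI : K.IsStrictlyGE q := I.cochainComplex.isStrictlyGE_shift 0 (-q) q (by lia)
  haveI : IsIso (DerivedCategory.Q.map I.ι') :=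
    (DerivedCategory.isIso_Q_map_iff_quasiIso B _).2 inferInstance
  let e' : DerivedCategory.Plus.ι.obj P ≅ DerivedCategory.Q.obj K :=
    e ≪≫ (((DerivedCategory.singleFunctors B).shiftIso (-q) q 0 (by lia)).app Y).symm ≪≫
      (CategoryTheory.shiftFunctor _ (-q)).mapIso
        ((DerivedCategory.singleFunctorIsoCompQ B 0).app Y ≪≫ asIso (DerivedCategory.Q.map I.ι')) ≪≫
      ((DerivedCategory.Q.commShiftIso (-q)).app I.cochainComplex).symm
  obtain ⟨e₁⟩ := nonempty_G_shift_of_acyclic S q e'
    (fun k => haveI : Injective (K.X k) := inferInstanceAs (Injective (I.cochainComplex.X _))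
      AcyclicLES.isAcyclic_of_injective S _) ((p : ℤ) + q)
  obtain ⟨e₂⟩ := AcyclicLES.nonempty_rightDerived_iso S I.cochainComplex 0 (fun k => inferInstance) I.ι' p
  let SI := (S.mapHomologicalComplex (ComplexShape.up ℤ)).obj I.cochainComplex
  let sK : (S.mapHomologicalComplex (ComplexShape.up ℤ)).obj K ≅ SI⟦-q⟧ :=
    ((S.mapHomologicalComplex (ComplexShape.up ℤ)).commShiftIso (-q)).app I.cochainComplex
  exact ⟨e₁ ≪≫ (HomologicalComplex.homologyFunctor C _ ((p : ℤ) + q)).mapIso sK ≪≫
    ((HomologicalComplex.homologyFunctor C (ComplexShape.up ℤ) 0).shiftIso (-q) ((p : ℤ) + q) (p : ℤ)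
      (by lia)).app SI ≪≫ e₂.symm ≪≫ (S.rightDerived p).mapIso eY⟩

/-- The abutment. -/
theorem nonempty_total {K : CochainComplex B ℤ} (a : ℤ) [K.IsStrictlyGE a]
    (e : DerivedCategory.Plus.ι.obj X ≅ DerivedCategory.Q.obj K)
    (hK : ∀ i, AcyclicLES.IsAcyclic S (K.X i)) (n : ℤ) :
    Nonempty (((G S).shift n).obj (piece X ⊥ ⊤) ≅
      ((S.mapHomologicalComplex (ComplexShape.up ℤ)).obj K).homology n) := by
  let e₀ : piece X ⊥ ⊤ ≅ X :=
    (asIso (((DerivedCategory.Plus.TStructure.t (C := B)).eTruncGEπ ⊥).app _)).symm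
  obtain ⟨e₁⟩ := nonempty_G_shift_of_acyclic S a e hK n
  exact ⟨((G S).shift n).mapIso e₀ ≪≫ e₁⟩

include T S in
theorem exists_spectralSequence
    (hT : ∀ Q : A, Injective Q → ∀ q : ℕ, 0 < q → IsZero ((S.rightDerived q).obj (T.obj Q))) (a : A) :
    ∃ (E : E₂CohomologicalSpectralSequence C)
      (ab : SpSeq.Abutment E (fun n : ℤ => if 0 ≤ n then ((T ⋙ S).rightDerived n.toNat).obj a else 0)),
      (∀ n, ab.IsFinite n) ∧ SpSeq.IsBounded E ∧
      ∀ p q : ℤ, Nonempty ((E.page 2 le_rfl).X (p, q) ≅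
        (if 0 ≤ p ∧ 0 ≤ q then (S.rightDerived p.toNat).obj ((T.rightDerived q.toNat).obj a) else 0)) := by
  let I := injectiveResolution a
  let L := (T.mapHomologicalComplex (ComplexShape.up ℤ)).obj I.cochainComplex
  haveI hL : CochainComplex.IsStrictlyGE L 0 := inferInstanceAs
    (CochainComplex.IsStrictlyGE ((T.mapHomologicalComplex (ComplexShape.up ℤ)).obj I.cochainComplex) 0)
  have hacy : ∀ i, AcyclicLES.IsAcyclic S (L.X i) := fun i k hk =>
    hT _ (inferInstanceAs (Injective (I.cochainComplex.X i))) k hk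
  let X : DerivedCategory.Plus B := DerivedCategory.Plus.Q.obj ⟨L, 0, hL⟩
  let eX : DerivedCategory.Plus.ι.obj X ≅ DerivedCategory.Q.obj L :=
    (DerivedCategory.quotientCompQhIso B).app L
  haveI : X.IsGE 0 := by
    rw [← DerivedCategory.Plus.isGE_ι_obj_iff]
    haveI : (DerivedCategory.Q.obj L).IsGE 0 := inferInstance
    exact DerivedCategory.TStructure.t.isGE_of_iso eX.symm 0
  haveI := isFirstQuadrant S X
  refine H15Site.SpAbutment.exists_spectralSequence (spObj S X)
    (fun p q => if 0 ≤ p ∧ 0 ≤ q then (S.rightDerived p.toNat).obj ((T.rightDerived q.toNat).obj a) else 0)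
    (fun p q hp hq => ?_) (fun p q h => by rw [if_neg h]; exact isZero_zero C) (fun n => ?_)
  · rw [if_pos ⟨hp, hq⟩]
    obtain ⟨p, rfl⟩ := Int.eq_ofNat_of_zero_le hp
    obtain ⟨q, rfl⟩ := Int.eq_ofNat_of_zero_le hq
    simp only [Int.toNat_natCast]
    obtain ⟨e₁⟩ := nonempty_E₂ S X p q
    obtain ⟨e₂⟩ := AcyclicLES.nonempty_rightDerived_iso T I.cochainComplex 0 (fun k => inferInstance) I.ι' q
    exact ⟨e₁ ≪≫ (S.rightDerived p).mapIso ((DerivedCategory.homologyFunctor B (q : ℤ)).mapIso eX ≪≫
      (DerivedCategory.homologyFunctorFactors B (q : ℤ)).app L ≪≫ e₂.symm)⟩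
  · by_cases hn : 0 ≤ n
    · rw [if_pos hn]
      obtain ⟨k, rfl⟩ := Int.eq_ofNat_of_zero_le hn
      simp only [Int.toNat_natCast]
      obtain ⟨e₁⟩ := nonempty_total S X 0 eX hacy (k : ℤ)
      obtain ⟨e₂⟩ := AcyclicLES.nonempty_rightDerived_iso (T ⋙ S) I.cochainComplex 0
        (fun j => inferInstance) I.ι' k
      exact ⟨e₁ ≪≫ e₂.symm⟩
    · rw [if_neg hn]
      exact ⟨(H15Site.SpAbutment.isZero_neg (spObj S X) n (not_le.1 hn)).iso (isZero_zero C)⟩

end SS

end Groth.Agent.H16Derived.GrothSS
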