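import Groth.Agent.H16Derived.Stupid
import Groth.Agent.H16Derived.QCoprod
import Groth.Agent.H16Derived.RDerived
import Groth.Agent.H16Derived.AcyclicLES
import Groth.Agent.H16Derived.Res.TruncSystem
import Mathlib.CategoryTheory.Limits.Constructions.Filtered
import Mathlib.Algebra.Category.Grp.AB
import Mathlib.Algebra.Category.Grp.Abelian
import Mathlib.CategoryTheory.Abelian.GrothendieckCategory.EnoughInjectives

/-!
# Complexes of acyclic objects compute derived functors commuting with countable sums
-/

set_option autoImplicit false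
set_option linter.style.haveILetI false

universe w w' v v' u u'

open CategoryTheory CategoryTheory.Limits CategoryTheory.Pretriangulated
open scoped ZeroObject

namespace Groth.Agent.H16Derived.AcyclicSums

theorem preservesCoproducts_of_filtered {A : Type u} [Category.{v} A] [Abelian A]
    [HasFilteredColimitsOfSize.{v, v} A] [HasCoproducts.{v} A] {B : Type u'} [Category.{v'} B] [Abelian B] (G : A ⥤ B) [G.Additive]
    [PreservesFilteredColimitsOfSize.{v, v} G] (J : Type v) : PreservesColimitsOfShape (Discrete J) G := by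
  classical
  haveI : PreservesFiniteCoproducts G := inferInstance
  haveI : ∀ f : J → A, PreservesColimit (Discrete.functor f) G := fun f => by
    let hF := isColimitOfPreserves G (CoproductsFromFiniteFiltered.isColimitFiniteSubproductsCocone f)
    let hS := fun S : Finset (Discrete J) =>
      isColimitOfPreserves G (colimit.isColimit (Discrete.functor fun x : S => (Discrete.functor f).obj x.1))
    let t : ∀ s : Cocone (Discrete.functor f ⋙ G),
        Cocone (CoproductsFromFiniteFiltered.liftToFinsetObj (Discrete.functor f) ⋙ G) := fun s =>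
      { pt := s.pt
        ι :=
          { app := fun S => (hS S).desc
              (Cocone.mk s.pt (Discrete.natTrans fun x => s.ι.app x.as.1))
            naturality := fun S T g => (hS S).hom_ext fun ⟨x⟩ => by
              show G.map _ ≫ G.map _ ≫ _ = G.map _ ≫ _ ≫ 𝟙 _
              rw [Category.comp_id, ← G.map_comp_assoc]
              erw [colimit.ι_desc]
              exact ((hS T).fac _ _).trans ((hS S).fac (Cocone.mk s.pt (Discrete.natTrans fun x => s.ι.app x.as.1)) ⟨x⟩).symm } }
    refine preservesColimit_of_preserves_colimit_cocone (colimit.isColimit _) ?_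
    refine { desc := fun s => hF.desc (t s), fac := fun s j => ?_, uniq := fun s m hm => ?_ }
    · let S : Finset (Discrete J) := {j}
      refine Eq.trans ?_ ((hS S).fac (Cocone.mk s.pt (Discrete.natTrans fun x => s.ι.app x.as.1))
        ⟨⟨j, Finset.mem_singleton_self j⟩⟩)
      refine Eq.trans ?_ (congrArg (_ ≫ ·) (hF.fac (t s) S))
      show G.map _ ≫ _ = G.map _ ≫ G.map _ ≫ _
      rw [← G.map_comp_assoc]
      erw [colimit.ι_desc]
      rfl
    · refine hF.hom_ext fun S => ?_
      rw [hF.fac]
      refine (hS S).hom_ext fun ⟨x⟩ => ?_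
      refine Eq.trans ?_ ((hS S).fac (Cocone.mk s.pt (Discrete.natTrans fun x => s.ι.app x.as.1)) ⟨x⟩).symm
      refine Eq.trans ?_ (hm x.1)
      show G.map _ ≫ G.map _ ≫ _ = _
      rw [← G.map_comp_assoc]
      erw [colimit.ι_desc]
      rfl
  exact preservesColimitsOfShape_of_discrete G

lemma map_descShortComplex {C : Type u} [Category.{v} C] [Abelian C] {C' : Type u'} [Category.{v'} C']
    [Abelian C'] (G : C ⥤ C') [G.Additive] (S : ShortComplex (CochainComplex C ℤ)) :
    (G.mapHomologicalComplex (ComplexShape.up ℤ)).map (CochainComplex.mappingCone.descShortComplex S) =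
      (CochainComplex.mappingCone.mapHomologicalComplexIso S.f G).hom ≫
      CochainComplex.mappingCone.descShortComplex (S.map (G.mapHomologicalComplex (ComplexShape.up ℤ))) := by
  refine HomologicalComplex.hom_ext _ _ fun p => ?_
  have key : ∀ {D : Type u'} [Category.{v'} D] [Abelian D] (S' : ShortComplex (CochainComplex D ℤ)),
      (CochainComplex.mappingCone.descShortComplex S').f p =
        (CochainComplex.mappingCone.snd S'.f).v p p (add_zero p) ≫ S'.g.f p := fun S' => by
    simp [CochainComplex.mappingCone.descShortComplex, CochainComplex.mappingCone.desc_f _ _ _ _ p (p + 1) rfl]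
  have key₀ : (CochainComplex.mappingCone.descShortComplex S).f p =
        (CochainComplex.mappingCone.snd S.f).v p p (add_zero p) ≫ S.g.f p := by
    simp [CochainComplex.mappingCone.descShortComplex, CochainComplex.mappingCone.desc_f _ _ _ _ p (p + 1) rfl]
  show G.map ((CochainComplex.mappingCone.descShortComplex S).f p) =
    (CochainComplex.mappingCone.mapHomologicalComplexXIso S.f G p).hom ≫
      (CochainComplex.mappingCone.descShortComplex (S.map (G.mapHomologicalComplex (ComplexShape.up ℤ)))).f p
  rw [key₀, key, CochainComplex.mappingCone.mapHomologicalComplexXIso_eq S.f G p (p + 1) rfl,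
    CochainComplex.mappingCone.mapHomologicalComplexXIso'_hom, G.map_comp]
  have alg : ∀ {X Y Z W V : C'} (a : X ⟶ Y) (i : Y ⟶ Z) (b : X ⟶ W) (j : W ⟶ Z) (s : Z ⟶ W) (g : W ⟶ V),
      i ≫ s = 0 → j ≫ s = 𝟙 W → (a ≫ i + b ≫ j) ≫ (s ≫ g) = b ≫ g := fun a i b j s g h₁ h₂ => by
    simp [reassoc_of% h₁, reassoc_of% h₂]
  refine (alg _ _ _ _ _ _ ?_ ?_).symm
  · exact CochainComplex.mappingCone.inl_v_snd_v _ _ _ _
  · exact CochainComplex.mappingCone.inr_f_snd_v _ _

variable {A : Type u} [Category.{v} A] [Abelian A] [IsGrothendieckAbelian.{v} A] [HasDerivedCategory.{w} A]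
  {B : Type u'} [Category.{v} B] [Abelian B] [IsGrothendieckAbelian.{v} B] [HasDerivedCategory.{w'} B]
  (F : A ⥤ B) [F.Additive] [PreservesFiniteLimits F]

local notation "qA" => HomotopyCategory.quotient A (ComplexShape.up ℤ)
local notation "qB" => HomotopyCategory.quotient B (ComplexShape.up ℤ)

lemma preserves_quotient_Qh {C : Type u} [Category.{v} C] [Abelian C] [IsGrothendieckAbelian.{v} C]
    [HasDerivedCategory.{w} C] {T : Type v} (K : T → CochainComplex C ℤ) :
    PreservesColimit (Discrete.functor K)
      (HomotopyCategory.quotient C (ComplexShape.up ℤ) ⋙ DerivedCategory.Qh) := by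
  haveI := QCoprod.preservesColimit_Q K
  exact preservesColimit_of_natIso (Discrete.functor K) (DerivedCategory.quotientCompQhIso C).symm

/-- The canonical map is invertible on complexes of acyclic objects. -/
theorem isIso_unit [PreservesColimitsOfShape (Discrete (ULift.{v} ℕ)) F]
    (G : DerivedCategory A ⥤ DerivedCategory B) [PreservesColimitsOfShape (Discrete (ULift.{v} ℕ)) G]
    (α : F.mapHomotopyCategory (ComplexShape.up ℤ) ⋙ DerivedCategory.Qh ⟶ DerivedCategory.Qh ⋙ G)
    [G.IsRightDerivedFunctor α (HomotopyCategory.quasiIso A (ComplexShape.up ℤ))]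
    (K : CochainComplex A ℤ) (hK : ∀ i, AcyclicLES.IsAcyclic F (K.X i)) :
    IsIso (α.app ((qA).obj K)) := by
  let H := F.mapHomotopyCategory (ComplexShape.up ℤ) ⋙ DerivedCategory.Qh
  let MF := F.mapHomologicalComplex (ComplexShape.up ℤ)
  obtain ⟨R, j, hR⟩ := KInjRes.exists_resolution_functor (A := A)
  have hj : ∀ M, IsIso (DerivedCategory.Qh.map ((qA).map (j.app M))) := fun M =>
    Localization.inverts DerivedCategory.Qh (HomotopyCategory.quasiIso A (ComplexShape.up ℤ)) _
      ((HomotopyCategory.quotient_map_mem_quasiIso_iff _).2 (hR M).2.1)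
  haveI hp : H.HasPointwiseRightDerivedFunctor (HomotopyCategory.quasiIso A (ComplexShape.up ℤ)) :=
    RDerived.hasPointwiseRightDerivedFunctor_of_resolutions DerivedCategory.Qh _ H fun Y => by
      obtain ⟨Y, rfl⟩ := HomotopyCategory.quotient_obj_surjective Y
      haveI := (hR Y).2.2.1
      exact ⟨_, (qA).map (j.app Y), (HomotopyCategory.quotient_map_mem_quasiIso_iff _).2 (hR Y).2.1,
        fun Z => CochainComplex.IsKInjective.Qh_map_bijective Z _⟩
  have hb : ∀ X : HomotopyCategory A (ComplexShape.up ℤ),
      (HomotopyCategory.subcategoryAcyclic A).rightOrthogonal X → IsIso (α.app X) := fun X hX =>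
    RDerived.isIso_unit_app_of_bijective DerivedCategory.Qh
      (HomotopyCategory.quasiIso A (ComplexShape.up ℤ)) H G α X
      fun Y => hX.map_bijective_of_isTriangulated (DerivedCategory.Qh (C := A)) Y
  have hsq : ∀ {X Y : CochainComplex A ℤ} (f : X ⟶ Y), IsIso (H.map ((qA).map f)) →
      IsIso (DerivedCategory.Qh.map ((qA).map f)) →
      (IsIso (α.app ((qA).obj X)) ↔ IsIso (α.app ((qA).obj Y))) := by
    intro X Y f hf hQ
    have n := α.naturality ((qA).map f)
    haveI := hf
    haveI : IsIso ((DerivedCategory.Qh ⋙ G).map ((qA).map f)) :=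
      inferInstanceAs (IsIso (G.map (DerivedCategory.Qh.map ((qA).map f))))
    constructor
    · intro h
      haveI : IsIso (H.map ((qA).map f) ≫ α.app ((qA).obj Y)) := by
        rw [n]; exact inferInstanceAs (IsIso (α.app _ ≫ _))
      exact IsIso.of_isIso_comp_left (H.map ((qA).map f)) _
    · intro h
      haveI : IsIso (α.app ((qA).obj X) ≫ (DerivedCategory.Qh ⋙ G).map ((qA).map f)) := by
        rw [← n]; exact inferInstanceAs (IsIso (H.map _ ≫ α.app _))
      exact IsIso.of_isIso_comp_right _ ((DerivedCategory.Qh ⋙ G).map ((qA).map f))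
  have hHq : ∀ {X Y : CochainComplex A ℤ} (f : X ⟶ Y), QuasiIso (MF.map f) → IsIso (H.map ((qA).map f)) :=
    fun f hf => Localization.inverts DerivedCategory.Qh (HomotopyCategory.quasiIso B (ComplexShape.up ℤ)) _
      ((HomotopyCategory.quotient_map_mem_quasiIso_iff (MF.map f)).2 hf)
  have hQq : ∀ {X Y : CochainComplex A ℤ} (f : X ⟶ Y), QuasiIso f →
      IsIso (DerivedCategory.Qh.map ((qA).map f)) :=
    fun f hf => Localization.inverts DerivedCategory.Qh (HomotopyCategory.quasiIso A (ComplexShape.up ℤ)) _
      ((HomotopyCategory.quotient_map_mem_quasiIso_iff f).2 hf)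
  have hbd : ∀ (M : CochainComplex A ℤ) (a : ℤ) [M.IsStrictlyGE a],
      (∀ i, AcyclicLES.IsAcyclic F (M.X i)) → IsIso (α.app ((qA).obj M)) := by
    intro M a _ hM
    haveI : ObjectProperty.IsClosedUnderIsomorphisms (fun X : A => Injective X) :=
      ⟨fun e h => Injective.of_iso e h⟩
    obtain ⟨I, f, hf, hI, hinj⟩ := Res.exists_qis_plus (fun X : A => Injective X)
      ⟨(0 : A), isZero_zero A, inferInstance⟩
      (fun X => ⟨Injective.under X, Injective.ι X, inferInstance, inferInstance⟩) a M
    haveI : ∀ i, Injective (I.X i) := hinj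
    haveI := CochainComplex.isKInjective_of_injective I a
    haveI := hf
    haveI := hI
    have hFf : QuasiIso (MF.map f) :=
      AcyclicLES.quasiIso_map F f a hM fun i => AcyclicLES.isAcyclic_of_injective F (I.X i)
    exact (hsq f (hHq f hFf) (hQq f hf)).2 (hb _ (CochainComplex.IsKInjective.rightOrthogonal I))
  let T := Stupid.T K
  have hT : ∀ n, IsIso (α.app ((qA).obj (T n))) := fun n => by
    haveI : (T n).IsStrictlyGE (-(n.down : ℤ)) :=
      (CochainComplex.isStrictlyGE_iff _ _).2 fun i hi => Stupid.isZero_X K _ i hi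
    refine hbd _ (-(n.down : ℤ)) fun i => ?_
    by_cases h : -(n.down : ℤ) ≤ i
    · haveI := Stupid.isIso_ι_f K _ i h
      exact fun k hk => (hK i k hk).of_iso
        ((F.rightDerived k).mapIso (asIso ((Stupid.ι K (-(n.down : ℤ))).f i)))
    · haveI : Injective ((T n).X i) :=
        Injective.of_iso ((isZero_zero A).iso (Stupid.isZero_X K (-(n.down : ℤ)) i (by omega))) inferInstance
      exact AcyclicLES.isAcyclic_of_injective F _
  let S := Stupid.tele K
  haveI hMFp : PreservesColimit (Discrete.functor T) MF :=
    ⟨fun {d} hd => ⟨HomologicalComplex.isColimitOfEval _ _ fun p => IsColimit.ofIsoColimit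
      (isColimitOfPreserves F (isColimitOfPreserves (HomologicalComplex.eval A (ComplexShape.up ℤ) p) hd))
      (Iso.refl _)⟩⟩
  have hsum : IsIso (α.app ((qA).obj (∐ T))) := by
    let LA := HomotopyCategory.quotient A (ComplexShape.up ℤ) ⋙ DerivedCategory.Qh
    let LB := HomotopyCategory.quotient B (ComplexShape.up ℤ) ⋙ DerivedCategory.Qh
    let β : MF ⋙ LB ⟶ LA ⋙ G :=
      { app := fun M => α.app ((qA).obj M)
        naturality := fun X Y f => α.naturality ((qA).map f) }
    haveI : PreservesColimit (Discrete.functor T) LA := preserves_quotient_Qh T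
    haveI : PreservesColimit (Discrete.functor T) (MF ⋙ LB) := by
      haveI : PreservesColimit (Discrete.functor (MF.obj ∘ T)) LB := preserves_quotient_Qh _
      haveI : PreservesColimit (Discrete.functor T ⋙ MF) LB :=
        preservesColimit_of_iso_diagram LB (Discrete.compNatIsoDiscrete T MF).symm
      infer_instance
    haveI : PreservesColimit (Discrete.functor T ⋙ LA) G := inferInstance
    have h₁ := isColimitOfPreserves (MF ⋙ LB) (coproductIsCoproduct T)
    have h₂ := isColimitOfPreserves (LA ⋙ G) (coproductIsCoproduct T)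
    haveI : ∀ n : Discrete (ULift.{v} ℕ), IsIso ((Functor.whiskerLeft (Discrete.functor T) β).app n) :=
      fun n => hT n.as
    haveI := NatIso.isIso_of_isIso_app (Functor.whiskerLeft (Discrete.functor T) β)
    let e := IsColimit.coconePointsIsoOfNatIso h₁ h₂ (asIso (Functor.whiskerLeft (Discrete.functor T) β))
    have he : β.app (∐ T) = e.hom := h₁.hom_ext fun n => by
      refine Eq.trans ?_ (IsColimit.comp_coconePointsIsoOfNatIso_hom h₁ h₂ _ n).symm
      exact β.naturality (Sigma.ι T n.as)
    exact (show IsIso (β.app (∐ T)) by rw [he]; infer_instance)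
  let φ : (∐ T) ⟶ ∐ T := Stupid.shift K
  let ψ := R.map φ
  have comm : φ ≫ j.app (∐ T) = j.app (∐ T) ≫ ψ := j.naturality φ
  let m := CochainComplex.mappingCone.map φ ψ (j.app (∐ T)) (j.app (∐ T)) comm
  let D := (qA).obj (∐ T)
  haveI hjX : IsIso (H.map ((qA).map (j.app (∐ T)))) := by
    haveI := hsum
    haveI := hb _ (haveI := (hR (∐ T)).2.2.1; CochainComplex.IsKInjective.rightOrthogonal (R.obj (∐ T)))
    haveI : IsIso (α.app ((qA).obj (∐ T)) ≫ G.map (DerivedCategory.Qh.map ((qA).map (j.app (∐ T))))) := by
      haveI := hj (∐ T)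
      infer_instance
    haveI : IsIso (H.map ((qA).map (j.app (∐ T))) ≫ α.app ((qA).obj (R.obj (∐ T)))) := by
      rw [α.naturality]; assumption
    exact IsIso.of_isIso_comp_right _ (α.app ((qA).obj (R.obj (∐ T))))
  let tm := (qA).mapTriangle.map (CochainComplex.mappingCone.triangleMap φ ψ _ _ comm)
  have hdφ := HomotopyCategory.mappingCone_triangleh_distinguished φ
  have hdψ := HomotopyCategory.mappingCone_triangleh_distinguished ψ
  have hHm : IsIso (H.map ((qA).map m)) :=
    isIso₃_of_isIso₁₂ (H.mapTriangle.map tm) (H.map_distinguished _ hdφ) (H.map_distinguished _ hdψ) hjX hjX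
  have hQm : IsIso (DerivedCategory.Qh.map ((qA).map m)) :=
    isIso₃_of_isIso₁₂ (DerivedCategory.Qh.mapTriangle.map tm) (DerivedCategory.Qh.map_distinguished _ hdφ)
      (DerivedCategory.Qh.map_distinguished _ hdψ) (hj _) (hj _)
  have hJ : IsIso (α.app ((qA).obj (CochainComplex.mappingCone ψ))) := by
    haveI := (hR (∐ T)).2.2.1
    exact hb _ ((HomotopyCategory.subcategoryAcyclic A).rightOrthogonal.ext_of_isTriangulatedClosed₃ _ hdψ
      (CochainComplex.IsKInjective.rightOrthogonal (R.obj (∐ T)))
      (CochainComplex.IsKInjective.rightOrthogonal (R.obj (∐ T))))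
  have hC : IsIso (α.app ((qA).obj (CochainComplex.mappingCone φ))) := (hsq m hHm hQm).2 hJ
  have hS : S.ShortExact := Stupid.shortExact_tele K
  let d : CochainComplex.mappingCone φ ⟶ K := CochainComplex.mappingCone.descShortComplex S
  have hd : QuasiIso d := CochainComplex.mappingCone.quasiIso_descShortComplex hS
  have hFd : QuasiIso (MF.map d) := by
    have hFS : (S.map MF).ShortExact :=
      HomologicalComplex.shortExact_of_degreewise_shortExact _ fun p =>
        ((Stupid.exists_splitting K p).some.map F).shortExact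
    haveI := CochainComplex.mappingCone.quasiIso_descShortComplex hFS
    have e : MF.map d = (CochainComplex.mappingCone.mapHomologicalComplexIso φ F).hom ≫
        CochainComplex.mappingCone.descShortComplex (S.map MF) := by
      exact map_descShortComplex F S
    rw [e]
    exact quasiIso_comp (hφ := inferInstance) (hφ' := ‹_›) _ _
  exact (hsq d (hHq d hFd) (hQq d hd)).1 hC

end Groth.Agent.H16Derived.AcyclicSums
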