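import Groth.Agent.H11Ample.Global
import Groth.Agent.H11Ample.RelComp
import Groth.Agent.H16Derived.ProjFormula.Free
import Groth.Agent.H16Derived.KFlat.LocFreeOps
import Groth.Agent.H22Alg.KAmple
import Groth.Agent.H11Sym.InvertibleInverse
import Groth.Agent.H27KZero.AmpleRes
import Groth.Prelude.Def_MoreMor
import Groth.Prelude.Def_PerfAux
import Groth.Prelude.Def_KSix
import Groth.Agent.LeadResProp.Family
import Groth.Agent.H22Alg.NakaiGen

/-!
# An ample family gives the resolution property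
-/

set_option autoImplicit false
set_option linter.style.haveILetI false

noncomputable section

universe u

open CategoryTheory CategoryTheory.Limits AlgebraicGeometry Opposite TopologicalSpace
open Groth.Agent.H11Tilde Groth.Agent.H11Ample
open Groth.Agent.H16Derived Groth.Agent.H16Derived.ProjFormula Groth.Agent.H16Derived.KFlat
  Groth.Agent.H16Derived.KFlat.Stalk

open Groth.Agent.LeadResProp

namespace Groth.Agent.H16Derived.AmpleNegQuot

variable {X : Scheme.{u}}

/-- Over the non-vanishing locus, when affine, a coherent module is a quotient of a bundle. -/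
theorem exists_negPow_epi_res [CompactSpace X] [QuasiSeparatedSpace X] {F : X.Modules} (hF : Coh.IsQCoh F)
    (hF' : CohB1.IsFT F)
    {L : X.Modules} (hL : PicF.IsInvertible L) (t : Γ(L, ⊤)) (ht : IsAffineOpen (gen L t)) :
    ∃ (n k : ℕ) (M : X.Modules) (r : Fin k → (M ⟶ F)), 0 < n ∧
      Nonempty (CohB1.tensorMod M (CohB1.tensorPow L n) ≅ Coh.structureModule X) ∧
      Epi ((res (gen L t)).map (Sigma.desc r)) := by
  classical
  replace hF : Coh.IsCoh F := ⟨hF, hF'⟩
  haveI : F.IsQuasicoherent := hF.1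
  let s : Γ(CohB1.tensorPow L 1, ⊤) := spow t 1
  have hs : gen (CohB1.tensorPow L 1) s = gen L t := gen_spow hL t 1 one_pos
  let G := gen (CohB1.tensorPow L 1) s
  have hG : IsAffineOpen G := by rw [show G = gen L t from hs]; exact ht
  let e : Γ(L, G) := L.presheaf.map (homOfLE (le_top : G ≤ ⊤)).op t
  have he : IsGen L e := by
    have := (isGen_gen (L := L) t).res hs.le
    rwa [H10Coh.mres_mres] at this
  obtain ⟨card, m, hm⟩ := Submodule.fg_iff_exists_fin_generating_family.1
    (((H10Coh.isCoh_iff_finite_sections F).1 hF).2 _ hG).fg_top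
  choose N hN using fun j : ULift.{u} (Fin card) => exists_extend_pow hL hF.1 one_pos s he (m j.down)
  let n := max 1 (Finset.univ.sup N)
  choose S c hc hS using fun j => hN j n ((Finset.le_sup (Finset.mem_univ j)).trans (le_max_right _ _))
  let P := CohB1.tensorMod F (CohB1.tensorPow L n)
  obtain ⟨k, p, hp⟩ := exists_free_epi_res P G S fun W w x hxW hxG => by
    obtain ⟨f, hfW, hxf⟩ := hG.exists_basicOpen_le (V := W) ⟨x, hxW⟩ hxG
    have hfG : X.basicOpen f ≤ G := X.basicOpen_le f
    refine ⟨X.basicOpen f, hfW, hxf, hfG, ?_⟩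
    obtain ⟨a, ha⟩ := (bijective_tm (F := F) (isGen_spow he n) hfG).2 (P.presheaf.map (homOfLE hfW).op w)
    beta_reduce at ha
    rw [← ha]
    obtain ⟨r, v, hv⟩ := H10Coh.exists_pow_smul_eq_res F hG f a
    have hunit : IsUnit (X.presheaf.map (homOfLE hfG).op f) := X.toRingedSpace.isUnit_res_basicOpen f
    obtain ⟨d, hd⟩ := (hunit.pow r).exists_left_inv
    have ha' : a = d • F.presheaf.map (homOfLE hfG).op v := by
      rw [hv, smul_smul, map_pow]
      exact (one_smul _ a).symm.trans (congrArg (fun z => z • a) hd.symm)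
    rw [ha', tm_smul_left]
    refine Submodule.smul_mem _ _ ?_
    have hmem : v ∈ Submodule.span Γ(X, G) (Set.range m) := hm.symm ▸ Submodule.mem_top
    clear hv ha' ha
    induction hmem using Submodule.span_induction with
    | mem z hz =>
      obtain ⟨j, rfl⟩ := hz
      have h1 := congrArg (P.presheaf.map (homOfLE hfG).op) (hS ⟨j⟩)
      rw [H10Coh.mres_mres, tm_res] at h1
      obtain ⟨d', hd'⟩ := ((hc ⟨j⟩).map (X.presheaf.map (homOfLE hfG).op).hom).exists_left_inv
      have h2 : tm (F.presheaf.map (homOfLE hfG).op (m j))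
          ((CohB1.tensorPow L n).presheaf.map (homOfLE hfG).op (spow e n)) =
          d' • P.presheaf.map (homOfLE (le_top : X.basicOpen f ≤ ⊤)).op (S ⟨j⟩) := by
        rw [h1, Scheme.Modules.map_smul, tm_smul_left, smul_smul]
        exact (one_smul _ _).symm.trans (congrArg (fun z => z • _) hd'.symm)
      rw [h2]
      exact Submodule.smul_mem _ _ (Submodule.subset_span ⟨⟨j⟩, rfl⟩)
    | zero =>
      rw [map_zero, ← zero_smul Γ(X, X.basicOpen f) (0 : Γ(F, X.basicOpen f)), tm_smul_left, zero_smul]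
      exact Submodule.zero_mem _
    | add z z' _ _ hz hz' =>
      rw [map_add, tm_add_left]
      exact Submodule.add_mem _ hz hz'
    | smul r z _ hz =>
      rw [Scheme.Modules.map_smul, tm_smul_left]
      exact Submodule.smul_mem _ _ hz
  obtain ⟨M, hM, ⟨ε⟩⟩ := H11Sym.exists_inverse (isInvertible_tensorPow hL n)
  haveI := hp
  let T := (DCoh.tensorBi (X := X)).obj M
  let c' : CohB1.tensorMod M P ≅ F :=
    tensorCommIso M P ≪≫ tensorAssocIso F _ _ ≪≫
      PicGrp.tensorModIso (Iso.refl F) (tensorCommIso _ _ ≪≫ ε) ≪≫ tensorCommIso _ _ ≪≫ tensorLeftUnitIso F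
  haveI := H15Site.ModTensor.preservesColimits_tL (O := X.sheaf) M
  haveI : PreservesFiniteColimits T :=
    PreservesColimitsOfSize.preservesFiniteColimits ((ModSite.tensorBi X.sheaf).obj M)
  let O1 : X.Modules := Coh.structureModule X
  let u : M ≅ T.obj O1 := (tensorLeftUnitIso M).symm ≪≫ tensorCommIso O1 M
  let r : Fin k → (M ⟶ F) := fun i =>
    u.hom ≫ T.map (Sigma.ι (fun _ : Fin k => O1) i ≫ p) ≫ c'.hom
  have hr : Sigma.desc r = (Limits.Sigma.map fun _ : Fin k => u.hom) ≫ sigmaComparison T (fun _ : Fin k => O1) ≫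
      T.map p ≫ c'.hom := by
    refine Sigma.hom_ext _ _ fun i => ?_
    simp [r]
  refine ⟨n, k, M, r, lt_of_lt_of_le one_pos (le_max_left _ _), ⟨ε⟩, ?_⟩
  rw [← show G = gen L t from hs, hr, Functor.map_comp, Functor.map_comp, Functor.map_comp]
  haveI : Epi ((res G).map (T.map p)) := epi_res_tensor G M p
  infer_instance

/-- Quotient of a sum of negative powers of an ample family. -/
theorem exists_inAddL_epi {ι : Type u} {L : ι → X.Modules} (hL : KSix.IsAmpleFamily L) {F : X.Modules}
    (hF : Coh.IsQCoh F) (hF' : CohB1.IsFT F) : ∃ (M : X.Modules) (π : M ⟶ F), KSix.InAddL L M ∧ Epi π := by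
  classical
  obtain ⟨hc, hq, hinv, hfam⟩ := hL
  haveI := hc
  haveI := hq
  choose i m s hxs haff using hfam
  let P := fun x => CohB1.tensorPow (L (i x)) (m x + 1)
  let t : ∀ x, Γ(P x, ⊤) := fun x => SecTwist.val (s x) ⊤
  have hgen : ∀ x, CohB1.genLocus (P x) (s x) = gen (P x) (t x) := fun x => genLocus_eq_gen (s x)
  choose n k N r hn hε hr using fun x =>
    exists_negPow_epi_res hF hF' (isInvertible_tensorPow (hinv (i x)) (m x + 1)) (t x) (hgen x ▸ haff x)
  obtain ⟨T, hT⟩ := CompactSpace.elim_nhds_subcover (fun x => (gen (P x) (t x) : Set X))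
    (fun x => (gen (P x) (t x)).isOpen.mem_nhds (hgen x ▸ hxs x))
  let J := Σ x : T, Fin (k x.1)
  let e : J ≃ Fin (Fintype.card J) := Fintype.equivFin J
  let N' : Fin (Fintype.card J) → X.Modules := fun a => N (e.symm a).1.1
  let π : (⨁ N') ⟶ F := biproduct.desc fun a => r (e.symm a).1.1 (e.symm a).2
  refine ⟨⨁ N', π, ⟨_, N', fun a => ?_, ⟨Iso.refl _⟩⟩, ?_⟩
  · let x := (e.symm a).1.1
    obtain ⟨ε⟩ := hε x
    obtain ⟨e'⟩ := H22Alg.NakaiGen.nonempty_tensorPow_mul (L (i x)) (m x + 1) (n x)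
    exact ⟨i x, (m x + 1) * n x, Nat.mul_pos (Nat.succ_pos _) (hn x),
      ⟨PicGrp.tensorModIso (Iso.refl _) e'.symm ≪≫ ε⟩⟩
  refine epi_of_res (fun x : T => gen (P x.1) (t x.1)) (fun y => ?_) _ fun x => ?_
  · obtain ⟨z, hz, hyz⟩ := Set.mem_iUnion₂.1 (hT.ge (Set.mem_univ y))
    exact ⟨⟨z, hz⟩, hyz⟩
  · haveI := hr x.1
    have key : ∀ (a : Fin (Fintype.card J)) (b : J), e.symm a = b → ∃ f : N b.1.1 ⟶ ⨁ N', f ≫ π = r b.1.1 b.2 := by
      rintro a _ rfl
      exact ⟨biproduct.ι N' a, biproduct.ι_desc _ _⟩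
    choose f hf using fun l : Fin (k x.1) => key (e ⟨x, l⟩) ⟨x, l⟩ (e.symm_apply_apply _)
    have hfac : Sigma.desc (r x.1) = Sigma.desc f ≫ π := Sigma.hom_ext _ _ fun l => by simp [hf]
    rw [hfac, Functor.map_comp] at this
    exact epi_of_epi ((res (gen (P x.1) (t x.1))).map (Sigma.desc f)) _

end Groth.Agent.H16Derived.AmpleNegQuot
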