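import Mathlib.CategoryTheory.Triangulated.Opposite.Pretriangulated
import Mathlib.CategoryTheory.Triangulated.HomologicalFunctor
import Mathlib.CategoryTheory.Triangulated.Yoneda
import Mathlib.CategoryTheory.Limits.Shapes.Opposites.Products
import Mathlib.CategoryTheory.Yoneda
import Mathlib.Algebra.Category.Grp.Basic
import Mathlib.Algebra.Category.Grp.Abelian
import Mathlib.Algebra.Category.Grp.Limits
import Mathlib.Algebra.Category.Grp.ForgetCorepresentable

/-!
# Brown representability for perfectly generated triangulated categories (Neeman, Krause)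
-/

universe v u

open scoped ZeroObject
open CategoryTheory CategoryTheory.Limits CategoryTheory.Pretriangulated
  CategoryTheory.Pretriangulated.Opposite

namespace Groth.Agent.H16Derived.Brown

set_option linter.unusedSectionVars false

variable {D : Type u} [Category.{v} D] [Preadditive D] [HasZeroObject D] [HasShift D ℤ]
  [∀ n : ℤ, (shiftFunctor D n).Additive] [Pretriangulated D] [HasCoproducts.{v} D]
  [HasColimitsOfShape (Discrete ℕ) D]

/-- The hypotheses on the family of generators. -/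
structure Gen {ι : Type v} (E : ι → D) : Prop where
  zero : ∀ X : D, (∀ (i : ι) (f : E i ⟶ X), f = 0) → IsZero X
  shift : ∀ (i : ι) (k : ℤ), ∃ j, Nonempty (E j ≅ (shiftFunctor D k).obj (E i))
  perfect : ∀ (X : ℕ → D) (i : ι) (α : E i ⟶ ∐ X), ∃ (j : ℕ → ι) (β : ∀ n, E (j n) ⟶ X n)
    (γ : E i ⟶ ∐ (fun n => E (j n))), α = γ ≫ Limits.Sigma.map β

lemma gen_of_family {ι : Type v} (E : ι → D)
    (h1 : ∀ X : D, (∀ (i : ι) (n : ℤ) (f : (shiftFunctor D n).obj (E i) ⟶ X), f = 0) → IsZero X)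
    (h2 : ∀ (X : ℕ → D) (i : ι) (α : E i ⟶ ∐ X), ∃ (j : ℕ → ι) (β : ∀ n, E (j n) ⟶ X n)
      (γ : E i ⟶ ∐ (fun n => E (j n))), α = γ ≫ Limits.Sigma.map β) :
    Gen (fun p : ι × ULift.{v} ℤ => (shiftFunctor D p.2.down).obj (E p.1)) := by
  refine ⟨fun X hX => ?_, fun p k => ?_, fun X p α => ?_⟩
  · exact h1 X fun i n f => hX (i, ⟨n⟩) f
  · exact ⟨(p.1, ⟨p.2.down + k⟩), ⟨(shiftFunctorAdd D p.2.down k).app (E p.1)⟩⟩
  · obtain ⟨i, ⟨k⟩⟩ := p
    let e := shiftEquiv D k
    have hp := (e.toAdjunction.homEquiv (E i) (∐ X))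
    let c := sigmaComparison e.inverse X
    have : PreservesColimit (Discrete.functor X) e.inverse := inferInstance
    have : PreservesColimitsOfShape (Discrete ℕ) e.functor := inferInstance
    obtain ⟨j, β, γ, h⟩ := h2 (fun n => e.inverse.obj (X n)) i
      (e.toAdjunction.homEquiv (E i) (∐ X) α ≫ inv c)
    have : PreservesColimit (Discrete.functor fun n => E (j n)) e.functor := inferInstance
    let Ej : ℕ → D := fun n => E (j n)
    have : IsIso (sigmaComparison e.functor Ej) := by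
      rw [← PreservesCoproduct.inv_hom]
      infer_instance
    let cinv := inv (sigmaComparison e.functor Ej)
    refine ⟨fun n => (j n, ⟨k⟩), fun n => (e.toAdjunction.homEquiv _ _).symm (β n),
      e.functor.map γ ≫ cinv, ?_⟩
    apply (e.toAdjunction.homEquiv (E i) (∐ X)).injective
    have h' : e.toAdjunction.homEquiv (E i) (∐ X) α = γ ≫ Limits.Sigma.map β ≫ c := by
      rw [← Category.assoc, ← h, Category.assoc, IsIso.inv_hom_id, Category.comp_id]
    rw [h']
    have key : Limits.Sigma.map β ≫ c = e.toAdjunction.homEquiv _ _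
        (inv (sigmaComparison e.functor Ej) ≫
          Limits.Sigma.map fun n => (e.toAdjunction.homEquiv _ _).symm (β n)) := by
      rw [← Equiv.symm_apply_eq, ← cancel_epi (sigmaComparison e.functor Ej),
        IsIso.hom_inv_id_assoc]
      refine Sigma.hom_ext _ _ fun n => ?_
      rw [ι_comp_sigmaComparison_assoc, ← Adjunction.homEquiv_naturality_left_symm, Sigma.ι_map_assoc,
        Sigma.ι_map, ι_comp_sigmaComparison, Adjunction.homEquiv_naturality_right_symm]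
    refine ((congrArg (γ ≫ ·) key).trans
      (Adjunction.homEquiv_naturality_left _ γ _).symm).trans ?_
    exact congrArg (e.toAdjunction.homEquiv (E i) (∐ X)) (Category.assoc _ _ _).symm

lemma gen_of_nonzero {ι : Type v} (E : ι → D)
    (h1 : ∀ X : D, ¬ IsZero X → ∃ (i : ι) (f : E i ⟶ X), f ≠ 0)
    (h2 : ∀ (X : ℕ → D) (i : ι) (α : E i ⟶ ∐ X), ∃ (j : ℕ → ι) (β : ∀ n, E (j n) ⟶ X n)
      (γ : E i ⟶ ∐ (fun n => E (j n))), α = γ ≫ Limits.Sigma.map β) :
    Gen (fun p : ι × ULift.{v} ℤ => (shiftFunctor D p.2.down).obj (E p.1)) := by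
  refine gen_of_family E (fun X hX => ?_) h2
  by_contra hne
  obtain ⟨i, f, hf⟩ := h1 X hne
  apply hf
  have := hX i 0 ((shiftFunctorZero D ℤ).hom.app (E i) ≫ f)
  have h := congrArg ((shiftFunctorZero D ℤ).inv.app (E i) ≫ ·) this
  simpa using h

variable (H : Dᵒᵖ ⥤ AddCommGrpCat.{v})

/-- Pullback of elements. -/
noncomputable abbrev ev {X Y : D} (f : X ⟶ Y) (y : H.obj (Opposite.op Y)) : H.obj (Opposite.op X) :=
  H.map f.op y

@[simp]
lemma ev_id {X : D} (x : H.obj (Opposite.op X)) : ev H (𝟙 X) x = x := by simp [ev]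

lemma ev_comp {X Y Z : D} (f : X ⟶ Y) (g : Y ⟶ Z) (z : H.obj (Opposite.op Z)) :
    ev H (f ≫ g) z = ev H f (ev H g z) := by simp [ev]

variable [H.IsHomological]

lemma ev_sub {X Y : D} (f g : X ⟶ Y) (y : H.obj (Opposite.op Y)) :
    ev H (f - g) y = ev H f y - ev H g y := by
  simp [ev, op_sub, H.map_sub]

lemma ev_zero {X Y : D} (y : H.obj (Opposite.op Y)) : ev H (0 : X ⟶ Y) y = 0 := by
  simp [ev]

lemma ev_exact {T : Triangle D} (hT : T ∈ distTriang D)
    (y : H.obj (Opposite.op T.obj₂)) (hy : ev H T.mor₁ y = 0) :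
    ∃ z : H.obj (Opposite.op T.obj₃), ev H T.mor₂ z = y :=
  (ShortComplex.ab_exact_iff _).1 (H.map_distinguished_op_exact T hT) y hy

variable [∀ (κ : Type v), PreservesLimitsOfShape (Discrete κ) H]

/-- A cohomological functor taking coproducts to products sees a coproduct as the product. -/
noncomputable def isLimitMap {κ : Type v} (Z : κ → D) :
    IsLimit (Fan.mk (H.obj (Opposite.op (∐ Z))) fun k => H.map (Sigma.ι Z k).op) :=
  isLimitFanMkObjOfIsLimit H _ _ (Cofan.IsColimit.op (coproductIsCoproduct Z))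

lemma ev_ext_of_isLimit {κ : Type*} {W : κ → AddCommGrpCat.{v}} {P : AddCommGrpCat.{v}}
    {p : ∀ k, P ⟶ W k} (hl : IsLimit (Fan.mk P p)) (x y : P) (h : ∀ k, p k x = p k y) : x = y :=
  Concrete.isLimit_ext _ hl x y fun ⟨k⟩ => h k

lemma exists_of_isLimit {κ : Type*} {W : κ → AddCommGrpCat.{v}} {P : AddCommGrpCat.{v}}
    {p : ∀ k, P ⟶ W k} (hl : IsLimit (Fan.mk P p)) (x : ∀ k, W k) : ∃ y : P, ∀ k, p k y = x k := by
  let q : Fan W := Fan.mk (AddCommGrpCat.of (ULift.{v} ℤ))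
    fun k => AddCommGrpCat.ofHom (uliftZMultiplesHom _ (x k))
  refine ⟨hl.lift q ⟨1⟩, fun k => ?_⟩
  have := ConcreteCategory.congr_hom (hl.fac q ⟨k⟩) (⟨1⟩ : ULift.{v} ℤ)
  refine this.trans ?_
  simp [q, uliftZMultiplesHom]
  exact one_zsmul _

lemma ev_ext {κ : Type v} (Z : κ → D) (x y : H.obj (Opposite.op (∐ Z)))
    (h : ∀ k, ev H (Sigma.ι Z k) x = ev H (Sigma.ι Z k) y) : x = y :=
  ev_ext_of_isLimit (isLimitMap H Z) x y h

lemma exists_ev {κ : Type v} (Z : κ → D) (x : ∀ k, H.obj (Opposite.op (Z k))) :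
    ∃ y : H.obj (Opposite.op (∐ Z)), ∀ k, ev H (Sigma.ι Z k) y = x k :=
  exists_of_isLimit (isLimitMap H Z) x

/-- The same, for sequences. -/
noncomputable def isLimitMapNat (Z : ℕ → D) :
    IsLimit (Fan.mk (H.obj (Opposite.op (∐ Z))) fun k => H.map (Sigma.ι Z k).op) :=
  have : PreservesLimitsOfShape (Discrete ℕ) H :=
    preservesLimitsOfShape_of_equiv (Discrete.equivalence Equiv.ulift.{v}) H
  isLimitFanMkObjOfIsLimit H _ _ (Cofan.IsColimit.op (coproductIsCoproduct Z))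

variable {ι : Type v} (E : ι → D)

/-- An object with an element. -/
abbrev Obj : Type _ := Σ X : D, H.obj (Opposite.op X)

lemma exists_next (p : Obj H) : ∃ (q : Obj H) (t : p.1 ⟶ q.1), ev H t q.2 = p.2 ∧
    ∀ (i : ι) (f : E i ⟶ p.1), ev H f p.2 = 0 → f ≫ t = 0 := by
  let κ := Σ i, {f : E i ⟶ p.1 // ev H f p.2 = 0}
  let g : (∐ fun k : κ => E k.1) ⟶ p.1 := Sigma.desc fun k => k.2.1
  obtain ⟨Q, t, δ, hT⟩ := distinguished_cocone_triangle g
  have hg : ev H g p.2 = 0 := ev_ext H _ _ _ fun k => by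
    rw [← ev_comp, Sigma.ι_desc, k.2.2]
    simp [ev]
  obtain ⟨s, hs⟩ := ev_exact H hT p.2 hg
  refine ⟨⟨Q, s⟩, t, hs, fun i f hf => ?_⟩
  have h0 : g ≫ t = 0 := comp_distTriang_mor_zero₁₂ _ hT
  have h1 : Sigma.ι (fun k : κ => E k.1) ⟨i, f, hf⟩ ≫ g = f := Sigma.ι_desc _ _
  rw [← h1, Category.assoc, h0, comp_zero]

section Perfect

/-- Exactness of countable coproducts of triangles, tested on maps out of an object. -/
lemma exists_lift_sigma {F A B : ℕ → D} (f : ∀ n, F n ⟶ A n) (g : ∀ n, A n ⟶ B n)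
    (δ : ∀ n, B n ⟶ (shiftFunctor D (1 : ℤ)).obj (F n))
    (hT : ∀ n, Triangle.mk (f n) (g n) (δ n) ∈ distTriang D)
    {W : D} (x : W ⟶ ∐ A) (hx : x ≫ Limits.Sigma.map g = 0) :
    ∃ y : W ⟶ ∐ F, y ≫ Limits.Sigma.map f = x := by
  let T : ℕ → Triangle Dᵒᵖ := fun n =>
    (triangleOpEquivalence D).functor.obj (Opposite.op (Triangle.mk (f n) (g n) (δ n)))
  have hdist := productTriangle_distinguished T fun n => op_distinguished _ (hT n)
  let θ : ∀ Z : ℕ → D, Opposite.op (∐ Z) ≅ ∏ᶜ fun n => Opposite.op (Z n) := fun Z =>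
    opCoproductIsoProduct Z
  have hθ : ∀ (Z : ℕ → D) n, (θ Z).hom ≫ Pi.π _ n = (Sigma.ι Z n).op := fun Z n =>
    opCoproductIsoProduct_hom_comp_π (Z := Z) n
  have hnat : ∀ {Z Z' : ℕ → D} (φ : ∀ n, Z n ⟶ Z' n),
      (θ Z').inv ≫ (Limits.Sigma.map φ).op = Limits.Pi.map (fun n => (φ n).op) ≫ (θ Z).inv := by
    intro Z Z' φ
    rw [Iso.inv_comp_eq, ← Category.assoc, Iso.eq_comp_inv]
    refine Pi.hom_ext _ _ fun n => ?_
    rw [Category.assoc, hθ, Category.assoc, Limits.Pi.map_π, ← Category.assoc, hθ, ← op_comp, ← op_comp,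
      Sigma.ι_map]
  obtain ⟨z, hz⟩ := Triangle.yoneda_exact₂ _ hdist ((θ A).inv ≫ x.op) (by
    change Limits.Pi.map (fun n => (g n).op) ≫ (θ A).inv ≫ x.op = 0
    rw [← reassoc_of% (hnat g), ← op_comp, hx, op_zero, comp_zero])
  refine ⟨((θ F).hom ≫ z).unop, Quiver.Hom.op_inj ?_⟩
  rw [op_comp, Quiver.Hom.op_unop]
  have hz' : (θ A).inv ≫ x.op = Limits.Pi.map (fun n => (f n).op) ≫ z := hz
  rw [← cancel_epi (θ A).inv, hz', reassoc_of% (hnat f), Iso.inv_hom_id_assoc]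

/-- The shift map on a constant countable sum. -/
lemma eq_zero_of_comp_shift_eq {Z W : D} (x : W ⟶ ∐ fun _ : ℕ => Z)
    (hx : x ≫ Sigma.desc (fun n => Sigma.ι (fun _ : ℕ => Z) (n + 1)) = x) : x = 0 := by
  let σ := Sigma.desc fun n => Sigma.ι (fun _ : ℕ => Z) (n + 1)
  let L : (∐ fun _ : ℕ => Z) ⟶ ∐ fun _ : ℕ => Z :=
    Sigma.desc fun n => -∑ i ∈ Finset.range n, Sigma.ι (fun _ : ℕ => Z) i
  have h : (𝟙 _ - σ) ≫ L = 𝟙 _ := Sigma.hom_ext _ _ fun n => by
    simp only [σ, L, Preadditive.comp_sub, Preadditive.sub_comp, Category.comp_id,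
      Category.id_comp, Sigma.ι_desc, Sigma.ι_desc_assoc]
    rw [Finset.sum_range_succ]
    abel
  rw [← Category.comp_id x, ← h, Preadditive.sub_comp, Category.id_comp, Preadditive.comp_sub,
    ← Category.assoc, hx, sub_self]

end Perfect

/-- An adapted sequence: everything killed by the element dies at the next stage. -/
structure Seq where
  X : ℕ → D
  s : ∀ n, H.obj (Opposite.op (X n))
  t : ∀ n, X n ⟶ X (n + 1)
  compat : ∀ n, ev H (t n) (s (n + 1)) = s n
  kill : ∀ (n : ℕ) (i : ι) (f : E i ⟶ X n), ev H f (s n) = 0 → f ≫ t n = 0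
  surj : ∀ (i : ι) (h : H.obj (Opposite.op (E i))), ∃ c : E i ⟶ X 0, ev H c (s 0) = h

lemma exists_seq (Y : D) (y : H.obj (Opposite.op Y)) :
    ∃ (S : Seq H E) (f : Y ⟶ S.X 0), ev H f (S.s 0) = y := by
  choose nx tx hc hk using fun p : Obj H => exists_next H E p
  let κ := Option (Σ i, (H.obj (Opposite.op (E i)) : Type v))
  let Z : κ → D := fun k => k.elim Y fun p => E p.1
  let el : ∀ k, H.obj (Opposite.op (Z k)) := fun k => match k with
    | none => y
    | some p => p.2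
  obtain ⟨s0, hs0⟩ := exists_ev H Z el
  let P : ℕ → Obj H := fun n => Nat.rec ⟨∐ Z, s0⟩ (fun _ q => nx q) n
  exact ⟨⟨fun n => (P n).1, fun n => (P n).2, fun n => tx (P n), fun n => hc (P n),
    fun n => hk (P n), fun i h => ⟨Sigma.ι Z (some ⟨i, h⟩), hs0 (some ⟨i, h⟩)⟩⟩,
    Sigma.ι Z none, hs0 none⟩

namespace Seq

variable {H E} (S : Seq H E)

/-- The composite transition from stage `0`. -/
noncomputable def tn : ∀ n, S.X 0 ⟶ S.X n
  | 0 => 𝟙 _
  | n + 1 => tn n ≫ S.t n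

/-- The composite transition from stage `1`. -/
noncomputable def un : ∀ n, S.X 1 ⟶ S.X (n + 1)
  | 0 => 𝟙 _
  | n + 1 => un n ≫ S.t (n + 1)

lemma tn_succ (n : ℕ) : S.tn (n + 1) = S.t 0 ≫ S.un n := by
  induction n with
  | zero => simp [tn, un]
  | succ n ih => rw [tn, ih, un, Category.assoc]

lemma ev_tn (n : ℕ) : ev H (S.tn n) (S.s n) = S.s 0 := by
  induction n with
  | zero => simp [tn]
  | succ n ih => rw [tn, ev_comp, S.compat, ih]

/-- The shift map on the sum of the stages. -/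
noncomputable abbrev sh : (∐ S.X) ⟶ ∐ S.X :=
  Sigma.desc fun n => S.t n ≫ Sigma.ι S.X (n + 1)

/-- Replace maps into the stages by maps into stage `0`, one step later. -/
lemma exists_c (n : ℕ) (i : ι) (β : E i ⟶ S.X n) :
    ∃ c : E i ⟶ S.X 0, β ≫ S.t n = c ≫ S.tn (n + 1) := by
  obtain ⟨c, hc⟩ := S.surj i (ev H β (S.s n))
  refine ⟨c, ?_⟩
  have h : ev H (β - c ≫ S.tn n) (S.s n) = 0 := by
    rw [ev_sub, ev_comp, ev_tn, hc, sub_self]
  have h' := S.kill n i _ h
  rw [Preadditive.sub_comp, sub_eq_zero, Category.assoc] at h'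
  exact h'

lemma injective_one_sub_sh (hE : Gen E) (i : ι) (α : E i ⟶ ∐ S.X) (hα : α ≫ S.sh = α) :
    α = 0 := by
  obtain ⟨j, β, γ, hγ⟩ := hE.perfect S.X i α
  choose c hc using fun n => S.exists_c n (j n) (β n)
  let G : E i ⟶ ∐ fun _ : ℕ => S.X 0 := γ ≫ Limits.Sigma.map c
  let T1 : (∐ fun _ : ℕ => S.X 0) ⟶ ∐ S.X :=
    Sigma.desc fun n => S.tn (n + 1) ≫ Sigma.ι S.X (n + 1)
  have hG : α = G ≫ T1 := by
    rw [← hα, hγ, Category.assoc, Category.assoc]
    congr 1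
    refine Sigma.hom_ext _ _ fun n => ?_
    simp [T1, sh, reassoc_of% (hc n)]
  let σ := Sigma.desc fun n => Sigma.ι (fun _ : ℕ => S.X 0) (n + 1)
  have hσ : σ ≫ T1 = T1 ≫ S.sh := Sigma.hom_ext _ _ fun n => by
    simp [σ, T1, sh, tn]
  have hD : (G ≫ σ - G) ≫ T1 = 0 := by
    rw [Preadditive.sub_comp, Category.assoc, hσ, ← Category.assoc, ← hG, hα, sub_self]
  let R : (∐ fun n => S.X (n + 1)) ⟶ ∐ S.X := Sigma.desc fun n => Sigma.ι S.X (n + 1)
  have hR : IsSplitMono R := ⟨⟨{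
    retraction := Sigma.desc fun m => match m with
      | 0 => 0
      | m + 1 => Sigma.ι (fun n => S.X (n + 1)) m
    id := Sigma.hom_ext _ _ fun n => by simp [R] }⟩⟩
  have hD' : (G ≫ σ - G) ≫ Limits.Sigma.map (fun n => S.tn (n + 1)) = 0 := by
    rw [← cancel_mono R, zero_comp, Category.assoc]
    refine Eq.trans ?_ hD
    congr 1
    exact Sigma.hom_ext _ _ fun n => by simp [R, T1]
  choose F f δ hT using fun n => distinguished_cocone_triangle₁ (S.tn (n + 1))
  obtain ⟨y, hy⟩ := exists_lift_sigma f (fun n => S.tn (n + 1)) δ hT _ hD'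
  obtain ⟨j', e, γ', hy'⟩ := hE.perfect F i y
  have ht : ∀ n, (e n ≫ f n) ≫ S.t 0 = 0 := fun n => by
    refine S.kill 0 (j' n) _ ?_
    have h0 : (e n ≫ f n) ≫ S.tn (n + 1) = 0 := by
      have h1 : f n ≫ S.tn (n + 1) = 0 := comp_distTriang_mor_zero₁₂ _ (hT n)
      rw [Category.assoc, h1, comp_zero]
    rw [← S.ev_tn (n + 1), ← ev_comp, h0, ev_zero]
  have hW : (G ≫ Limits.Sigma.map fun _ => S.t 0) = 0 := by
    refine eq_zero_of_comp_shift_eq _ ?_
    have h1 : (G ≫ σ - G) ≫ Limits.Sigma.map (fun _ => S.t 0) = 0 := by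
      rw [← hy, hy', Category.assoc, Category.assoc]
      have : Limits.Sigma.map e ≫ Limits.Sigma.map f ≫ Limits.Sigma.map (fun _ => S.t 0) = 0 :=
        Sigma.hom_ext _ _ fun n => by simp [reassoc_of% (ht n)]
      rw [this, comp_zero]
    rw [Preadditive.sub_comp, sub_eq_zero, Category.assoc] at h1
    refine Eq.trans ?_ h1
    rw [Category.assoc]
    congr 1
    exact Sigma.hom_ext _ _ fun n => by simp [σ]
  rw [hG]
  have : T1 = Limits.Sigma.map (fun _ => S.t 0) ≫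
      Sigma.desc fun n => S.un n ≫ Sigma.ι S.X (n + 1) :=
    Sigma.hom_ext _ _ fun n => by simp [T1, tn_succ]
  rw [this, ← Category.assoc, hW, zero_comp]

lemma exists_colim (hE : Gen E) :
    ∃ (Q : D) (a : ∀ n, S.X n ⟶ Q) (s : H.obj (Opposite.op Q)),
      (∀ n, ev H (a n) s = S.s n) ∧
      ∀ i, Function.Bijective fun f : E i ⟶ Q => ev H f s := by
  obtain ⟨Q, a, δ, hT⟩ := distinguished_cocone_triangle (𝟙 _ - S.sh)
  obtain ⟨z, hz⟩ := exists_of_isLimit (isLimitMapNat H S.X) S.s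
  have hz' : ev H (𝟙 _ - S.sh) z = 0 := ev_ext_of_isLimit (isLimitMapNat H S.X) _ _ fun n => by
    change ev H (Sigma.ι S.X n) _ = ev H (Sigma.ι S.X n) 0
    rw [← ev_comp, Preadditive.comp_sub, Category.comp_id, ev_sub,
      show Sigma.ι S.X n ≫ S.sh = S.t n ≫ Sigma.ι S.X (n + 1) from Sigma.ι_desc _ _, ev_comp,
      show ev H (Sigma.ι S.X n) z = S.s n from hz n,
      show ev H (Sigma.ι S.X (n + 1)) z = S.s (n + 1) from hz (n + 1), S.compat, sub_self]
    simp [ev]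
  obtain ⟨s, hs⟩ := ev_exact H hT z hz'
  let an : ∀ n, S.X n ⟶ Q := fun n => Sigma.ι S.X n ≫ a
  have han : ∀ n, ev H (an n) s = S.s n := fun n => (ev_comp H _ _ _).trans
    ((congrArg (ev H (Sigma.ι S.X n)) hs).trans (hz n))
  have hsh : ∀ n, S.t n ≫ an (n + 1) = an n := fun n => by
    have h0 : (𝟙 _ - S.sh) ≫ a = 0 := comp_distTriang_mor_zero₁₂ _ hT
    have h1 := congrArg (Sigma.ι S.X n ≫ ·) h0
    simp only [sh, Preadditive.sub_comp, Preadditive.comp_sub, Category.id_comp, comp_zero,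
      Sigma.ι_desc_assoc, Category.assoc, sub_eq_zero] at h1
    exact h1.symm
  have htn : ∀ n, S.tn n ≫ an n = an 0 := fun n => by
    induction n with
    | zero => simp [tn]
    | succ n ih => rw [tn, Category.assoc, hsh, ih]
  refine ⟨Q, an, s, han, fun i => ⟨?_, fun h => ?_⟩⟩
  · suffices key : ∀ f : E i ⟶ Q, ev H f s = 0 → f = 0 by
      intro f f' hff
      exact sub_eq_zero.1 (key _ (by rw [ev_sub]; exact sub_eq_zero.2 hff))
    intro f hf
    have hδ : f ≫ δ = 0 := by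
      obtain ⟨j, ⟨e⟩⟩ := hE.shift i (-1)
      let w : E i ⟶ (shiftFunctor D (1 : ℤ)).obj (∐ S.X) := f ≫ δ
      have hw : w ≫ (shiftFunctor D (1 : ℤ)).map (𝟙 _ - S.sh) = 0 := by
        have : δ ≫ (shiftFunctor D (1 : ℤ)).map (𝟙 _ - S.sh) = 0 := comp_distTriang_mor_zero₃₁ _ hT
        rw [Category.assoc, this, comp_zero]
      let c := (shiftFunctorCompIsoId D (1 : ℤ) (-1) (by norm_num))
      let w' : E j ⟶ ∐ S.X := e.hom ≫ (shiftFunctor D (-1 : ℤ)).map w ≫ c.hom.app _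
      have hw' : w' ≫ (𝟙 _ - S.sh) = 0 := by
        simp only [w', Category.assoc]
        erw [← c.hom.naturality (𝟙 _ - S.sh)]
        rw [Functor.comp_map, ← Functor.map_comp_assoc, hw, Functor.map_zero, zero_comp, comp_zero]
      rw [Preadditive.comp_sub, Category.comp_id, sub_eq_zero] at hw'
      have h0 := S.injective_one_sub_sh hE j w' hw'.symm
      have h1 : (shiftFunctor D (-1 : ℤ)).map w = 0 := by
        simpa [w'] using h0
      exact (shiftFunctor D (-1 : ℤ)).map_eq_zero_iff.1 h1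
    obtain ⟨α, hα⟩ := Triangle.coyoneda_exact₃ _ hT f hδ
    obtain ⟨j, β, γ, hγ⟩ := hE.perfect S.X i α
    choose c hc using fun n => S.exists_c n (j n) (β n)
    have hf' : f = (γ ≫ Sigma.desc c) ≫ an 0 := by
      have hα' : f = (α : E i ⟶ ∐ S.X) ≫ a := hα
      rw [hα', Category.assoc]
      have e1 : Limits.Sigma.map β ≫ a = Sigma.desc c ≫ an 0 := ?_
      · calc (α : E i ⟶ ∐ S.X) ≫ a = (γ ≫ Limits.Sigma.map β) ≫ a := congrArg (· ≫ a) hγ
          _ = γ ≫ Limits.Sigma.map β ≫ a := Category.assoc _ _ _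
          _ = γ ≫ Sigma.desc c ≫ an 0 := by rw [e1]
      refine Sigma.hom_ext _ _ fun n => ?_
      rw [Sigma.ι_map_assoc, Sigma.ι_desc_assoc]
      change β n ≫ an n = _
      rw [← hsh n, ← Category.assoc, hc, Category.assoc, htn]
    have h0 : ev H (γ ≫ Sigma.desc c) (S.s 0) = 0 := by
      rw [← han 0, ← ev_comp, ← hf', hf]
    rw [hf', ← hsh 0, ← Category.assoc, S.kill 0 i _ h0, zero_comp]
  · obtain ⟨c, hc⟩ := S.surj i h
    exact ⟨c ≫ an 0, by simp only; rw [ev_comp, han, hc]⟩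

end Seq

variable {E}

lemma isIso_of_bijective (hE : Gen E) {X Y : D} (g : X ⟶ Y)
    (h : ∀ i, Function.Bijective fun f : E i ⟶ X => f ≫ g) : IsIso g := by
  obtain ⟨C, p, δ, hT⟩ := distinguished_cocone_triangle g
  refine (Triangle.isZero₃_iff_isIso₁ _ hT).1 (hE.zero C fun i f => ?_)
  have hδ : f ≫ δ = 0 := by
    obtain ⟨j, ⟨e⟩⟩ := hE.shift i (-1)
    let c := (shiftFunctorCompIsoId D (1 : ℤ) (-1) (by norm_num))
    let w : E j ⟶ X := e.hom ≫ (shiftFunctor D (-1 : ℤ)).map (f ≫ δ) ≫ c.hom.app _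
    have hw : w ≫ g = 0 := by
      simp only [w, Category.assoc]
      erw [← c.hom.naturality g]
      have : δ ≫ (shiftFunctor D (1 : ℤ)).map g = 0 := comp_distTriang_mor_zero₃₁ _ hT
      rw [Functor.comp_map, ← Functor.map_comp_assoc, Category.assoc, this, comp_zero,
        Functor.map_zero, zero_comp, comp_zero]
    have h0 : w = 0 := (h j).1 (show w ≫ g = 0 ≫ g by rw [hw, zero_comp])
    refine (shiftFunctor D (-1 : ℤ)).map_eq_zero_iff.1 ?_
    rw [← cancel_mono (c.hom.app X), zero_comp]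
    simpa [w] using h0
  obtain ⟨y, hy⟩ := Triangle.coyoneda_exact₃ _ hT f hδ
  obtain ⟨x, hx⟩ := (h i).2 y
  have h0 : g ≫ p = 0 := comp_distTriang_mor_zero₁₂ _ hT
  rw [hy]
  change y ≫ p = 0
  rw [← hx]
  exact ((Category.assoc _ _ _).trans (congrArg (x ≫ ·) h0)).trans comp_zero

/-- Brown representability. -/
theorem isRepresentable (hE : Gen E) : (H ⋙ forget AddCommGrpCat.{v}).IsRepresentable := by
  have big : ∀ (Y : D) (y : H.obj (Opposite.op Y)), ∃ (Q : D) (s : H.obj (Opposite.op Q))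
      (g : Y ⟶ Q), ev H g s = y ∧ ∀ i, Function.Bijective fun f : E i ⟶ Q => ev H f s := by
    intro Y y
    obtain ⟨S, f, hf⟩ := exists_seq H E Y y
    obtain ⟨Q, a, s, ha, hb⟩ := S.exists_colim hE
    exact ⟨Q, s, f ≫ a 0, by rw [ev_comp, ha, hf], hb⟩
  obtain ⟨X, s, -, -, hX⟩ := big 0 0
  have iso : ∀ (Q : D) (s' : H.obj (Opposite.op Q)) (g : X ⟶ Q), ev H g s' = s →
      (∀ i, Function.Bijective fun f : E i ⟶ Q => ev H f s') → IsIso g := by
    intro Q s' g hg hQ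
    refine isIso_of_bijective hE g fun i => ?_
    refine (Function.Bijective.of_comp_iff' (hQ i) _).1 ?_
    have : ((fun f : E i ⟶ Q => ev H f s') ∘ fun f : E i ⟶ X => f ≫ g) =
        fun f : E i ⟶ X => ev H f s := by
      funext f
      simp only [Function.comp_apply]
      rw [ev_comp, hg]
    rw [this]
    exact hX i
  have surj : ∀ (Y : D) (y : H.obj (Opposite.op Y)), ∃ g : Y ⟶ X, ev H g s = y := by
    intro Y y
    obtain ⟨el, hel⟩ := exists_ev H (fun b : ULift.{v} Bool => cond b.down X Y)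
      (fun b => match b with
        | ⟨true⟩ => s
        | ⟨false⟩ => y)
    obtain ⟨Q, s', g, hg, hQ⟩ := big _ el
    let gX : X ⟶ Q := Sigma.ι (fun b : ULift.{v} Bool => cond b.down X Y) ⟨true⟩ ≫ g
    have hgX : ev H gX s' = s := by rw [ev_comp, hg]; exact hel ⟨true⟩
    have := iso Q s' gX hgX hQ
    refine ⟨(Sigma.ι (fun b : ULift.{v} Bool => cond b.down X Y) ⟨false⟩ ≫ g) ≫ inv gX, ?_⟩
    rw [← hgX, ← ev_comp, Category.assoc, IsIso.inv_hom_id, Category.comp_id, ev_comp, hg]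
    exact hel ⟨false⟩
  have inj : ∀ (Y : D) (f : Y ⟶ X), ev H f s = 0 → f = 0 := by
    intro Y f hf
    obtain ⟨C, p, δ, hT⟩ := distinguished_cocone_triangle f
    obtain ⟨c, hc⟩ := ev_exact H hT s hf
    obtain ⟨g, hg⟩ := surj C c
    have : IsIso (p ≫ g) := iso X s (p ≫ g)
      (by rw [ev_comp, hg]; exact hc) hX
    have : Mono p := mono_of_mono p g
    have h0 : f ≫ p = 0 := comp_distTriang_mor_zero₁₂ _ hT
    rw [← cancel_mono p, h0, zero_comp]
  have bij : ∀ Y : D, Function.Bijective fun f : Y ⟶ X =>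
      (ev H f s : H.obj (Opposite.op Y)) := fun Y =>
    ⟨fun f f' hff => sub_eq_zero.1 (inj Y _ (by rw [ev_sub]; exact sub_eq_zero.2 hff)),
      fun y => surj Y y⟩
  exact ⟨X, ⟨{
    homEquiv := fun {Y} => Equiv.ofBijective _ (bij Y)
    homEquiv_comp := fun {Y Y'} f g => ev_comp H f g s }⟩⟩

end Groth.Agent.H16Derived.Brown
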