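import Mathlib.CategoryTheory.Functor.Derived.PointwiseRightDerived
import Mathlib.CategoryTheory.Localization.CalculusOfFractions

/-!
# Right derived functors from a class of adapted objects, using left fractions
-/

set_option autoImplicit false
set_option linter.style.haveILetI false

universe v₁ v₂ v₃ u₁ u₂ u₃

open CategoryTheory CategoryTheory.Limits MorphismProperty

namespace Groth.Agent.H16Derived.CalcDerived

variable {C : Type u₁} [Category.{v₁} C] {D : Type u₂} [Category.{v₂} D]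
  {H : Type u₃} [Category.{v₃} H] (L : C ⥤ D) (W : MorphismProperty C) [L.IsLocalization W]
  [W.HasLeftCalculusOfFractions] (F : C ⥤ H) (P : C → Prop)
  (hres : ∀ X : C, ∃ (I : C) (s : X ⟶ I), W s ∧ P I)
  (hinv : ∀ {I J : C} (s : I ⟶ J), P I → P J → W s → IsIso (F.map s))

include hres in
lemma exists_adapted_fraction (I : C) (Y : C) (f : L.obj Y ⟶ L.obj I) :
    ∃ (J : C) (g : Y ⟶ J) (s : I ⟶ J), P J ∧ W s ∧ f ≫ L.map s = L.map g := by
  obtain ⟨φ, rfl⟩ := Localization.exists_leftFraction L W f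
  obtain ⟨J, t, ht, hJ⟩ := hres φ.Y'
  exact ⟨J, φ.f ≫ t, φ.s ≫ t, hJ, W.comp_mem _ _ φ.hs ht, by
    rw [L.map_comp, L.map_comp, LeftFraction.map_comp_map_s_assoc]⟩

include hres hinv in
lemma fraction_unique {I : C} (hI : P I) {Y : C} {J₁ J₂ : C} (g₁ : Y ⟶ J₁) (s₁ : I ⟶ J₁)
    (g₂ : Y ⟶ J₂) (s₂ : I ⟶ J₂) (h₁ : P J₁) (h₂ : P J₂) (w₁ : W s₁) (w₂ : W s₂)
    (f : L.obj Y ⟶ L.obj I) (e₁ : f ≫ L.map s₁ = L.map g₁) (e₂ : f ≫ L.map s₂ = L.map g₂) :
    F.map g₁ ≫ @inv _ _ _ _ (F.map s₁) (hinv s₁ hI h₁ w₁) =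
      F.map g₂ ≫ @inv _ _ _ _ (F.map s₂) (hinv s₂ hI h₂ w₂) := by
  let φ₁ : W.LeftFraction Y I := ⟨g₁, s₁, w₁⟩
  let φ₂ : W.LeftFraction Y I := ⟨g₂, s₂, w₂⟩
  have hf : ∀ φ : W.LeftFraction Y I, f ≫ L.map φ.s = L.map φ.f →
      φ.map L (Localization.inverts L W) = f := fun φ h => by
    haveI := Localization.inverts L W _ φ.hs
    rw [← cancel_mono (L.map φ.s), LeftFraction.map_comp_map_s, h]
  obtain ⟨Z, t₁, t₂, hs, hg, hW⟩ := (LeftFraction.map_eq_iff L W φ₁ φ₂).1
    ((hf φ₁ e₁).trans (hf φ₂ e₂).symm)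
  dsimp [φ₁, φ₂] at hs hg hW t₁ t₂
  obtain ⟨Z', r, hr, hZ'⟩ := hres Z
  haveI := hinv s₁ hI h₁ w₁
  haveI := hinv s₂ hI h₂ w₂
  have i₁ : IsIso (F.map s₁ ≫ F.map (t₁ ≫ r)) := by
    rw [← F.map_comp, ← Category.assoc]
    exact hinv _ hI hZ' (W.comp_mem _ _ hW hr)
  have i₂ : IsIso (F.map s₂ ≫ F.map (t₂ ≫ r)) := by
    rw [← F.map_comp, reassoc_of% hs.symm, F.map_comp]
    exact i₁
  haveI : IsIso (F.map (t₁ ≫ r)) := IsIso.of_isIso_comp_left (F.map s₁) _
  haveI : IsIso (F.map (t₂ ≫ r)) := IsIso.of_isIso_comp_left (F.map s₂) _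
  have hm : ∀ {J : C} (g : Y ⟶ J) (s : I ⟶ J) (t : J ⟶ Z') [IsIso (F.map s)] [IsIso (F.map t)]
      [IsIso (F.map (s ≫ t))], F.map g ≫ inv (F.map s) = F.map (g ≫ t) ≫ inv (F.map (s ≫ t)) := by
    intro J g s t _ _ _
    rw [IsIso.eq_comp_inv]
    simp
  haveI : IsIso (F.map (s₁ ≫ t₁ ≫ r)) := by rw [F.map_comp]; exact i₁
  haveI : IsIso (F.map (s₂ ≫ t₂ ≫ r)) := by rw [F.map_comp]; exact i₂
  rw [hm g₁ s₁ (t₁ ≫ r), hm g₂ s₂ (t₂ ≫ r)]
  simp only [reassoc_of% hs, reassoc_of% hg]

include hres hinv in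
/-- The colimit computing the derived functor at an adapted object is the value of the functor. -/
theorem exists_isColimit {I : C} (hI : P I) :
    ∃ (c : Cocone (CostructuredArrow.proj L (L.obj I) ⋙ F)) (_ : IsColimit c) (e : c.pt ≅ F.obj I),
      c.ι.app (CostructuredArrow.mk (𝟙 (L.obj I))) ≫ e.hom = 𝟙 (F.obj I) := by
  choose J g s hJ hs he using exists_adapted_fraction L W P hres I
  haveI : ∀ Y f, IsIso (F.map (s Y f)) := fun Y f => hinv _ hI (hJ Y f) (hs Y f)
  let ι : ∀ x : CostructuredArrow L (L.obj I), F.obj x.left ⟶ F.obj I :=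
    fun x => F.map (g x.left x.hom) ≫ inv (F.map (s x.left x.hom))
  let c : Cocone (CostructuredArrow.proj L (L.obj I) ⋙ F) :=
    { pt := F.obj I
      ι :=
        { app := ι
          naturality := fun x y φ => by
            show F.map φ.left ≫ ι y = ι x ≫ 𝟙 (F.obj I)
            dsimp only [ι]
            rw [Category.comp_id, ← Category.assoc, ← F.map_comp]
            refine fraction_unique L W F P hres hinv hI _ _ _ _ (hJ _ _) (hJ _ _) (hs _ _) (hs _ _)
              x.hom ?_ (he _ _)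
            rw [L.map_comp, ← he y.left y.hom, ← CostructuredArrow.w φ, Category.assoc] } }
  have h1 : ι (CostructuredArrow.mk (𝟙 (L.obj I))) = 𝟙 (F.obj I) := by
    haveI : IsIso (F.map (𝟙 I)) := inferInstance
    refine (fraction_unique L W F P hres hinv hI _ _ (𝟙 I) (𝟙 I) (hJ _ _) hI (hs _ _) (W.id_mem I) _
      (he I (𝟙 (L.obj I))) (Category.id_comp _)).trans ?_
    simp
  refine ⟨c, ?_, Iso.refl _, (Category.comp_id _).trans h1⟩
  exact
    { desc := fun d => d.ι.app (CostructuredArrow.mk (𝟙 (L.obj I)))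
      fac := fun d x => by
        haveI := Localization.inverts L W _ (hs x.left x.hom)
        let y : CostructuredArrow L (L.obj I) :=
          CostructuredArrow.mk (inv (L.map (s x.left x.hom)))
        let φ₁ : x ⟶ y := CostructuredArrow.homMk (g x.left x.hom) (by
          show L.map (g x.left x.hom) ≫ inv (L.map (s x.left x.hom)) = x.hom
          rw [IsIso.comp_inv_eq, he])
        let φ₂ : CostructuredArrow.mk (𝟙 (L.obj I)) ⟶ y :=
          CostructuredArrow.homMk (s x.left x.hom) (by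
            show L.map (s x.left x.hom) ≫ inv (L.map (s x.left x.hom)) = 𝟙 _
            simp)
        have w₁ : F.map (g x.left x.hom) ≫ d.ι.app y = d.ι.app x := d.w φ₁
        have w₂ : F.map (s x.left x.hom) ≫ d.ι.app y =
            d.ι.app (CostructuredArrow.mk (𝟙 (L.obj I))) := d.w φ₂
        change (F.map (g x.left x.hom) ≫ inv (F.map (s x.left x.hom))) ≫ _ = _
        erw [← w₂, Category.assoc, IsIso.inv_hom_id_assoc]
        exact w₁
      uniq := fun d m hm => by
        have := hm (CostructuredArrow.mk (𝟙 (L.obj I)))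
        change ι (CostructuredArrow.mk (𝟙 (L.obj I))) ≫ m = _ at this
        rw [h1] at this
        exact (Category.id_comp m).symm.trans this }

include L hres hinv in
/-- Existence of the pointwise right derived functor. -/
theorem hasPointwiseRightDerivedFunctor : F.HasPointwiseRightDerivedFunctor W := by
  intro X
  obtain ⟨I, s, hs, hI⟩ := hres X
  rw [F.hasPointwiseRightDerivedFunctorAt_iff_of_mem W s hs, F.hasPointwiseRightDerivedFunctorAt_iff L W]
  obtain ⟨c, hc, -⟩ := exists_isColimit L W F P hres hinv hI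
  exact ⟨⟨⟨c, hc⟩⟩⟩

include hres hinv in
/-- The unit of the right derived functor is an isomorphism at adapted objects. -/
theorem isIso_unit_app (F' : D ⥤ H) (α : F ⟶ L ⋙ F') [F'.IsRightDerivedFunctor α W] {I : C} (hI : P I) :
    IsIso (α.app I) := by
  haveI := hasPointwiseRightDerivedFunctor L W F P hres hinv
  have h := Functor.isPointwiseLeftKanExtensionOfHasPointwiseRightDerivedFunctor F' α W (L.obj I)
  obtain ⟨c, hc, e, he⟩ := exists_isColimit L W F P hres hinv hI
  let φ := IsColimit.coconePointUniqueUpToIso hc h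
  have h₂ := IsColimit.comp_coconePointUniqueUpToIso_hom hc h (CostructuredArrow.mk (𝟙 (L.obj I)))
  have h₃ : α.app I = e.inv ≫ φ.hom := by
    have hh : c.ι.app (CostructuredArrow.mk (𝟙 (L.obj I))) = e.inv := by
      rw [← cancel_mono e.hom]
      exact he.trans e.inv_hom_id.symm
    rw [← hh]
    refine (h₂.trans ?_).symm
    simp
  rw [h₃]
  exact (e.symm ≪≫ φ).isIso_hom

end Groth.Agent.H16Derived.CalcDerived
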