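import Mathlib.CategoryTheory.Localization.CalculusOfFractions
import Mathlib.CategoryTheory.Limits.Preserves.Finite
import Mathlib.Data.Finite.Defs
import Mathlib.Data.Fintype.Basic
import Mathlib.Data.Fintype.EquivFin
import Mathlib.Data.Fintype.Sigma
import Mathlib.Data.Fintype.Prod

/-!
Common denominators for a localization functor at a left multiplicative system.
-/

namespace Groth.Agent.H16Derived

open CategoryTheory Category Limits

universe w v u v' u'

variable {C : Type u} [Category.{v} C] {D : Type u'} [Category.{v'} D]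
  (W : MorphismProperty C) (L : C ⥤ D) [L.IsLocalization W] [W.HasLeftCalculusOfFractions]

include L in
omit [L.IsLocalization W] in
lemma exists_common_denominator_finset {ι : Type w} (X : ι → C) (Y : C)
    (g : ∀ i, L.obj (X i) ⟶ L.obj Y) [L.IsLocalization W] (S : Finset ι) :
    ∃ (Y' : C) (s : Y ⟶ Y') (_ : W s), ∀ i ∈ S, ∃ f : X i ⟶ Y', g i ≫ L.map s = L.map f := by
  classical
  induction S using Finset.induction_on with
  | empty => exact ⟨Y, 𝟙 Y, W.id_mem Y, by simp⟩
  | @insert j S _ ih =>
    obtain ⟨Y', s, hs, h⟩ := ih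
    obtain ⟨φ, hφ⟩ := Localization.exists_leftFraction L W (g j)
    obtain ⟨ψ, hψ⟩ := (MorphismProperty.RightFraction.mk φ.s φ.hs s).exists_leftFraction
    refine ⟨ψ.Y', s ≫ ψ.s, W.comp_mem _ _ hs ψ.hs, fun i hi => ?_⟩
    rcases Finset.mem_insert.1 hi with rfl | hi
    · refine ⟨φ.f ≫ ψ.f, ?_⟩
      dsimp at hψ
      rw [hψ, L.map_comp, L.map_comp, hφ, MorphismProperty.LeftFraction.map_comp_map_s_assoc]
    · obtain ⟨f, hf⟩ := h i hi
      exact ⟨f ≫ ψ.s, by rw [L.map_comp, reassoc_of% hf, L.map_comp]⟩

/-- Finitely many morphisms to `L.obj Y` have a common denominator. -/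
lemma exists_common_denominator {ι : Type w} [Finite ι] (X : ι → C) (Y : C)
    (g : ∀ i, L.obj (X i) ⟶ L.obj Y) :
    ∃ (Y' : C) (s : Y ⟶ Y') (_ : W s) (f : ∀ i, X i ⟶ Y'), ∀ i, g i ≫ L.map s = L.map (f i) := by
  have := Fintype.ofFinite ι
  obtain ⟨Y', s, hs, h⟩ := exists_common_denominator_finset W L X Y g Finset.univ
  exact ⟨Y', s, hs, fun i => (h i (Finset.mem_univ i)).choose,
    fun i => (h i (Finset.mem_univ i)).choose_spec⟩

include L in
omit [L.IsLocalization W] in
lemma exists_common_equalizer_finset {ι : Type w} (X : ι → C) (Y : C)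
    (a b : ∀ i, X i ⟶ Y) [L.IsLocalization W] (h : ∀ i, L.map (a i) = L.map (b i))
    (S : Finset ι) :
    ∃ (Y' : C) (s : Y ⟶ Y') (_ : W s), ∀ i ∈ S, a i ≫ s = b i ≫ s := by
  classical
  induction S using Finset.induction_on with
  | empty => exact ⟨Y, 𝟙 Y, W.id_mem Y, by simp⟩
  | @insert j S _ ih =>
    obtain ⟨Y', s, hs, h'⟩ := ih
    obtain ⟨Z, t, ht, fac⟩ := (W.map_eq_iff_postcomp L (a j ≫ s) (b j ≫ s)).1
      (by rw [L.map_comp, L.map_comp, h j])
    refine ⟨Z, s ≫ t, W.comp_mem _ _ hs ht, fun i hi => ?_⟩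
    rcases Finset.mem_insert.1 hi with rfl | hi
    · simpa using fac
    · rw [reassoc_of% (h' i hi)]

include L in
/-- Finitely many pairs of morphisms identified by `L` are equalized by one element of `W`. -/
lemma exists_common_equalizer {ι : Type w} [Finite ι] (X : ι → C) (Y : C)
    (a b : ∀ i, X i ⟶ Y) (h : ∀ i, L.map (a i) = L.map (b i)) :
    ∃ (Y' : C) (s : Y ⟶ Y') (_ : W s), ∀ i, a i ≫ s = b i ≫ s := by
  have := Fintype.ofFinite ι
  obtain ⟨Y', s, hs, h'⟩ := exists_common_equalizer_finset W L X Y a b h Finset.univ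
  exact ⟨Y', s, hs, fun i => h' i (Finset.mem_univ i)⟩

include W in
lemma preservesFiniteColimits : PreservesFiniteColimits L where
  preservesFiniteColimits J _ _ :=
    ⟨fun {K} => ⟨fun {c} hc => by
      have := Localization.essSurj L W
      have hext : ∀ {Y : C} (h h' : L.obj c.pt ⟶ L.obj Y),
          (∀ j, L.map (c.ι.app j) ≫ h = L.map (c.ι.app j) ≫ h') → h = h' := by
        intro Y h h' hh
        obtain ⟨Y', s, hs, f, hf⟩ := exists_common_denominator W L (fun _ : Bool => c.pt) Y
          (fun b => if b then h else h')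
        have hf₁ := hf true
        have hf₂ := hf false
        simp only [↓reduceIte] at hf₁
        simp only [Bool.false_eq_true, ↓reduceIte] at hf₂
        obtain ⟨Y'', t, ht, ht'⟩ := exists_common_equalizer W L (fun j => K.obj j) Y'
          (fun j => c.ι.app j ≫ f true) (fun j => c.ι.app j ≫ f false)
          (fun j => by simp only [L.map_comp, ← hf₁, ← hf₂, reassoc_of% (hh j)])
        have e : f true ≫ t = f false ≫ t := hc.hom_ext (fun j => by simpa using ht' j)
        have := Localization.inverts L W s hs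
        have := Localization.inverts L W t ht
        rw [← cancel_mono (L.map s), hf₁, hf₂, ← cancel_mono (L.map t), ← L.map_comp, e, L.map_comp]
      have hdesc : ∀ {Y : C} (g : ∀ j, L.obj (K.obj j) ⟶ L.obj Y),
          (∀ {i j : J} (φ : i ⟶ j), L.map (K.map φ) ≫ g j = g i) →
          ∃ h : L.obj c.pt ⟶ L.obj Y, ∀ j, L.map (c.ι.app j) ≫ h = g j := by
        intro Y g hg
        obtain ⟨Y', s, hs, f, hf⟩ := exists_common_denominator W L (fun j => K.obj j) Y g
        obtain ⟨Y'', t, ht, ht'⟩ := exists_common_equalizer W L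
          (fun φ : (Σ p : J × J, (p.1 ⟶ p.2)) => K.obj φ.1.1) Y'
          (fun φ => K.map φ.2 ≫ f φ.1.2) (fun φ => f φ.1.1)
          (fun φ => by simp only [L.map_comp, ← hf, reassoc_of% (hg φ.2)])
        let c' : Cocone K :=
          { pt := Y''
            ι := { app := fun j => f j ≫ t
                   naturality := fun i j φ => by simpa using ht' ⟨(i, j), φ⟩ } }
        have := Localization.inverts L W s hs
        have := Localization.inverts L W t ht
        refine ⟨L.map (hc.desc c') ≫ inv (L.map t) ≫ inv (L.map s), fun j => ?_⟩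
        rw [← L.map_comp_assoc, hc.fac c' j, L.map_comp]
        simp [← hf]
      refine ⟨IsColimit.ofExistsUnique fun s => ?_⟩
      let e := L.objObjPreimageIso s.pt
      obtain ⟨h, hh⟩ := hdesc (fun j => s.ι.app j ≫ e.inv) (fun {i j} φ => by
        rw [← assoc]
        congr 1
        exact s.w φ)
      refine ⟨h ≫ e.hom, fun j => ?_, fun m hm => ?_⟩
      · simp [reassoc_of% (hh j)]
      · rw [← cancel_mono e.inv, assoc, e.hom_inv_id, comp_id]
        exact hext _ _ fun j => by
          rw [hh, ← assoc]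
          congr 1
          exact hm j⟩⟩

end Groth.Agent.H16Derived
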