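import Groth.Agent.H15Site.CechLeray

/-!
# Čech `H¹` for a covering by `H¹`-acyclic opens
-/

set_option autoImplicit false
set_option linter.style.haveILetI false

universe u

open CategoryTheory CategoryTheory.Limits Opposite TopologicalSpace Abelian

namespace Groth.Agent.H16Derived.CechOne

open Groth.Agent.H15Site Groth.Agent.H15Site.CechLeray Groth.Agent.H15Site.CechTop Groth.Agent.H10Coh

attribute [local instance 10000] hasSheafifyAb hasWeakSheafifyAb hasExtAb enoughInjAb

variable {X : TopCat.{u}} {ι : Type u} (U : ι → Opens X) {V : Opens X}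

/-- If `H¹` vanishes on the members of a covering, Čech `H¹` is `H¹`. -/
theorem nonempty_cechH_one (hU : ∀ k, U k ≤ V) (hV : V ≤ iSup U) (F : CohTop.Ab X)
    (h : ∀ a : Fin 1 → ι, Subsingleton (Hn F 1 (cap U a))) :
    Nonempty (CohTop.cechH F.obj U 1 ≃+ Hn F 1 V) := by
  have hS := injSeq_shortExact F
  haveI := hS.mono_f
  let S := cechSeq U (injSeq F)
  let K := Abelian.image S.g
  let j : K ⟶ S.X₃ := Abelian.image.ι S.g
  let q : S.X₂ ⟶ K := Abelian.factorThruImage S.g
  have hfac : q ≫ j = S.g := Abelian.image.fac S.g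
  let T : ShortComplex (CochainComplex AddCommGrpCat.{u} ℕ) := ShortComplex.mk S.f q (by
    rw [← cancel_mono j, Category.assoc, hfac, S.zero, zero_comp])
  have hT : T.ShortExact := by
    refine { exact := ?_, mono_f := ?_, epi_g := inferInstanceAs (Epi q) }
    · have hex : S.Exact := HomologicalComplex.exact_of_degreewise_exact _ fun n =>
        (ShortComplex.ab_exact_iff _).2 fun x hx => by
          have hc : ∀ a, ((injSeq F).g.hom.app (op (cap U a))).hom ((proj U (injSeq F).X₂.obj a).hom x) = 0 :=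
            fun a => by
              have hx' : (mapC U _ (injSeq F).g.hom n).hom x = 0 := hx
              rw [← proj_mapC, hx', map_zero]
          choose y hy using fun a => exists_lift_app hS _ _ (hc a)
          obtain ⟨z, hz⟩ := exists_proj_eq U (injSeq F).X₁.obj y
          exact ⟨z, CechTop.hom_ext U _ fun a => (proj_mapC U _ _ _ a).trans ((congrArg _ (hz a)).trans (hy a))⟩
      let φ : T ⟶ S := { τ₁ := 𝟙 _, τ₂ := 𝟙 _, τ₃ := j, comm₁₂ := by simp [T], comm₂₃ := by simp [T, hfac] }
      haveI : Epi φ.τ₁ := inferInstanceAs (Epi (𝟙 _))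
      haveI : IsIso φ.τ₂ := inferInstanceAs (IsIso (𝟙 _))
      haveI : Mono φ.τ₃ := inferInstanceAs (Mono j)
      exact (ShortComplex.exact_iff_of_epi_of_isIso_of_mono φ).2 hex
    · refine HomologicalComplex.mono_of_mono_f _ fun n => (AddCommGrpCat.mono_iff_injective _).2 ?_
      intro x y hxy
      refine CechTop.hom_ext U _ fun a => injective_app_of_mono (injSeq F).f (cap U a) ?_
      have := congrArg (fun z => (proj U (injSeq F).X₂.obj a).hom z) hxy
      exact (proj_mapC U _ _ _ a).symm.trans (this.trans (proj_mapC U _ _ _ a))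
  -- `K` agrees with the Čech complex of the quotient in degree `0`.
  haveI hj : ∀ n, Mono (j.f n) := fun n => inferInstance
  haveI : Epi (j.f 0) := by
    have hg : Function.Surjective (S.g.f 0).hom := fun x => by
      choose y hy using fun a => surjective_sections_of_subsingleton hS _ (h a) ((proj U (injSeq F).X₃.obj a).hom x)
      obtain ⟨z, hz⟩ := exists_proj_eq U (injSeq F).X₂.obj y
      exact ⟨z, CechTop.hom_ext U _ fun a => (proj_mapC U _ _ _ a).trans ((congrArg _ (hz a)).trans (hy a))⟩
    have hg' : Epi (q.f 0 ≫ j.f 0) := by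
      rw [← HomologicalComplex.comp_f, hfac]
      exact (AddCommGrpCat.epi_iff_surjective _).2 hg
    exact epi_of_epi (q.f 0) (j.f 0)
  haveI : IsIso (j.f 0) := isIso_of_mono_of_epi _
  let C := cokernel j
  have hJ : (ShortComplex.mk j (cokernel.π j) (cokernel.condition j)).ShortExact :=
    { exact := ShortComplex.exact_of_g_is_cokernel _ (cokernelIsCokernel j) }
  have hC : IsZero (C.X 0) := by
    haveI : Epi ((cokernel.π j).f 0) := (hJ.map_of_exact (HomologicalComplex.eval _ _ 0)).epi_g
    exact IsZero.of_epi_eq_zero ((cokernel.π j).f 0) (by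
      rw [← cancel_epi (j.f 0), ← HomologicalComplex.comp_f, cokernel.condition, HomologicalComplex.zero_f, comp_zero])
  haveI : Mono (HomologicalComplex.homologyMap j 0) :=
    by
      haveI := K.isIso_homologyπ 0 0 (by simp) (K.shape 0 0 (by simp))
      haveI := S.X₃.isIso_homologyπ 0 0 (by simp) (S.X₃.shape 0 0 (by simp))
      haveI : Mono (HomologicalComplex.cyclesMap j 0) :=
        mono_of_mono_fac (HomologicalComplex.cyclesMap_i j 0)
      have e : HomologicalComplex.homologyMap j 0 =
          inv (K.homologyπ 0) ≫ HomologicalComplex.cyclesMap j 0 ≫ S.X₃.homologyπ 0 := by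
        rw [IsIso.eq_inv_comp, HomologicalComplex.homologyπ_naturality]
      rw [e]
      infer_instance
  haveI : Epi (HomologicalComplex.homologyMap j 0) :=
    (hJ.homology_exact₂ 0).epi_f
      ((ShortComplex.isZero_homology_of_isZero_X₂ _ hC).eq_of_tgt _ _)
  have hiso : IsIso (HomologicalComplex.homologyMap j 0) := isIso_of_mono_of_epi _
  haveI := isIso_θ V hU hV (injSeq F).X₃
  haveI := isIso_θ V hU hV (injSeq F).X₂
  let ej : K.homology 0 ≅ CohTop.cechH (injSeq F).X₃.obj U 0 :=
    @asIso _ _ _ _ (HomologicalComplex.homologyMap j 0) hiso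
  let θK := θ V hU (injSeq F).X₃ ≫ ej.inv
  haveI : IsIso θK := IsIso.comp_isIso
  have hnat : θ V hU (injSeq F).X₂ ≫ HomologicalComplex.homologyMap T.g 0 =
      (injSeq F).g.hom.app (op V) ≫ θK := by
    rw [← cancel_mono ej.hom]
    simp only [θK, Category.assoc, Iso.inv_hom_id, Category.comp_id]
    refine Eq.trans (congrArg (θ V hU (injSeq F).X₂ ≫ ·) ?_) (θ_naturality V hU (injSeq F).g)
    exact (HomologicalComplex.homologyMap_comp q j 0).symm.trans
      (congrArg (fun f => HomologicalComplex.homologyMap f 0) hfac)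
  have hepi : Epi (hT.δ 0 1 (by simp)) :=
    (hT.homology_exact₁ 0 1 (by simp)).epi_f_iff.2
      ((isZero_cechH_of_flasque U (flasque_of_injective _) 0).eq_of_tgt _ _)
  let α := θK ≫ hT.δ 0 1 (by simp)
  have hα : Function.Surjective α.hom := (AddCommGrpCat.epi_iff_surjective α).1
    (epi_comp' (IsIso.epi_of_iso _) hepi)
  have hext : Function.Surjective (hS.extClass.postcomp (Zsh V) (show 0 + 1 = 0 + 1 from rfl)) := fun x => by
    have : Subsingleton (Hn (injSeq F).X₂ 1 V) := subsingleton_of_forall_eq 0 fun x => Ext.eq_zero_of_injective x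
    exact exists_extClass_lift hS x
  let β : (injSeq F).X₃.obj.obj (op V) →+ Hn F 1 V :=
    (hS.extClass.postcomp (Zsh V) (show 0 + 1 = 1 from rfl)).comp
      (H0Equiv (injSeq F).X₃ V).symm.toAddMonoidHom
  refine exists_addEquiv_of_ker_eq α.hom β hα
    (hext.comp (H0Equiv (injSeq F).X₃ V).symm.surjective) (le_antisymm ?_ ?_)
  · intro s hs
    obtain ⟨z, hz⟩ := (ShortComplex.ab_exact_iff _).1 (hT.homology_exact₃ 0 1 (by simp)) (θK.hom s) hs
    obtain ⟨w, rfl⟩ := (AddCommGrpCat.epi_iff_surjective (θ V hU (injSeq F).X₂)).1 (IsIso.epi_of_iso _) z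
    have h₁ := ConcreteCategory.congr_hom hnat w
    have h₂ : s = ((injSeq F).g.hom.app (op V)).hom w :=
      (AddCommGrpCat.mono_iff_injective θK).1 (IsIso.mono_of_iso _) (hz.symm.trans h₁)
    obtain ⟨v, rfl⟩ := (H0Equiv (injSeq F).X₂ V).surjective w
    rw [← H0Equiv_map] at h₂
    subst h₂
    change ((H0Equiv (injSeq F).X₃ V).symm (H0Equiv (injSeq F).X₃ V _)).comp hS.extClass rfl = 0
    rw [AddEquiv.symm_apply_apply, Ext.comp_assoc_of_second_deg_zero, hS.comp_extClass, Ext.comp_zero]
  · intro s hs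
    obtain ⟨v, hv⟩ := Ext.covariant_sequence_exact₃ (Zsh V) hS
      ((H0Equiv (injSeq F).X₃ V).symm s) rfl hs
    have h₁ : ((injSeq F).g.hom.app (op V)).hom (H0Equiv (injSeq F).X₂ V v) = s := by
      rw [← H0Equiv_map, hv, AddEquiv.apply_symm_apply]
    have h₂ := ConcreteCategory.congr_hom hnat (H0Equiv (injSeq F).X₂ V v)
    change (hT.δ 0 1 _).hom (θK.hom s) = 0
    rw [← h₁]
    refine (congrArg (hT.δ 0 1 _).hom h₂.symm).trans ?_
    exact ConcreteCategory.congr_hom (hT.comp_δ 0 1 (by simp)) _

end Groth.Agent.H16Derived.CechOne
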