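import Groth.Agent.H16Derived.SubLattice
import Mathlib.CategoryTheory.Subobject.ArtinianObject
import Mathlib.CategoryTheory.Limits.Preserves.Shapes.Kernels
import Mathlib.CategoryTheory.Preadditive.AdditiveFunctor
import Mathlib.Data.Int.GCD
import Mathlib.RingTheory.Coprime.Lemmas

/-!
# Objects of cofinite type relative to an exact fully faithful functor from Artinian torsion objects
-/

universe v v' u u'

open CategoryTheory CategoryTheory.Limits

set_option linter.unusedSectionVars false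

namespace Groth.Agent.H16Derived.Cofinite

open SubLattice

section General

variable {V : Type u'} [Category.{v'} V] [Abelian V] {A B : V}

/-- The subobject `c A`. -/
noncomputable abbrev img (c : ℕ) (A : V) : Subobject A := imageSubobject (c • 𝟙 A)

lemma img_factors_iff (c : ℕ) {T : V} (x : T ⟶ A) :
    (img c A).Factors x ↔ ∃ (T' : V) (π : T' ⟶ T) (_ : Epi π) (z : T' ⟶ A), π ≫ x = c • z := by
  rw [imageSubobject_factors_iff]
  simp only [Preadditive.comp_nsmul, Category.comp_id]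

lemma img_smul {T : V} (c : ℕ) (z : T ⟶ A) : (img c A).Factors (c • z) :=
  (img_factors_iff c _).2 ⟨T, 𝟙 T, inferInstance, z, Category.id_comp _⟩

lemma img_mul_le (a b : ℕ) : img (a * b) A ≤ img a A := le_of_forall fun T x hx => by
  obtain ⟨T', π, hπ, z, hz⟩ := (img_factors_iff _ _).1 hx
  exact (img_factors_iff _ _).2 ⟨T', π, hπ, b • z, by rw [hz, mul_smul]⟩

lemma factors_zsmul {T : V} {U : Subobject A} (c : ℤ) {x : T ⟶ A} (hx : U.Factors x) :
    U.Factors (c • x) := by
  rw [← Subobject.factorThru_arrow U x hx, ← Preadditive.zsmul_comp]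
  exact Subobject.factors_comp_arrow _

lemma comp_cokernelπ_eq_zero_of_factors {T Z : V} (f : Z ⟶ A) {x : T ⟶ A}
    (hx : (imageSubobject f).Factors x) : x ≫ cokernel.π f = 0 := by
  obtain ⟨T', π, hπ, z, hz⟩ := (imageSubobject_factors_iff f x).1 hx
  rw [← cancel_epi π, ← Category.assoc, hz, Category.assoc, cokernel.condition, comp_zero, comp_zero]

lemma factors_of_comp_cokernelπ {T Z : V} (f : Z ⟶ A) {x : T ⟶ A}
    (hx : x ≫ cokernel.π f = 0) : (imageSubobject f).Factors x := by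
  rw [imageSubobject_factors_iff]
  exact (ShortComplex.exact_cokernel f).exact_up_to_refinements x hx

lemma imageSubobject_le_iff {Z Z' : V} (f : Z ⟶ A) (g : Z' ⟶ A) :
    imageSubobject f ≤ imageSubobject g ↔ f ≫ cokernel.π g = 0 := by
  constructor
  · intro h
    apply comp_cokernelπ_eq_zero_of_factors
    apply Subobject.factors_of_le _ h
    have := imageSubobject_factors_comp_self (f := f) (𝟙 Z)
    rwa [Category.id_comp] at this
  · intro h
    refine le_of_forall fun T x hx => ?_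
    obtain ⟨T', π, hπ, z, hz⟩ := (imageSubobject_factors_iff f x).1 hx
    apply factors_of_epi π
    rw [hz]
    exact factors_comp z (factors_of_comp_cokernelπ g h)

lemma kernel_nsmul_ι (c : ℕ) : c • kernel.ι (c • 𝟙 A) = 0 := by
  have h := kernel.condition (c • 𝟙 A)
  rwa [Preadditive.comp_nsmul, Category.comp_id] at h

/-- An element killed by `c` is an element of the `c`-torsion. -/
noncomputable abbrev liftTor (c : ℕ) {T : V} (x : T ⟶ A) (hx : c • x = 0) :
    T ⟶ kernel (c • 𝟙 A) :=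
  kernel.lift _ x (by rw [Preadditive.comp_nsmul, Category.comp_id, hx])

lemma nsmul_ι_eq_zero_of_eq (c d e : ℕ) (h : e * d = c) :
    e • (d • kernel.ι (c • 𝟙 A)) = 0 := by
  rw [smul_smul, h, kernel_nsmul_ι]

/-- Multiplication `A[c] ⟶ A[e]` by `d` when `c = e * d`. -/
noncomputable abbrev mulTor (c d e : ℕ) (h : e * d = c) :
    kernel (c • 𝟙 A) ⟶ kernel (e • 𝟙 A) :=
  liftTor e (d • kernel.ι (c • 𝟙 A)) (nsmul_ι_eq_zero_of_eq c d e h)

/-- The map induced on torsion. -/
noncomputable abbrev mapTor (c : ℕ) (f : A ⟶ B) : kernel (c • 𝟙 A) ⟶ kernel (c • 𝟙 B) :=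
  liftTor c (kernel.ι (c • 𝟙 A) ≫ f) (by
    rw [← Preadditive.nsmul_comp, kernel_nsmul_ι, zero_comp])

end General

variable {C : Type u} [Category.{v} C] [Abelian C] {V : Type u'} [Category.{v'} V] [Abelian V]
  (Y : C ⥤ V) [Y.Full] [Y.Faithful] [PreservesFiniteLimits Y] [PreservesFiniteColimits Y]
  [Y.Additive]

lemma mem_kernel {Z W : V} (f : Z ⟶ W) (hZ : Y.essImage Z) (hW : Y.essImage W) :
    Y.essImage (kernel f) := by
  obtain ⟨X, ⟨e⟩⟩ := hZ
  obtain ⟨X', ⟨e'⟩⟩ := hW
  let g := Y.preimage (e.hom ≫ f ≫ e'.inv)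
  refine ⟨kernel g, ⟨PreservesKernel.iso Y g ≪≫ kernel.mapIso _ _ e e' ?_⟩⟩
  simp [g]

lemma mem_cokernel {Z W : V} (f : Z ⟶ W) (hZ : Y.essImage Z) (hW : Y.essImage W) :
    Y.essImage (cokernel f) := by
  obtain ⟨X, ⟨e⟩⟩ := hZ
  obtain ⟨X', ⟨e'⟩⟩ := hW
  let g := Y.preimage (e.hom ≫ f ≫ e'.inv)
  refine ⟨cokernel g, ⟨PreservesCokernel.iso Y g ≪≫ cokernel.mapIso _ _ e e' ?_⟩⟩
  simp [g]

lemma mem_of_exact {Z W Q : V} (f : Z ⟶ W) (g : W ⟶ Q) (w : f ≫ g = 0)
    (h : (ShortComplex.mk f g w).Exact) [Epi g] (hZ : Y.essImage Z) (hW : Y.essImage W) :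
    Y.essImage Q := by
  have : Epi (ShortComplex.mk f g w).g := ‹Epi g›
  exact (Functor.essImage.ofIso ((cokernelIsCokernel f).coconePointUniqueUpToIso h.gIsCokernel)
    (mem_cokernel Y f hZ hW))

lemma le_iff_map {X Z Z' : C} (f : Z ⟶ X) (g : Z' ⟶ X) :
    imageSubobject (Y.map f) ≤ imageSubobject (Y.map g) ↔ imageSubobject f ≤ imageSubobject g := by
  rw [imageSubobject_le_iff, imageSubobject_le_iff]
  rw [← cancel_mono (PreservesCokernel.iso Y g).inv, zero_comp, Category.assoc,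
    PreservesCokernel.iso_inv, π_comp_cokernelComparison, ← Y.map_comp, Y.map_eq_zero_iff]

/-- A decreasing sequence of images in an object coming from `C` stabilises. -/
lemma images_stabilize (hart : ∀ X : C, IsArtinianObject X) {Z : V} (hZ : Y.essImage Z)
    (W : ℕ → V) (hW : ∀ j, Y.essImage (W j)) (g : ∀ j, W j ⟶ Z)
    (hg : Antitone fun j => imageSubobject (g j)) :
    ∃ N, ∀ j, N ≤ j → imageSubobject (g N) ≤ imageSubobject (g j) := by
  obtain ⟨X, ⟨e⟩⟩ := hZ
  choose X' e' using hW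
  let g' : ∀ j, X' j ⟶ X := fun j => Y.preimage ((e' j).some.hom ≫ g j ≫ e.inv)
  have key : ∀ i j, imageSubobject (g i) ≤ imageSubobject (g j) ↔
      imageSubobject (g' i) ≤ imageSubobject (g' j) := by
    intro i j
    have e1 : ∀ j, Y.map (g' j) = (e' j).some.hom ≫ g j ≫ e.inv := fun j =>
      Functor.map_preimage _ _
    rw [← le_iff_map Y (g' i) (g' j), e1, e1, imageSubobject_le_iff, imageSubobject_le_iff]
    constructor
    · intro h
      obtain ⟨T, π, hπ, z, hz⟩ :=
        (imageSubobject_factors_iff _ (g i)).1 (factors_of_comp_cokernelπ _ h)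
      rw [Category.assoc, ← cancel_epi (e' i).some.inv, Iso.inv_hom_id_assoc, comp_zero,
        ← cancel_epi π, comp_zero, Category.assoc, reassoc_of% hz]
      have := congrArg ((z ≫ (e' j).some.inv) ≫ ·)
        (cokernel.condition ((e' j).some.hom ≫ g j ≫ e.inv))
      simp only [Category.assoc, Iso.inv_hom_id_assoc, comp_zero] at this
      exact this
    · intro h
      obtain ⟨T, π, hπ, z, hz⟩ :=
        (imageSubobject_factors_iff _ _).1 (factors_of_comp_cokernelπ _ h)
      have hz' : π ≫ (e' i).some.hom ≫ g i = (z ≫ (e' j).some.hom) ≫ g j := by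
        rw [← cancel_mono e.inv]
        simpa using hz
      rw [← cancel_epi (e' i).some.hom, comp_zero, ← cancel_epi π, comp_zero,
        reassoc_of% hz', cokernel.condition, comp_zero, comp_zero]
  have := hart X
  obtain ⟨N, hN⟩ := antitone_chain_condition_of_isArtinianObject
    (X := X) ⟨fun j => imageSubobject (g' j), fun i j h => (key j i).1 (hg h)⟩
  exact ⟨N, fun j hj => (key N j).2 (le_of_eq (hN j hj))⟩

variable (n : ℕ)

/-- `A` has all its `n`-power torsion coming from `C`. -/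
def IsCof (A : V) : Prop := ∀ k : ℕ, Y.essImage (kernel ((n ^ k) • 𝟙 A))

/-- The standing hypotheses. -/
structure Hyp : Prop where
  art : ∀ X : C, IsArtinianObject X
  tor : ∀ X : C, ∃ a k : ℕ, Nat.Coprime a n ∧ (a * n ^ k) • 𝟙 X = 0
  gen : ∀ ⦃A B : V⦄ (f : A ⟶ B), (∀ (X : C) (u : Y.obj X ⟶ A), u ≫ f = 0) → f = 0

variable {Y n}

lemma Hyp.exists_kill (h : Hyp Y n) {A : V} {X : C} (u : Y.obj X ⟶ A) :
    ∃ a k : ℕ, Nat.Coprime a n ∧ (a * n ^ k) • u = 0 := by
  obtain ⟨a, k, ha, hk⟩ := h.tor X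
  refine ⟨a, k, ha, ?_⟩
  have := congrArg (fun f => Y.map f ≫ u) hk
  simpa [Functor.map_nsmul, Preadditive.nsmul_comp] using this

lemma le_img_of_killed {A : V} (N : ℕ)
    (hG : ∀ j, N ≤ j →
      imageSubobject (mulTor (A := A) (n ^ (N + 1)) (n ^ N) n (by rw [pow_succ, mul_comm])) ≤
      imageSubobject (mulTor (A := A) (n ^ (j + 1)) (n ^ j) n (by rw [pow_succ, mul_comm]))) :
    ∀ (k j : ℕ), N ≤ j → ∀ ⦃T : V⦄ (x : T ⟶ A), n ^ k • x = 0 →
      (img (n ^ N) A).Factors x → (img (n ^ j) A).Factors x := by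
  intro k
  induction k with
  | zero =>
    intro j _ T x hx _
    rw [pow_zero, one_smul] at hx
    rw [hx]
    exact Subobject.factors_zero
  | succ k ih =>
    intro j hj T x hx hxN
    obtain ⟨T₁, π, hπ, z, hz⟩ := (img_factors_iff _ _).1 hxN
    have hz' : n ^ (N + k + 1) • z = 0 := by
      rw [show N + k + 1 = (k + 1) + N by ring, pow_add, mul_smul, ← hz,
        ← Preadditive.comp_nsmul, hx, comp_zero]
    let y := π ≫ (n ^ k • x)
    have hy : n • y = 0 := by
      rw [← Preadditive.comp_nsmul, smul_smul, ← pow_succ', hx, comp_zero]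
    have hyG : (imageSubobject (mulTor (A := A) (n ^ (N + k + 1)) (n ^ (N + k)) n
        (by rw [pow_succ, mul_comm]))).Factors (liftTor n y hy) := by
      rw [imageSubobject_factors_iff]
      refine ⟨T₁, 𝟙 T₁, inferInstance, liftTor _ z hz', ?_⟩
      rw [Category.id_comp, ← cancel_mono (kernel.ι (n • 𝟙 A))]
      simp only [mulTor, liftTor, kernel.lift_ι, Category.assoc, Preadditive.comp_nsmul, y]
      rw [hz, pow_add, smul_smul, mul_comm]
    have hle : imageSubobject (mulTor (A := A) (n ^ (N + k + 1)) (n ^ (N + k)) n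
        (by rw [pow_succ, mul_comm])) ≤
      imageSubobject (mulTor (A := A) (n ^ (j + k + 1)) (n ^ (j + k)) n
        (by rw [pow_succ, mul_comm])) := by
      refine le_trans ?_ (hG (j + k) (by lia))
      refine le_of_forall fun T' w hw => ?_
      rw [imageSubobject_factors_iff] at hw ⊢
      obtain ⟨T'', ρ, hρ, s, hs⟩ := hw
      have hs' : n ^ (N + 1) • (n ^ k • (s ≫ kernel.ι (n ^ (N + k + 1) • 𝟙 A))) = 0 := by
        rw [smul_smul, ← pow_add, show N + 1 + k = N + k + 1 by ring, ← Preadditive.comp_nsmul,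
          kernel_nsmul_ι, comp_zero]
      refine ⟨T'', ρ, hρ, liftTor _ _ hs', ?_⟩
      rw [hs, ← cancel_mono (kernel.ι (n • 𝟙 A))]
      simp only [mulTor, liftTor, kernel.lift_ι, Category.assoc, Preadditive.comp_nsmul]
      rw [smul_smul, ← pow_add]
    obtain ⟨T₂, ρ, hρ, w, hw⟩ :=
      (imageSubobject_factors_iff _ _).1 (Subobject.factors_of_le _ hle hyG)
    let w' := w ≫ kernel.ι (n ^ (j + k + 1) • 𝟙 A)
    have hw' : ρ ≫ y = n ^ (j + k) • w' := by
      have := congrArg (· ≫ kernel.ι (n • 𝟙 A)) hw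
      simpa only [mulTor, liftTor, kernel.lift_ι, Category.assoc, Preadditive.comp_nsmul] using this
    have hx' : n ^ k • ((ρ ≫ π) ≫ x - n ^ j • w') = 0 := by
      rw [smul_sub, smul_smul, ← pow_add, add_comm k j, ← hw', ← Preadditive.comp_nsmul,
        Category.assoc, sub_self]
    have hjN : (img (n ^ N) A).Factors (n ^ j • w') := by
      rw [show j = N + (j - N) by lia, pow_add, mul_smul]
      exact img_smul _ _
    have h1 := ih j hj _ hx' (factors_sub (factors_comp _ hxN) hjN)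
    have h2 : (img (n ^ j) A).Factors ((ρ ≫ π) ≫ x) := by
      have : (ρ ≫ π) ≫ x = ((ρ ≫ π) ≫ x - n ^ j • w') + n ^ j • w' := by abel
      rw [this]
      exact Subobject.factors_add _ _ h1 (img_smul _ _)
    exact factors_of_epi (ρ ≫ π) h2

/-- The images of the powers of `n` stabilise. -/
theorem stabilize (h : Hyp Y n) {A : V} (hA : IsCof Y n A) :
    ∃ N : ℕ, ∀ j : ℕ, N ≤ j → img (n ^ j) A = img (n ^ N) A := by
  obtain ⟨N, hN⟩ := images_stabilize Y h.art (Z := kernel (n • 𝟙 A))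
    (by simpa only [pow_one] using hA 1) (fun j => kernel (n ^ (j + 1) • 𝟙 A)) (fun j => hA _)
    (fun j => mulTor (n ^ (j + 1)) (n ^ j) n (by rw [pow_succ, mul_comm])) (by
      refine antitone_nat_of_succ_le fun j => le_of_forall fun T x hx => ?_
      rw [imageSubobject_factors_iff] at hx ⊢
      obtain ⟨T', π, hπ, z, hz⟩ := hx
      have hz' : n ^ (j + 1) • (n • (z ≫ kernel.ι (n ^ (j + 1 + 1) • 𝟙 A))) = 0 := by
        rw [smul_smul, ← pow_succ, ← Preadditive.comp_nsmul, kernel_nsmul_ι, comp_zero]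
      refine ⟨T', π, hπ, liftTor _ _ hz', ?_⟩
      rw [hz, ← cancel_mono (kernel.ι (n • 𝟙 A))]
      simp only [mulTor, liftTor, kernel.lift_ι, Category.assoc, Preadditive.comp_nsmul]
      rw [smul_smul, ← pow_succ])
  refine ⟨N, fun j hj => le_antisymm ?_ ?_⟩
  · rw [show j = N + (j - N) by lia, pow_add]
    exact img_mul_le _ _
  · rw [imageSubobject_le_iff]
    apply h.gen
    intro X u
    rw [← Category.assoc]
    apply comp_cokernelπ_eq_zero_of_factors
    rw [Preadditive.comp_nsmul, Category.comp_id]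
    obtain ⟨a, k, ha, hk⟩ := h.exists_kill u
    obtain ⟨s, t, hst⟩ : IsCoprime (a : ℤ) ((n : ℤ) ^ j) :=
      (Nat.Coprime.isCoprime (by simpa using ha)).pow_right
    have h1 : (img (n ^ j) A).Factors (a • (n ^ N • u)) := by
      apply le_img_of_killed N hN k j hj
      · rw [smul_smul, smul_smul, show n ^ k * a * n ^ N = n ^ N * (a * n ^ k) by ring, mul_smul,
          hk, smul_zero]
      · rw [smul_comm]
        exact img_smul _ _
    have h2 : n ^ N • u = s • (a • (n ^ N • u)) + t • (n ^ j • (n ^ N • u)) := by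
      conv_lhs => rw [← one_zsmul (n ^ N • u), ← hst]
      rw [add_smul, mul_smul, mul_smul, natCast_zsmul, ← Nat.cast_pow, natCast_zsmul]
    change (img (n ^ j) A).Factors (n ^ N • u)
    rw [h2]
    exact Subobject.factors_add _ _ (factors_zsmul _ h1) (factors_zsmul _ (img_smul _ _))

/-- Every element is, up to refinement, an `n ^ j`-multiple plus an `n ^ N`-torsion element. -/
lemma decompose {A : V} (N : ℕ) (hN : ∀ i, N ≤ i → img (n ^ i) A = img (n ^ N) A) (j : ℕ)
    {T : V} (x : T ⟶ A) :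
    ∃ (T' : V) (π : T' ⟶ T) (_ : Epi π) (d e : T' ⟶ A),
      π ≫ x = n ^ j • d + e ∧ n ^ N • e = 0 := by
  have h : (img (n ^ (N + j)) A).Factors (n ^ N • x) := by
    rw [hN _ (by lia)]; exact img_smul _ _
  obtain ⟨T', π, hπ, z, hz⟩ := (img_factors_iff _ _).1 h
  refine ⟨T', π, hπ, z, π ≫ x - n ^ j • z, by abel, ?_⟩
  rw [smul_sub, smul_smul, ← pow_add, ← hz, ← Preadditive.comp_nsmul, sub_self]

/-- The cokernel of multiplication by a power of `n` comes from `C`. -/
theorem cokernel_mem (h : Hyp Y n) {A : V} (hA : IsCof Y n A) (j : ℕ) :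
    Y.essImage (cokernel ((n ^ j) • 𝟙 A)) := by
  obtain ⟨N, hN⟩ := stabilize h hA
  let φ := mulTor (A := A) (n ^ (N + j)) (n ^ j) (n ^ N) (pow_add n N j).symm
  let ψ := kernel.ι ((n ^ N) • 𝟙 A) ≫ cokernel.π ((n ^ j) • 𝟙 A)
  have : Epi ψ := by
    rw [epi_iff_surjective_up_to_refinements]
    intro T y
    obtain ⟨T₁, π₁, hπ₁, x, hx⟩ := surjective_up_to_refinements_of_epi (cokernel.π ((n ^ j) • 𝟙 A)) y
    obtain ⟨T₂, π₂, hπ₂, d, e, hde, he⟩ := decompose N hN j x
    refine ⟨T₂, π₂ ≫ π₁, inferInstance, liftTor _ e he, ?_⟩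
    have hd : (n ^ j • d) ≫ cokernel.π ((n ^ j) • 𝟙 A) = 0 := by
      rw [show n ^ j • d = d ≫ ((n ^ j) • 𝟙 A) by simp [Preadditive.comp_nsmul], Category.assoc,
        cokernel.condition, comp_zero]
    rw [Category.assoc, hx, reassoc_of% hde, Preadditive.add_comp, hd, zero_add]
    simp [ψ]
  have w : φ ≫ ψ = 0 := by
    simp only [φ, ψ, mulTor, liftTor, kernel.lift_ι_assoc]
    rw [show n ^ j • kernel.ι (n ^ (N + j) • 𝟙 A) = kernel.ι (n ^ (N + j) • 𝟙 A) ≫ ((n ^ j) • 𝟙 A)
      by simp [Preadditive.comp_nsmul], Category.assoc, cokernel.condition, comp_zero]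
  refine mem_of_exact Y φ ψ w ?_ (hA _) (hA _)
  rw [ShortComplex.exact_iff_exact_up_to_refinements]
  intro T x hx
  dsimp at x hx
  have hf := factors_of_comp_cokernelπ ((n ^ j) • 𝟙 A) (x := x ≫ kernel.ι _)
    ((Category.assoc _ _ _).trans hx)
  obtain ⟨T', π, hπ, z, hz⟩ := (img_factors_iff _ _).1 hf
  have hz' : n ^ (N + j) • z = 0 := by
    rw [pow_add, mul_smul, ← hz, ← Preadditive.comp_nsmul, ← Preadditive.comp_nsmul,
      kernel_nsmul_ι, comp_zero, comp_zero]
  refine ⟨T', π, hπ, liftTor _ z hz', ?_⟩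
  rw [← cancel_mono (kernel.ι ((n ^ N) • 𝟙 A))]
  simp only [φ, mulTor, liftTor, kernel.lift_ι, Category.assoc, Preadditive.comp_nsmul]
  exact hz

/-- A kernel of a morphism of objects of cofinite type is of cofinite type. -/
theorem isCof_kernel {A B : V} (hA : IsCof Y n A) (hB : IsCof Y n B) (f : A ⟶ B) :
    IsCof Y n (kernel f) := by
  intro k
  let φ := mapTor (n ^ k) f
  let a : kernel ((n ^ k) • 𝟙 (kernel f)) ⟶ kernel φ :=
    kernel.lift _ (mapTor (n ^ k) (kernel.ι f)) (by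
      rw [← cancel_mono (kernel.ι ((n ^ k) • 𝟙 B))]
      simp [φ])
  have ha : n ^ k • (kernel.ι φ ≫ kernel.ι ((n ^ k) • 𝟙 A)) = 0 := by
    rw [← Preadditive.comp_nsmul, kernel_nsmul_ι, comp_zero]
  have hb : (kernel.ι φ ≫ kernel.ι ((n ^ k) • 𝟙 A)) ≫ f = 0 := by
    have := congrArg (· ≫ kernel.ι ((n ^ k) • 𝟙 B)) (kernel.condition φ)
    simp only [φ, mapTor, liftTor, Category.assoc, kernel.lift_ι, zero_comp] at this
    rw [Category.assoc]
    exact this
  let b : kernel φ ⟶ kernel ((n ^ k) • 𝟙 (kernel f)) :=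
    liftTor _ (kernel.lift f _ hb) (by
      rw [← cancel_mono (kernel.ι f), Preadditive.nsmul_comp, kernel.lift_ι, ha, zero_comp])
  refine Functor.essImage.ofIso ⟨b, a, ?_, ?_⟩ (mem_kernel Y φ (hA k) (hB k))
  · rw [← cancel_mono (kernel.ι φ), ← cancel_mono (kernel.ι ((n ^ k) • 𝟙 A))]
    simp [a, b]
  · rw [← cancel_mono (kernel.ι ((n ^ k) • 𝟙 (kernel f))), ← cancel_mono (kernel.ι f)]
    simp [a, b]

/-- The quotient by a subobject of cofinite type is of cofinite type. -/
theorem isCof_cokernel_of_mono (h : Hyp Y n) {K B : V} (hK : IsCof Y n K) (hB : IsCof Y n B)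
    (i : K ⟶ B) [Mono i] : IsCof Y n (cokernel i) := by
  intro j
  obtain ⟨N, hN⟩ := stabilize h hK
  let μ : kernel ((n ^ (N + j)) • 𝟙 B) ⟶ cokernel (mapTor (n ^ N) i) :=
    mulTor (A := B) (n ^ (N + j)) (n ^ j) (n ^ N) (pow_add n N j).symm ≫ cokernel.π _
  let s := kernel.ι μ ≫ kernel.ι ((n ^ (N + j)) • 𝟙 B)
  have hs : (n ^ j • s) ≫ cokernel.π i = 0 := by
    obtain ⟨T', π, hπ, z, hz⟩ := (imageSubobject_factors_iff _ _).1 (factors_of_comp_cokernelπ
      (mapTor (n ^ N) i) ((Category.assoc _ _ _).trans (kernel.condition μ)))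
    have := congrArg (· ≫ kernel.ι ((n ^ N) • 𝟙 B)) hz
    simp only [mulTor, mapTor, liftTor, Category.assoc, kernel.lift_ι, Preadditive.comp_nsmul]
      at this
    rw [← cancel_epi π, comp_zero, ← Category.assoc, Preadditive.comp_nsmul]
    simp only [s]
    rw [this]
    simp
  let ψ : kernel μ ⟶ kernel ((n ^ j) • 𝟙 (cokernel i)) :=
    liftTor _ (s ≫ cokernel.π i) (by rw [← Preadditive.nsmul_comp, hs])
  have : Epi ψ := by
    rw [epi_iff_surjective_up_to_refinements]
    intro T y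
    obtain ⟨T₁, π₁, hπ₁, b, hb⟩ :=
      surjective_up_to_refinements_of_epi (cokernel.π i) (y ≫ kernel.ι _)
    have hb' : (n ^ j • b) ≫ cokernel.π i = 0 := by
      rw [Preadditive.nsmul_comp, ← hb, ← Preadditive.comp_nsmul, ← Preadditive.comp_nsmul,
        kernel_nsmul_ι, comp_zero, comp_zero]
    obtain ⟨T₂, π₂, hπ₂, c, hc⟩ :=
      (imageSubobject_factors_iff _ _).1 (factors_of_comp_cokernelπ i hb')
    obtain ⟨T₃, π₃, hπ₃, d, e, hde, he⟩ := decompose N hN j c
    let b' := (π₃ ≫ π₂) ≫ b - d ≫ i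
    have hb'' : n ^ j • b' = e ≫ i := by
      rw [smul_sub, ← Preadditive.comp_nsmul, Category.assoc, hc, reassoc_of% hde,
        Preadditive.add_comp, Preadditive.nsmul_comp, add_sub_cancel_left]
    have hb₃ : n ^ (N + j) • b' = 0 := by
      rw [pow_add, mul_smul, hb'', ← Preadditive.nsmul_comp, he, zero_comp]
    refine ⟨T₃, π₃ ≫ π₂ ≫ π₁, inferInstance, kernel.lift μ (liftTor _ b' hb₃) ?_, ?_⟩
    · simp only [μ, ← Category.assoc]
      have : liftTor (n ^ (N + j)) b' hb₃ ≫
          mulTor (A := B) (n ^ (N + j)) (n ^ j) (n ^ N) (pow_add n N j).symm =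
          liftTor (n ^ N) e he ≫ mapTor (n ^ N) i := by
        rw [← cancel_mono (kernel.ι ((n ^ N) • 𝟙 B))]
        simp [Preadditive.comp_nsmul, hb'']
      rw [this, Category.assoc, cokernel.condition, comp_zero]
    · rw [← cancel_mono (kernel.ι ((n ^ j) • 𝟙 (cokernel i)))]
      simp only [ψ, s, b', Category.assoc, liftTor, kernel.lift_ι, kernel.lift_ι_assoc,
        Preadditive.sub_comp, cokernel.condition, comp_zero, sub_zero]
      rw [hb]
  have hk0 : n ^ N • (n ^ j • kernel.ι ((n ^ (N + j)) • 𝟙 K)) = 0 :=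
    nsmul_ι_eq_zero_of_eq _ _ _ (pow_add n N j).symm
  let φ : kernel ((n ^ (N + j)) • 𝟙 K) ⟶ kernel μ :=
    kernel.lift _ (mapTor (n ^ (N + j)) i) (by
      simp only [μ, ← Category.assoc]
      have : mapTor (n ^ (N + j)) i ≫
          mulTor (A := B) (n ^ (N + j)) (n ^ j) (n ^ N) (pow_add n N j).symm =
          liftTor (n ^ N) _ hk0 ≫ mapTor (n ^ N) i := by
        rw [← cancel_mono (kernel.ι ((n ^ N) • 𝟙 B))]
        simp [Preadditive.comp_nsmul, Preadditive.nsmul_comp]
      rw [this, Category.assoc, cokernel.condition, comp_zero])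
  have w : φ ≫ ψ = 0 := by
    rw [← cancel_mono (kernel.ι ((n ^ j) • 𝟙 (cokernel i)))]
    simp [φ, ψ, s]
  refine mem_of_exact Y φ ψ w ?_ (hK _) (mem_kernel Y μ (hB _) (mem_cokernel Y _ (hK _) (hB _)))
  rw [ShortComplex.exact_iff_exact_up_to_refinements]
  intro T x hx
  dsimp at x hx
  have hx' : (x ≫ s) ≫ cokernel.π i = 0 := by
    have := congrArg (· ≫ kernel.ι ((n ^ j) • 𝟙 (cokernel i))) hx
    simpa [ψ] using this
  obtain ⟨T', π, hπ, z, hz⟩ :=
    (imageSubobject_factors_iff _ _).1 (factors_of_comp_cokernelπ i hx')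
  have hz' : n ^ (N + j) • z = 0 := by
    rw [← cancel_mono i, Preadditive.nsmul_comp, ← hz, zero_comp]
    simp only [s, ← Category.assoc]
    rw [← Preadditive.comp_nsmul, kernel_nsmul_ι, comp_zero]
  refine ⟨T', π, hπ, liftTor _ z hz', ?_⟩
  rw [← cancel_mono (kernel.ι μ), ← cancel_mono (kernel.ι ((n ^ (N + j)) • 𝟙 B))]
  simp only [φ, mapTor, liftTor, Category.assoc, kernel.lift_ι, kernel.lift_ι_assoc]
  exact hz

lemma isCof_of_iso {A B : V} (e : A ≅ B) (hA : IsCof Y n A) : IsCof Y n B := fun k =>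
  Functor.essImage.ofIso (kernel.mapIso _ _ e e
    (by simp [Preadditive.comp_nsmul, Preadditive.nsmul_comp])) (hA k)

/-- The cokernel of a morphism of objects of cofinite type is of cofinite type. -/
theorem isCof_cokernel (h : Hyp Y n) {A B : V} (hA : IsCof Y n A) (hB : IsCof Y n B) (f : A ⟶ B) :
    IsCof Y n (cokernel f) := by
  have hI : IsCof Y n (Abelian.coimage f) :=
    isCof_cokernel_of_mono h (isCof_kernel hA hB f) hA (kernel.ι f)
  have : Epi (cokernel.π (kernel.ι f)) := inferInstance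
  refine isCof_of_iso (?_ : cokernel (Abelian.factorThruCoimage f) ≅ cokernel f)
    (isCof_cokernel_of_mono h hI hB (Abelian.factorThruCoimage f))
  exact ((cokernelEpiComp (cokernel.π (kernel.ι f)) (Abelian.factorThruCoimage f))).symm ≪≫
    cokernelIsoOfEq (Abelian.coimage.fac f)

end Groth.Agent.H16Derived.Cofinite
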