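import Groth.Agent.H16Derived.Cofinite
import Mathlib.CategoryTheory.Abelian.Indization
import Mathlib.CategoryTheory.Limits.Constructions.FiniteProductsOfBinaryProducts
import Mathlib.Data.Nat.Prime.Basic
import Mathlib.Data.Nat.GCD.Basic

/-!
# Further lemmas on objects of cofinite type
-/

universe v v' u u'

open CategoryTheory CategoryTheory.Limits

set_option linter.unusedSectionVars false

namespace Groth.Agent.H16Derived.Cofinite

open SubLattice

/-- The part of `k` prime to `n`. -/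
lemma exists_coprime_part (k n : ℕ) (hk : 0 < k) : ∃ a, Nat.Coprime a n ∧
    (a ∣ k ∧ ∀ b, k = a * b → b ∣ n ^ k) := by
  obtain ⟨a, ha⟩ : Nat.gcd k (n ^ k) ∣ k := Nat.gcd_dvd_left _ _
  refine ⟨a, Nat.coprime_of_dvd fun p hp hpa hpn => ?_, Dvd.intro_left _ ha.symm, fun b hb => ?_⟩
  · have key : ∀ i ≤ k + 1, p ^ i ∣ k := by
      intro i
      induction i with
      | zero => simp
      | succ i ih =>
        intro hi
        have h1 := ih (by lia)
        have h2 : p ^ i ∣ Nat.gcd k (n ^ k) :=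
          Nat.dvd_gcd h1 ((pow_dvd_pow p (by lia)).trans (pow_dvd_pow_of_dvd hpn k))
        rw [pow_succ, ha]
        exact Nat.mul_dvd_mul h2 hpa
    have h3 := Nat.le_of_dvd hk (key (k + 1) le_rfl)
    have h4 : k + 1 < p ^ (k + 1) := Nat.lt_pow_self hp.one_lt
    lia
  · have hg : b = Nat.gcd k (n ^ k) := by
      rcases Nat.eq_zero_or_pos a with h0 | h0
      · simp [h0] at ha; lia
      · exact Nat.eq_of_mul_eq_mul_left h0 (by rw [← hb, mul_comm]; exact ha)
    rw [hg]
    exact Nat.gcd_dvd_right _ _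

section General

variable {V : Type u'} [Category.{v'} V] [Abelian V] {A : V}

lemma epi_nsmul_iff (k : ℕ) :
    Epi (k • 𝟙 A) ↔ ∀ ⦃T : V⦄ (x : T ⟶ A),
      ∃ (T' : V) (π : T' ⟶ T) (_ : Epi π) (z : T' ⟶ A), π ≫ x = k • z := by
  rw [epi_iff_surjective_up_to_refinements]
  simp only [Preadditive.comp_nsmul, Category.comp_id]

lemma epi_nsmul_subobject_iff (k : ℕ) (U : Subobject A) :
    Epi (k • 𝟙 (U : V)) ↔ ∀ ⦃T : V⦄ (x : T ⟶ A), U.Factors x →
      ∃ (T' : V) (π : T' ⟶ T) (_ : Epi π) (z : T' ⟶ A), U.Factors z ∧ π ≫ x = k • z := by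
  rw [epi_nsmul_iff]
  constructor
  · intro h T x hx
    obtain ⟨T', π, hπ, z, hz⟩ := h (U.factorThru x hx)
    refine ⟨T', π, hπ, z ≫ U.arrow, Subobject.factors_comp_arrow _, ?_⟩
    rw [← Preadditive.nsmul_comp, ← hz, Category.assoc, Subobject.factorThru_arrow]
  · intro h T x
    obtain ⟨T', π, hπ, z, hzU, hz⟩ := h (x ≫ U.arrow) (Subobject.factors_comp_arrow _)
    refine ⟨T', π, hπ, U.factorThru z hzU, ?_⟩
    rw [← cancel_mono U.arrow, Category.assoc, hz, Preadditive.nsmul_comp,
      Subobject.factorThru_arrow]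

/-- A divisible image: when `c A = (c * k) A`. -/
lemma epi_nsmul_img (c k : ℕ) (h : img c A ≤ img (c * k) A) :
    Epi (k • 𝟙 ((img c A : Subobject A) : V)) := by
  rw [epi_nsmul_subobject_iff]
  intro T x hx
  obtain ⟨T', π, hπ, z, hz⟩ := (img_factors_iff _ _).1 (Subobject.factors_of_le x h hx)
  exact ⟨T', π, hπ, c • z, img_smul _ _, by rw [hz, mul_comm c k, mul_smul]⟩

lemma img_le_of_epi (c k : ℕ) [Epi (k • 𝟙 ((img c A : Subobject A) : V))] :
    img c A ≤ img (c * k) A := le_of_forall fun T x hx => by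
  obtain ⟨T', π, hπ, z, hzU, hz⟩ := (epi_nsmul_subobject_iff k (img c A)).1 inferInstance x hx
  obtain ⟨T'', ρ, hρ, w, hw⟩ := (img_factors_iff _ _).1 hzU
  exact (img_factors_iff _ _).2 ⟨T'', ρ ≫ π, inferInstance, w, by
    rw [Category.assoc, hz, Preadditive.comp_nsmul, hw, smul_smul, mul_comm]⟩

lemma epi_nsmul_pow (k : ℕ) [Epi (k • 𝟙 A)] : ∀ j : ℕ, Epi ((k ^ j) • 𝟙 A)
  | 0 => by rw [pow_zero, one_smul]; infer_instance
  | j + 1 => by
    have := epi_nsmul_pow k j
    rw [show (k ^ (j + 1)) • 𝟙 A = ((k ^ j) • 𝟙 A) ≫ (k • 𝟙 A) by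
      simp [Preadditive.comp_nsmul, smul_smul, pow_succ, mul_comm]]
    infer_instance

/-- A subobject on which `k` is an epimorphism is contained in `k A`. -/
lemma le_img_of_epi (U : Subobject A) (k : ℕ) (h : Epi (k • 𝟙 (U : V))) : U ≤ img k A :=
  le_of_forall fun T x hx => by
    obtain ⟨T', π, hπ, z, _, hz⟩ := (epi_nsmul_subobject_iff k U).1 h x hx
    exact (img_factors_iff _ _).2 ⟨T', π, hπ, z, hz⟩

/-- The divisible part of an object all of whose elements are torsion: a divisible subobject `I'`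
containing the torsion of `I`. -/
lemma exists_divisible_of_img {n : ℕ} 
    [∀ (f : ℕ → V), HasCoproduct f] {A : V} (I : Subobject A) (hI : Epi (n • 𝟙 (I : V))) :
    ∃ E : Subobject A, E ≤ I ∧ (∀ k : ℕ, 0 < k → Epi (k • 𝟙 (E : V))) ∧
      ∀ ⦃T : V⦄ (x : T ⟶ A), n • x = 0 → I.Factors x → E.Factors x := by
  let K : ℕ → V := fun j => kernel ((n ^ j) • 𝟙 (I : V))
  let σ : (∐ K) ⟶ A := Sigma.desc fun j => kernel.ι _ ≫ I.arrow
  have hK : ∀ j, (imageSubobject σ).Factors (kernel.ι ((n ^ j) • 𝟙 (I : V)) ≫ I.arrow) := fun j =>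
    (imageSubobject_factors_iff _ _).2 ⟨K j, 𝟙 _, inferInstance, Sigma.ι K j, by simp [σ, K]⟩
  have hE : ∀ (j : ℕ) ⦃T : V⦄ (x : T ⟶ A), n ^ j • x = 0 → I.Factors x →
      (imageSubobject σ).Factors x := by
    intro j T x hx hxI
    have h1 : n ^ j • I.factorThru x hxI = 0 := by
      rw [← cancel_mono I.arrow, Preadditive.nsmul_comp, Subobject.factorThru_arrow, hx, zero_comp]
    have := factors_comp (liftTor (n ^ j) (I.factorThru x hxI) h1) (hK j)
    simpa using this
  refine ⟨imageSubobject σ, ?_, fun k hk => ?_, fun T x hx hxI => hE 1 x (by simpa using hx) hxI⟩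
  · rw [← Subobject.mk_arrow I, ← imageSubobject_mono, imageSubobject_le_iff]
    refine Sigma.hom_ext _ _ fun j => ?_
    rw [colimit.ι_desc_assoc, comp_zero]
    exact (Category.assoc _ _ _).trans ((congrArg (kernel.ι _ ≫ ·)
      (cokernel.condition I.arrow)).trans comp_zero)
  · have hsur : ∀ j, ∃ (T' : V) (π : T' ⟶ K j) (_ : Epi π) (z : T' ⟶ A),
        (imageSubobject σ).Factors z ∧ π ≫ kernel.ι _ ≫ I.arrow = k • z := by
      intro j
      obtain ⟨a, b, i, hab, ha, hb⟩ : ∃ a b i : ℕ, k = a * b ∧ Nat.Coprime a n ∧ b ∣ n ^ i := by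
        obtain ⟨a, ha, hdvd⟩ := exists_coprime_part k n hk
        obtain ⟨b, rfl⟩ : a ∣ k := hdvd.1
        exact ⟨a, b, _, rfl, ha, hdvd.2 b rfl⟩
      obtain ⟨c, hc⟩ := hb
      have := epi_nsmul_pow (A := (I : V)) n i
      obtain ⟨T', π, hπ, z, hz⟩ := (epi_nsmul_iff (A := (I : V)) (n ^ i)).1 inferInstance
        (kernel.ι ((n ^ j) • 𝟙 (I : V)))
      let y : T' ⟶ A := (c • z) ≫ I.arrow
      have hy : n ^ (i + j) • y = 0 := by
        have h0 : n ^ (i + j) • z = 0 := by
          rw [add_comm, pow_add, mul_smul, ← hz, ← Preadditive.comp_nsmul, kernel_nsmul_ι,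
            comp_zero]
        rw [← Preadditive.nsmul_comp, smul_comm, h0, smul_zero, zero_comp]
      obtain ⟨s, t, hst⟩ : IsCoprime (a : ℤ) ((n : ℤ) ^ (i + j)) :=
        (Nat.Coprime.isCoprime ha).pow_right
      refine ⟨T', π, hπ, s • y, factors_zsmul _ (hE (i + j) y hy ?_), ?_⟩
      · exact Subobject.factors_comp_arrow _
      · have h2 : y = (a : ℕ) • (s • y) := by
          conv_lhs => rw [← one_zsmul y, ← hst]
          rw [add_smul, mul_smul, mul_smul, ← Nat.cast_pow, natCast_zsmul, natCast_zsmul, hy,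
            smul_zero, add_zero, smul_comm]
        rw [hab, mul_comm a b, mul_smul, ← h2]
        simp only [y]
        rw [← Preadditive.nsmul_comp, smul_smul, ← hc, ← hz, Category.assoc]
    rw [epi_nsmul_iff]
    suffices h0 : cokernel.π (k • 𝟙 ((imageSubobject σ : Subobject A) : V)) = 0 by
      have := Preadditive.epi_of_cokernel_zero h0
      exact (epi_nsmul_iff k).1 this
    rw [← cancel_epi (factorThruImageSubobject σ), comp_zero]
    refine Sigma.hom_ext _ _ fun j => ?_
    obtain ⟨T', π, hπ, z, hz, hπz⟩ := hsur j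
    rw [comp_zero, ← cancel_epi π, comp_zero]
    have h3 : π ≫ Sigma.ι K j ≫ factorThruImageSubobject σ =
        (imageSubobject σ).factorThru z hz ≫ (k • 𝟙 _) := by
      rw [← cancel_mono (imageSubobject σ).arrow]
      simp only [Category.assoc, imageSubobject_arrow_comp, Preadditive.comp_nsmul,
        Category.comp_id, Preadditive.nsmul_comp, Subobject.factorThru_arrow]
      rw [← hπz]
      simp [σ, K]
    rw [reassoc_of% h3, cokernel.condition, comp_zero]

end General

variable {C : Type u} [Category.{v} C] [Abelian C] {V : Type u'} [Category.{v'} V] [Abelian V]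
  {Y : C ⥤ V} [Y.Full] [Y.Faithful] [PreservesFiniteLimits Y] [PreservesFiniteColimits Y]
  [Y.Additive] {n : ℕ}

lemma isCof_of_mem {A : V} (hA : Y.essImage A) : IsCof Y n A := fun _ => mem_kernel Y _ hA hA

/-- The image of a morphism of objects of cofinite type is of cofinite type. -/
lemma isCof_imageSubobject (h : Hyp Y n) {A B : V} (hA : IsCof Y n A) (hB : IsCof Y n B)
    (f : A ⟶ B) : IsCof Y n ((imageSubobject f : Subobject B) : V) :=
  isCof_of_iso ((Abelian.imageIsoImage f) ≪≫ (imageSubobjectIso f).symm)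
    (isCof_kernel hB (isCof_cokernel h hA hB f) (cokernel.π f))

lemma le_of_gen (h : Hyp Y n) {A : V} {U U' : Subobject A}
    (hU : ∀ (X : C) (u : Y.obj X ⟶ A), U.Factors u → U'.Factors u) : U ≤ U' := by
  have : U.arrow ≫ cokernel.π U'.arrow = 0 := h.gen _ fun X u => by
    rw [← Category.assoc]
    obtain ⟨g, hg⟩ := (Subobject.factors_iff _ _).1 (hU X (u ≫ U.arrow)
      (Subobject.factors_comp_arrow _))
    rw [← hg, Category.assoc]
    exact (congrArg (g ≫ ·) (cokernel.condition U'.arrow)).trans comp_zero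
  rw [← imageSubobject_le_iff, imageSubobject_mono, imageSubobject_mono,
    Subobject.mk_arrow, Subobject.mk_arrow] at this
  exact this

/-- The torsion parts of a decreasing sequence of subobjects stabilise. -/
lemma torsion_stabilize (hart : ∀ X : C, IsArtinianObject X) {A : V} (c : ℕ)
    (hA : Y.essImage (kernel (c • 𝟙 A))) (U : ℕ → Subobject A) (hU : Antitone U)
    (hUc : ∀ m, Y.essImage (kernel (c • 𝟙 ((U m : Subobject A) : V)))) :
    ∃ M, ∀ m, M ≤ m → ∀ ⦃T : V⦄ (x : T ⟶ A), c • x = 0 → (U M).Factors x → (U m).Factors x := by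
  obtain ⟨M, hM⟩ := images_stabilize Y hart hA _ hUc (fun m => mapTor c (U m).arrow) (by
    intro i j hij
    refine le_of_forall fun T x hx => ?_
    rw [imageSubobject_factors_iff] at hx ⊢
    obtain ⟨T', π, hπ, z, hz⟩ := hx
    refine ⟨T', π, hπ, z ≫ mapTor c (Subobject.ofLE _ _ (hU hij)), ?_⟩
    rw [hz, ← cancel_mono (kernel.ι (c • 𝟙 A))]
    simp only [mapTor, liftTor, Category.assoc, kernel.lift_ι, kernel.lift_ι_assoc,
      Subobject.ofLE_arrow])
  refine ⟨M, fun m hm T x hx hxM => ?_⟩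
  have hf : (imageSubobject (mapTor c (U M).arrow)).Factors (liftTor c x hx) := by
    rw [imageSubobject_factors_iff]
    refine ⟨T, 𝟙 T, inferInstance, liftTor c ((U M).factorThru x hxM) ?_, ?_⟩
    · rw [← cancel_mono (U M).arrow, Preadditive.nsmul_comp, Subobject.factorThru_arrow, hx,
        zero_comp]
    · rw [Category.id_comp, ← cancel_mono (kernel.ι (c • 𝟙 A))]
      simp only [mapTor, liftTor, Category.assoc, kernel.lift_ι, kernel.lift_ι_assoc,
        Subobject.factorThru_arrow]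
  obtain ⟨T', π, hπ, z, hz⟩ :=
    (imageSubobject_factors_iff _ _).1 (Subobject.factors_of_le _ (hM m hm) hf)
  have := congrArg (· ≫ kernel.ι (c • 𝟙 A)) hz
  simp only [mapTor, liftTor, Category.assoc, kernel.lift_ι] at this
  apply factors_of_epi π
  rw [this, ← Category.assoc]
  exact Subobject.factors_comp_arrow _

/-- A divisible subobject contains every torsion element of a larger one with the same `n`-torsion.
-/
lemma le_of_torsion_eq (h : Hyp Y n) (htor : ∀ X : C, ∃ k, (n ^ k) • 𝟙 X = 0) {A : V}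
    (U U' : Subobject A) (hU' : U' ≤ U) (hd : Epi (n • 𝟙 (U' : V)))
    (ht : ∀ ⦃T : V⦄ (x : T ⟶ A), n • x = 0 → U.Factors x → U'.Factors x) : U ≤ U' := by
  have key : ∀ (k : ℕ) ⦃T : V⦄ (x : T ⟶ A), n ^ k • x = 0 → U.Factors x → U'.Factors x := by
    intro k
    induction k with
    | zero =>
      intro T x hx _
      rw [pow_zero, one_smul] at hx
      rw [hx]
      exact Subobject.factors_zero
    | succ k ih =>
      intro T x hx hxU
      have h1 : U'.Factors (n • x) := ih _ (by rw [smul_smul, ← pow_succ, hx])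
        (by rw [← Subobject.factorThru_arrow U x hxU, ← Preadditive.nsmul_comp]
            exact Subobject.factors_comp_arrow _)
      obtain ⟨T', π, hπ, z, hzU, hz⟩ := (epi_nsmul_subobject_iff n U').1 hd _ h1
      have h2 : U'.Factors (π ≫ x - z) := by
        refine ht _ ?_ (factors_sub (factors_comp π hxU) (Subobject.factors_of_le _ hU' hzU))
        rw [smul_sub, ← Preadditive.comp_nsmul, hz, sub_self]
      have h3 := Subobject.factors_add _ _ h2 hzU
      rw [sub_add_cancel] at h3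
      exact factors_of_epi π h3
  refine le_of_gen h fun X u hu => ?_
  obtain ⟨k, hk⟩ := htor X
  refine key k u ?_ hu
  have := congrArg (fun f => Y.map f ≫ u) hk
  simpa [Functor.map_nsmul, Preadditive.nsmul_comp] using this

section Ind

variable {C : Type v} [SmallCategory C] [Abelian C]

instance : (Ind.yoneda (C := C)).Additive := Functor.additive_of_preserves_binary_products _

instance : PreservesFiniteLimits (Ind.yoneda (C := C)) :=
  PreservesLimitsOfSize.preservesFiniteLimits _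

lemma gen_ind ⦃A B : Ind C⦄ (f : A ⟶ B)
    (h : ∀ (X : C) (u : Ind.yoneda.obj X ⟶ A), u ≫ f = 0) : f = 0 := by
  rw [← cancel_epi (Ind.colimitPresentationCompYoneda A).hom, comp_zero]
  refine colimit.hom_ext fun i => ?_
  rw [comp_zero, ← Category.assoc]
  exact h (A.presentation.F.obj i) _

lemma hyp_of_prime_pow (hart : ∀ X : C, IsArtinianObject X) (p : ℕ)
    (htor : ∀ X : C, ∃ n : ℕ, (p ^ n) • 𝟙 X = 0) : Hyp (Ind.yoneda (C := C)) p :=
  ⟨hart, fun X => by
    obtain ⟨k, hk⟩ := htor X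
    exact ⟨1, k, Nat.coprime_one_left p, by rw [one_mul, hk]⟩, gen_ind⟩

lemma hyp_of_torsion (hart : ∀ X : C, IsArtinianObject X)
    (htor : ∀ X : C, ∃ n : ℕ, 0 < n ∧ n • 𝟙 X = 0) (n : ℕ) : Hyp (Ind.yoneda (C := C)) n :=
  ⟨hart, fun X => by
    obtain ⟨m, hm, hm'⟩ := htor X
    obtain ⟨a, ha, ⟨b, hb⟩, hb'⟩ := exists_coprime_part m n hm
    obtain ⟨c, hc⟩ := hb' b hb
    exact ⟨a, m, ha, by rw [hc, ← mul_assoc, ← hb, mul_comm, mul_smul, hm', smul_zero]⟩, gen_ind⟩

end Ind

end Groth.Agent.H16Derived.Cofinite
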