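import Groth.Agent.H16Derived.Compact
import Groth.Agent.S7881
import Groth.Prelude.Def_DerLim
import Mathlib.CategoryTheory.Functor.OfSequence
import Mathlib.CategoryTheory.Triangulated.Yoneda

/-!
# Homotopy colimits and compact objects
-/

universe v u

open CategoryTheory CategoryTheory.Limits CategoryTheory.Pretriangulated
open scoped ZeroObject

namespace Groth.Agent.H16Derived.Hocolim

variable {D : Type u} [Category.{v} D] [Preadditive D] [HasCoproducts.{v} D]
  [HasColimitsOfShape (Discrete ℕ) D]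

lemma exists_finite_support {C : D} (hC : CohDer.IsCompactObject C) (X : ℕ → D) (α : C ⟶ ∐ X) :
    ∃ (N : ℕ) (a : ∀ m, C ⟶ X m), (∀ m, N ≤ m → a m = 0) ∧
      α = ∑ m ∈ Finset.range N, a m ≫ Sigma.ι X m := by
  classical
  let X' : ULift.{v} ℕ → D := fun n => X n.down
  let p : (∐ X) ⟶ ∐ X' := Sigma.desc fun n => Sigma.ι X' ⟨n⟩
  let q : (∐ X') ⟶ ∐ X := Sigma.desc fun n => Sigma.ι X n.down
  have hpq : p ≫ q = 𝟙 _ := Sigma.hom_ext _ _ fun n => by simp [p, q]
  obtain ⟨s, hs⟩ := (Compact.isCompactObject_iff C).1 hC _ X' (α ≫ p)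
  let N := (s.image ULift.down).sup id + 1
  have hN : ∀ k ∈ s, k.down < N := fun k hk =>
    Nat.lt_succ_of_le (Finset.le_sup (f := id) (Finset.mem_image_of_mem ULift.down hk))
  refine ⟨N, fun m => if (⟨m⟩ : ULift.{v} ℕ) ∈ s then (α ≫ p) ≫ Compact.proj X' ⟨m⟩ else 0,
    fun m hm => if_neg fun h => absurd (hN _ h) (not_lt.2 hm), ?_⟩
  calc α = (α ≫ p) ≫ q := by rw [Category.assoc, hpq, Category.comp_id]
    _ = ∑ k ∈ s, (α ≫ p) ≫ Compact.proj X' k ≫ Sigma.ι X k.down := by
      conv_lhs => rw [← hs]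
      rw [Compact.idem, Preadditive.comp_sum, Preadditive.sum_comp]
      refine Finset.sum_congr rfl fun k _ => ?_
      simp [q, X']
    _ = ∑ m ∈ s.image ULift.down, (if (⟨m⟩ : ULift.{v} ℕ) ∈ s then
        (α ≫ p) ≫ Compact.proj X' ⟨m⟩ else 0) ≫ Sigma.ι X m := by
      rw [Finset.sum_image (fun a _ b _ h => ULift.down_injective h)]
      refine Finset.sum_congr rfl fun k hk => ?_
      rw [if_pos hk, Category.assoc (α ≫ p)]
    _ = _ := by
      refine Finset.sum_subset (fun m hm => ?_) fun m _ hm => ?_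
      · obtain ⟨k, hk, rfl⟩ := Finset.mem_image.1 hm
        exact Finset.mem_range.2 (hN k hk)
      · rw [if_neg fun h => hm (Finset.mem_image.2 ⟨_, h, rfl⟩), zero_comp]

variable [HasZeroObject D] [HasShift D ℤ] [∀ n : ℤ, (shiftFunctor D n).Additive] [Pretriangulated D]
variable {K : ℕ → D} {f : ∀ n, K n ⟶ K (n + 1)} {L : D} {i : ∀ n, K n ⟶ L}

/-- The composite transitions. -/
noncomputable abbrev tr (f : ∀ n, K n ⟶ K (n + 1)) {a b : ℕ} (h : a ≤ b) : K a ⟶ K b :=
  (Functor.ofSequence f).map (homOfLE h)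

omit [Preadditive D] [HasCoproducts.{v} D] [HasColimitsOfShape (Discrete ℕ) D] [HasZeroObject D]
  [HasShift D ℤ] [∀ n : ℤ, (shiftFunctor D n).Additive] [Pretriangulated D] in
lemma tr_succ {a b : ℕ} (h : a + 1 ≤ b) : f a ≫ tr f h = tr f ((Nat.le_succ a).trans h) := by
  have h1 : (Functor.ofSequence f).map (homOfLE (Nat.le_succ a)) = f a :=
    Functor.ofSequence_map_homOfLE_succ f a
  conv_lhs => rw [← h1]
  exact ((Functor.ofSequence f).map_comp _ _).symm

omit [HasCoproducts.{v} D] in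
lemma comp_eq (hL : DerLim.IsHocolim K f L i) (n : ℕ) : f n ≫ i (n + 1) = i n := by
  obtain ⟨c, hc⟩ := hL
  have h := Sigma.ι K n ≫= comp_distTriang_mor_zero₁₂ _ hc
  change Sigma.ι K n ≫ (𝟙 _ - DerLim.shiftMap K f) ≫ Sigma.desc i = Sigma.ι K n ≫ 0 at h
  simp [DerLim.shiftMap, sub_eq_zero] at h
  exact h.symm

omit [HasCoproducts.{v} D] in
lemma tr_comp (hL : DerLim.IsHocolim K f L i) {a b : ℕ} (h : a ≤ b) : tr f h ≫ i b = i a := by
  induction b, h using Nat.le_induction with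
  | base => exact (congrArg (· ≫ i a) ((Functor.ofSequence f).map_id a)).trans (Category.id_comp _)
  | succ b hb ih =>
    have e : tr f (hb.trans (Nat.le_succ b)) = tr f hb ≫ f b := by
      rw [tr, tr, show homOfLE (hb.trans (Nat.le_succ b)) = homOfLE hb ≫ homOfLE (Nat.le_succ b)
        from rfl, Functor.map_comp, Functor.ofSequence_map_homOfLE_succ]
      rfl
    change tr f (hb.trans (Nat.le_succ b)) ≫ i (b + 1) = i a
    rw [e, Category.assoc, comp_eq hL, ih]

omit [HasZeroObject D] [HasShift D ℤ] [∀ n : ℤ, (shiftFunctor D n).Additive] [Pretriangulated D] in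
lemma eq_zero_of_fixed {C : D} (hC : CohDer.IsCompactObject C) (x : C ⟶ ∐ K)
    (hx : x ≫ DerLim.shiftMap K f = x) : x = 0 := by
  obtain ⟨N, a, hN, rfl⟩ := exists_finite_support hC K x
  classical
  let π (m : ℕ) : (∐ K) ⟶ K m := Sigma.desc fun k =>
    if h : k = m then eqToHom (congrArg K h) else 0
  have hπ : ∀ m, (∑ k ∈ Finset.range N, a k ≫ Sigma.ι K k) ≫ π m = a m := by
    intro m
    rw [Preadditive.sum_comp, Finset.sum_eq_single m]
    · simp [π]
    · intro k _ hk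
      simp [π, hk]
    · intro hm
      rw [Finset.mem_range, not_lt] at hm
      simp [hN m hm]
  have hz : ∀ m, a m = 0 := by
    intro m
    induction m with
    | zero =>
      rw [← hπ 0, ← hx, Category.assoc, show DerLim.shiftMap K f ≫ π 0 = 0 from
        Sigma.hom_ext _ _ fun k => by simp [DerLim.shiftMap, π], comp_zero]
    | succ m ih =>
      rw [← hπ (m + 1), ← hx, Category.assoc, show DerLim.shiftMap K f ≫ π (m + 1) = π m ≫ f m from
        Sigma.hom_ext _ _ fun k => by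
          by_cases h : k = m
          · subst h; simp [DerLim.shiftMap, π]
          · simp [DerLim.shiftMap, π, h], ← Category.assoc, hπ, ih, zero_comp]
  simp [hz]

/-- Compact objects map into a homotopy colimit through a stage. -/
theorem exists_lift (hL : DerLim.IsHocolim K f L i) {C : D} (hC : CohDer.IsCompactObject C)
    (φ : C ⟶ L) : ∃ (n : ℕ) (a : C ⟶ K n), a ≫ i n = φ := by
  have hL' := hL
  obtain ⟨c, hc⟩ := hL'
  have h0 : φ ≫ c = 0 := by
    let e := shiftEquiv D (1 : ℤ)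
    obtain ⟨x, hx⟩ := (shiftFunctor D (1 : ℤ)).map_surjective
      ((e.counitIso.app C).hom ≫ φ ≫ c)
    have hfix : x ≫ (𝟙 _ - DerLim.shiftMap K f) = 0 := by
      apply (shiftFunctor D (1 : ℤ)).map_injective
      rw [Functor.map_comp, hx, Functor.map_zero]
      simp only [Category.assoc]
      rw [show c ≫ (shiftFunctor D (1 : ℤ)).map (𝟙 _ - DerLim.shiftMap K f) = 0 from
        comp_distTriang_mor_zero₃₁ _ hc]
      simp
    rw [Preadditive.comp_sub, Category.comp_id, sub_eq_zero] at hfix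
    rw [eq_zero_of_fixed (Compact.of_shift hC (-1)) x hfix.symm] at hx
    erw [Functor.map_zero] at hx
    rw [← cancel_epi (e.counitIso.app C).hom, comp_zero]
    exact hx.symm
  obtain ⟨y, hy⟩ : ∃ y : C ⟶ ∐ K, φ = y ≫ Sigma.desc i := Triangle.coyoneda_exact₃ _ hc φ h0
  obtain ⟨N, a, -, rfl⟩ := exists_finite_support hC K y
  refine ⟨N, ∑ m ∈ Finset.range N,
    if h : m ≤ N then a m ≫ tr f h else 0, ?_⟩
  rw [hy, Preadditive.sum_comp, Preadditive.sum_comp]
  refine Finset.sum_congr rfl fun m hm => ?_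
  rw [dif_pos (Finset.mem_range.1 hm).le, Category.assoc, tr_comp hL, Category.assoc, Sigma.ι_desc]

/-- A map from a compact object into a stage which dies in the homotopy colimit dies at some
later stage. -/
theorem exists_eq_zero (hL : DerLim.IsHocolim K f L i) {C : D} (hC : CohDer.IsCompactObject C)
    (n : ℕ) (a : C ⟶ K n) (ha : a ≫ i n = 0) : ∃ (m : ℕ) (h : n ≤ m), a ≫ tr f h = 0 := by
  obtain ⟨c, hc⟩ := hL
  obtain ⟨x, hx⟩ : ∃ x : C ⟶ ∐ K, a ≫ Sigma.ι K n = x ≫ (𝟙 _ - DerLim.shiftMap K f) :=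
    Triangle.coyoneda_exact₂ _ hc (a ≫ Sigma.ι K n) (by
      change (a ≫ Sigma.ι K n) ≫ Sigma.desc i = 0
      rw [Category.assoc, Sigma.ι_desc, ha])
  obtain ⟨N, b, -, rfl⟩ := exists_finite_support hC K x
  refine ⟨max n N, le_max_left _ _, ?_⟩
  let T : (∐ K) ⟶ K (max n N) :=
    Sigma.desc fun m => if h : m ≤ max n N then tr f h else 0
  have h1 : a ≫ tr f (le_max_left n N) = (a ≫ Sigma.ι K n) ≫ T := by simp [T]
  rw [h1, hx, Category.assoc, Preadditive.sum_comp]
  refine Finset.sum_eq_zero fun m hm => ?_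
  have h2 : m + 1 ≤ max n N := (Finset.mem_range.1 hm).trans_le (le_max_right _ _)
  rw [Category.assoc, Preadditive.sub_comp, Preadditive.comp_sub, Category.id_comp,
    DerLim.shiftMap, Sigma.ι_desc_assoc, Category.assoc, Sigma.ι_desc, Sigma.ι_desc,
    dif_pos h2, dif_pos ((Nat.le_succ m).trans h2), tr_succ h2, sub_self, comp_zero]

section Cells

variable {ι : Type v} (E : ι → D)

/-- The objects `E i⟦m⟧`. -/
noncomputable abbrev cell (p : ι × ULift.{v} ℤ) : D := (shiftFunctor D p.2.down).obj (E p.1)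

omit [HasColimitsOfShape (Discrete ℕ) D] in
lemma exists_step {X : D} (p : Σ K : D, K ⟶ X) : ∃ (q : Σ K : D, K ⟶ X) (f : p.1 ⟶ q.1),
    (∃ (κ : Type v) (a : κ → ι) (m : κ → ℤ)
      (y : (∐ fun k => (shiftFunctor D (m k)).obj (E (a k))) ⟶ p.1)
      (z : q.1 ⟶ (shiftFunctor D (1 : ℤ)).obj (∐ fun k => (shiftFunctor D (m k)).obj (E (a k)))),
      Triangle.mk y f z ∈ distinguishedTriangles) ∧
    f ≫ q.2 = p.2 ∧ ∀ (j : ι × ULift.{v} ℤ) (u : cell E j ⟶ p.1), u ≫ p.2 = 0 → u ≫ f = 0 := by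
  let κ : Type v := Σ j : ι × ULift.{v} ℤ, {u : cell E j ⟶ p.1 // u ≫ p.2 = 0}
  let y : (∐ fun k : κ => cell E k.1) ⟶ p.1 := Sigma.desc fun k => k.2.1
  obtain ⟨Q, f, z, hT⟩ := distinguished_cocone_triangle y
  have hy : y ≫ p.2 = 0 := Sigma.hom_ext _ _ fun k => by simp [y, k.2.2]
  obtain ⟨q, hq⟩ : ∃ q : Q ⟶ X, p.2 = f ≫ q := Triangle.yoneda_exact₂ _ hT p.2 hy
  refine ⟨⟨Q, q⟩, f, ⟨κ, fun k => k.1.1, fun k => k.1.2.down, y, z, hT⟩, hq.symm, fun j u hu => ?_⟩
  have h0 : y ≫ f = 0 := comp_distTriang_mor_zero₁₂ _ hT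
  calc u ≫ f = (Sigma.ι (fun k : κ => cell E k.1) ⟨j, u, hu⟩ ≫ y) ≫ f := by simp [y]
    _ = 0 := by rw [Category.assoc, h0, comp_zero]

/-- Every object is a homotopy colimit of cell objects, built from compact generators. -/
theorem exists_presentation (hc : ∀ j, CohDer.IsCompactObject (E j)) (hg : CohDer.Generates E)
    (X : D) :
    ∃ (K : ℕ → D) (f : ∀ n, K n ⟶ K (n + 1)) (i : ∀ n, K n ⟶ X),
      DerLim.IsHocolim K f X i ∧
      (∃ (κ : Type v) (a : κ → ι) (m : κ → ℤ),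
        Nonempty (K 0 ≅ ∐ (fun k => (shiftFunctor D (m k)).obj (E (a k))))) ∧
      ∀ n, ∃ (κ : Type v) (a : κ → ι) (m : κ → ℤ)
        (y : (∐ fun k => (shiftFunctor D (m k)).obj (E (a k))) ⟶ K n)
        (z : K (n + 1) ⟶ (shiftFunctor D (1 : ℤ)).obj
          (∐ fun k => (shiftFunctor D (m k)).obj (E (a k)))),
        Triangle.mk y (f n) z ∈ distinguishedTriangles := by
  choose nx fx hdist hcomp hkill using fun p : Σ K : D, K ⟶ X => exists_step E p
  let κ₀ : Type v := Σ j : ι × ULift.{v} ℤ, (cell E j ⟶ X)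
  let P : ℕ → Σ K : D, K ⟶ X := fun n =>
    Nat.rec ⟨∐ fun k : κ₀ => cell E k.1, Sigma.desc fun k => k.2⟩ (fun _ q => nx q) n
  let K : ℕ → D := fun n => (P n).1
  let f : ∀ n, K n ⟶ K (n + 1) := fun n => fx (P n)
  let i : ∀ n, K n ⟶ X := fun n => (P n).2
  obtain ⟨L, j, c, hT⟩ := distinguished_cocone_triangle (𝟙 (∐ K) - DerLim.shiftMap K f)
  have hi : (𝟙 (∐ K) - DerLim.shiftMap K f) ≫ Sigma.desc i = 0 := Sigma.hom_ext _ _ fun n => by
    have : f n ≫ i (n + 1) = i n := hcomp (P n)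
    simp [DerLim.shiftMap, this]
  obtain ⟨e, he⟩ : ∃ e : L ⟶ X, Sigma.desc i = j ≫ e := Triangle.yoneda_exact₂ _ hT _ hi
  let i' : ∀ n, K n ⟶ L := fun n => Sigma.ι K n ≫ j
  have hj : Sigma.desc i' = j := Sigma.hom_ext _ _ fun n => by simp [i']
  have hL : DerLim.IsHocolim K f L i' := ⟨c, by rw [hj]; exact hT⟩
  have hie : ∀ n, i' n ≫ e = i n := fun n => by
    simp [i', ← he]
  have hbij : ∀ k : ι × ULift.{v} ℤ, Function.Bijective (fun g : cell E k ⟶ L => g ≫ e) := by
    intro k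
    have hk : CohDer.IsCompactObject (cell E k) := Compact.of_shift (hc _) _
    refine ⟨fun g g' h => ?_, fun u => ⟨Sigma.ι (fun k : κ₀ => cell E k.1) ⟨k, u⟩ ≫ i' 0, ?_⟩⟩
    · rw [← sub_eq_zero]
      obtain ⟨n, a, ha⟩ := exists_lift hL hk (g - g')
      have h0 : a ≫ i n = 0 := by
        rw [← hie, ← Category.assoc, ha, Preadditive.sub_comp]
        exact sub_eq_zero.2 h
      rw [← ha, ← comp_eq hL n, ← Category.assoc, show a ≫ f n = 0 from hkill (P n) k a h0,
        zero_comp]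
    · change (Sigma.ι (fun k : κ₀ => cell E k.1) ⟨k, u⟩ ≫ i' 0) ≫ e = u
      rw [Category.assoc, hie]
      exact Sigma.ι_desc _ _
  have : IsIso e := by
    rw [Groth.Agent.S7881.result E hg]
    intro k n
    let adj := (shiftEquiv D n).symm.toAdjunction
    have heq : (fun g : E k ⟶ (shiftFunctor D n).obj L => g ≫ (shiftFunctor D n).map e) =
        (adj.homEquiv _ _) ∘ (fun g => g ≫ e) ∘ (adj.homEquiv _ _).symm := by
      funext g
      exact ((adj.homEquiv_naturality_right _ _).trans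
        (by rw [Equiv.apply_symm_apply]; rfl)).symm
    rw [heq]
    exact (adj.homEquiv _ _).bijective.comp
      ((hbij (k, ⟨-n⟩)).comp (adj.homEquiv _ _).symm.bijective)
  refine ⟨K, f, i, ⟨inv e ≫ c, ?_⟩, ⟨κ₀, fun k => k.1.1, fun k => k.1.2.down, ⟨Iso.refl _⟩⟩,
    fun n => hdist (P n)⟩
  exact isomorphic_distinguished _ hT _ (Triangle.isoMk _ _ (Iso.refl _) (Iso.refl _) (asIso e).symm
    ((Category.comp_id _).trans (Category.id_comp _).symm)
    (by
      erw [Category.id_comp]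
      change Sigma.desc i ≫ inv e = j
      rw [he, Category.assoc, IsIso.hom_inv_id]
      exact Category.comp_id _)
    (by
      erw [CategoryTheory.Functor.map_id]
      exact Category.comp_id _))

end Cells

end Groth.Agent.H16Derived.Hocolim
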