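import Groth.Agent.H16Derived.DerAdj
import Groth.Agent.H16Derived.KInjRes.Main
import Groth.Agent.H4DR.RHom.RightRes
import Mathlib.Algebra.Homology.DerivedCategory.ExactFunctor
import Mathlib.Algebra.Homology.DerivedCategory.KInjective
import Mathlib.CategoryTheory.Functor.Derived.PointwiseLeftDerived

/-!
# The derived right adjoint of an exact functor
-/

set_option autoImplicit false
set_option linter.style.haveILetI false
set_option linter.unusedSectionVars false

open CategoryTheory CategoryTheory.Limits

namespace Groth.Agent.H16Derived.ExactRightAdj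

universe w w' v v' u u'

variable {A : Type u} [Category.{v} A] [Abelian A] {B : Type u'} [Category.{v'} B] [Abelian B]
  [HasDerivedCategory.{w} A] [HasDerivedCategory.{w'} B]
  {G : A ⥤ B} {F : B ⥤ A} [G.Additive] [F.Additive]

/-- The functor which `F` derives. -/
noncomputable abbrev Fh (F : B ⥤ A) [F.Additive] :
    HomotopyCategory B (ComplexShape.up ℤ) ⥤ DerivedCategory A :=
  F.mapHomotopyCategory (ComplexShape.up ℤ) ⋙ DerivedCategory.Qh

section Grothendieck

variable [IsGrothendieckAbelian.{v'} B]

theorem exists_local (M : HomotopyCategory B (ComplexShape.up ℤ)) :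
    ∃ (I : CochainComplex B ℤ) (_ : I.IsKInjective) (s : M ⟶ (HomotopyCategory.quotient _ _).obj I),
      HomotopyCategory.quasiIso B (ComplexShape.up ℤ) s := by
  obtain ⟨N, j, hN⟩ := KInjRes.exists_resolution_functor (A := B)
  obtain ⟨K, rfl⟩ : ∃ K, (HomotopyCategory.quotient _ _).obj K = M := ⟨M.as, rfl⟩
  refine ⟨N.obj K, (hN K).2.2.1, (HomotopyCategory.quotient _ _).map (j.app K), ?_⟩
  rw [HomotopyCategory.quotient_map_mem_quasiIso_iff, HomologicalComplex.mem_quasiIso_iff]
  exact (hN K).2.1

/-- The hom-sets into K-injective complexes. -/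
theorem hasPointwise : (Fh F).HasPointwiseRightDerivedFunctor
    (HomotopyCategory.quasiIso B (ComplexShape.up ℤ)) :=
  RDerived.hasPointwiseRightDerivedFunctor_of_resolutions DerivedCategory.Qh _ _ fun M => by
    obtain ⟨I, hI, s, hs⟩ := exists_local M
    exact ⟨_, s, hs, fun K => CochainComplex.IsKInjective.Qh_map_bijective K I⟩

variable [(Fh F).HasRightDerivedFunctor (HomotopyCategory.quasiIso B (ComplexShape.up ℤ))]

/-- `RF`. -/
noncomputable abbrev RF (F : B ⥤ A) [F.Additive]
    [(Fh F).HasRightDerivedFunctor (HomotopyCategory.quasiIso B (ComplexShape.up ℤ))] :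
    DerivedCategory B ⥤ DerivedCategory A :=
  (Fh F).totalRightDerived DerivedCategory.Qh (HomotopyCategory.quasiIso B (ComplexShape.up ℤ))

/-- The unit of `RF`. -/
noncomputable abbrev β (F : B ⥤ A) [F.Additive]
    [(Fh F).HasRightDerivedFunctor (HomotopyCategory.quasiIso B (ComplexShape.up ℤ))] :
    Fh F ⟶ DerivedCategory.Qh ⋙ RF F :=
  (Fh F).totalRightDerivedUnit DerivedCategory.Qh (HomotopyCategory.quasiIso B (ComplexShape.up ℤ))

theorem isIso_β (I : CochainComplex B ℤ) [I.IsKInjective] :
    IsIso ((β F).app ((HomotopyCategory.quotient _ _).obj I)) :=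
  haveI := hasPointwise (F := F)
  RDerived.isIso_unit_app_of_bijective DerivedCategory.Qh
    (HomotopyCategory.quasiIso B (ComplexShape.up ℤ)) _ _ (β F) _
    fun K => CochainComplex.IsKInjective.Qh_map_bijective K I

theorem isRightDerived_comp {H : Type*} [Category H] (T : DerivedCategory A ⥤ H) :
    (RF F ⋙ T).IsRightDerivedFunctor
      (Functor.whiskerRight (β F) T ≫ (Functor.associator _ _ _).hom)
      (HomotopyCategory.quasiIso B (ComplexShape.up ℤ)) := by
  refine RDerived.isRightDerivedFunctor_of_isIso_local _ _ _ _ _ fun M => ?_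
  obtain ⟨I, hI, s, hs⟩ := exists_local M
  refine ⟨_, s, hs, fun K => CochainComplex.IsKInjective.Qh_map_bijective K I, ?_⟩
  haveI := isIso_β (F := F) I
  simp only [NatTrans.comp_app, Functor.associator_hom_app, Functor.whiskerRight_app]
  infer_instance

variable [PreservesFiniteLimits G] [PreservesFiniteColimits G]

theorem isLeftDerived_comp {H : Type*} [Category H] (T : DerivedCategory B ⥤ H) :
    (G.mapDerivedCategory ⋙ T).IsLeftDerivedFunctor
      ((Functor.associator _ _ _).inv ≫ Functor.whiskerRight G.mapDerivedCategoryFactorsh.hom T)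
      (HomotopyCategory.quasiIso A (ComplexShape.up ℤ)) :=
  Functor.isLeftDerivedFunctor_of_inverts (L := DerivedCategory.Qh) _ _
    ((Functor.associator _ _ _).symm ≪≫ Functor.isoWhiskerRight G.mapDerivedCategoryFactorsh T)

/-- `G ⊣ RF`. -/
noncomputable def adjD (adj : G ⊣ F) : G.mapDerivedCategory ⊣ RF F :=
  haveI := Functor.isLeftDerivedFunctor_of_inverts (L := DerivedCategory.Qh)
    (HomotopyCategory.quasiIso A (ComplexShape.up ℤ)) G.mapDerivedCategory G.mapDerivedCategoryFactorsh
  haveI := isLeftDerived_comp (G := G) (RF F)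
  haveI := isRightDerived_comp (F := F) G.mapDerivedCategory
  ((mapHomologicalComplexAdj adj (ComplexShape.up ℤ)).localization
      (HomotopyCategory.quotient A (ComplexShape.up ℤ))
      (HomologicalComplex.homotopyEquivalences A (ComplexShape.up ℤ))
      (HomotopyCategory.quotient B (ComplexShape.up ℤ))
      (HomologicalComplex.homotopyEquivalences B (ComplexShape.up ℤ))
      (G.mapHomotopyCategory _) (F.mapHomotopyCategory _)).derived
    (HomotopyCategory.quasiIso A (ComplexShape.up ℤ)) (HomotopyCategory.quasiIso B (ComplexShape.up ℤ))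
    G.mapDerivedCategoryFactorsh.hom (β F)

theorem isIso_counit_adjD (adj : G ⊣ F) [∀ b, IsIso (adj.counit.app b)] :
    IsIso (adjD adj).counit := by
  haveI : ∀ Y, IsIso ((adjD adj).counit.app Y) := fun Y => by
    obtain ⟨I, hI, s, hs⟩ := exists_local
      ((HomotopyCategory.quotient _ _).obj (DerivedCategory.Q.objPreimage Y))
    haveI := Localization.inverts DerivedCategory.Qh _ s hs
    let e : DerivedCategory.Qh.obj ((HomotopyCategory.quotient _ _).obj I) ≅ Y :=
      (asIso (DerivedCategory.Qh.map s)).symm ≪≫ (DerivedCategory.quotientCompQhIso B).app _ ≪≫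
        DerivedCategory.Q.objObjPreimageIso Y
    refine (NatTrans.isIso_app_iff_of_iso _ e).1 ?_
    haveI := isIso_β (F := F) I
    haveI := isLeftDerived_comp (G := G) (RF F)
    haveI := isRightDerived_comp (F := F) G.mapDerivedCategory
    haveI := Functor.isLeftDerivedFunctor_of_inverts (L := DerivedCategory.Qh)
      (HomotopyCategory.quasiIso A (ComplexShape.up ℤ)) G.mapDerivedCategory G.mapDerivedCategoryFactorsh
    let adjK := (mapHomologicalComplexAdj adj (ComplexShape.up ℤ)).localization
      (HomotopyCategory.quotient A (ComplexShape.up ℤ))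
      (HomologicalComplex.homotopyEquivalences A (ComplexShape.up ℤ))
      (HomotopyCategory.quotient B (ComplexShape.up ℤ))
      (HomologicalComplex.homotopyEquivalences B (ComplexShape.up ℤ))
      (G.mapHomotopyCategory _) (F.mapHomotopyCategory _)
    haveI : IsIso (adjK.counit.app ((HomotopyCategory.quotient _ _).obj I)) := by
      haveI : IsIso ((mapHomologicalComplexAdj adj (ComplexShape.up ℤ)).counit.app I) := by
        haveI : ∀ i, IsIso (((mapHomologicalComplexAdj adj (ComplexShape.up ℤ)).counit.app I).f i) :=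
          fun i => inferInstanceAs (IsIso (adj.counit.app (I.X i)))
        exact HomologicalComplex.Hom.isIso_of_components _
      rw [Adjunction.localization_counit_app]
      infer_instance
    have h := adjK.derivedε_fac_app (HomotopyCategory.quasiIso B (ComplexShape.up ℤ))
      G.mapDerivedCategoryFactorsh.hom (β F) ((HomotopyCategory.quotient _ _).obj I)
    exact IsIso.of_isIso_fac_left h
  exact NatIso.isIso_of_isIso_app _

/-- If `F` is fully faithful then so is `RF`. -/
theorem nonempty_adj_fullyFaithful (adj : G ⊣ F) [∀ b, IsIso (adj.counit.app b)] :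
    Nonempty (G.mapDerivedCategory ⊣ RF F) ∧ (RF F).Full ∧ (RF F).Faithful ∧
      Nonempty (RF F ⋙ G.mapDerivedCategory ≅ 𝟭 (DerivedCategory B)) := by
  haveI := isIso_counit_adjD adj
  let h := (adjD adj).fullyFaithfulROfIsIsoCounit
  exact ⟨⟨adjD adj⟩, h.full, h.faithful, ⟨asIso (adjD adj).counit⟩⟩

end Grothendieck

end Groth.Agent.H16Derived.ExactRightAdj

namespace Groth.Agent.H16Derived.ExactRightAdj

universe w₁ w₂ v₁ v₂ u₁ u₂

variable {A : Type u₁} [Category.{v₁} A] [Abelian A] {B : Type u₂} [Category.{v₂} B] [Abelian B]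
  [HasDerivedCategory.{w₁} A] [HasDerivedCategory.{w₂} B] [IsGrothendieckAbelian.{v₂} B]
  {G : A ⥤ B} {F : B ⥤ A} [G.Additive] [F.Additive]
  [PreservesFiniteLimits G] [PreservesFiniteColimits G]

/-- `G ⊣ RF`, with `RF` derived on complexes. -/
theorem nonempty_adj_of_complexes (adj : G ⊣ F) (R' : DerivedCategory B ⥤ DerivedCategory A)
    (α : F.mapHomologicalComplex (ComplexShape.up ℤ) ⋙ DerivedCategory.Q ⟶ DerivedCategory.Q ⋙ R')
    [R'.IsRightDerivedFunctor α (HomologicalComplex.quasiIso B (ComplexShape.up ℤ))] :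
    Nonempty (G.mapDerivedCategory ⊣ R') := by
  haveI := hasPointwise (F := F)
  let qB := HomotopyCategory.quotient B (ComplexShape.up ℤ)
  let W := HomologicalComplex.quasiIso B (ComplexShape.up ℤ)
  let Fc := F.mapHomologicalComplex (ComplexShape.up ℤ) ⋙ DerivedCategory.Q
  obtain ⟨N, j, hN⟩ := KInjRes.exists_resolution_functor (A := B)
  haveI hQj : ∀ K, IsIso (DerivedCategory.Q.map (j.app K)) := fun K =>
    (DerivedCategory.isIso_Q_map_iff_quasiIso B _).2 (hN K).2.1
  let c : Fc ≅ qB ⋙ Fh F :=
    Functor.isoWhiskerLeft _ (DerivedCategory.quotientCompQhIso A).symm ≪≫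
      (Functor.associator _ _ _).symm ≪≫
      Functor.isoWhiskerRight (F.mapHomotopyCategoryFactors (ComplexShape.up ℤ)).symm DerivedCategory.Qh ≪≫
      Functor.associator _ _ _
  let γ : Fc ⟶ DerivedCategory.Q ⋙ RF F :=
    c.hom ≫ Functor.whiskerLeft qB (β F) ≫ (Functor.associator _ _ _).inv ≫
      Functor.whiskerRight (DerivedCategory.quotientCompQhIso B).hom (RF F)
  haveI hγ : ∀ K, IsIso (γ.app (N.obj K)) := fun K => by
    haveI := (hN K).2.2.1
    haveI := isIso_β (F := F) (N.obj K)
    dsimp only [γ, qB]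
    simp only [NatTrans.comp_app, Functor.associator_inv_app, Functor.whiskerRight_app,
      Functor.whiskerLeft_app]
    infer_instance
  let e : N ⋙ Fc ≅ DerivedCategory.Q ⋙ RF F :=
    NatIso.ofComponents
      (fun K => asIso (γ.app (N.obj K)) ≪≫ (RF F).mapIso (asIso (DerivedCategory.Q.map (j.app K))).symm)
      (fun {K L} φ => by
        dsimp
        have h2 : DerivedCategory.Q.map (N.map φ) ≫ inv (DerivedCategory.Q.map (j.app L)) =
            inv (DerivedCategory.Q.map (j.app K)) ≫ DerivedCategory.Q.map φ := by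
          rw [IsIso.eq_inv_comp, ← Category.assoc, IsIso.comp_inv_eq, ← Functor.map_comp,
            ← Functor.map_comp]
          exact congrArg DerivedCategory.Q.map (j.naturality φ).symm
        have h3 := γ.naturality (N.map φ)
        dsimp at h3
        rw [reassoc_of% h3, ← Functor.map_comp, h2, Functor.map_comp, Category.assoc])
  have hinv : W.IsInvertedBy (N ⋙ Fc) := fun K L φ hφ => by
    haveI : IsIso ((DerivedCategory.Q ⋙ RF F).map φ) :=
      haveI := Localization.inverts DerivedCategory.Q W φ hφ
      Functor.map_isIso (RF F) (DerivedCategory.Q.map φ)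
    exact (NatIso.isIso_map_iff e φ).2 this
  have hloc : ∀ K, IsIso (Fc.map (j.app (N.obj K))) := fun K => by
    haveI := (hN K).2.2.1
    haveI := (hN (N.obj K)).2.2.1
    haveI : IsIso (γ.app ((𝟭 _).obj (N.obj K))) := hγ K
    haveI : IsIso (γ.app (N.obj K) ≫ (DerivedCategory.Q ⋙ RF F).map (j.app (N.obj K))) := by
      dsimp
      infer_instance
    haveI : IsIso (Fc.map (j.app (N.obj K)) ≫ γ.app (N.obj (N.obj K))) := by
      rw [γ.naturality]
      assumption
    exact IsIso.of_isIso_comp_right _ (γ.app (N.obj (N.obj K)))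
  have hj : ∀ K, W (j.app K) := fun K => (hN K).2.1
  haveI := H4DR.RHom.isRightDerived_unit₀ DerivedCategory.Q W j hinv hj hloc
  let e₁ : R' ≅ Localization.lift (N ⋙ Fc) hinv DerivedCategory.Q :=
    R'.rightDerivedUnique _ α (H4DR.RHom.unit₀ DerivedCategory.Q W j hinv) W
  letI : Localization.Lifting DerivedCategory.Q W (N ⋙ Fc) (Localization.lift (N ⋙ Fc) hinv DerivedCategory.Q) :=
    ⟨Localization.fac _ hinv _⟩
  letI : Localization.Lifting DerivedCategory.Q W (DerivedCategory.Q ⋙ RF F) (RF F) := ⟨Iso.refl _⟩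
  let e₂ : Localization.lift (N ⋙ Fc) hinv DerivedCategory.Q ≅ RF F :=
    Localization.liftNatIso DerivedCategory.Q W (N ⋙ Fc) (DerivedCategory.Q ⋙ RF F) _ _ e
  exact ⟨(adjD adj).ofNatIsoRight (e₁ ≪≫ e₂).symm⟩

end Groth.Agent.H16Derived.ExactRightAdj
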