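import Groth.Prelude.Def_DeltaF
import Mathlib.CategoryTheory.Abelian.Refinements
import Mathlib.CategoryTheory.Abelian.Exact
import Mathlib.CategoryTheory.Abelian.FunctorCategory
import Mathlib.CategoryTheory.Limits.FunctorCategory.EpiMono
import Mathlib.CategoryTheory.Abelian.Basic
import Mathlib.CategoryTheory.Preadditive.Injective.Basic

/-!
# Effaceable delta-functors are universal
-/

universe v u v' u'

open CategoryTheory CategoryTheory.Limits

namespace Groth.Agent.H16Derived.DeltaUniversal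

variable {A : Type u} [Category.{v} A] [Abelian A]

/-- The short exact sequence of a monomorphism. -/
noncomputable abbrev seq {X Y : A} (u : X ⟶ Y) : ShortComplex A :=
  ShortComplex.mk u (cokernel.π u) (cokernel.condition u)

lemma shortExact_seq {X Y : A} (u : X ⟶ Y) [Mono u] : (seq u).ShortExact :=
  { exact := ShortComplex.exact_cokernel u }

/-- A short exact sequence maps to a sequence starting with a monomorphism through a given
one. -/
lemma exists_hom {S : ShortComplex A} (hS : S.ShortExact) {X' Y' : A} (f : S.X₁ ⟶ X') (v : X' ⟶ Y')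
    [Mono v] : ∃ (P : A) (j : Y' ⟶ P) (_ : Mono (v ≫ j)) (φ : S ⟶ seq (v ≫ j)), φ.τ₁ = f := by
  have := hS.mono_f
  have := hS.epi_g
  refine ⟨pushout S.f (f ≫ v), pushout.inr _ _, inferInstance, ?_, ?_⟩
  · refine {
      τ₁ := f
      τ₂ := pushout.inl _ _
      τ₃ := hS.exact.desc (pushout.inl _ _ ≫ cokernel.π _) ?_
      comm₁₂ := ?_
      comm₂₃ := ?_ }
    · rw [pushout.condition_assoc, Category.assoc]
      have h := cokernel.condition (v ≫ pushout.inr S.f (f ≫ v))
      rw [Category.assoc] at h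
      rw [h, comp_zero]
    · simp [pushout.condition]
    · exact (hS.exact.g_desc _ _).symm
  · rfl

variable {B : Type u'} [Category.{v'} B] [Abelian B] {T T' : DeltaF.CohDeltaFunctor A B ℕ}

lemma epi_δ {S : ShortComplex A} (hS : S.ShortExact) (n : ℕ) (h0 : (T.F (n + 1)).map S.f = 0) :
    Epi (T.δ S hS n (n + 1) rfl) :=
  (T.exact₁ S hS n (n + 1) rfl).epi_f h0

variable {n : ℕ} (φ : T.F n ⟶ T'.F n)

/-- The forced component in the next degree. -/
noncomputable def next {S : ShortComplex A} (hS : S.ShortExact) (h0 : (T.F (n + 1)).map S.f = 0) :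
    (T.F (n + 1)).obj S.X₁ ⟶ (T'.F (n + 1)).obj S.X₁ :=
  have := epi_δ hS n h0
  have : Epi (ShortComplex.mk _ _ (T.comp_δ S hS n (n + 1) rfl)).g := epi_δ hS n h0
  (T.exact₃ S hS n (n + 1) rfl).desc (φ.app S.X₃ ≫ T'.δ S hS n (n + 1) rfl) (by
    rw [φ.naturality_assoc, T'.comp_δ, comp_zero])

lemma δ_next {S : ShortComplex A} (hS : S.ShortExact) (h0 : (T.F (n + 1)).map S.f = 0) :
    T.δ S hS n (n + 1) rfl ≫ next φ hS h0 = φ.app S.X₃ ≫ T'.δ S hS n (n + 1) rfl :=
  have : Epi (ShortComplex.mk _ _ (T.comp_δ S hS n (n + 1) rfl)).g := epi_δ hS n h0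
  (T.exact₃ S hS n (n + 1) rfl).g_desc _ _

lemma next_naturality {S S' : ShortComplex A} (hS : S.ShortExact) (hS' : S'.ShortExact)
    (h0 : (T.F (n + 1)).map S.f = 0) (h0' : (T.F (n + 1)).map S'.f = 0) (ψ : S ⟶ S') :
    (T.F (n + 1)).map ψ.τ₁ ≫ next φ hS' h0' = next φ hS h0 ≫ (T'.F (n + 1)).map ψ.τ₁ := by
  have := epi_δ hS n h0
  rw [← cancel_epi (T.δ S hS n (n + 1) rfl), ← Category.assoc, ← T.δ_natural hS hS' ψ,
    Category.assoc, δ_next, φ.naturality_assoc, T'.δ_natural hS hS' ψ, reassoc_of% (δ_next φ hS h0)]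

section Effaceable

variable (hT : T.IsEffaceable)
include hT

/-- The component at an object in the next degree. -/
noncomputable def comp (X : A) : (T.F (n + 1)).obj X ⟶ (T'.F (n + 1)).obj X :=
  have := (hT n X).choose_spec.choose_spec.1
  next φ (shortExact_seq (hT n X).choose_spec.choose) (hT n X).choose_spec.choose_spec.2

lemma comp_eq {X' Y' : A} (v : X' ⟶ Y') [Mono v] (h0 : (T.F (n + 1)).map v = 0) :
    comp φ hT X' = next φ (shortExact_seq v) h0 := by
  have hu := (hT n X').choose_spec.choose_spec.1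
  obtain ⟨P, j, _, ψ, hψ⟩ := exists_hom (shortExact_seq (hT n X').choose_spec.choose) (𝟙 X') v
  have h0' : (T.F (n + 1)).map (seq (v ≫ j)).f = 0 := by
    change (T.F (n + 1)).map (v ≫ j) = 0
    rw [Functor.map_comp, h0, zero_comp]
  let χ : seq v ⟶ seq (v ≫ j) :=
    { τ₁ := 𝟙 _, τ₂ := j, τ₃ := cokernel.map v (v ≫ j) (𝟙 _) j (by simp)
      comm₁₂ := by simp, comm₂₃ := by simp }
  have e₁ := next_naturality φ (shortExact_seq (hT n X').choose_spec.choose) (shortExact_seq (v ≫ j))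
    (hT n X').choose_spec.choose_spec.2 h0' ψ
  have e₂ := next_naturality φ (shortExact_seq v) (shortExact_seq (v ≫ j)) h0 h0' χ
  rw [hψ] at e₁
  simp only [χ, CategoryTheory.Functor.map_id, Category.id_comp, Category.comp_id] at e₁ e₂
  exact e₁.symm.trans e₂

/-- The next degree of the morphism of delta-functors. -/
noncomputable def succ : T.F (n + 1) ⟶ T'.F (n + 1) where
  app := comp φ hT
  naturality X X' f := by
    obtain ⟨Y, u, hu, h0⟩ := hT n X
    obtain ⟨Y', v, hv, h0v⟩ := hT n X'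
    obtain ⟨P, j, _, ψ, hψ⟩ := exists_hom (shortExact_seq u) f v
    have h0' : (T.F (n + 1)).map (v ≫ j) = 0 := by rw [Functor.map_comp, h0v, zero_comp]
    have e := next_naturality φ (shortExact_seq u) (shortExact_seq (v ≫ j)) h0 h0' ψ
    rw [hψ] at e
    rw [comp_eq φ hT u h0, comp_eq φ hT (v ≫ j) h0']
    exact e

lemma succ_comm (S : ShortComplex A) (hS : S.ShortExact) :
    T.δ S hS n (n + 1) rfl ≫ (succ φ hT).app S.X₁ = φ.app S.X₃ ≫ T'.δ S hS n (n + 1) rfl := by
  obtain ⟨Y', v, hv, h0v⟩ := hT n S.X₁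
  obtain ⟨P, j, _, ψ, hψ⟩ := exists_hom hS (𝟙 S.X₁) v
  have h0' : (T.F (n + 1)).map (v ≫ j) = 0 := by rw [Functor.map_comp, h0v, zero_comp]
  have hT1 := T.δ_natural hS (shortExact_seq (v ≫ j)) ψ n (n + 1) rfl
  have hT2 := T'.δ_natural hS (shortExact_seq (v ≫ j)) ψ n (n + 1) rfl
  rw [hψ] at hT1 hT2
  simp only [CategoryTheory.Functor.map_id, Category.comp_id] at hT1 hT2
  change T.δ S hS n (n + 1) rfl ≫ comp φ hT S.X₁ = _
  rw [comp_eq φ hT (v ≫ j) h0', ← hT1, Category.assoc, δ_next, φ.naturality_assoc, hT2]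

end Effaceable

variable (T T') in
/-- All degrees. -/
noncomputable def all (hT : T.IsEffaceable) (t : T.F 0 ⟶ T'.F 0) : ∀ n, T.F n ⟶ T'.F n
  | 0 => t
  | n + 1 => succ (all hT t n) hT

theorem isUniversal (T : DeltaF.CohDeltaFunctor A B ℕ) (hT : T.IsEffaceable) : T.IsUniversal := by
  intro T' t
  refine ⟨{ app := all T T' hT t, comm := fun S hS n₀ n₁ h => ?_ }, rfl, fun τ hτ => ?_⟩
  · change n₀ + 1 = n₁ at h
    subst h
    exact succ_comm (all T T' hT t n₀) hT S hS
  · ext n : 1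
    change τ.app n = all T T' hT t n
    induction n with
    | zero => exact hτ
    | succ n ih =>
      ext X
      obtain ⟨Y, u, hu, h0⟩ := hT n X
      have := epi_δ (shortExact_seq u) n h0
      rw [← cancel_epi (T.δ _ (shortExact_seq u) n (n + 1) rfl)]
      exact (τ.comm _ (shortExact_seq u) n (n + 1) rfl).trans
        ((congrArg (fun z : T.F n ⟶ T'.F n => z.app _ ≫ _) ih).trans
          (succ_comm (all T T' hT t n) hT _ (shortExact_seq u)).symm)

/-- Five lemma: injectivity propagates to the next degree. -/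
lemma mono_succ (ψ : T ⟶ T') (hT : T.IsEffaceable) (h₁ : Mono (ψ.app n)) (h₂ : Epi (ψ.app n)) :
    Mono (ψ.app (n + 1)) := by
  have : ∀ X, Mono ((ψ.app (n + 1)).app X) := by
    intro X
    refine Preadditive.mono_of_cancel_zero _ fun {Q} p hp => ?_
    have hmono : ∀ W, Mono ((ψ.app n).app W) := (NatTrans.mono_iff_mono_app _).1 h₁
    have hepi : ∀ W, Epi ((ψ.app n).app W) := (NatTrans.epi_iff_epi_app _).1 h₂
    obtain ⟨Y, u, hu, h0⟩ := hT n X
    have hS := shortExact_seq u
    have := epi_δ (T := T) hS n h0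
    obtain ⟨Q₁, π₁, hπ₁, y, hy⟩ :=
      surjective_up_to_refinements_of_epi (T.δ _ hS n (n + 1) rfl) p
    have h3 : (y ≫ (ψ.app n).app (seq u).X₃) ≫ T'.δ _ hS n (n + 1) rfl = 0 := by
      rw [Category.assoc, ← ψ.comm _ hS n (n + 1) rfl, ← reassoc_of% hy, hp, comp_zero]
    obtain ⟨Q₂, π₂, hπ₂, z', hz'⟩ := (T'.exact₃ _ hS n (n + 1) rfl).exact_up_to_refinements _ h3
    change π₂ ≫ y ≫ (ψ.app n).app (seq u).X₃ = z' ≫ (T'.F n).map (seq u).g at hz'
    obtain ⟨Q₃, π₃, hπ₃, z, hz⟩ := surjective_up_to_refinements_of_epi ((ψ.app n).app Y) z'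
    have h4 : π₃ ≫ π₂ ≫ y = z ≫ (T.F n).map (seq u).g := by
      rw [← cancel_mono ((ψ.app n).app (seq u).X₃)]
      simp only [Category.assoc, hz', reassoc_of% hz]
      rw [(ψ.app n).naturality]
    rw [← cancel_epi π₁, ← cancel_epi π₂, ← cancel_epi π₃, hy, reassoc_of% h4]
    erw [T.comp_δ _ hS n (n + 1) rfl]
    simp
  exact NatTrans.mono_of_mono_app _

end Groth.Agent.H16Derived.DeltaUniversal
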