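import Mathlib.Algebra.Homology.DerivedCategory.Fractions
import Mathlib.Algebra.Homology.DerivedCategory.Ext.ExactSequences
import Mathlib.CategoryTheory.Abelian.Refinements

/-!
Effaceability of `Ext` in positive degrees.
-/

namespace Groth.Agent.H16Derived

open CategoryTheory Category Limits

universe w v u

variable {C : Type u} [Category.{v} C] [Abelian C]

/-- Any class in `Hom(X, Y⟦i⟧)`, `i > 0`, of objects of `C` is killed by an epimorphism onto `X`. -/
lemma exists_epi_singleFunctor_map_comp_eq_zero [HasDerivedCategory.{w} C] {X Y : C} (i : ℤ)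
    (hi : 0 < i) (x : (DerivedCategory.singleFunctor C 0).obj X ⟶
      ((DerivedCategory.singleFunctor C 0).obj Y)⟦i⟧) :
    ∃ (P : C) (π : P ⟶ X), Epi π ∧ (DerivedCategory.singleFunctor C 0).map π ≫ x = 0 := by
  let Kx := (HomologicalComplex.single C (ComplexShape.up ℤ) 0).obj X
  let Ky := (HomologicalComplex.single C (ComplexShape.up ℤ) 0).obj Y
  let e : DerivedCategory.Q.obj (Ky⟦i⟧) ≅ (DerivedCategory.Q.obj Ky)⟦i⟧ :=
    (DerivedCategory.Q.commShiftIso i).app Ky
  obtain ⟨K, hK, s, hs, g, hfac⟩ :=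
    DerivedCategory.right_fac_of_isStrictlyLE (X := Kx) (Y := Ky⟦i⟧) (x ≫ e.inv) 0
  have hqs : QuasiIso s := by rwa [← DerivedCategory.isIso_Q_map_iff_quasiIso]
  have hd : K.d 0 1 = 0 := (K.isZero_of_isStrictlyLE 0 1).eq_of_tgt _ _
  let ι : (HomologicalComplex.single C (ComplexShape.up ℤ) 0).obj (K.X 0) ⟶ K :=
    HomologicalComplex.mkHomFromSingle (𝟙 _) (fun k hk => by
      obtain rfl : k = 1 := by simpa using hk.symm
      rw [hd, comp_zero])
  let π : K.X 0 ⟶ X := s.f 0 ≫ (HomologicalComplex.singleObjXSelf (ComplexShape.up ℤ) 0 X).hom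
  have hι : ι ≫ s = (HomologicalComplex.single C (ComplexShape.up ℤ) 0).map π := by
    apply HomologicalComplex.from_single_hom_ext
    rw [HomologicalComplex.comp_f]
    simp [ι, π, HomologicalComplex.single_map_f_self, Kx]
  refine ⟨K.X 0, π, ?_, ?_⟩
  · have hepi : Epi (HomologicalComplex.cyclesMap s 0 ≫ Kx.iCycles 0) := by
      have : IsIso (Kx.iCycles 0) :=
        Kx.isIso_iCycles 0 1 (by simp)
          ((HomologicalComplex.isZero_single_obj_X _ 0 X 1 (by simp)).eq_of_tgt _ _)
      have : IsIso (Kx.homologyπ 0) :=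
        Kx.isIso_homologyπ (-1) 0 (by simp)
          ((HomologicalComplex.isZero_single_obj_X _ 0 X (-1) (by simp)).eq_of_src _ _)
      have : Epi (HomologicalComplex.cyclesMap s 0 ≫ Kx.homologyπ 0) := by
        rw [← HomologicalComplex.homologyπ_naturality]
        infer_instance
      have h : HomologicalComplex.cyclesMap s 0 =
          (HomologicalComplex.cyclesMap s 0 ≫ Kx.homologyπ 0) ≫ inv (Kx.homologyπ 0) := by simp
      rw [h]
      infer_instance
    have : Epi (s.f 0) := by
      rw [HomologicalComplex.cyclesMap_i] at hepi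
      exact epi_of_epi (K.iCycles 0) _
    exact epi_comp' this (Iso.isIso_hom (HomologicalComplex.singleObjXSelf (ComplexShape.up ℤ) 0 X) |> fun h => @IsIso.epi_of_iso _ _ _ _ _ h)
  · have hzero : ι ≫ g = 0 := by
      apply HomologicalComplex.from_single_hom_ext
      exact (HomologicalComplex.isZero_single_obj_X (ComplexShape.up ℤ) 0 Y (0 + i)
        (by lia)).eq_of_tgt _ _
    have h : DerivedCategory.Q.map ((HomologicalComplex.single C (ComplexShape.up ℤ) 0).map π) ≫ (x ≫ e.inv) = 0 := by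
      rw [hfac, ← hι, Functor.map_comp, assoc, IsIso.hom_inv_id_assoc, ← Functor.map_comp, hzero,
        Functor.map_zero]
    have hx : x = (x ≫ e.inv) ≫ e.hom :=
      ((assoc x e.inv e.hom).trans ((congrArg (x ≫ ·) e.inv_hom_id).trans (comp_id x))).symm
    exact (congrArg (DerivedCategory.Q.map _ ≫ ·) hx).trans
      ((assoc _ _ _).symm.trans ((congrArg (· ≫ e.hom) h).trans zero_comp))

/-- `Ext` groups in positive degree are effaceable by epimorphisms. -/
lemma ext_exists_epi_comp_eq_zero [HasExt.{w} C] {X Y : C} {n : ℕ} (hn : 0 < n)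
    (x : Abelian.Ext.{w} X Y n) :
    ∃ (P : C) (π : P ⟶ X), Epi π ∧ (Abelian.Ext.mk₀ π).comp x (zero_add n) = 0 := by
  let := HasDerivedCategory.standard C
  obtain ⟨P, π, hπ, h⟩ := exists_epi_singleFunctor_map_comp_eq_zero (n : ℤ) (by lia) x.hom
  refine ⟨P, π, hπ, ?_⟩
  ext
  simp [Abelian.Ext.comp_hom, Abelian.Ext.mk₀_hom, ShiftedHom.mk₀_comp, h]

end Groth.Agent.H16Derived
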