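import Groth.Prelude.Def_DerCA
import Mathlib.CategoryTheory.Triangulated.Triangulated

/-!
# Essentially constant systems in triangulated categories
-/

universe v u

open CategoryTheory CategoryTheory.Limits CategoryTheory.Pretriangulated Opposite

namespace Groth.Agent.H16Derived.EssConst

variable {C : Type u} [Category.{v} C]

lemma tr_trans (X : ARSys.PS C) {n m l : ℕ} (h : n ≤ m) (h' : m ≤ l) :
    ARSys.tr X h' ≫ ARSys.tr X h = ARSys.tr X (h.trans h') := by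
  simp only [ARSys.tr, ← Functor.map_comp, ← op_comp, homOfLE_comp]

lemma cone_tr {X : ARSys.PS C} {A : C} (c : (Functor.const ℕᵒᵖ).obj A ⟶ X) {n m : ℕ} (h : n ≤ m) :
    c.app (op m) ≫ ARSys.tr X h = c.app (op n) :=
  ((c.naturality (homOfLE h).op).symm.trans (Category.id_comp _))

/-- Data of an essentially constant system: retractions from a stage on. -/
structure Val (X : ARSys.PS C) (A : C) where
  c : (Functor.const ℕᵒᵖ).obj A ⟶ X
  i : ℕ
  s : ∀ l, i ≤ l → (X.obj (op l) ⟶ A)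
  s_tr : ∀ (m l : ℕ) (hm : i ≤ m) (h : m ≤ l), ARSys.tr X h ≫ s m hm = s l (hm.trans h)
  c_s : ∀ (l : ℕ) (h : i ≤ l), c.app (op l) ≫ s l h = 𝟙 A
  deep : ∀ j : ℕ, ∃ (k : ℕ) (hj : j ≤ k) (hi : i ≤ k), ARSys.tr X hj = s k hi ≫ c.app (op j)

lemma exists_val {X : ARSys.PS C} {A : C} {c : (Functor.const ℕᵒᵖ).obj A ⟶ X}
    (h : DerCA.IsEssConstant X A c) : ∃ V : Val X A, V.c = c := by
  obtain ⟨i, s, hs, hd⟩ := h
  refine ⟨⟨c, i, fun l hl => ARSys.tr X hl ≫ s, fun m l hm h => ?_, fun l hl => ?_, fun j => ?_⟩, rfl⟩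
  · rw [← Category.assoc, tr_trans]
  · rw [← Category.assoc, cone_tr, hs]
  · obtain ⟨k, hi, hj, h⟩ := hd j
    exact ⟨k, hj, hi, by rw [h, Category.assoc]⟩

lemma Val.deep' {X : ARSys.PS C} {A : C} (V : Val X A) (j L : ℕ) :
    ∃ (k : ℕ) (hj : j ≤ k) (hi : V.i ≤ k), L ≤ k ∧
      ARSys.tr X hj = V.s k hi ≫ V.c.app (op j) := by
  obtain ⟨k, hj, hi, h⟩ := V.deep j
  refine ⟨max k L, hj.trans (le_max_left _ _), hi.trans (le_max_left _ _), le_max_right _ _, ?_⟩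
  rw [← tr_trans X hj (le_max_left k L), h, ← Category.assoc, V.s_tr]

variable [Preadditive C] [HasZeroObject C] [HasShift C ℤ]
  [∀ n : ℤ, (shiftFunctor C n).Additive] [Pretriangulated C]

/-- Decomposition of an essentially constant system. -/
theorem exists_decomposition {X : ARSys.PS C} {A : C} (V : Val X A) [HasBinaryBiproducts C] :
    ∃ (Z : ℕ → C) (e : ∀ j : ℕ, X.obj (op (V.i + j)) ≅ A ⊞ Z j)
      (z : ∀ j k : ℕ, j ≤ k → (Z k ⟶ Z j)),
      (∀ j : ℕ, V.c.app (op (V.i + j)) ≫ (e j).hom = biprod.inl) ∧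
      (∀ (j k : ℕ) (hjk : j ≤ k), (e k).inv ≫ ARSys.tr X (Nat.add_le_add_left hjk V.i) =
        biprod.map (𝟙 A) (z j k hjk) ≫ (e j).inv) ∧
      (∀ j : ℕ, ∃ (k : ℕ) (hjk : j ≤ k), z j k hjk = 0) := by
  let c : ∀ j, A ⟶ X.obj (op (V.i + j)) := fun j => V.c.app (op (V.i + j))
  let r : ∀ j, X.obj (op (V.i + j)) ⟶ A := fun j => V.s (V.i + j) (Nat.le_add_right _ _)
  have hcr : ∀ j, c j ≫ r j = 𝟙 A := fun j => V.c_s _ _
  choose Z q δ hT using fun j => distinguished_cocone_triangle (c j)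
  have hcq : ∀ j, c j ≫ q j = 0 := fun j => comp_distTriang_mor_zero₁₂ _ (hT j)
  have hepi : ∀ j, Epi (q j) := fun j => by
    refine Triangle.epi₂ _ (hT j) ?_
    have h0 : δ j ≫ (shiftFunctor C (1 : ℤ)).map (c j) = 0 := comp_distTriang_mor_zero₃₁ _ (hT j)
    have h1 := congrArg (· ≫ (shiftFunctor C (1 : ℤ)).map (r j)) h0
    simp [← Functor.map_comp, hcr] at h1
    exact h1
  have hu : ∀ j, ∃ u : Z j ⟶ X.obj (op (V.i + j)), q j ≫ u = 𝟙 _ - r j ≫ c j := fun j => by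
    obtain ⟨u, hu⟩ := Triangle.yoneda_exact₂ _ (hT j) (𝟙 _ - r j ≫ c j)
      (show c j ≫ (𝟙 _ - r j ≫ c j) = 0 by
        rw [Preadditive.comp_sub, Category.comp_id, reassoc_of% (hcr j), sub_self])
    exact ⟨u, hu.symm⟩
  choose u hu using hu
  have hur : ∀ j, u j ≫ r j = 0 := fun j => by
    rw [← cancel_epi (q j), ← Category.assoc, hu, Preadditive.sub_comp, Category.id_comp,
      Category.assoc, hcr, Category.comp_id, sub_self, comp_zero]
  have huq : ∀ j, u j ≫ q j = 𝟙 _ := fun j => by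
    rw [← cancel_epi (q j), ← Category.assoc, hu, Preadditive.sub_comp, Category.id_comp,
      Category.assoc, hcq, comp_zero, sub_zero, Category.comp_id]
  let e : ∀ j, X.obj (op (V.i + j)) ≅ A ⊞ Z j := fun j =>
    { hom := biprod.lift (r j) (q j)
      inv := biprod.desc (c j) (u j)
      hom_inv_id := by rw [biprod.lift_desc, hu]; abel
      inv_hom_id := by
        ext
        · simp [hcr]
        · simp [hcq]
        · simp [hur]
        · simp [huq] }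
  refine ⟨Z, e, fun j k hjk => u k ≫ ARSys.tr X (Nat.add_le_add_left hjk V.i) ≫ q j,
    fun j => ?_, fun j k hjk => ?_, fun j => ?_⟩
  · change c j ≫ biprod.lift (r j) (q j) = _
    ext
    · simp [hcr]
    · simp [hcq]
  · change biprod.desc (c k) (u k) ≫ _ = biprod.map _ _ ≫ biprod.desc (c j) (u j)
    apply biprod.hom_ext'
    · rw [biprod.inl_desc_assoc, biprod.inl_map_assoc, biprod.inl_desc, Category.id_comp]
      exact cone_tr V.c _
    · rw [biprod.inr_desc_assoc, biprod.inr_map_assoc, biprod.inr_desc, Category.assoc,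
        Category.assoc, hu, Preadditive.comp_sub, Preadditive.comp_sub, Category.comp_id]
      have : ARSys.tr X (Nat.add_le_add_left hjk V.i) ≫ r j = r k := V.s_tr _ _ _ _
      rw [← Category.assoc (ARSys.tr X _), this, reassoc_of% (hur k), zero_comp, sub_zero]
  · obtain ⟨k, hj, hi, hL, hk⟩ := V.deep' (V.i + j) (V.i + j)
    obtain ⟨k', rfl⟩ := Nat.exists_eq_add_of_le hi
    refine ⟨k', by lia, ?_⟩
    change u k' ≫ ARSys.tr X hj ≫ q j = 0
    rw [hk, Category.assoc, reassoc_of% (hur k'), zero_comp]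


/-- Two out of three for essential constancy. -/
theorem middle {X Y Z : ARSys.PS C} (f : X ⟶ Y) (g : Y ⟶ Z)
    (h : Z ⟶ X ⋙ shiftFunctor C (1 : ℤ))
    (hT : ∀ n : ℕ, Triangle.mk (f.app (op n)) (g.app (op n)) (h.app (op n)) ∈ distTriang C)
    {A₀ C₀ : C} (VA : Val X A₀) (VC : Val Z C₀) :
    ∃ (B : C) (cB : (Functor.const ℕᵒᵖ).obj B ⟶ Y), DerCA.IsEssConstant Y B cB := by
  let S : C ⥤ C := shiftFunctor C (1 : ℤ)
  let i₀ := max VA.i VC.i
  have hiA : VA.i ≤ i₀ := le_max_left _ _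
  have hiC : VC.i ≤ i₀ := le_max_right _ _
  let δ : C₀ ⟶ S.obj A₀ := VC.c.app (op i₀) ≫ h.app (op i₀) ≫ S.map (VA.s i₀ hiA)
  obtain ⟨m, hm, hmC, -, hmeq⟩ := VC.deep' i₀ i₀
  obtain ⟨B₀, α, β, hT₀⟩ := distinguished_cocone_triangle₂ δ
  have hnatf : ∀ {n l : ℕ} (hnl : n ≤ l),
      ARSys.tr X hnl ≫ f.app (op n) = f.app (op l) ≫ ARSys.tr Y hnl := fun hnl =>
    f.naturality _
  have hnatg : ∀ {n l : ℕ} (hnl : n ≤ l),
      ARSys.tr Y hnl ≫ g.app (op n) = g.app (op l) ≫ ARSys.tr Z hnl := fun hnl =>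
    g.naturality _
  have hnath : ∀ {n l : ℕ} (hnl : n ≤ l),
      ARSys.tr Z hnl ≫ h.app (op n) = h.app (op l) ≫ S.map (ARSys.tr X hnl) := fun hnl =>
    h.naturality _
  have hsδ : ∀ l (hl : m ≤ l), VC.s l (hmC.trans hl) ≫ δ =
      h.app (op l) ≫ S.map (VA.s l ((hiA.trans hm).trans hl)) := by
    intro l hl
    simp only [δ]
    rw [← VC.s_tr m l hmC hl, Category.assoc, ← reassoc_of% hmeq, ← Category.assoc,
      tr_trans Z hm hl, ← Category.assoc, hnath, Category.assoc, ← Functor.map_comp, VA.s_tr]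
  obtain ⟨σ₀, hσf, hσg⟩ := complete_distinguished_triangle_morphism₂ _ _ (hT m) hT₀
    (VA.s m (hiA.trans hm)) (VC.s m hmC) (hsδ m le_rfl).symm
  let σ : Y.obj (op m) ⟶ B₀ := σ₀
  let sB : ∀ l, m ≤ l → (Y.obj (op l) ⟶ B₀) := fun l hl => ARSys.tr Y hl ≫ σ
  have hσf' : f.app (op m) ≫ σ = VA.s m (hiA.trans hm) ≫ α := hσf
  have hσg' : g.app (op m) ≫ VC.s m hmC = σ ≫ β := hσg
  have hfB : ∀ l (hl : m ≤ l),
      f.app (op l) ≫ sB l hl = VA.s l ((hiA.trans hm).trans hl) ≫ α := fun l hl => by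
    simp only [sB]
    rw [← reassoc_of% (hnatf hl), hσf', ← Category.assoc, VA.s_tr]
  have hgB : ∀ l (hl : m ≤ l),
      g.app (op l) ≫ VC.s l (hmC.trans hl) = sB l hl ≫ β := fun l hl => by
    simp only [sB]
    rw [← VC.s_tr m l hmC hl, ← reassoc_of% (hnatg hl), hσg', Category.assoc]
  have hBtr : ∀ (n l : ℕ) (hn : m ≤ n) (hl : n ≤ l),
      ARSys.tr Y hl ≫ sB n hn = sB l (hn.trans hl) := fun n l hn hl => by
    simp only [sB]
    rw [← Category.assoc, tr_trans]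
  have inj : ∀ (W : C) (φ : B₀ ⟶ W) (l : ℕ) (hl : m ≤ l), sB l hl ≫ φ = 0 → φ = 0 := by
    intro W φ l hl hφ
    have h1 : α ≫ φ = 0 := by
      have h2 : VA.s l ((hiA.trans hm).trans hl) ≫ α ≫ φ = 0 := by
        rw [← reassoc_of% (hfB l hl), hφ, comp_zero]
      rw [← Category.id_comp (α ≫ φ), ← VA.c_s l ((hiA.trans hm).trans hl), Category.assoc, h2,
        comp_zero]
    obtain ⟨γ₀, hγ⟩ := Triangle.yoneda_exact₂ _ hT₀ φ h1
    let γ : C₀ ⟶ W := γ₀
    have hγ' : φ = β ≫ γ := hγ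
    subst hγ'
    have h3 : g.app (op l) ≫ VC.s l (hmC.trans hl) ≫ γ = 0 := by
      rw [reassoc_of% (hgB l hl), hφ]
    obtain ⟨w, hw⟩ := Triangle.yoneda_exact₃ _ (hT l) (VC.s l (hmC.trans hl) ≫ γ) h3
    have hw' : VC.s l (hmC.trans hl) ≫ γ = h.app (op l) ≫ w := hw
    obtain ⟨l', hll', _hi, -, hA⟩ := VA.deep' l l
    have h4 : VC.s l' ((hmC.trans hl).trans hll') ≫ γ =
        VC.s l' ((hmC.trans hl).trans hll') ≫ δ ≫ S.map (VA.c.app (op l)) ≫ w := by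
      rw [reassoc_of% (hsδ l' (hl.trans hll')), ← S.map_comp_assoc, ← hA,
        ← reassoc_of% (hnath hll'), ← hw', ← Category.assoc, VC.s_tr]
    have h5 : γ = δ ≫ S.map (VA.c.app (op l)) ≫ w := by
      have := congrArg (VC.c.app (op l') ≫ ·) h4
      simpa [reassoc_of% (VC.c_s l' ((hmC.trans hl).trans hll'))] using this
    have h6 : β ≫ δ = 0 := comp_distTriang_mor_zero₂₃ _ hT₀
    rw [h5, reassoc_of% h6, zero_comp]
  have surj : ∀ (W : C) (l : ℕ) (φ : Y.obj (op l) ⟶ W), m ≤ l →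
      ∃ (k : ℕ) (hk : l ≤ k) (hk' : m ≤ k) (ψ : B₀ ⟶ W),
        ARSys.tr Y hk ≫ φ = sB k hk' ≫ ψ := by
    intro W l φ hl
    obtain ⟨l₁, h₁, hi₁, -, hA⟩ := VA.deep' l l
    let φ₀ : A₀ ⟶ W := VA.c.app (op l) ≫ f.app (op l) ≫ φ
    have hl₁ : m ≤ l₁ := hl.trans h₁
    have hs1 : f.app (op l₁) ≫ ARSys.tr Y h₁ ≫ φ = VA.s l₁ hi₁ ≫ φ₀ := by
      rw [← reassoc_of% (hnatf h₁), hA, Category.assoc]
    have hδ : δ ≫ S.map φ₀ = 0 := by
      have h0 : h.app (op l₁) ≫ S.map (f.app (op l₁)) = 0 :=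
        comp_distTriang_mor_zero₃₁ _ (hT l₁)
      have h2 : VC.s l₁ (hmC.trans hl₁) ≫ δ ≫ S.map φ₀ = 0 := by
        rw [reassoc_of% (hsδ l₁ hl₁), ← S.map_comp, ← hs1, S.map_comp, reassoc_of% h0, zero_comp]
      rw [← Category.id_comp (δ ≫ S.map φ₀), ← VC.c_s l₁ (hmC.trans hl₁), Category.assoc, h2,
        comp_zero]
    obtain ⟨w₀, hw⟩ := Triangle.yoneda_exact₂ _
      (rot_of_distTriang _ (rot_of_distTriang _ hT₀)) (S.map φ₀) hδ
    let w : S.obj B₀ ⟶ S.obj W := w₀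
    have hψ : α ≫ (-(S.preimage w)) = φ₀ := S.map_injective (by
      have hw' : S.map φ₀ = (-(S.map α)) ≫ w := hw
      rw [hw', S.map_comp, Functor.map_neg, S.map_preimage, Preadditive.comp_neg,
        Preadditive.neg_comp])
    let ψ := -(S.preimage w)
    have h3 : f.app (op l₁) ≫ (ARSys.tr Y h₁ ≫ φ - sB l₁ hl₁ ≫ ψ) = 0 := by
      rw [Preadditive.comp_sub, hs1, reassoc_of% (hfB l₁ hl₁), hψ, sub_self]
    obtain ⟨v, hv⟩ := Triangle.yoneda_exact₂ _ (hT l₁) _ h3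
    have hv' : ARSys.tr Y h₁ ≫ φ - sB l₁ hl₁ ≫ ψ = g.app (op l₁) ≫ v := hv
    obtain ⟨l₂, h₂, hi₂, -, hC⟩ := VC.deep' l₁ l₁
    refine ⟨l₂, h₁.trans h₂, hl₁.trans h₂, ψ + β ≫ VC.c.app (op l₁) ≫ v, ?_⟩
    rw [Preadditive.comp_add, ← reassoc_of% (hgB l₂ (hl₁.trans h₂)), ← reassoc_of% hC,
      ← reassoc_of% (hnatg h₂), ← hv', Preadditive.comp_sub, ← Category.assoc (ARSys.tr Y h₂),
      tr_trans, ← Category.assoc (ARSys.tr Y h₂), hBtr]
    abel
  have key : ∀ n : ℕ, ∃ (cn : B₀ ⟶ Y.obj (op n)) (k : ℕ) (hk : n ≤ k) (hk' : m ≤ k),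
      ARSys.tr Y hk = sB k hk' ≫ cn := by
    intro n
    obtain ⟨k, hk, hk', ψ, hψ⟩ := surj _ (max n m) (ARSys.tr Y (le_max_left n m)) (le_max_right _ _)
    exact ⟨ψ, k, (le_max_left n m).trans hk, hk', by rw [← hψ, tr_trans]⟩
  choose cn k hk hk' hcn using key
  have compat : ∀ (n n' : ℕ) (hn : n ≤ n'), cn n' ≫ ARSys.tr Y hn = cn n := by
    intro n n' hn
    let L := max (k n) (k n')
    rw [← sub_eq_zero]
    refine inj _ _ L ((hk' n).trans (le_max_left _ _)) ?_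
    have e : ∀ (q : ℕ) (hq : k q ≤ L), sB L ((hk' q).trans hq) ≫ cn q =
        ARSys.tr Y ((hk q).trans hq) := fun q hq => by
      rw [← hBtr (k q) L (hk' q) hq, Category.assoc, ← hcn, tr_trans]
    rw [Preadditive.comp_sub, sub_eq_zero, ← Category.assoc, e n' (le_max_right _ _),
      e n (le_max_left _ _), tr_trans]
  let cB : (Functor.const ℕᵒᵖ).obj B₀ ⟶ Y :=
    { app := fun n => cn n.unop
      naturality := fun n n' φ => by
        refine (Category.id_comp _).trans ?_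
        exact (compat n'.unop n.unop (leOfHom φ.unop)).symm }
  refine ⟨B₀, cB, m, σ, ?_, fun j => ?_⟩
  · rw [← sub_eq_zero]
    refine inj _ _ (k m) (hk' m) ?_
    change sB (k m) (hk' m) ≫ (cn m ≫ σ - 𝟙 B₀) = 0
    rw [Preadditive.comp_sub, ← Category.assoc, ← hcn, Category.comp_id, sub_self]
  · exact ⟨k j, hk' j, hk j, by rw [← Category.assoc]; exact hcn j⟩

end Groth.Agent.H16Derived.EssConst
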