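import Mathlib.Algebra.Homology.ShortComplex.ModuleCat
import Mathlib.Algebra.Homology.ShortComplex.HomologicalComplex
import Mathlib.RingTheory.Spectrum.Prime.FreeLocus
import Mathlib.LinearAlgebra.Dimension.LinearMap
import Mathlib.LinearAlgebra.Dimension.Finrank
import Mathlib.RingTheory.Localization.Module
import Mathlib.RingTheory.LocalRing.Module
import Mathlib.RingTheory.Flat.Basic
import Mathlib.Algebra.Ring.NegOnePow
import Mathlib.Algebra.BigOperators.Intervals
import Mathlib.Data.Int.Interval

/-!
# Euler characteristic of a bounded complex of finite projective modules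
-/

set_option autoImplicit false
set_option linter.style.haveILetI false

universe u

open CategoryTheory CategoryTheory.Limits

namespace Groth.Agent.H16Derived.EulerRank

section Local

variable {B : Type*} [CommRing B] [IsLocalRing B] {L : ℤ → Type*} [∀ i, AddCommGroup (L i)]
  [∀ i, Module B (L i)] [∀ i, Module.Finite B (L i)] [∀ i, Module.Flat B (L i)]

lemma finrank_eq_add {M N : Type*} [AddCommGroup M] [AddCommGroup N] [Module B M] [Module B N]
    [Module.Finite B M] [Module.Flat B M] [Module.Projective B N] [Module.Finite B N]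
    (f : M →ₗ[B] N) (hf : Function.Surjective f) :
    Module.finrank B M = Module.finrank B (LinearMap.ker f) + Module.finrank B N ∧
      Module.Finite B (LinearMap.ker f) ∧ Module.Projective B (LinearMap.ker f) := by
  haveI : Module.Free B M := Module.free_of_flat_of_isLocalRing
  obtain ⟨s, hs⟩ := Module.projective_lifting_property f LinearMap.id hf
  let p : M →ₗ[B] LinearMap.ker f := LinearMap.codRestrict (LinearMap.ker f) (LinearMap.id - s ∘ₗ f)
    (fun x => by
      have := DFunLike.congr_fun hs (f x)
      simp only [LinearMap.comp_apply, LinearMap.id_apply] at this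
      simp [LinearMap.mem_ker, this])
  have hp : p ∘ₗ (LinearMap.ker f).subtype = LinearMap.id := by
    ext x
    simp [p, LinearMap.mem_ker.1 x.2]
  haveI hfin : Module.Finite B (LinearMap.ker f) :=
    Module.Finite.of_surjective p fun x => ⟨x.1, DFunLike.congr_fun hp x⟩
  haveI hproj : Module.Projective B (LinearMap.ker f) := Module.Projective.of_split _ p hp
  haveI : Module.Free B N := Module.free_of_flat_of_isLocalRing
  haveI : Module.Free B (LinearMap.ker f) := Module.free_of_flat_of_isLocalRing
  refine ⟨?_, hfin, hproj⟩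
  let e : M ≃ₗ[B] LinearMap.ker f × N :=
    LinearEquiv.ofLinear (p.prod f) ((LinearMap.ker f).subtype.coprod s)
      (by
        have h1 : ∀ y, f (s y) = y := fun y => DFunLike.congr_fun hs y
        apply LinearMap.ext
        rintro ⟨a, b⟩
        ext
        · simp [p, LinearMap.mem_ker.1 a.2, h1]
        · simp [LinearMap.mem_ker.1 a.2, h1])
      (by ext x; simp [p])
  rw [e.finrank_eq, Module.finrank_prod]

theorem sum_negOnePow_finrank (D : ∀ i, L i →ₗ[B] L (i + 1))
    (hD : ∀ i, LinearMap.ker (D (i + 1)) = LinearMap.range (D i))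
    (a b : ℤ) (hL : ∀ i, i < a ∨ b ≤ i → Subsingleton (L i)) (hab : a ≤ b) :
    ∑ i ∈ Finset.Ico a b, ((i.negOnePow : ℤˣ) : ℤ) * (Module.finrank B (L i) : ℤ) = 0 := by
  let k : ℤ → ℕ := fun i => Module.finrank B (LinearMap.ker (D i))
  have hgood : ∀ i, i ≤ b → Module.Finite B (LinearMap.ker (D i)) ∧
      Module.Projective B (LinearMap.ker (D i)) := by
    intro i hi
    induction i, hi using Int.leInductionDown with
    | base =>
      haveI := hL b (Or.inr le_rfl)
      exact ⟨inferInstance, inferInstance⟩
    | pred i hi ih =>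
      obtain ⟨j, rfl⟩ : ∃ j, i = j + 1 := ⟨i - 1, by lia⟩
      rw [show j + 1 - 1 = j by lia]
      haveI := ih.1
      haveI := ih.2
      let f : L j →ₗ[B] LinearMap.ker (D (j + 1)) :=
        LinearMap.codRestrict _ (D j) fun x => by rw [hD j]; exact LinearMap.mem_range_self _ x
      have hf : Function.Surjective f := fun y => by
        obtain ⟨x, hx⟩ := (hD j).le y.2
        exact ⟨x, Subtype.ext hx⟩
      have hk : LinearMap.ker f = LinearMap.ker (D j) := LinearMap.ker_codRestrict _ _ _
      obtain ⟨-, h₁, h₂⟩ := finrank_eq_add f hf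
      exact hk ▸ ⟨h₁, h₂⟩
  have hstep : ∀ i, i < b → (Module.finrank B (L i) : ℤ) = k i + k (i + 1) := by
    intro i hi
    haveI := (hgood (i + 1) (by lia)).1
    haveI := (hgood (i + 1) (by lia)).2
    let f : L i →ₗ[B] LinearMap.ker (D (i + 1)) :=
      LinearMap.codRestrict _ (D i) fun x => by rw [hD i]; exact LinearMap.mem_range_self _ x
    have hf : Function.Surjective f := fun y => by
      obtain ⟨x, hx⟩ := (hD i).le y.2
      exact ⟨x, Subtype.ext hx⟩
    have hk : LinearMap.ker f = LinearMap.ker (D i) := LinearMap.ker_codRestrict _ _ _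
    obtain ⟨h, -, -⟩ := finrank_eq_add f hf
    rw [h, hk]
    simp [k]
  have key : ∀ c, a ≤ c → c ≤ b →
      ∑ i ∈ Finset.Ico a c, ((i.negOnePow : ℤˣ) : ℤ) * (Module.finrank B (L i) : ℤ) =
        (a.negOnePow : ℤ) * k a - (c.negOnePow : ℤ) * k c := by
    intro c hc
    induction c, hc using Int.leInduction with
    | base => intro _; simp
    | succ c hc ih =>
      intro hcb
      have hins : Finset.Ico a (c + 1) = insert c (Finset.Ico a c) := by
        ext x; simp; lia
      rw [hins, Finset.sum_insert (by simp), ih (by lia), hstep c (by lia), Int.negOnePow_succ,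
        Units.val_neg]
      ring
  rw [key b hab le_rfl]
  have hka : k a = 0 := by
    obtain ⟨j, rfl⟩ : ∃ j, a = j + 1 := ⟨a - 1, by lia⟩
    haveI := hL j (Or.inl (by lia))
    haveI : Subsingleton (LinearMap.ker (D (j + 1))) := by
      rw [hD j]
      exact ⟨fun x y => by
        obtain ⟨x', hx⟩ := x.2
        obtain ⟨y', hy⟩ := y.2
        exact Subtype.ext (by rw [← hx, ← hy, Subsingleton.elim x' y'])⟩
    exact Module.finrank_zero_of_subsingleton
  have hkb : k b = 0 := by
    haveI := hL b (Or.inr le_rfl)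
    exact Module.finrank_zero_of_subsingleton
  simp [hka, hkb]

end Local

variable {A : Type u} [CommRing A]

lemma exists_smul_eq_d (P : CochainComplex (ModuleCat.{u} A) ℤ) (S : Submonoid A) (j : ℤ)
    (h : Subsingleton (LocalizedModule S (P.homology (j + 1)))) (x : P.X (j + 1))
    (hx : (P.d (j + 1) (j + 1 + 1)).hom x = 0) :
    ∃ r ∈ S, ∃ y : P.X j, (P.d j (j + 1)).hom y = r • x := by
  let T := P.sc' j (j + 1) (j + 1 + 1)
  let e : P.homology (j + 1) ≅ T.moduleCatLeftHomologyData.H :=
    ShortComplex.homologyMapIso (P.isoSc' j (j + 1) (j + 1 + 1) (by simp) (by simp)) ≪≫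
      T.moduleCatHomologyIso
  let z : T.moduleCatLeftHomologyData.H :=
    (LinearMap.range T.moduleCatToCycles).mkQ ⟨x, hx⟩
  obtain ⟨r, hr, hrz⟩ := LocalizedModule.subsingleton_iff.1 h (e.inv.hom z)
  refine ⟨r, hr, ?_⟩
  have h0 : r • z = 0 := by
    have := congrArg (fun w => e.hom.hom w) hrz
    rw [map_smul, map_zero] at this
    rwa [show e.hom.hom (e.inv.hom z) = z from e.toLinearEquiv.apply_symm_apply z] at this
  change (LinearMap.range T.moduleCatToCycles).mkQ (r • ⟨x, hx⟩) = 0 at h0
  rw [Submodule.mkQ_apply, Submodule.Quotient.mk_eq_zero] at h0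
  obtain ⟨y, hy⟩ := h0
  exact ⟨y, congrArg Subtype.val hy⟩

theorem euler_rankAtStalk (P : CochainComplex (ModuleCat.{u} A) ℤ) (s : Finset ℤ)
    (hP : ∀ i : ℤ, Module.Finite A (P.X i) ∧ Module.Projective A (P.X i))
    (hs : ∀ i : ℤ, i ∉ s → IsZero (P.X i))
    (hsupp : ∀ q : PrimeSpectrum A, q.asIdeal ∈ minimalPrimes A →
      ∀ i : ℤ, Subsingleton (LocalizedModule q.asIdeal.primeCompl (P.homology i)))
    (x : PrimeSpectrum A) :
    (s.sum fun i => ((i.negOnePow : ℤˣ) : ℤ) * (Module.rankAtStalk (R := A) (P.X i) x : ℤ)) = 0 := by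
  obtain ⟨q₀, hq₀, hqx⟩ := Ideal.exists_minimalPrimes_le (bot_le : ⊥ ≤ x.asIdeal)
  let q : PrimeSpectrum A := ⟨q₀, hq₀.1.1⟩
  haveI : ∀ i, Module.Finite A (P.X i) := fun i => (hP i).1
  haveI : ∀ i, Module.Projective A (P.X i) := fun i => (hP i).2
  have hrk : ∀ i, Module.rankAtStalk (R := A) (P.X i) x = Module.rankAtStalk (P.X i) q := fun i =>
    (Module.rankAtStalk_eq_of_le_of_finite_of_flat (P.X i) (p := q) (q := x) hqx).symm
  haveI : q.asIdeal.IsPrime := q.isPrime
  let S := q.asIdeal.primeCompl
  haveI : IsLocalRing (Localization S) := inferInstanceAs (IsLocalRing (Localization.AtPrime q.asIdeal))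
  let L : ℤ → Type u := fun i => LocalizedModule S (P.X i)
  let D : ∀ i, L i →ₗ[Localization S] L (i + 1) := fun i =>
    LinearMap.extendScalarsOfIsLocalization S (Localization S)
      (IsLocalizedModule.map S (LocalizedModule.mkLinearMap S (P.X i))
        (LocalizedModule.mkLinearMap S (P.X (i + 1))) (P.d i (i + 1)).hom)
  have hDmk : ∀ i m (r : S), D i (LocalizedModule.mk m r) =
      LocalizedModule.mk ((P.d i (i + 1)).hom m) r := fun i m r =>
    IsLocalizedModule.map_LocalizedModules S _ m r
  have hD : ∀ i, LinearMap.ker (D (i + 1)) = LinearMap.range (D i) := by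
    intro i
    ext w
    constructor
    · intro hw
      induction w using LocalizedModule.induction_on with | _ m r
      rw [LinearMap.mem_ker, hDmk, ← LocalizedModule.zero_mk (1 : S), LocalizedModule.mk_eq] at hw
      obtain ⟨t, ht⟩ := hw
      simp only [smul_zero] at ht
      have ht' : (P.d (i + 1) (i + 1 + 1)).hom (t.1 • m) = 0 := by
        rw [map_smul]
        simpa [Submonoid.smul_def] using ht
      obtain ⟨u, hu, y, hy⟩ := exists_smul_eq_d P S i (by exact hsupp q hq₀ (i + 1)) _ ht'
      refine ⟨LocalizedModule.mk y (⟨u, hu⟩ * t * r), ?_⟩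
      rw [hDmk, hy, LocalizedModule.mk_eq]
      exact ⟨1, by simp [Submonoid.smul_def, smul_smul]; ring_nf⟩
    · rintro ⟨v, rfl⟩
      induction v using LocalizedModule.induction_on with | _ m r
      rw [LinearMap.mem_ker, hDmk, hDmk]
      have : (P.d (i + 1) (i + 1 + 1)).hom ((P.d i (i + 1)).hom m) = 0 := by
        rw [← LinearMap.comp_apply, ← ModuleCat.hom_comp, P.d_comp_d]; rfl
      rw [this, LocalizedModule.zero_mk]
  obtain ⟨a, ha⟩ := s.bddBelow
  obtain ⟨b, hb⟩ := s.bddAbove
  have hL : ∀ i, i < min a b ∨ b + 1 ≤ i → Subsingleton (L i) := by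
    intro i hi
    haveI : Subsingleton (P.X i) := ModuleCat.subsingleton_of_isZero (hs i fun h => by
      rcases hi with h' | h'
      · have := ha h; lia
      · have := hb h; lia)
    infer_instance
  haveI : ∀ i, Module.Flat (Localization S) (L i) := fun i => inferInstance
  have h := sum_negOnePow_finrank D hD (min a b) (b + 1) hL (by lia)
  rw [← h]
  refine Eq.trans ?_ (Finset.sum_subset (s₁ := s) ?_ fun i _ hi => ?_)
  · exact Finset.sum_congr rfl fun i _ => by rw [hrk]; rfl
  · intro i hi
    have h1 := ha hi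
    have h2 := hb hi
    simp; lia
  · haveI : Subsingleton (P.X i) := ModuleCat.subsingleton_of_isZero (hs i hi)
    haveI : Subsingleton (L i) := inferInstanceAs (Subsingleton (LocalizedModule S (P.X i)))
    simp [Module.finrank_zero_of_subsingleton]

end Groth.Agent.H16Derived.EulerRank
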