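import Groth.Agent.H8Props.RelPCCharts

/-!
# Relative pseudo-coherence and open subschemes
-/

set_option autoImplicit false
set_option linter.style.haveILetI false
set_option backward.isDefEq.respectTransparency false

universe u

open CategoryTheory CategoryTheory.Limits AlgebraicGeometry Pretriangulated

attribute [local instance] HasDerivedCategory.standard

namespace Groth.Agent.H16Derived.RelPCOpen

open H16Derived.KFlat.Stalk H8Props.PushPC H8Props.RelPC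

variable {X Y : Scheme.{u}}

theorem pc_rd_id_iff {Z : Scheme.{u}} (m : ℤ) (K : DCoh.D Z) :
    DCoh.IsPseudoCoherentD m ((rd (𝟙 Z)).obj K) ↔ DCoh.IsPseudoCoherentD m K := by
  rw [isPseudoCoherentD_iff, isPseudoCoherentD_iff]
  refine forall_congr' fun x => exists_congr fun V => and_congr_right fun _ => ?_
  let e := rdComp V.ι (𝟙 Z) V.ι (Category.comp_id _) K
  exact ⟨fun ⟨E, α, hE, hα⟩ => ⟨E, α ≫ e.inv, hE, hα.comp (Approx.of_isIso m _)⟩,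
    fun ⟨E, α, hE, hα⟩ => ⟨E, α ≫ e.hom, hE, hα.comp (Approx.of_isIso m _)⟩⟩

/-- The chart test on an open of an open subscheme. -/
theorem chartPC_restrict_iff (U : X.Opens) {U' : (U : Scheme.{u}).Opens} (hU' : IsAffineOpen U')
    {V : Y.Opens} {n : ℕ} (φ : MvPolynomial (Fin n) Γ(Y, V) →+* Γ((U : Scheme.{u}), U'))
    (hφ : Function.Surjective φ) (m : ℤ) (K : DCoh.D X) :
    DerSch.ChartPC m ((rd U.ι).obj K) U' V φ ↔
      DerSch.ChartPC (X := X) m K (U.ι ''ᵁ U') V φ := by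
  have hW : IsAffineOpen (U.ι ''ᵁ U') := hU'.image_of_isOpenImmersion U.ι
  haveI := isClosedImmersion_chartImm hU' φ hφ
  haveI := isClosedImmersion_chartImm (X := X) hW φ hφ
  rw [chartPC_iff, chartPC_iff]
  let e := U.ι.isoImage U'
  have hι : e.hom ≫ (U.ι ''ᵁ U').ι = U'.ι ≫ U.ι := U.ι.isoImage_hom_ι U'
  have hA : (U.ι).appLE (U.ι ''ᵁ U') U' (U.ι.preimage_image_eq U').ge =
      𝟙 Γ((U : Scheme.{u}), U') := by
    rw [Scheme.Opens.ι_appLE]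
    exact (congrArg _ (Subsingleton.elim _ (𝟙 _))).trans (X.presheaf.map_id _)
  have hS : Spec.map (𝟙 Γ((U : Scheme.{u}), U')) ≫ hW.fromSpec = hU'.fromSpec ≫ U.ι := by
    rw [← hA]
    exact hW.SpecMap_appLE_fromSpec U.ι hU' _
  rw [Spec.map_id, Category.id_comp] at hS
  have hT : e.hom ≫ (U.ι ''ᵁ U').toSpecΓ = U'.toSpecΓ := by
    refine (cancel_mono hW.fromSpec).1 ?_
    rw [Category.assoc, hW.toSpecΓ_fromSpec, hι]
    refine Eq.trans ?_ (congrArg (U'.toSpecΓ ≫ ·) hS.symm)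
    rw [← Category.assoc, hU'.toSpecΓ_fromSpec]
  let g' := DerSch.chartImm U' φ
  let g := DerSch.chartImm (X := X) (U.ι ''ᵁ U') φ
  have hg : g' = e.hom ≫ g := by
    show U'.toSpecΓ ≫ Spec.map (CommRingCat.ofHom φ) = _ ≫ (U.ι ''ᵁ U').toSpecΓ ≫ Spec.map (CommRingCat.ofHom φ)
    rw [← hT]
    exact Category.assoc _ _ _
  have sq : IsPullback g' e.hom (𝟙 _) g := IsPullback.of_vert_isIso ⟨by rw [Category.comp_id, hg]⟩
  let L := (rd (U.ι ''ᵁ U').ι).obj K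
  let i : (rd U'.ι).obj ((rd U.ι).obj K) ≅ (rd e.hom).obj L :=
    (rdComp U'.ι U.ι _ rfl K).symm ≪≫ rdComp e.hom (U.ι ''ᵁ U').ι _ hι K
  rw [← pc_rd_id_iff m ((pushD g).obj L)]
  exact ⟨isPseudoCoherentD_of_iso ((pushD g').mapIso i ≪≫ (rdPushDSquare sq L).symm),
    isPseudoCoherentD_of_iso ((pushD g').mapIso i ≪≫ (rdPushDSquare sq L).symm).symm⟩

theorem isChart_restrict (f : X ⟶ Y) (U : X.Opens) {U' : (U : Scheme.{u}).Opens} {V : Y.Opens}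
    (h : U' ≤ (U.ι ≫ f) ⁻¹ᵁ V) (h' : U.ι ''ᵁ U' ≤ f ⁻¹ᵁ V) {n : ℕ}
    (φ : MvPolynomial (Fin n) Γ(Y, V) →+* Γ((U : Scheme.{u}), U')) :
    DerSch.IsChart (U.ι ≫ f) U' V h φ ↔ DerSch.IsChart (X := X) f (U.ι ''ᵁ U') V h' φ := by
  have e : (U.ι ≫ f).appLE V U' h = f.appLE V (U.ι ''ᵁ U') h' := by
    rw [← Scheme.Hom.appLE_comp_appLE U.ι f V (U.ι ''ᵁ U') U' h' (U.ι.preimage_image_eq U').ge]
    have hA : (U.ι).appLE (U.ι ''ᵁ U') U' (U.ι.preimage_image_eq U').ge =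
        𝟙 Γ((U : Scheme.{u}), U') := by
      rw [Scheme.Opens.ι_appLE]
      exact (congrArg _ (Subsingleton.elim _ (𝟙 _))).trans (X.presheaf.map_id _)
    rw [hA]
    exact Category.comp_id _
  unfold DerSch.IsChart
  rw [e]
  rfl

theorem rel_of_iso {f : X ⟶ Y} {m : ℤ} {K L : DCoh.D X} (e : K ≅ L)
    (h : DerSch.IsPseudoCoherentRel f m K) : DerSch.IsPseudoCoherentRel f m L := by
  haveI := h.1
  refine (rel_iff_forall f m L).2 fun U V hle => ?_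
  obtain ⟨n, φ, hφ⟩ := exists_isChart f _ _ hle (f.finiteType_appLE V.2 U.2 hle)
  haveI := isClosedImmersion_chartImm U.2 φ hφ.1
  exact ⟨n, φ, hφ, (chartPC_iff φ m L).2 (isPseudoCoherentD_of_iso
    ((pushD _).mapIso ((rd (U : X.Opens).ι).mapIso e))
    ((chartPC_iff φ m K).1 (chartPC_of_rel h U.2 V.2 hle φ hφ)))⟩

theorem rel_restrict {f : X ⟶ Y} {m : ℤ} {K : DCoh.D X} (h : DerSch.IsPseudoCoherentRel f m K)
    (U : X.Opens) : DerSch.IsPseudoCoherentRel (U.ι ≫ f) m ((rd U.ι).obj K) := by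
  haveI := h.1
  refine (rel_iff_forall (U.ι ≫ f) m _).2 fun U' V hle => ?_
  obtain ⟨n, φ, hφ⟩ := exists_isChart (U.ι ≫ f) _ _ hle ((U.ι ≫ f).finiteType_appLE V.2 U'.2 hle)
  have hle' : U.ι ''ᵁ (U' : (U : Scheme.{u}).Opens) ≤ f ⁻¹ᵁ (V : Y.Opens) := by
    rintro x ⟨y, hy, rfl⟩
    exact hle hy
  refine ⟨n, φ, hφ, (chartPC_restrict_iff U U'.2 φ hφ.1 m K).2 ?_⟩
  exact chartPC_of_rel (f := f) h (U'.2.image_of_isOpenImmersion U.ι) V.2 hle' φ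
    ((isChart_restrict f U hle hle' φ).1 hφ)

theorem rel_of_cover {f : X ⟶ Y} [LocallyOfFiniteType f] {m : ℤ} {K : DCoh.D X} {ι : Type*}
    (U : ι → X.Opens) (hU : ⨆ i, U i = ⊤)
    (h : ∀ i, DerSch.IsPseudoCoherentRel ((U i).ι ≫ f) m ((rd (U i).ι).obj K)) :
    DerSch.IsPseudoCoherentRel f m K := by
  refine (rel_iff_forall f m K).2 fun W V hle => ?_
  obtain ⟨n, φ, hφ⟩ := exists_isChart f _ _ hle (f.finiteType_appLE V.2 W.2 hle)
  refine ⟨n, φ, hφ, chartPC_of_cover W.2 φ hφ.1 m K fun u hu => ?_⟩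
  obtain ⟨i, hi⟩ := TopologicalSpace.Opens.mem_iSup.1
    (show u ∈ ⨆ i, U i by rw [hU]; exact TopologicalSpace.Opens.mem_top u)
  obtain ⟨g, hg, hug⟩ := W.2.exists_basicOpen_le (V := U i) ⟨u, hi⟩ hu
  refine ⟨g, hug, ?_⟩
  suffices key : ∀ (D : X.Opens), IsAffineOpen D → D ≤ U i → ∀ hD : D ≤ f ⁻¹ᵁ (V : Y.Opens),
      ∃ (k : ℕ) (ψ : MvPolynomial (Fin k) Γ(Y, (V : Y.Opens)) →+* Γ(X, D)),
        DerSch.IsChart f D V hD ψ ∧ DerSch.ChartPC (Y := Y) m K D (V : Y.Opens) ψ by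
    obtain ⟨k, ψ, hψ, hc⟩ := key _ (W.2.basicOpen g) hg ((X.basicOpen_le g).trans hle)
    refine ⟨k, ψ, hψ.1, ?_, hc⟩
    rw [hψ.2, hφ.2]
    exact (congrArg CommRingCat.Hom.hom (f.appLE_map hle (homOfLE (X.basicOpen_le g)).op)).symm
  intro D hDa hDi hD
  obtain ⟨D', rfl⟩ : ∃ D', (U i).ι ''ᵁ D' = D :=
    ⟨(U i).ι ⁻¹ᵁ D, by rw [Scheme.Hom.image_preimage_eq_opensRange_inf, Scheme.Opens.opensRange_ι,
      inf_eq_right.2 hDi]⟩
  have hD' : IsAffineOpen D' := ((U i).ι.isAffineOpen_iff_of_isOpenImmersion).1 hDa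
  have hle' : D' ≤ ((U i).ι ≫ f) ⁻¹ᵁ (V : Y.Opens) := fun y hy => hD ⟨y, hy, rfl⟩
  haveI := (h i).1
  obtain ⟨k, ψ, hψ⟩ := exists_isChart ((U i).ι ≫ f) _ _ hle' (((U i).ι ≫ f).finiteType_appLE V.2 hD' hle')
  exact ⟨k, ψ, (isChart_restrict f (U i) hle' hD ψ).1 hψ,
    (chartPC_restrict_iff (U i) hD' ψ hψ.1 m K).1 (chartPC_of_rel (h i) hD' V.2 hle' ψ hψ)⟩

end Groth.Agent.H16Derived.RelPCOpen
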