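import Groth.Prelude.Def_LCI2
import Groth.Agent.H29Slice.KoszulReg
import Groth.Agent.H9CI.KoszulLocal

/-!
# Powers and permutations of Koszul-regular sequences
-/

set_option autoImplicit false

universe u

open CategoryTheory CategoryTheory.Limits CochainComplex
open Groth.Agent.H8Props.PseudoCoh

namespace Groth.Agent.H16Derived.KoszulPow

variable {A : Type u} [CommRing A]

/-- Exactness off degree zero, on elements. -/
def Reg (l : List A) : Prop :=
  ∀ h i j : ℤ, h + 1 = i → i + 1 = j → i ≠ 0 → ∀ x : (Koszul.koszul A l).X i,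
    (Koszul.koszul A l).d i j x = 0 → ∃ w, (Koszul.koszul A l).d h i w = x

theorem reg_iff (l : List A) : Reg l ↔ LCI.IsKoszulRegularSeq A l := by
  constructor
  · intro H i hi
    rw [← HomologicalComplex.exactAt_iff_isZero_homology,
      HomologicalComplex.exactAt_iff' _ (i - 1) i (i + 1) (by simp) (by simp),
      ShortComplex.moduleCat_exact_iff]
    exact fun x hx => H (i - 1) i (i + 1) (by omega) rfl hi x hx
  · exact fun H h i j hh hj hi x hx =>
      H29Slice.exists_preimage_of_isZero_homology _ h i j hh hj (H i hi) x hx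

/-- An isomorphism of Koszul complexes, on elements. -/
def KEq (l m : List A) : Prop :=
  ∃ e : ∀ i : ℤ, (Koszul.koszul A l).X i ≃ₗ[A] (Koszul.koszul A m).X i,
    ∀ i j, i + 1 = j → ∀ x, e j ((Koszul.koszul A l).d i j x) = (Koszul.koszul A m).d i j (e i x)

theorem kEq_reg {l m : List A} (h : KEq l m) (hl : Reg l) : Reg m := by
  obtain ⟨e, he⟩ := h
  intro h' i j hh hj hi x hx
  obtain ⟨y, rfl⟩ := (e i).surjective x
  rw [← he i j hj] at hx
  obtain ⟨w, hw⟩ := hl h' i j hh hj hi y ((e j).injective (hx.trans (map_zero (e j)).symm))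
  exact ⟨e h' w, by rw [← he h' i hh, hw]⟩

theorem kEq_cons (f : A) {l m : List A} (h : KEq l m) : KEq (f :: l) (f :: m) := by
  obtain ⟨e, he⟩ := h
  refine ⟨fun i => ((coneXEquiv (f • 𝟙 (Koszul.koszul A l)) i (i + 1) rfl).trans
    ((e (i + 1)).prodCongr (e i))).trans (coneXEquiv (f • 𝟙 (Koszul.koszul A m)) i (i + 1) rfl).symm, ?_⟩
  intro i j hj x
  subst hj
  apply (coneXEquiv (f • 𝟙 (Koszul.koszul A m)) (i + 1) (i + 1 + 1) rfl).injective
  refine ((coneXEquiv (f • 𝟙 (Koszul.koszul A m)) (i + 1) (i + 1 + 1) rfl).apply_symm_apply _).trans ?_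
  refine (congrArg ((e (i + 1 + 1)).prodCongr (e (i + 1)))
    (H29Slice.koszul_cons_d f l i (i + 1) (i + 1 + 1) rfl rfl x)).trans ?_
  refine Eq.trans ?_ (H29Slice.koszul_cons_d f m i (i + 1) (i + 1 + 1) rfl rfl _).symm
  refine Eq.trans ?_ (congrArg (fun v => (-((Koszul.koszul A m).d (i + 1) (i + 1 + 1) v.1),
    f • v.1 + (Koszul.koszul A m).d i (i + 1) v.2))
    ((coneXEquiv (f • 𝟙 (Koszul.koszul A m)) i (i + 1) rfl).apply_symm_apply _)).symm
  simp only [LinearEquiv.prodCongr_apply, map_neg, map_add, map_smul, he (i + 1) (i + 1 + 1) rfl,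
    he i (i + 1) rfl]
  rfl

theorem kEq_swap (f g : A) (l : List A) : KEq (f :: g :: l) (g :: f :: l) := by
  let q : ∀ (a b : A) (i : ℤ), (Koszul.koszul A (a :: b :: l)).X i ≃ₗ[A]
      (((Koszul.koszul A l).X (i + 1 + 1) × (Koszul.koszul A l).X (i + 1)) ×
        ((Koszul.koszul A l).X (i + 1) × (Koszul.koszul A l).X i)) := fun a b i =>
    (coneXEquiv (a • 𝟙 (Koszul.koszul A (b :: l))) i (i + 1) rfl).trans
      ((coneXEquiv (b • 𝟙 (Koszul.koszul A l)) (i + 1) (i + 1 + 1) rfl).prodCongr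
        (coneXEquiv (b • 𝟙 (Koszul.koszul A l)) i (i + 1) rfl))
  let σ : ∀ i : ℤ, (((Koszul.koszul A l).X (i + 1 + 1) × (Koszul.koszul A l).X (i + 1)) ×
        ((Koszul.koszul A l).X (i + 1) × (Koszul.koszul A l).X i)) ≃ₗ[A]
      (((Koszul.koszul A l).X (i + 1 + 1) × (Koszul.koszul A l).X (i + 1)) ×
        ((Koszul.koszul A l).X (i + 1) × (Koszul.koszul A l).X i)) := fun i =>
    { toFun := fun v => ((-v.1.1, v.2.1), (v.1.2, v.2.2))
      invFun := fun v => ((-v.1.1, v.2.1), (v.1.2, v.2.2))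
      left_inv := fun v => by simp
      right_inv := fun v => by simp
      map_add' := fun v w => by simp; abel
      map_smul' := fun r v => by simp }
  have hd : ∀ (a b : A) (i : ℤ) (x : (Koszul.koszul A (a :: b :: l)).X i),
      q a b (i + 1) ((Koszul.koszul A (a :: b :: l)).d i (i + 1) x) =
        ((((Koszul.koszul A l).d (i + 1 + 1) (i + 1 + 1 + 1) (q a b i x).1.1),
          (-(b • (q a b i x).1.1) - (Koszul.koszul A l).d (i + 1) (i + 1 + 1) (q a b i x).1.2)),
          ((a • (q a b i x).1.1 - (Koszul.koszul A l).d (i + 1) (i + 1 + 1) (q a b i x).2.1),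
          (a • (q a b i x).1.2 + (b • (q a b i x).2.1 + (Koszul.koszul A l).d i (i + 1) (q a b i x).2.2)))) := by
    intro a b i x
    refine (congrArg ((coneXEquiv (b • 𝟙 (Koszul.koszul A l)) (i + 1 + 1) (i + 1 + 1 + 1) rfl).prodCongr
      (coneXEquiv (b • 𝟙 (Koszul.koszul A l)) (i + 1) (i + 1 + 1) rfl))
      (H29Slice.koszul_cons_d a (b :: l) i (i + 1) (i + 1 + 1) rfl rfl x)).trans ?_
    refine (congrArg₂ Prod.mk
      ((map_neg (coneXEquiv (b • 𝟙 (Koszul.koszul A l)) (i + 1 + 1) (i + 1 + 1 + 1) rfl) _).trans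
        (congrArg Neg.neg (H29Slice.koszul_cons_d b l (i + 1) (i + 1 + 1) (i + 1 + 1 + 1) rfl rfl _)))
      ((map_add (coneXEquiv (b • 𝟙 (Koszul.koszul A l)) (i + 1) (i + 1 + 1) rfl) _ _).trans
        (congrArg₂ (· + ·) (map_smul (coneXEquiv (b • 𝟙 (Koszul.koszul A l)) (i + 1) (i + 1 + 1) rfl) a _)
          (H29Slice.koszul_cons_d b l i (i + 1) (i + 1 + 1) rfl rfl _)))).trans ?_
    refine Prod.ext (Prod.ext ?_ ?_) (Prod.ext ?_ ?_)
    · exact neg_neg _
    · exact (neg_add _ _).trans (sub_eq_add_neg _ _).symm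
    · exact (sub_eq_add_neg _ _).symm
    · rfl
  refine ⟨fun i => ((q f g i).trans (σ i)).trans (q g f i).symm, ?_⟩
  intro i j hj x
  subst hj
  apply (q g f (i + 1)).injective
  refine ((q g f (i + 1)).apply_symm_apply _).trans ?_
  refine (congrArg (σ (i + 1)) (hd f g i x)).trans (Eq.trans ?_ (hd g f i _).symm)
  have hv : q g f i ((q g f i).symm (σ i (q f g i x))) = σ i (q f g i x) := (q g f i).apply_symm_apply _
  simp only [LinearEquiv.trans_apply, hv]
  simp only [σ, LinearEquiv.coe_mk, LinearMap.coe_mk, AddHom.coe_mk]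
  refine Prod.ext (Prod.ext ?_ ?_) (Prod.ext ?_ ?_) <;> simp <;> abel

theorem kEq_of_perm {l m : List A} (h : l.Perm m) : KEq l m := by
  induction h with
  | nil => exact ⟨fun i => LinearEquiv.refl A _, fun i j _ x => rfl⟩
  | cons a _ ih => exact kEq_cons a ih
  | swap a b l => exact kEq_swap b a l
  | trans _ _ ih₁ ih₂ =>
    obtain ⟨e, he⟩ := ih₁
    obtain ⟨e', he'⟩ := ih₂
    exact ⟨fun i => (e i).trans (e' i), fun i j hj x =>
      (congrArg (e' j) (he i j hj x)).trans (he' i j hj _)⟩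

theorem reg_pow_head (n : ℕ) {f : A} {l : List A} (H : Reg (f :: l)) : Reg (f ^ n :: l) := by
  let E := Koszul.koszul A l
  have hdd : ∀ (i j k : ℤ) (x : E.X i), E.d j k (E.d i j x) = 0 := fun i j k x =>
    congrArg (fun φ => φ.hom x) (E.d_comp_d i j k)
  -- exactness of the cone of `c`, in coordinates
  let Ex : A → Prop := fun c => ∀ h i j k : ℤ, h + 1 = i → i + 1 = j → j + 1 = k → i ≠ 0 → ∀ (a : E.X j) (b : E.X i),
    E.d j k a = 0 → c • a + E.d i j b = 0 → ∃ (e : E.X i) (z : E.X h), -(E.d i j e) = a ∧ c • e + E.d h i z = b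
  have hex : ∀ c, Ex c ↔ Reg (c :: l) := by
    intro c
    constructor
    · intro hc h i j hh hj hi x hx
      have hx' := ((congrArg (coneXEquiv (c • 𝟙 E) j (j + 1) rfl) hx).trans (map_zero _)).symm.trans
        (H29Slice.koszul_cons_d c l i j (j + 1) hj rfl x)
      obtain ⟨e, z, he, hz⟩ := hc h i j (j + 1) hh hj rfl hi _ _
        (neg_eq_zero.1 (congrArg Prod.fst hx').symm) (congrArg Prod.snd hx').symm
      refine ⟨(coneXEquiv (c • 𝟙 E) h i hh).symm (e, z), (coneXEquiv (c • 𝟙 E) i j hj).injective ?_⟩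
      refine (H29Slice.koszul_cons_d c l h i j hh hj _).trans ?_
      have hv : coneXEquiv (c • 𝟙 E) h i hh ((coneXEquiv (c • 𝟙 E) h i hh).symm (e, z)) = (e, z) :=
        (coneXEquiv (c • 𝟙 E) h i hh).apply_symm_apply _
      rw [show coneXEquiv (c • 𝟙 (Koszul.koszul A l)) h i hh _ = (e, z) from hv]
      exact Prod.ext he hz
    · intro hc h i j k hh hj hk hi a b ha hab
      have hv : coneXEquiv (c • 𝟙 E) i j hj ((coneXEquiv (c • 𝟙 E) i j hj).symm (a, b)) = (a, b) :=
        (coneXEquiv (c • 𝟙 E) i j hj).apply_symm_apply _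
      obtain ⟨w, hw⟩ := hc h i j hh hj hi ((coneXEquiv (c • 𝟙 E) i j hj).symm (a, b)) (by
        refine (coneXEquiv (c • 𝟙 E) j k hk).injective
          ((H29Slice.koszul_cons_d c l i j k hj hk _).trans ?_)
        rw [show coneXEquiv (c • 𝟙 (Koszul.koszul A l)) i j hj _ = (a, b) from hv]
        exact Eq.trans (Prod.ext (neg_eq_zero.2 ha) hab) (map_zero (coneXEquiv (c • 𝟙 E) j k hk)).symm)
      have hd := H29Slice.koszul_cons_d c l h i j hh hj w
      rw [hw, show coneXEquiv (c • 𝟙 (Koszul.koszul A l)) i j hj _ = (a, b) from hv] at hd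
      exact ⟨_, _, (congrArg Prod.fst hd).symm, (congrArg Prod.snd hd).symm⟩
  rw [← hex] at H ⊢
  -- `f` is injective and surjective on the homology in the relevant degrees
  have hinj : ∀ i j k : ℤ, i + 1 = j → j + 1 = k → i ≠ 0 → ∀ a : E.X j, E.d j k a = 0 →
      (∃ b, f • a = E.d i j b) → ∃ e, a = E.d i j e := by
    rintro i j k hj hk hi a ha ⟨b, hb⟩
    obtain ⟨e, z, he, -⟩ := H (i - 1) i j k (by omega) hj hk hi a (-b) ha (by rw [map_neg, hb, add_neg_cancel])
    exact ⟨-e, by rw [map_neg, he]⟩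
  have hsur : ∀ h i j : ℤ, h + 1 = i → i + 1 = j → i ≠ 0 → ∀ b : E.X i, E.d i j b = 0 →
      ∃ z w, E.d i j z = 0 ∧ b = f • z + E.d h i w := by
    intro h i j hh hj hi b hb
    obtain ⟨e, w, he, hw⟩ := H h i j (j + 1) hh hj rfl hi 0 b (map_zero _) (by rw [smul_zero, zero_add, hb])
    exact ⟨e, w, neg_eq_zero.1 he, hw.symm⟩
  have hinj' : ∀ (m : ℕ) (i j k : ℤ), i + 1 = j → j + 1 = k → i ≠ 0 → ∀ a : E.X j, E.d j k a = 0 →
      (∃ b, f ^ m • a = E.d i j b) → ∃ e, a = E.d i j e := by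
    intro m i j k hj hk hi
    induction m with
    | zero => rintro a - ⟨b, hb⟩; exact ⟨b, by rw [← hb, pow_zero, one_smul]⟩
    | succ m ih =>
      rintro a ha ⟨b, hb⟩
      obtain ⟨e, he⟩ := hinj i j k hj hk hi (f ^ m • a) (by rw [map_smul, ha, smul_zero])
        ⟨b, by rw [smul_smul, ← pow_succ', hb]⟩
      exact ih a ha ⟨e, he⟩
  have hsur' : ∀ (m : ℕ) (h i j : ℤ), h + 1 = i → i + 1 = j → i ≠ 0 → ∀ b : E.X i, E.d i j b = 0 →
      ∃ z w, E.d i j z = 0 ∧ b = f ^ m • z + E.d h i w := by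
    intro m h i j hh hj hi b hb
    induction m with
    | zero => exact ⟨b, 0, hb, by rw [pow_zero, one_smul, map_zero, add_zero]⟩
    | succ m ih =>
      obtain ⟨z, w, hz, rfl⟩ := ih
      obtain ⟨z', w', hz', rfl⟩ := hsur h i j hh hj hi z hz
      exact ⟨z', f ^ m • w' + w, hz', by rw [smul_add, smul_smul, ← pow_succ, map_add, map_smul]; abel⟩
  intro h i j k hh hj hk hi a b ha hab
  obtain ⟨e₀, rfl⟩ := hinj' n i j k hj hk hi a ha ⟨-b, by rw [map_neg]; exact eq_neg_of_add_eq_zero_left hab⟩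
  obtain ⟨z, w, hz, hbz⟩ := hsur' n h i j hh hj hi (b + f ^ n • e₀) (by rw [map_add, map_smul, add_comm]; exact hab)
  refine ⟨-e₀ + z, w, by rw [map_add, map_neg, hz, add_zero, neg_neg], ?_⟩
  rw [smul_add, smul_neg, add_assoc, ← hbz]
  abel

theorem reg_map_pow (n : ℕ) : ∀ l rest : List A, Reg (l ++ rest) → Reg (l.map (· ^ n) ++ rest) := by
  intro l
  induction l with
  | nil => exact fun _ h => h
  | cons f l ih =>
    intro rest h
    have h₁ : Reg (f ^ n :: (l ++ rest)) := reg_pow_head n h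
    have h₂ := ih (f ^ n :: rest) (kEq_reg (kEq_of_perm (List.perm_middle.symm)) h₁)
    exact kEq_reg (kEq_of_perm (List.perm_middle (a := f ^ n) (l₁ := l.map (· ^ n)) (l₂ := rest))) h₂

theorem isKoszulRegularSeq_map_pow (n : ℕ) (l : List A) (h : LCI.IsKoszulRegularSeq A l) :
    LCI.IsKoszulRegularSeq A (l.map (· ^ n)) := by
  have := reg_map_pow n l [] (by simpa using (reg_iff l).2 h)
  exact (reg_iff _).1 (by simpa using this)

end Groth.Agent.H16Derived.KoszulPow
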