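import Groth.Prelude.Def_DerCA
import Groth.Prelude.Def_LCI2
import Groth.Agent.H4Cech.Basic
import Groth.Agent.H02CA.KoszExtCechH
import Groth.Agent.H16Derived.KoszulPow
import Mathlib.Algebra.Homology.HomotopyCategory.Pretriangulated

/-!
# Vanishing results for the extended Čech complex
-/

set_option autoImplicit false

universe u

open CategoryTheory CategoryTheory.Limits CochainComplex
open Groth.Agent.H4Cech

namespace Groth.Agent.H16Derived.ExtCech

variable {R : Type u} [CommRing R] (M : ModuleCat.{u} R)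

theorem isZero_quotient_mappingCocone {K L : DRing.Cx R} (φ : K ⟶ L)
    (h : IsIso ((HomotopyCategory.quotient (ModuleCat.{u} R) (ComplexShape.up ℤ)).map φ)) :
    IsZero ((HomotopyCategory.quotient (ModuleCat.{u} R) (ComplexShape.up ℤ)).obj (mappingCocone φ)) := by
  have h₃ : IsZero ((HomotopyCategory.quotient (ModuleCat.{u} R) (ComplexShape.up ℤ)).obj (mappingCone φ)) :=
    Pretriangulated.Triangle.isZero₃_of_isIso₁ _ (HomotopyCategory.mappingCone_triangleh_distinguished φ) h
  exact (Functor.map_isZero (CategoryTheory.shiftFunctor (HomotopyCategory (ModuleCat.{u} R) (ComplexShape.up ℤ)) (-1 : ℤ)) h₃).of_iso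
    (((HomotopyCategory.quotient (ModuleCat.{u} R) (ComplexShape.up ℤ)).commShiftIso (-1 : ℤ)).app (mappingCone φ))

theorem isIso_locUnit_app {f : R} (hf : IsUnit f) (N : ModuleCat.{u} R) :
    IsIso ((DerCA.locUnit (Submonoid.powers f)).app N) := by
  refine (ConcreteCategory.isIso_iff_bijective _).2 ⟨fun a b hab => ?_, fun z => ?_⟩
  · obtain ⟨⟨_, k, rfl⟩, hk⟩ := LocalizedModule.mk_eq.1
      (show LocalizedModule.mk (S := Submonoid.powers f) a 1 = LocalizedModule.mk b 1 from hab)
    simp only [one_smul, Submonoid.smul_def] at hk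
    exact (hf.pow k).smul_left_cancel.1 hk
  · induction (show LocalizedModule (Submonoid.powers f) N from z) using LocalizedModule.induction_on with
    | h m s =>
      obtain ⟨u, hu⟩ : IsUnit (s : R) := by obtain ⟨k, hk⟩ := s.2; rw [← hk]; exact hf.pow k
      refine ⟨((u⁻¹ : Rˣ) : R) • m, LocalizedModule.mk_eq.2 ⟨1, ?_⟩⟩
      simp [Submonoid.smul_def, ← hu, smul_smul]

theorem contractible (fs : List R) (hf : ∃ f ∈ fs, IsUnit f) :
    Nonempty (Homotopy (𝟙 (DerCA.extCech M fs)) 0) := by
  induction fs with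
  | nil => obtain ⟨f, hf, _⟩ := hf; exact absurd hf List.not_mem_nil
  | cons f fs ih =>
    rw [← HomotopyCategory.isZero_quotient_obj_iff]
    refine isZero_quotient_mappingCocone _ ?_
    by_cases hu : IsUnit f
    · have : ∀ i, IsIso ((DerCA.locCxUnit (Submonoid.powers f) (DerCA.extCech M fs)).f i) := fun i =>
        isIso_locUnit_app hu _
      have : IsIso (DerCA.locCxUnit (Submonoid.powers f) (DerCA.extCech M fs)) :=
        HomologicalComplex.Hom.isIso_of_components _
      infer_instance
    · obtain ⟨h⟩ := ih (by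
        obtain ⟨g, hg, hgu⟩ := hf
        rcases List.mem_cons.1 hg with rfl | hg
        · exact absurd hgu hu
        · exact ⟨g, hg, hgu⟩)
      have h₁ := (HomotopyCategory.isZero_quotient_obj_iff (DerCA.extCech M fs)).2 ⟨h⟩
      have h₂ := (HomotopyCategory.isZero_quotient_obj_iff ((DerCA.locCx (Submonoid.powers f)).obj (DerCA.extCech M fs))).2
        ⟨((Homotopy.ofEq ((DerCA.locCx (Submonoid.powers f)).map_id _).symm).trans
          ((DerCA.locFunctor (Submonoid.powers f)).mapHomotopy h)).trans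
          (Homotopy.ofEq ((DerCA.locCx (Submonoid.powers f)).map_zero _ _))⟩
      exact isIso_of_isTerminal_aux h₁ h₂ _
where
  isIso_of_isTerminal_aux {C : Type (u + 1)} [Category.{u} C] [HasZeroMorphisms C] {X Y : C} (hX : IsZero X)
      (hY : IsZero Y) (g : X ⟶ Y) : IsIso g :=
    ⟨0, hX.eq_of_src _ _, hY.eq_of_src _ _⟩

theorem subsingleton_X_of_gt : ∀ (fs : List R) (p : ℤ), (fs.length : ℤ) < p →
    Subsingleton ((DerCA.extCech M fs).X p) := by
  intro fs
  induction fs with
  | nil =>
    intro p hp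
    simp only [List.length_nil, Nat.cast_zero] at hp
    exact ModuleCat.isZero_iff_subsingleton.1
      (HomologicalComplex.isZero_single_obj_X (ComplexShape.up ℤ) 0 M p (by omega))
  | cons f fs ih =>
    intro p hp
    simp only [List.length_cons, Nat.cast_add, Nat.cast_one] at hp
    have := ih p (by omega)
    have h1 : Subsingleton ((locC f (DerCA.extCech M fs)).X (p - 1)) :=
      subsingleton_of_forall_eq 0 fun z => by
        obtain ⟨x, s, rfl⟩ := exists_lmk f z
        rw [@Subsingleton.elim _ (ih (p - 1) (by omega)) x 0]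
        exact LocalizedModule.zero_mk s
    exact (kl (DerCA.locCxUnit (Submonoid.powers f) (DerCA.extCech M fs)) (p - 1) p (by omega)).toEquiv.subsingleton

theorem isZero_extCechH_of_degree (fs : List R) (q : ℤ) (hq : q < 0 ∨ (fs.length : ℤ) < q) :
    IsZero (DerCA.extCechH fs M q) := by
  refine (isZero_homology_iff _ q).2 fun x _ => ⟨0, ?_⟩
  have : Subsingleton ((DerCA.extCech M fs).X q) :=
    hq.elim (subsingleton_X_of_neg M fs q) (subsingleton_X_of_gt M fs q)
  exact Subsingleton.elim _ _

/-- Cycles are killed, modulo boundaries, by a power of each entry. -/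
theorem exists_pow_smul_eq_d : ∀ (fs : List R) (g : R), g ∈ fs → ∀ (h p k : ℤ), h + 1 = p → p + 1 = k →
    ∀ x : (DerCA.extCech M fs).X p, ((DerCA.extCech M fs).d p k).hom x = 0 →
      ∃ (n : ℕ) (y : (DerCA.extCech M fs).X h), ((DerCA.extCech M fs).d h p).hom y = g ^ n • x := by
  intro fs
  induction fs with
  | nil => exact fun g hg => absurd hg List.not_mem_nil
  | cons f fs ih =>
    intro g hg h p k hh hk x hx
    let C := DerCA.extCech M fs
    let φ := DerCA.locCxUnit (Submonoid.powers f) C
    obtain ⟨x, rfl⟩ : ∃ x' : (mappingCocone φ).X p, x' = x := ⟨x, rfl⟩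
    replace hx : ((mappingCocone φ).d p k).hom x = 0 := hx
    show ∃ (n : ℕ) (y : (mappingCocone φ).X h), ((mappingCocone φ).d h p).hom y = g ^ n • x
    obtain ⟨hx₁, hx₂⟩ := (d_eq_zero_iff φ hh hk x).1 hx
    have hcomm : ∀ c : C.X h, (φ.f p).hom ((C.d h p).hom c) = ((locC f C).d h p).hom ((φ.f h).hom c) := fun c =>
      (congrArg (fun e => e.hom c) (φ.comm h p)).symm
    by_cases hgf : g = f
    · subst hgf
      obtain ⟨c, s, hb⟩ := exists_lmk g (sndc φ h p hh x)
      rw [← hb, locC_d] at hx₂
      have hx₂' : lmk g ((C.d h p).hom c) s = lmk g (-fstc φ p x) 1 := by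
        refine (eq_neg_of_add_eq_zero_right hx₂).trans ?_
        exact (map_neg (φ.f p).hom _).symm
      obtain ⟨⟨t, m, hm⟩, ht⟩ := LocalizedModule.mk_eq.1 hx₂'
      obtain ⟨l, hl⟩ := s.2
      simp only [Submonoid.smul_def, Submonoid.coe_one, one_smul] at ht
      subst hm
      have hl' : g ^ l = (s : R) := hl
      obtain ⟨y, hy₁, hy₂⟩ := exists_cocone φ (h - 1) h (by omega) (-(g ^ m • c)) 0
      refine ⟨m + l, y, cocone_ext φ hh ?_ ?_⟩
      · refine (fstc_d φ h p y).trans ?_
        rw [hy₁, map_neg, map_smul, map_smul]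
        change _ • (C.d h p).hom c = g ^ m • (s : R) • -fstc φ p x at ht
        rw [ht, smul_neg, smul_neg, neg_neg, pow_add, mul_smul, hl']
      · refine (sndc_d φ (show h - 1 + 1 = h by omega) hh y).trans ?_
        rw [hy₁, hy₂, map_neg, map_zero, neg_neg, sub_zero, map_smul, map_smul, ← hb]
        refine (LocalizedModule.smul'_mk (g ^ m) c (1 : Submonoid.powers g)).trans
          (Eq.trans ?_ (LocalizedModule.smul'_mk (g ^ (m + l)) c s).symm)
        refine LocalizedModule.mk_eq.2 ⟨1, ?_⟩
        simp [Submonoid.smul_def, smul_smul, ← hl', pow_add, mul_comm]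
    · have hgfs : g ∈ fs := (List.mem_cons.1 hg).resolve_left hgf
      obtain ⟨n, c, hc⟩ := ih g hgfs h p k hh hk (fstc φ p x) hx₁
      have hcyc : ((locC f C).d h p).hom (g ^ n • sndc φ h p hh x + (φ.f h).hom c) = 0 := by
        rw [map_add, map_smul, ← hcomm, hc, map_smul, ← smul_add, add_comm, hx₂, smul_zero]
      obtain ⟨z, s, hz⟩ := exists_lmk f (g ^ n • sndc φ h p hh x + (φ.f h).hom c)
      rw [← hz, locC_d] at hcyc
      obtain ⟨t, ht⟩ := LocalizedModule.mk_eq.1 (hcyc.trans (LocalizedModule.zero_mk 1).symm)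
      simp only [one_smul, smul_zero, Submonoid.smul_def, Submonoid.coe_one] at ht
      obtain ⟨m, w, hw⟩ := ih g hgfs (h - 1) h p (by omega) hh ((t : R) • z) (by rw [map_smul]; exact ht)
      obtain ⟨y, hy₁, hy₂⟩ := exists_cocone φ (h - 1) h (by omega) (g ^ m • c) (-(lmk f w (t * s)))
      refine ⟨m + n, y, cocone_ext φ hh ?_ ?_⟩
      · refine (fstc_d φ h p y).trans ?_
        rw [hy₁, map_smul, hc, map_smul, pow_add, mul_smul]
      · refine (sndc_d φ (show h - 1 + 1 = h by omega) hh y).trans ?_
        rw [hy₁, hy₂, map_neg, sub_neg_eq_add, map_smul, map_smul, locC_d, hw]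
        have e : lmk f (g ^ m • (t : R) • z) (t * s) = g ^ m • lmk f z s := by
          refine Eq.trans ?_ (LocalizedModule.smul'_mk _ _ _).symm
          refine LocalizedModule.mk_eq.2 ⟨1, ?_⟩
          simp only [one_smul, Submonoid.smul_def, Submonoid.coe_mul, smul_smul]
          congr 1
          ring
        rw [e, hz, smul_add, smul_smul, ← pow_add]
        abel

theorem exists_pow_smul_homology_eq_zero (fs : List R) (q : ℤ) (x : DerCA.extCechH fs M q) :
    ∃ n : ℕ, 1 ≤ n ∧ ∀ f ∈ fs, f ^ n • x = 0 := by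
  obtain ⟨z, rfl⟩ := H02CA.KEC.cls_surjective (DerCA.extCech M fs) q (q + 1) rfl x
  have key : ∀ l : List R, (∀ f ∈ l, f ∈ fs) → ∃ n : ℕ, 1 ≤ n ∧ ∀ f ∈ l,
      f ^ n • H02CA.KEC.cls (DerCA.extCech M fs) q (q + 1) rfl z = 0 := by
    intro l
    induction l with
    | nil => exact fun _ => ⟨1, le_rfl, fun f hf => absurd hf List.not_mem_nil⟩
    | cons f l ih =>
      intro hl
      obtain ⟨n, hn, hn'⟩ := ih fun g hg => hl g (List.mem_cons_of_mem f hg)
      obtain ⟨m, y, hy⟩ := exists_pow_smul_eq_d M fs f (hl f List.mem_cons_self) (q - 1) q (q + 1)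
        (by omega) rfl z.1 z.2
      refine ⟨n + m, by omega, fun g hg => ?_⟩
      rcases List.mem_cons.1 hg with rfl | hg
      · rw [← map_smul, H02CA.KEC.cls_eq_zero_iff _ (q - 1) q (q + 1) (by omega) rfl]
        refine ⟨g ^ n • y, ?_⟩
        refine (map_smul ((DerCA.extCech M fs).d (q - 1) q).hom _ _).trans ?_
        rw [hy, smul_smul, ← pow_add]
        rfl
      · rw [pow_add, mul_comm, mul_smul, hn' g hg, smul_zero]
  exact key fs fun _ h => h

theorem isZero_extCechH_of_mem_span (fs : List R) {f : R} (hf : f ∈ Ideal.span {a : R | a ∈ fs})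
    (hbij : Function.Bijective fun m : M => f • m) (q : ℤ) : IsZero (DerCA.extCechH fs M q) := by
  refine (isZero_homology_iff _ q).2 fun x hx => ?_
  -- the elements with a power carrying `x` into the boundaries
  let J : Ideal R :=
    { carrier := {a | a • x ∈ LinearMap.range ((DerCA.extCech M fs).d (q - 1) q).hom}
      zero_mem' := by
        change (0 : R) • x ∈ LinearMap.range ((DerCA.extCech M fs).d (q - 1) q).hom
        rw [zero_smul]
        exact zero_mem _
      add_mem' := fun {a b} ha hb => by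
        change (a + b) • x ∈ LinearMap.range ((DerCA.extCech M fs).d (q - 1) q).hom
        rw [add_smul]; exact Submodule.add_mem _ ha hb
      smul_mem' := fun c a ha => by
        change (c • a) • x ∈ LinearMap.range ((DerCA.extCech M fs).d (q - 1) q).hom
        rw [smul_eq_mul, mul_smul]; exact Submodule.smul_mem _ c ha }
  have hle : Ideal.span {a : R | a ∈ fs} ≤ J.radical := Ideal.span_le.2 fun g hg => by
    obtain ⟨n, y, hy⟩ := exists_pow_smul_eq_d M fs g hg (q - 1) q (q + 1) (by omega) rfl x hx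
    exact ⟨n, y, hy⟩
  obtain ⟨N, y, hy⟩ := hle hf
  have hb : ∀ (k : ℕ) (i : ℤ), Function.Bijective fun a : (DerCA.extCech M fs).X i => f ^ k • a := by
    intro k i
    induction k with
    | zero => simp only [pow_zero, one_smul]; exact Function.bijective_id
    | succ k ihk =>
      have := ihk.comp (bijTerms_extCech M hbij fs i)
      simpa [Function.comp_def, smul_smul, pow_succ] using this
  obtain ⟨y', rfl⟩ := (hb N (q - 1)).2 y
  exact ⟨y', (hb N q).1 ((map_smul ((DerCA.extCech M fs).d (q - 1) q).hom _ _).symm.trans hy)⟩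

theorem koszulCx_eq : ∀ l : List R, CohIII.koszulCx (ModuleCat.of R R) l = Koszul.koszul R l := by
  intro l
  induction l with
  | nil => rfl
  | cons f l ih =>
    show CochainComplex.mappingCone (f • 𝟙 (CohIII.koszulCx (ModuleCat.of R R) l)) = _
    rw [ih]
    rfl

theorem isZero_extCechH_of_koszulRegular (fs : List R) (hfs : LCI.IsKoszulRegularSeq R fs) (q : ℤ)
    (hq : q ≠ (fs.length : ℤ)) : IsZero (DerCA.extCechH fs (ModuleCat.of R R) q) := by
  by_cases hq' : q < 0 ∨ (fs.length : ℤ) < q
  · exact isZero_extCechH_of_degree _ fs q hq'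
  obtain ⟨p, rfl⟩ : ∃ p : ℕ, q = p := ⟨q.toNat, by omega⟩
  obtain ⟨e⟩ := H02CA.KEC.nonempty_koszulHLim_equiv (ModuleCat.of R R) fs p
  have hz : ∀ n, IsZero ((CohIII.koszulCx (ModuleCat.of R R) (fs.map (· ^ n))).homology ((p : ℤ) - fs.length)) := by
    intro n
    rw [koszulCx_eq]
    exact KoszulPow.isKoszulRegularSeq_map_pow n fs hfs _ (by omega)
  refine ModuleCat.isZero_iff_subsingleton.2 ⟨fun a b => ?_⟩
  suffices ∀ c : DerCA.extCechH fs (ModuleCat.of R R) p, c = 0 from (this a).trans (this b).symm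
  intro c
  obtain ⟨w, rfl⟩ := e.surjective c
  have : w = 0 := by
    induction w using Module.DirectLimit.induction_on with
    | ih n v =>
      rw [show v = 0 from @Subsingleton.elim _ (ModuleCat.subsingleton_of_isZero (hz n)) v 0, map_zero]
      rfl
  rw [this, map_zero]

end Groth.Agent.H16Derived.ExtCech
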