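import Groth.Agent.H22Alg.ExtPowSheaf
import Groth.Agent.H16Derived.KFlat.StalkTensor
import Groth.Agent.H17.KoszSh.AffHom
import Groth.Agent.H10Coh.SheafHom.Adj

/-! # Morphisms out of tensor products from bilinear maps over the affine opens -/

set_option autoImplicit false
set_option linter.style.haveILetI false

universe u

open CategoryTheory CategoryTheory.Limits AlgebraicGeometry Opposite TopologicalSpace exteriorPower
open Groth.Agent.H16Derived.KFlat.Stalk

noncomputable section

namespace Groth.Agent.H16Derived.ExtPair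

variable {X : Scheme.{u}} {M N F : X.Modules}

/-- A natural bilinear family over the affine opens extends to a morphism out of the tensor product. -/
theorem exists_desc (β : ∀ U : X.affineOpens, Γ(M, U.1) →ₗ[Γ(X, U.1)] Γ(N, U.1) →ₗ[Γ(X, U.1)] Γ(F, U.1))
    (hn : ∀ (U V : X.affineOpens) (h : V.1 ≤ U.1) m n,
      β V (M.presheaf.map (homOfLE h).op m) (N.presheaf.map (homOfLE h).op n) =
        F.presheaf.map (homOfLE h).op (β U m n)) :
    ∃ φ : tensor M N ⟶ F, ∀ (U : X.affineOpens) m n, φ.app U.1 (tensorSect U.1 m n) = β U m n := by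
  classical
  let Fs : TopCat.Sheaf AddCommGrpCat.{u} X.carrier := ⟨F.presheaf, F.isSheaf⟩
  have key : ∀ (W : X.Opens) (m : Γ(M, W)) (n : Γ(N, W)), ∃! s : Γ(F, W), ∀ (U : X.affineOpens) (i : U.1 ≤ W),
      F.presheaf.map (homOfLE i).op s = β U (M.presheaf.map (homOfLE i).op m) (N.presheaf.map (homOfLE i).op n) := by
    intro W m n
    let sf : ∀ U : {U : X.affineOpens // U.1 ≤ W}, Γ(F, U.1.1) := fun U =>
      β U.1 (M.presheaf.map (homOfLE U.2).op m) (N.presheaf.map (homOfLE U.2).op n)
    have hcompat : TopCat.Presheaf.IsCompatible Fs.presheaf (fun U : {U : X.affineOpens // U.1 ≤ W} => U.1.1) sf := by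
      intro U U'
      refine H17.AffHom.eq_of_affine (N := F) (U.1.1 ⊓ U'.1.1) fun V hV => ?_
      show F.presheaf.map (homOfLE hV).op (F.presheaf.map (Opens.infLELeft _ _).op (sf U)) =
        F.presheaf.map (homOfLE hV).op (F.presheaf.map (Opens.infLERight _ _).op (sf U'))
      rw [← ConcreteCategory.comp_apply, ← Functor.map_comp, ← ConcreteCategory.comp_apply, ← Functor.map_comp]
      refine ((hn U.1 V (hV.trans inf_le_left) _ _).symm.trans ?_).trans (hn U'.1 V (hV.trans inf_le_right) _ _)
      rw [← ConcreteCategory.comp_apply, ← Functor.map_comp, ← ConcreteCategory.comp_apply, ← Functor.map_comp,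
        ← ConcreteCategory.comp_apply, ← Functor.map_comp, ← ConcreteCategory.comp_apply, ← Functor.map_comp]
      rfl
    obtain ⟨s, hs, huniq⟩ := Fs.existsUnique_gluing' (fun U : {U : X.affineOpens // U.1 ≤ W} => U.1.1) W
      (fun U => homOfLE U.2) (by
        intro p hp
        obtain ⟨U, hU, hpU, hle⟩ := exists_isAffineOpen_mem_and_subset (x := p) (U := W) hp
        exact Opens.mem_iSup.2 ⟨⟨⟨U, hU⟩, hle⟩, hpU⟩) sf hcompat
    exact ⟨s, fun U i => hs ⟨U, i⟩, fun t ht => huniq t fun U => ht U.1 U.2⟩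
  choose B hB huniq using key
  have hres : ∀ (W W' : X.Opens) (i : W' ⟶ W) (m : Γ(M, W)) (n : Γ(N, W)),
      B W' (M.presheaf.map i.op m) (N.presheaf.map i.op n) = F.presheaf.map i.op (B W m n) := by
    intro W W' i m n
    refine (huniq W' _ _ _ fun U j => ?_).symm
    rw [← ConcreteCategory.comp_apply, ← Functor.map_comp, ← ConcreteCategory.comp_apply, ← Functor.map_comp,
      ← ConcreteCategory.comp_apply, ← Functor.map_comp]
    exact hB W m n U (j.trans i.le)
  refine ⟨desc B (fun W m m' n => (huniq W _ _ _ fun U i => ?_).symm) (fun W r m n => (huniq W _ _ _ fun U i => ?_).symm)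
    (fun W m n n' => (huniq W _ _ _ fun U i => ?_).symm) (fun W r m n => (huniq W _ _ _ fun U i => ?_).symm)
    hres, fun U m n => ?_⟩
  · rw [map_add, map_add, hB, hB, map_add, LinearMap.add_apply]
  · rw [Scheme.Modules.map_smul, Scheme.Modules.map_smul, hB, map_smul, LinearMap.smul_apply]
  · rw [map_add, map_add, hB, hB, map_add]
  · rw [Scheme.Modules.map_smul, Scheme.Modules.map_smul, hB, map_smul]
  · rw [desc_tensorSect]
    refine (huniq U.1 m n _ fun V i => ?_).symm
    exact (hn U V i m n).symm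

/-- Morphisms out of a tensor product are determined over the affine opens. -/
theorem tensor_ext_affine {φ ψ : tensor M N ⟶ F}
    (h : ∀ (U : X.affineOpens) (m : Γ(M, U.1)) (n : Γ(N, U.1)),
      φ.app U.1 (tensorSect U.1 m n) = ψ.app U.1 (tensorSect U.1 m n)) : φ = ψ := by
  refine H10Coh.SheafHom.tensor_ext fun W m n => H17.AffHom.eq_of_affine W fun U i => ?_
  refine (ConcreteCategory.congr_hom (φ.mapPresheaf.naturality (homOfLE i).op) _).symm.trans ?_
  refine Eq.trans ?_ (ConcreteCategory.congr_hom (ψ.mapPresheaf.naturality (homOfLE i).op) _)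
  show φ.app U.1 ((tensor M N).presheaf.map (homOfLE i).op (tensorSect W m n)) =
    ψ.app U.1 ((tensor M N).presheaf.map (homOfLE i).op (tensorSect W m n))
  rw [← tensorSect_res]
  exact h U _ _

section ExtPowers

variable {A B : X.Modules} {a b : ℕ} {LA LB : X.Modules}
  (φA : ∀ U : X.affineOpens, Γ(LA, U.1) ≃ₗ[Γ(X, U.1)] ↥(⋀[Γ(X, U.1)]^a Γ(A, U.1)))
  (φB : ∀ U : X.affineOpens, Γ(LB, U.1) ≃ₗ[Γ(X, U.1)] ↥(⋀[Γ(X, U.1)]^b Γ(B, U.1)))
  (hA : ∀ (U V : X.affineOpens) (h : V.1 ≤ U.1) (e : Fin a → Γ(A, U.1)),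
    LA.presheaf.map (homOfLE h).op ((φA U).symm (ιMulti _ a e)) =
      (φA V).symm (ιMulti _ a fun j => A.presheaf.map (homOfLE h).op (e j)))
  (hB : ∀ (U V : X.affineOpens) (h : V.1 ≤ U.1) (e : Fin b → Γ(B, U.1)),
    LB.presheaf.map (homOfLE h).op ((φB U).symm (ιMulti _ b e)) =
      (φB V).symm (ιMulti _ b fun j => B.presheaf.map (homOfLE h).op (e j)))

include hA hB in
/-- A morphism out of a tensor product of exterior powers from its values on decomposable sections. -/
theorem exists_desc_ext
    (β : ∀ U : X.affineOpens, ↥(⋀[Γ(X, U.1)]^a Γ(A, U.1)) →ₗ[Γ(X, U.1)]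
      ↥(⋀[Γ(X, U.1)]^b Γ(B, U.1)) →ₗ[Γ(X, U.1)] Γ(F, U.1))
    (hn : ∀ (U V : X.affineOpens) (h : V.1 ≤ U.1) (x : Fin a → Γ(A, U.1)) (y : Fin b → Γ(B, U.1)),
      β V (ιMulti _ a fun j => A.presheaf.map (homOfLE h).op (x j))
          (ιMulti _ b fun j => B.presheaf.map (homOfLE h).op (y j)) =
        F.presheaf.map (homOfLE h).op (β U (ιMulti _ a x) (ιMulti _ b y))) :
    ∃ φ : tensor LA LB ⟶ F, ∀ (U : X.affineOpens) m n,
      φ.app U.1 (tensorSect U.1 ((φA U).symm m) ((φB U).symm n)) = β U m n := by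
  obtain ⟨φ, hφ⟩ := exists_desc (M := LA) (N := LB) (F := F)
    (fun U => ((β U).comp (φA U).toLinearMap).compl₂ (φB U).toLinearMap) fun U V h m n => by
      obtain ⟨m, rfl⟩ := (φA U).symm.surjective m
      obtain ⟨n, rfl⟩ := (φB U).symm.surjective n
      simp only [LinearMap.compl₂_apply, LinearMap.comp_apply, LinearEquiv.coe_coe, LinearEquiv.apply_symm_apply]
      induction m using H22Alg.ExtPowAlg.induction with
      | h0 => simp
      | hadd p q hp hq => simp only [map_add, LinearMap.add_apply, hp, hq]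
      | hsmul r p hp => simp only [map_smul, Scheme.Modules.map_smul, LinearMap.smul_apply, hp]
      | hgen x =>
        induction n using H22Alg.ExtPowAlg.induction with
        | h0 => simp
        | hadd p q hp hq => simp only [map_add, hp, hq]
        | hsmul r p hp => simp only [map_smul, Scheme.Modules.map_smul, hp]
        | hgen y =>
          rw [hA U V h x, hB U V h y, LinearEquiv.apply_symm_apply, LinearEquiv.apply_symm_apply]
          exact hn U V h x y
  refine ⟨φ, fun U m n => ?_⟩
  rw [hφ]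
  simp

/-- Morphisms out of a tensor product of exterior powers are determined on decomposable sections. -/
theorem ext_gen {φ ψ : tensor LA LB ⟶ F}
    (h : ∀ (U : X.affineOpens) (x : Fin a → Γ(A, U.1)) (y : Fin b → Γ(B, U.1)),
      φ.app U.1 (tensorSect U.1 ((φA U).symm (ιMulti _ a x)) ((φB U).symm (ιMulti _ b y))) =
        ψ.app U.1 (tensorSect U.1 ((φA U).symm (ιMulti _ a x)) ((φB U).symm (ιMulti _ b y)))) : φ = ψ := by
  refine tensor_ext_affine fun U m n => ?_
  obtain ⟨m, rfl⟩ := (φA U).symm.surjective m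
  obtain ⟨n, rfl⟩ := (φB U).symm.surjective n
  induction m using H22Alg.ExtPowAlg.induction with
  | h0 => rw [map_zero, ← zero_smul Γ(X, U.1) (0 : Γ(LA, U.1)), tensorSect_smul_left, zero_smul, map_zero, map_zero]
  | hadd p q hp hq => rw [map_add, tensorSect_add_left, map_add, map_add, hp, hq]
  | hsmul r p hp =>
    rw [map_smul, tensorSect_smul_left, Scheme.Modules.Hom.app_smul, Scheme.Modules.Hom.app_smul, hp]
  | hgen x =>
    induction n using H22Alg.ExtPowAlg.induction with
    | h0 => rw [map_zero, ← zero_smul Γ(X, U.1) (0 : Γ(LB, U.1)), tensorSect_smul_right, zero_smul, map_zero, map_zero]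
    | hadd p q hp hq => rw [map_add, tensorSect_add_right, map_add, map_add, hp, hq]
    | hsmul r p hp =>
      rw [map_smul, tensorSect_smul_right, Scheme.Modules.Hom.app_smul, Scheme.Modules.Hom.app_smul, hp]
    | hgen y => exact h U x y

end ExtPowers

end Groth.Agent.H16Derived.ExtPair
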