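import Groth.Agent.H16Derived.ExtSESAlg
import Groth.Agent.H16Derived.ExtPair
import Groth.Agent.H22Alg.ExtPowSum
import Groth.Agent.H22Alg.ExtPowSES
import Groth.Agent.H10Coh.QCohExt
import Groth.Agent.H10Coh.FinType2
import Groth.Agent.H10Coh.QCohOps
import Groth.Agent.H16Derived.KFlat.FlatIff

/-!
# Exterior powers of an extension of bundles, in `K₀`, over an arbitrary scheme

The exterior power of the middle term is filtered by the images of the wedge products with the exterior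
powers of the first term; the graded pieces are the tensor products of the exterior powers of the outer terms.
-/

set_option autoImplicit false
set_option linter.style.haveILetI false

universe u

open CategoryTheory CategoryTheory.Limits AlgebraicGeometry Opposite TopologicalSpace exteriorPower
open scoped TensorProduct
open Groth.Agent.H22Alg Groth.Agent.H16Derived.KFlat.Stalk
attribute [local instance] HasDerivedCategory.standard

noncomputable section

namespace Groth.Agent.H16Derived.ExtSES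

open ExtSESAlg ExtPair ExtPowSumAlg
open ExtPowHom (appL)

variable {X : Scheme.{u}}

/-- Exterior powers in all degrees, with their charts. -/
structure Pow (E : X.Modules) where
  obj : ℕ → X.Modules
  φ : ∀ (i : ℕ) (U : X.affineOpens), Γ(obj i, U.1) ≃ₗ[Γ(X, U.1)] ↥(⋀[Γ(X, U.1)]^i Γ(E, U.1))
  nat : ∀ (i : ℕ) (U V : X.affineOpens) (h : V.1 ≤ U.1) (e : Fin i → Γ(E, U.1)),
    (obj i).presheaf.map (homOfLE h).op ((φ i U).symm (ιMulti _ i e)) =
      (φ i V).symm (ιMulti _ i fun j => E.presheaf.map (homOfLE h).op (e j))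

theorem exists_pow {E : X.Modules} (L : ℕ → X.Modules) (hL : ∀ i, ExtPow.IsExtPow i E (L i)) :
    ∃ P : Pow E, P.obj = L := by
  choose φ hφ using hL
  exact ⟨⟨L, fun i U => φ i U, fun i U V h e => hφ i U V h e⟩, rfl⟩

theorem Pow.isExtPow {E : X.Modules} (P : Pow E) (i : ℕ) : ExtPow.IsExtPow i E (P.obj i) :=
  ⟨fun U => P.φ i U, fun U V h e => P.nat i U V h e⟩

theorem app_map {M N : X.Modules} (g : M ⟶ N) {U V : X.Opens} (h : V ≤ U) (m : Γ(M, U)) :
    g.app V (M.presheaf.map (homOfLE h).op m) = N.presheaf.map (homOfLE h).op (g.app U m) :=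
  ConcreteCategory.congr_hom (g.mapPresheaf.naturality (homOfLE h).op) m

theorem app_comp_apply {M N L : X.Modules} (g : M ⟶ N) (k : N ⟶ L) (U : X.Opens) (m : Γ(M, U)) :
    (g ≫ k).app U m = k.app U (g.app U m) := rfl

theorem app_zero_apply {M N : X.Modules} (U : X.Opens) (m : Γ(M, U)) : (0 : M ⟶ N).app U m = 0 := rfl

theorem app_comp_fun {M N : X.Modules} (g : M ⟶ N) {U V : X.Opens} (h : V ≤ U) {n : ℕ} (x : Fin n → Γ(M, U)) :
    (appL g V ∘ fun j => M.presheaf.map (homOfLE h).op (x j)) =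
      fun j => N.presheaf.map (homOfLE h).op ((appL g U ∘ x) j) :=
  funext fun j => app_map g h (x j)

/-- An extension of bundles is a bundle. -/
theorem finLocFree_mid {T : ShortComplex X.Modules} (hT : T.ShortExact) (h₁ : FlatMod.IsFinLocFree T.X₁)
    (h₃ : FlatMod.IsFinLocFree T.X₃) : FlatMod.IsFinLocFree T.X₂ := by
  haveI : T.X₁.IsQuasicoherent := H8Props.FinLocFree.isQCoh_of_isFinLocFree _ h₁
  haveI : T.X₃.IsQuasicoherent := H8Props.FinLocFree.isQCoh_of_isFinLocFree _ h₃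
  haveI : T.X₂.IsQuasicoherent := H10Coh.isQuasicoherent_X₂ hT
  haveI := hT.epi_g
  haveI := hT.mono_f
  refine H8Props.FinLocFree.isFinLocFree_of_sections _ inferInstance fun x => ?_
  obtain ⟨U, hU, hxU, -⟩ := exists_isAffineOpen_mem_and_subset (x := x) (U := ⊤) trivial
  obtain ⟨hf₁, hp₁⟩ := H8Props.FinLocFree.finite_projective_sections _ h₁ hU
  obtain ⟨hf₃, hp₃⟩ := H8Props.FinLocFree.finite_projective_sections _ h₃ hU
  obtain ⟨s, hs⟩ := Module.projective_lifting_property (appL T.g U) LinearMap.id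
    (H10Coh.surjective_app_of_epi T.g hU)
  let e : (Γ(T.X₁, U) × Γ(T.X₃, U)) →ₗ[Γ(X, U)] Γ(T.X₂, U) := (appL T.f U).coprod s
  have hgf : ∀ a, appL T.g U (appL T.f U a) = 0 := fun a => by
    show (T.f ≫ T.g).app U a = 0
    rw [T.zero]; rfl
  have hb : Function.Bijective e := by
    refine ⟨(injective_iff_map_eq_zero e).2 fun ⟨a, c⟩ h => ?_, fun m => ?_⟩
    · have hc : c = 0 := by
        have := congrArg (appL T.g U) h
        simpa [e, hgf, show ∀ c, appL T.g U (s c) = c from fun c => LinearMap.congr_fun hs c] using this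
      subst hc
      have ha : appL T.f U a = 0 := by simpa [e] using h
      rw [H10Coh.injective_app_of_mono' T.f U (ha.trans (map_zero (appL T.f U)).symm)]
      rfl
    · obtain ⟨a, ha⟩ := H10Coh.exists_app_eq_of_exact hT U (m - s (appL T.g U m))
        (show appL T.g U (m - s (appL T.g U m)) = 0 by
          rw [map_sub, show appL T.g U (s (appL T.g U m)) = appL T.g U m from LinearMap.congr_fun hs _, sub_self])
      exact ⟨(a, appL T.g U m), by show appL T.f U a + s (appL T.g U m) = m; rw [show appL T.f U a = _ from ha]; abel⟩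
  let E := LinearEquiv.ofBijective e hb
  haveI : Module.Projective Γ(X, U) Γ(T.X₂, U) := Module.Projective.of_equiv E
  haveI : Module.Finite Γ(X, U) Γ(T.X₂, U) := Module.Finite.equiv E
  exact ⟨U, hU, hxU, Module.finitePresentation_of_projective _ _, inferInstance⟩

variable {S : ShortComplex X.Modules} (PA : Pow S.X₁) (PE : Pow S.X₂) (PC : Pow S.X₃)

/-- The wedge product on sections. -/
def wv (a b i : ℕ) (h : a + b = i) (U : X.affineOpens) :
    ↥(⋀[Γ(X, U.1)]^a Γ(S.X₁, U.1)) →ₗ[Γ(X, U.1)] ↥(⋀[Γ(X, U.1)]^b Γ(S.X₂, U.1)) →ₗ[Γ(X, U.1)]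
      Γ(PE.obj i, U.1) :=
  ((wprod a b i h).comp (map a (appL S.f U.1))).compr₂ (PE.φ i U).symm.toLinearMap

theorem wv_apply (a b i : ℕ) (h : a + b = i) (U : X.affineOpens) (x : Fin a → Γ(S.X₁, U.1))
    (y : Fin b → Γ(S.X₂, U.1)) :
    wv PE a b i h U (ιMulti _ a x) (ιMulti _ b y) =
      (PE.φ i U).symm (ιMulti _ i (app a b i h (appL S.f U.1 ∘ x) y)) := by
  show (PE.φ i U).symm (wprod a b i h (map a (appL S.f U.1) (ιMulti _ a x)) (ιMulti _ b y)) = _
  rw [map_apply_ιMulti, wprod_ιMulti]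

theorem app_comp' {M N : Type*} (g : M → N) (a b i : ℕ) (h : a + b = i) (x : Fin a → M) (y : Fin b → M) :
    app a b i h (g ∘ x) (g ∘ y) = g ∘ app a b i h x y := by
  funext t
  simp only [app, Function.comp_apply]
  induction Fin.cast h.symm t using Fin.addCases <;> simp

theorem wv_res (a b i : ℕ) (h : a + b = i) (U V : X.affineOpens) (hVU : V.1 ≤ U.1)
    (x : Fin a → Γ(S.X₁, U.1)) (y : Fin b → Γ(S.X₂, U.1)) :
    wv PE a b i h V (ιMulti _ a fun j => S.X₁.presheaf.map (homOfLE hVU).op (x j))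
        (ιMulti _ b fun j => S.X₂.presheaf.map (homOfLE hVU).op (y j)) =
      (PE.obj i).presheaf.map (homOfLE hVU).op (wv PE a b i h U (ιMulti _ a x) (ιMulti _ b y)) := by
  rw [wv_apply, wv_apply, PE.nat, app_comp_fun S.f hVU x]
  congr 2
  exact app_comp' (fun m => S.X₂.presheaf.map (homOfLE hVU).op m) a b i h (appL S.f U.1 ∘ x) y

/-- The wedge product `Λᵃ S₁ ⊗ Λᵇ S₂ ⟶ Λⁱ S₂`. -/
def mu (a b i : ℕ) (h : a + b = i) : tensor (PA.obj a) (PE.obj b) ⟶ PE.obj i :=
  (exists_desc_ext (PA.φ a) (PE.φ b) (PA.nat a) (PE.nat b) (wv PE a b i h) (wv_res PE a b i h)).choose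

theorem mu_app (a b i : ℕ) (h : a + b = i) (U : X.affineOpens) (m : ↥(⋀[Γ(X, U.1)]^a Γ(S.X₁, U.1)))
    (n : ↥(⋀[Γ(X, U.1)]^b Γ(S.X₂, U.1))) :
    (mu PA PE a b i h).app U.1 (tensorSect U.1 ((PA.φ a U).symm m) ((PE.φ b U).symm n)) = wv PE a b i h U m n :=
  (exists_desc_ext (PA.φ a) (PE.φ b) (PA.nat a) (PE.nat b) (wv PE a b i h) (wv_res PE a b i h)).choose_spec U m n

/-- A wedge product absorbs a vector of the first term. -/
theorem wv_vec (a b b' i : ℕ) (h : a + b = i) (hb : 1 + b' = b) (h' : a + 1 + b' = i) (U : X.affineOpens)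
    (m : ↥(⋀[Γ(X, U.1)]^a Γ(S.X₁, U.1))) (v : Γ(S.X₁, U.1)) (y : ↥(⋀[Γ(X, U.1)]^b' Γ(S.X₂, U.1))) :
    wv PE a b i h U m (wprod 1 b' b hb (vec (appL S.f U.1 v)) y) =
      wv PE (a + 1) b' i h' U (wprod a 1 (a + 1) rfl m (vec v)) y := by
  refine congrArg (PE.φ i U).symm (Subtype.ext ?_)
  rw [LinearMap.comp_apply, LinearMap.comp_apply, wprod_coe, wprod_coe, wprod_coe, ← mul_assoc]
  congr 1
  induction m using ExtPowAlg.induction with
  | h0 => simp [wprod_coe]
  | hadd p q hp hq => simp only [map_add, LinearMap.add_apply, Submodule.coe_add, add_mul, hp, hq]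
  | hsmul r p hp => simp only [map_smul, LinearMap.smul_apply, Submodule.coe_smul, smul_mul_assoc, hp]
  | hgen x =>
    rw [map_apply_ιMulti, ← wprod_coe a 1 (a + 1) rfl, vec, vec, wprod_ιMulti, wprod_ιMulti, map_apply_ιMulti]
    congr 2
    exact app_comp' (appL S.f U.1) a 1 (a + 1) rfl x (fun _ => v)

section Exact

variable (hS : S.ShortExact) (h₃ : FlatMod.IsFinLocFree S.X₃) (h₂ : FlatMod.IsFinLocFree S.X₂)

include hS in
theorem g_f (U : X.Opens) (x : Γ(S.X₁, U)) : appL S.g U (appL S.f U x) = 0 := by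
  show (S.f ≫ S.g).app U x = 0
  rw [S.zero]; rfl

include hS in
theorem exists_f_eq (U : X.Opens) (m : Γ(S.X₂, U)) (hm : appL S.g U m = 0) : ∃ x, appL S.f U x = m :=
  H10Coh.exists_app_eq_of_exact hS U m hm

include hS h₃ h₂ in
theorem exists_section (U : X.affineOpens) :
    ∃ s : Γ(S.X₃, U.1) →ₗ[Γ(X, U.1)] Γ(S.X₂, U.1), ∀ c, appL S.g U.1 (s c) = c := by
  haveI := hS.epi_g
  haveI : S.X₂.IsQuasicoherent := H8Props.FinLocFree.isQCoh_of_isFinLocFree _ h₂
  haveI : S.X₃.IsQuasicoherent := H8Props.FinLocFree.isQCoh_of_isFinLocFree _ h₃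
  haveI := (H8Props.FinLocFree.finite_projective_sections _ h₃ U.2).2
  obtain ⟨s, hs⟩ := Module.projective_lifting_property (appL S.g U.1) LinearMap.id
    (H10Coh.surjective_app_of_epi S.g U.2)
  exact ⟨s, fun c => LinearMap.congr_fun hs c⟩

include hS in
/-- Maps killing the next wedge products do not depend on lifts along `g`. -/
theorem wv_section (a b i : ℕ) (h : a + b = i) {Q : X.Modules} (π : PE.obj i ⟶ Q)
    (hπ : ∀ b' (h' : a + 1 + b' = i), mu PA PE (a + 1) b' i h' ≫ π = 0) (U : X.affineOpens)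
    (s : Γ(S.X₃, U.1) →ₗ[Γ(X, U.1)] Γ(S.X₂, U.1)) (hs : ∀ c, appL S.g U.1 (s c) = c)
    (m : ↥(⋀[Γ(X, U.1)]^a Γ(S.X₁, U.1))) (n : ↥(⋀[Γ(X, U.1)]^b Γ(S.X₂, U.1))) :
    π.app U.1 (wv PE a b i h U m (map b s (map b (appL S.g U.1) n))) = π.app U.1 (wv PE a b i h U m n) := by
  refine map_section_eq (appL S.f U.1) (appL S.g U.1) s (exists_f_eq hS U.1) hs
    ((appL π U.1).comp (wv PE a b i h U m)) (fun b' hb v y => ?_) n
  show π.app U.1 _ = 0
  rw [wv_vec PE a b b' i h hb (by omega) U m v y, ← mu_app PA PE, ← app_comp_apply, hπ, app_zero_apply]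

/-- The diagonal component `Λⁱ S₂ ⟶ Λʲ S₂ ⊗ Λᵏ S₃` on sections. -/
def pv (j k i : ℕ) (h : j + k = i) (U : X.affineOpens) :
    ↥(⋀[Γ(X, U.1)]^i Γ(S.X₂, U.1)) →ₗ[Γ(X, U.1)] Γ(tensor (PE.obj j) (PC.obj k), U.1) :=
  (ExtPowSum.tauL (PE.φ j U) (PC.φ k U)).comp
    (alternatingMapLinearEquiv (N := ↥(⋀[Γ(X, U.1)]^j Γ(S.X₂, U.1)) ⊗[Γ(X, U.1)] ↥(⋀[Γ(X, U.1)]^k Γ(S.X₃, U.1)))
      (compAlt LinearMap.id (appL S.g U.1) j k i h))

theorem exists_psi (j k i : ℕ) (h : j + k = i) :
    ∃ ψ : PE.obj i ⟶ tensor (PE.obj j) (PC.obj k), ∀ (U : X.affineOpens) z,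
      ψ.app U.1 ((PE.φ i U).symm z) = pv PE PC j k i h U z := by
  obtain ⟨ψ, hψ⟩ := H17.AffHom.exists_hom (fun U => (pv PE PC j k i h U).comp (PE.φ i U).toLinearMap)
    fun U V hVU z => by
      obtain ⟨z, rfl⟩ := (PE.φ i U).symm.surjective z
      simp only [LinearMap.comp_apply, LinearEquiv.coe_coe, LinearEquiv.apply_symm_apply]
      induction z using ExtPowAlg.induction with
      | h0 => simp
      | hadd p q hp hq => simp only [map_add, hp, hq]
      | hsmul r p hp => simp only [map_smul, Scheme.Modules.map_smul, hp]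
      | hgen e =>
        rw [PE.nat, LinearEquiv.apply_symm_apply]
        simp only [pv, LinearMap.comp_apply, alternatingMapLinearEquiv_apply_ιMulti]
        refine (compAlt_map LinearMap.id (appL S.g U.1) LinearMap.id (appL S.g V.1) _ _ _ _
          (((tensor (PE.obj j) (PC.obj k)).presheaf.map (homOfLE hVU).op).hom.comp
            (ExtPowSum.tauL (PE.φ j U) (PC.φ k U)).toAddMonoidHom)
          (ExtPowSum.tauL (PE.φ j V) (PC.φ k V)).toAddMonoidHom
          (fun m => S.X₂.presheaf.map (homOfLE hVU).op m) (fun m => S.X₂.presheaf.map (homOfLE hVU).op m)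
          (fun c => S.X₃.presheaf.map (homOfLE hVU).op c) (fun m => rfl) (fun m => app_map S.g hVU m)
          (fun p q => ?_) e).symm
        show (tensor _ _).presheaf.map (homOfLE hVU).op (tensorSect U.1 _ _) = tensorSect V.1 _ _
        rw [← tensorSect_res]
        exact congrArg₂ (tensorSect V.1) (PE.nat j U V hVU p) (PC.nat k U V hVU q)
  exact ⟨ψ, fun U z => by rw [hψ]; simp⟩

theorem exists_incl (a : ℕ) :
    ∃ ι : PA.obj a ⟶ PE.obj a, ∀ (U : X.affineOpens) m,
      ι.app U.1 ((PA.φ a U).symm m) = (PE.φ a U).symm (map a (appL S.f U.1) m) := by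
  obtain ⟨ι, hι⟩ := H17.AffHom.exists_hom
    (fun U => ((PE.φ a U).symm.toLinearMap.comp (map a (appL S.f U.1))).comp (PA.φ a U).toLinearMap)
    fun U V hVU z => by
      obtain ⟨z, rfl⟩ := (PA.φ a U).symm.surjective z
      simp only [LinearMap.comp_apply, LinearEquiv.coe_coe, LinearEquiv.apply_symm_apply]
      induction z using ExtPowAlg.induction with
      | h0 => simp
      | hadd p q hp hq => simp only [map_add, hp, hq]
      | hsmul r p hp => simp only [map_smul, Scheme.Modules.map_smul, hp]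
      | hgen e =>
        rw [PA.nat, LinearEquiv.apply_symm_apply, map_apply_ιMulti, map_apply_ιMulti, PE.nat, app_comp_fun S.f hVU e]
  exact ⟨ι, fun U m => by rw [hι]; simp⟩

include hS h₃ h₂ in
theorem mono_incl (a : ℕ) (ι : PA.obj a ⟶ PE.obj a)
    (hι : ∀ (U : X.affineOpens) m, ι.app U.1 ((PA.φ a U).symm m) = (PE.φ a U).symm (map a (appL S.f U.1) m)) :
    Mono ι := by
  refine Preadditive.mono_of_cancel_zero _ fun {Z} g hg => H17.AffHom.hom_ext fun U z => ?_
  obtain ⟨s, hs⟩ := exists_section hS h₃ h₂ U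
  haveI := hS.mono_f
  have hinj : Function.Injective (appL S.f U.1) := H10Coh.injective_app_of_mono' S.f U.1
  let d : Γ(S.X₂, U.1) →ₗ[Γ(X, U.1)] Γ(S.X₂, U.1) := LinearMap.id - s.comp (appL S.g U.1)
  have hmem : ∀ m, d m ∈ LinearMap.range (appL S.f U.1) := fun m =>
    exists_f_eq hS U.1 _ (by simp [d, hs])
  let r : Γ(S.X₂, U.1) →ₗ[Γ(X, U.1)] Γ(S.X₁, U.1) :=
    (LinearEquiv.ofInjective (appL S.f U.1) hinj).symm.toLinearMap.comp
      (LinearMap.codRestrict (LinearMap.range (appL S.f U.1)) d hmem)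
  have hr : r ∘ₗ appL S.f U.1 = LinearMap.id := LinearMap.ext fun x => by
    show (LinearEquiv.ofInjective (appL S.f U.1) hinj).symm _ = x
    rw [LinearEquiv.symm_apply_eq]
    exact Subtype.ext (by simp [d, g_f hS])
  have h0 : ι.app U.1 (g.app U.1 z) = 0 := by rw [← app_comp_apply, hg, app_zero_apply]
  obtain ⟨m, hm⟩ := (PA.φ a U).symm.surjective (g.app U.1 z)
  rw [← hm, hι, LinearEquiv.map_eq_zero_iff] at h0
  rw [← hm, map_injective r hr (h0.trans (map_zero _).symm), map_zero, app_zero_apply]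

include hS h₃ h₂ in
/-- The graded piece. -/
theorem step (a b i : ℕ) (h : a + b = i) (hC : FlatMod.IsFinLocFree (PC.obj b)) {Src : X.Modules}
    (ν : Src ⟶ PE.obj i) (hν : ν ≫ cokernel.π (mu PA PE a b i h) = 0)
    (hνψ : ∀ ψ : PE.obj i ⟶ tensor (PE.obj a) (PC.obj b),
      (∀ (U : X.affineOpens) z, ψ.app U.1 ((PE.φ i U).symm z) = pv PE PC a b i h U z) → ν ≫ ψ = 0)
    (hνk : ∀ b' (h' : a + 1 + b' = i), mu PA PE (a + 1) b' i h' ≫ cokernel.π ν = 0) :
    ∃ (θ : tensor (PA.obj a) (PC.obj b) ⟶ cokernel ν) (p : cokernel ν ⟶ cokernel (mu PA PE a b i h)) (w : θ ≫ p = 0),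
      (ShortComplex.mk θ p w).ShortExact := by
  classical
  choose s hs using exists_section hS h₃ h₂
  let π : PE.obj i ⟶ cokernel ν := cokernel.π ν
  have key : ∀ (U : X.affineOpens) (m : ↥(⋀[Γ(X, U.1)]^a Γ(S.X₁, U.1))) (n : ↥(⋀[Γ(X, U.1)]^b Γ(S.X₂, U.1))),
      π.app U.1 (wv PE a b i h U m (map b (s U) (map b (appL S.g U.1) n))) = π.app U.1 (wv PE a b i h U m n) :=
    fun U => wv_section PA PE hS a b i h π hνk U (s U) (hs U)
  obtain ⟨θ, hθ0⟩ := exists_desc_ext (PA.φ a) (PC.φ b) (PA.nat a) (PC.nat b)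
    (fun U => ((wv PE a b i h U).compl₂ (map b (s U))).compr₂ (appL π U.1)) (fun U V hVU x y => by
      show π.app V.1 (wv PE a b i h V (ιMulti _ a fun j => S.X₁.presheaf.map (homOfLE hVU).op (x j))
          (map b (s V) (ιMulti _ b fun j => S.X₃.presheaf.map (homOfLE hVU).op (y j)))) =
        (cokernel ν).presheaf.map (homOfLE hVU).op (π.app U.1 (wv PE a b i h U (ιMulti _ a x) (map b (s U) (ιMulti _ b y))))
      have h1 : (ιMulti _ b fun j => S.X₃.presheaf.map (homOfLE hVU).op (y j)) =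
          map b (appL S.g V.1) (ιMulti _ b fun j => S.X₂.presheaf.map (homOfLE hVU).op (s U (y j))) := by
        rw [map_apply_ιMulti, app_comp_fun S.g hVU (fun j => s U (y j))]
        congr 1
        funext j
        exact congrArg _ (hs U (y j)).symm
      rw [h1, key V, map_apply_ιMulti, Function.comp_def, wv_res PE a b i h U V hVU x, app_map])
  have hθ : ∀ (U : X.affineOpens) m n, θ.app U.1 (tensorSect U.1 ((PA.φ a U).symm m) ((PC.φ b U).symm n)) =
      π.app U.1 (wv PE a b i h U m (map b (s U) n)) := fun U m n => hθ0 U m n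
  have hp : π ≫ cokernel.desc ν (cokernel.π (mu PA PE a b i h)) hν = cokernel.π (mu PA PE a b i h) :=
    cokernel.π_desc _ _ _
  let p : cokernel ν ⟶ cokernel (mu PA PE a b i h) := cokernel.desc ν (cokernel.π (mu PA PE a b i h)) hν
  have hθp : θ ≫ p = 0 := by
    refine ext_gen (PA.φ a) (PC.φ b) fun U x y => ?_
    rw [app_comp_apply, hθ, app_zero_apply]
    show p.app U.1 (π.app U.1 _) = 0
    rw [← app_comp_apply, hp, ← mu_app PA PE, ← app_comp_apply, cokernel.condition, app_zero_apply]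
  refine ⟨θ, p, hθp, ?_⟩
  obtain ⟨ψ, hψ⟩ := exists_psi PE PC a b i h
  obtain ⟨ι, hι⟩ := exists_incl PA PE a
  haveI : Mono ι := mono_incl PA PE hS h₃ h₂ a ι hι
  let m₀ := ((DCoh.tensorBi (X := X)).map ι).app (PC.obj b)
  haveI : Mono m₀ := by
    have hmk : (ShortComplex.mk ι (cokernel.π ι) (cokernel.condition ι)).ShortExact :=
      { exact := ShortComplex.exact_of_g_is_cokernel _ (cokernelIsCokernel ι) }
    exact ((isFlat_iff_isFlatObj (PC.obj b)).1 (isFlat_of_isFinLocFree hC) _ hmk).mono_f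
  have hθψ : θ ≫ cokernel.desc ν ψ (hνψ ψ hψ) = m₀ := by
    refine ext_gen (PA.φ a) (PC.φ b) fun U x y => ?_
    rw [app_comp_apply, hθ]
    show (cokernel.desc ν ψ _).app U.1 (π.app U.1 (wv PE a b i h U (ιMulti _ a x) (map b (s U) (ιMulti _ b y)))) = _
    rw [← app_comp_apply, cokernel.π_desc, map_apply_ιMulti, wv_apply, hψ]
    simp only [pv, LinearMap.comp_apply, alternatingMapLinearEquiv_apply_ιMulti]
    rw [compAlt_app _ _ (g_f hS U.1), ExtPowSum.tauL_tmul]
    refine Eq.trans ?_ (ExtPowSES.map_app_tensorSect ι U.1 _ _).symm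
    rw [hι, map_apply_ιMulti]
    congr 3
    funext j
    exact hs U (y j)
  haveI : Mono θ := mono_of_mono_fac hθψ
  haveI : Epi p := epi_of_epi_fac hp
  refine ⟨ShortComplex.exact_of_g_is_cokernel _ (CokernelCofork.IsColimit.ofπ _ _
    (fun {W} k hk => cokernel.desc (mu PA PE a b i h) (π ≫ k) ?_)
    (fun {W} k hk => by rw [← cancel_epi π, ← Category.assoc, hp, cokernel.π_desc])
    (fun {W} k hk m hm => by
      rw [← cancel_epi (cokernel.π (mu PA PE a b i h)), cokernel.π_desc, ← hm, ← Category.assoc, hp]))⟩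
  refine ext_gen (PA.φ a) (PE.φ b) fun U x y => ?_
  rw [app_comp_apply, mu_app, app_comp_apply, ← key U, map_apply_ιMulti, app_zero_apply]
  have h2 := hθ U (ιMulti _ a x) (ιMulti _ b (appL S.g U.1 ∘ y))
  rw [← h2, ← app_comp_apply, hk, app_zero_apply]

theorem mu_succ (a b b' i : ℕ) (h : a + b = i) (h' : a + 1 + b' = i) :
    mu PA PE (a + 1) b' i h' ≫ cokernel.π (mu PA PE a b i h) = 0 := by
  refine ext_gen (PA.φ (a + 1)) (PE.φ b') fun U x y => ?_
  rw [app_comp_apply, mu_app, app_zero_apply]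
  have hx : (ιMulti Γ(X, U.1) (a + 1) x : ↥(⋀[Γ(X, U.1)]^(a + 1) Γ(S.X₁, U.1))) =
      wprod a 1 (a + 1) rfl (ιMulti _ a (x ∘ Fin.castSucc)) (vec (x (Fin.last a))) := by
    rw [vec, wprod_ιMulti]
    congr 1
    funext t
    induction t using Fin.lastCases with
    | last => exact (Fin.append_right (x ∘ Fin.castSucc) (fun _ => x (Fin.last a)) (0 : Fin 1)).symm
    | cast t => exact (Fin.append_left (x ∘ Fin.castSucc) (fun _ : Fin 1 => x (Fin.last a)) t).symm
  rw [hx, ← wv_vec PE a b b' i h (by omega) h' U, ← mu_app PA PE, ← app_comp_apply, cokernel.condition,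
    app_zero_apply]

include hS in
theorem mu_psi (a b b' i : ℕ) (h : a + b = i) (h' : a + 1 + b' = i)
    (ψ : PE.obj i ⟶ tensor (PE.obj a) (PC.obj b))
    (hψ : ∀ (U : X.affineOpens) z, ψ.app U.1 ((PE.φ i U).symm z) = pv PE PC a b i h U z) :
    mu PA PE (a + 1) b' i h' ≫ ψ = 0 := by
  refine ext_gen (PA.φ (a + 1)) (PE.φ b') fun U x y => ?_
  rw [app_comp_apply, mu_app, wv_apply, hψ, app_zero_apply]
  simp only [pv, LinearMap.comp_apply, alternatingMapLinearEquiv_apply_ιMulti]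
  rw [compAlt_app_of_lt _ _ (g_f hS U.1) h' h (Nat.lt_succ_self a), map_zero]

theorem epi_mu_zero (i : ℕ) : Epi (mu PA PE 0 i i (Nat.zero_add i)) := by
  refine Preadditive.epi_of_cancel_zero _ fun {Z} g hg => H17.AffHom.hom_ext fun U z => ?_
  obtain ⟨z, rfl⟩ := (PE.φ i U).symm.surjective z
  rw [app_zero_apply]
  induction z using ExtPowAlg.induction with
  | h0 => simp
  | hadd p q hp hq => simp only [map_add, hp, hq, add_zero]
  | hsmul r p hp => rw [map_smul, Scheme.Modules.Hom.app_smul, hp, smul_zero]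
  | hgen e =>
    have h1 := (app_comp_apply (mu PA PE 0 i i (Nat.zero_add i)) g U.1
      (tensorSect U.1 ((PA.φ 0 U).symm (ιMulti _ 0 Fin.elim0)) ((PE.φ i U).symm (ιMulti _ i e)))).symm
    rw [hg, app_zero_apply, mu_app, wv_apply] at h1
    refine Eq.trans (congrArg (fun v => g.app U.1 ((PE.φ i U).symm (ιMulti _ i v))) ?_) h1
    funext t
    simp only [app, Function.comp_apply]
    rw [show Fin.cast (Nat.zero_add i).symm t = Fin.natAdd 0 t from Fin.ext (Nat.zero_add _).symm,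
      Fin.append_right]

include hS h₂ h₃ in
/-- `[Λⁱ S₂] = ∑ [Λʲ S₁ ⊗ Λ^{i-j} S₃]`. -/
theorem cl_pow (h₁ : FlatMod.IsFinLocFree S.X₁) (i : ℕ) :
    KRR.cl X (PE.obj i) = ∑ j ∈ Finset.range (i + 1), KRR.cl X (tensor (PA.obj j) (PC.obj (i - j))) := by
  have hA := fun j => ExtPowHom.finLocFree_of_isExtPow h₁ (PA.isExtPow j)
  have hC := fun j => ExtPowHom.finLocFree_of_isExtPow h₃ (PC.isExtPow j)
  have hT : ∀ j k, FlatMod.IsFinLocFree (tensor (PA.obj j) (PC.obj k)) := fun j k =>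
    isFinLocFree_tensor (hA j) (hC k)
  have main : ∀ (a : ℕ) (h : a + (i - a) = i), FlatMod.IsFinLocFree (cokernel (mu PA PE a (i - a) i h)) ∧
      KRR.cl X (cokernel (mu PA PE a (i - a) i h)) =
        ∑ j ∈ Finset.range a, KRR.cl X (tensor (PA.obj j) (PC.obj (i - j))) := by
    intro a
    induction a with
    | zero =>
      intro h
      haveI : Epi (mu PA PE 0 (i - 0) i h) := epi_mu_zero PA PE i
      have hz : IsZero (cokernel (mu PA PE 0 (i - 0) i h)) := isZero_cokernel_of_epi _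
      exact ⟨KModel.finLocFree_zero hz, by rw [KModel.cl_isZero hz, Finset.sum_range_zero]⟩
    | succ a ih =>
      intro h
      have ha : a + (i - a) = i := by omega
      obtain ⟨hQ, hcl⟩ := ih ha
      obtain ⟨θ, p, w, hex⟩ := step PA PE PC hS h₃ h₂ a (i - a) i ha (hC _) (mu PA PE (a + 1) (i - (a + 1)) i h)
        (mu_succ PA PE a (i - a) _ i ha h) (fun ψ hψ => mu_psi PA PE PC hS a (i - a) _ i ha h ψ hψ)
        (fun b' h' => by
          obtain rfl : b' = i - (a + 1) := by omega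
          exact cokernel.condition _)
      have hF := finLocFree_mid hex (hT a (i - a)) hQ
      exact ⟨hF, by rw [KModel.cl_add hex (hT a (i - a)) hF hQ, hcl, Finset.sum_range_succ, add_comm]⟩
  obtain ⟨hQ, hcl⟩ := main i (by omega)
  obtain ⟨θ, p, w, hex⟩ := step PA PE PC hS h₃ h₂ i (i - i) i (by omega) (hC _) (0 : PE.obj i ⟶ PE.obj i)
    zero_comp (fun ψ _ => zero_comp) (fun b' h' => absurd h' (by omega))
  have hF := finLocFree_mid hex (hT i (i - i)) hQ
  rw [Finset.sum_range_succ, ← hcl, add_comm, ← KModel.cl_add hex (hT i (i - i)) hF hQ]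
  exact KModel.cl_iso cokernelZeroIsoTarget.symm (ExtPowHom.finLocFree_of_isExtPow h₂ (PE.isExtPow i))

end Exact

/-- The class of an exterior power of an extension of bundles. -/
theorem cl_extPow_shortExact {S : ShortComplex X.Modules} (hS : S.ShortExact) (h₁ : FlatMod.IsFinLocFree S.X₁)
    (h₂ : FlatMod.IsFinLocFree S.X₂) (h₃ : FlatMod.IsFinLocFree S.X₃)
    {i : ℕ} {L : X.Modules} (hL : ExtPow.IsExtPow i S.X₂ L) (LA LC : ℕ → X.Modules)
    (hLA : ∀ j, ExtPow.IsExtPow j S.X₁ (LA j)) (hLC : ∀ j, ExtPow.IsExtPow j S.X₃ (LC j)) :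
    KRR.cl X L = ∑ j ∈ Finset.range (i + 1), KRR.cl X (tensor (LA j) (LC (i - j))) := by
  obtain ⟨PA, rfl⟩ := exists_pow LA hLA
  obtain ⟨PC, rfl⟩ := exists_pow LC hLC
  choose LE hLE using fun j => ExtPowSheaf.exists_isExtPow j (H8Props.FinLocFree.isQCoh_of_isFinLocFree _ h₂)
  obtain ⟨PE, rfl⟩ := exists_pow LE hLE
  obtain ⟨e⟩ := ExtPowHom.nonempty_iso hL (PE.isExtPow i)
  rw [KModel.cl_iso e (ExtPowHom.finLocFree_of_isExtPow h₂ hL)]
  exact cl_pow PA PE PC hS h₃ h₂ h₁ i

end Groth.Agent.H16Derived.ExtSES
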