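import Groth.Agent.H22Alg.ExtPowSumAlg
import Groth.Agent.H22Alg.ExtPowAlg

/-! # Wedge products and exterior powers of split surjections -/

set_option autoImplicit false
set_option linter.style.haveILetI false

universe u v

open TensorProduct exteriorPower
open scoped TensorProduct

noncomputable section

namespace Groth.Agent.H16Derived.ExtSESAlg

open Groth.Agent.H22Alg.ExtPowSumAlg Groth.Agent.H22Alg.ExtPowAlg

variable {R : Type u} [CommRing R] {M A C : Type u} [AddCommGroup M] [Module R M] [AddCommGroup A] [Module R A]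
  [AddCommGroup C] [Module R C]

/-- The wedge product. -/
def wprod (a b n : ℕ) (h : a + b = n) : ↥(⋀[R]^a M) →ₗ[R] ↥(⋀[R]^b M) →ₗ[R] ↥(⋀[R]^n M) :=
  LinearMap.mk₂ R (fun x y => ⟨x.1 * y.1, h ▸ SetLike.mul_mem_graded x.2 y.2⟩)
    (fun _ _ _ => Subtype.ext (add_mul _ _ _)) (fun _ _ _ => Subtype.ext (smul_mul_assoc _ _ _))
    (fun _ _ _ => Subtype.ext (mul_add _ _ _)) (fun _ _ _ => Subtype.ext (mul_smul_comm _ _ _))

theorem wprod_coe (a b n : ℕ) (h : a + b = n) (x : ↥(⋀[R]^a M)) (y : ↥(⋀[R]^b M)) :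
    (wprod a b n h x y : ExteriorAlgebra R M) = x.1 * y.1 := rfl

/-- Juxtaposition of families. -/
def app (a b n : ℕ) (h : a + b = n) {N : Type v} (x : Fin a → N) (y : Fin b → N) : Fin n → N :=
  Fin.append x y ∘ Fin.cast h.symm

theorem wprod_ιMulti (a b n : ℕ) (h : a + b = n) (x : Fin a → M) (y : Fin b → M) :
    wprod a b n h (ιMulti R a x) (ιMulti R b y) = ιMulti R n (app a b n h x y) := by
  subst h
  refine Subtype.ext ?_
  rw [wprod_coe, ιMulti_apply_coe, ιMulti_apply_coe, ιMulti_apply_coe, ExteriorAlgebra.ιMulti_apply,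
    ExteriorAlgebra.ιMulti_apply, ExteriorAlgebra.ιMulti_apply, ← List.prod_append, ← List.ofFn_fin_append]
  congr 2
  funext t
  show Fin.append _ _ t = ExteriorAlgebra.ι R (Fin.append x y t)
  induction t using Fin.addCases <;> simp

/-- A single vector in the first exterior power. -/
def vec (x : M) : ↥(⋀[R]^1 M) := ιMulti R 1 (fun _ => x)

theorem vec_coe (x : M) : (vec (R := R) x : ExteriorAlgebra R M) = ExteriorAlgebra.ι R x := by
  rw [vec, ιMulti_apply_coe, ExteriorAlgebra.ιMulti_apply]
  simp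

theorem ιMulti_cons (n : ℕ) (v : Fin (n + 1) → M) :
    (ιMulti R (n + 1) v : ↥(⋀[R]^(n + 1) M)) = wprod 1 n (n + 1) (by omega) (vec (v 0)) (ιMulti R n (v ∘ Fin.succ)) := by
  refine Subtype.ext ?_
  rw [wprod_coe, vec_coe, ιMulti_apply_coe, ιMulti_apply_coe, ExteriorAlgebra.ιMulti_succ_apply]
  rfl

variable (f : A →ₗ[R] M) (g : M →ₗ[R] C) (s : C →ₗ[R] M)

/-- Lifts of an element along a split surjection differ by products with the kernel. -/
theorem map_section_eq {b : ℕ} (hker : ∀ m, g m = 0 → ∃ x, f x = m) (hs : ∀ c, g (s c) = c)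
    {G : Type v} [AddCommGroup G] [Module R G] (D : ↥(⋀[R]^b M) →ₗ[R] G)
    (hD : ∀ (b' : ℕ) (hb : 1 + b' = b) (x : A) (y : ↥(⋀[R]^b' M)), D (wprod 1 b' b hb (vec (f x)) y) = 0)
    (n : ↥(⋀[R]^b M)) : D (map b s (map b g n)) = D n := by
  revert G
  induction b with
  | zero =>
    intro G _ _ D _
    induction n using induction with
    | hgen e =>
      rw [map_apply_ιMulti, map_apply_ιMulti]
      exact congrArg D (congrArg _ (funext fun t => Fin.elim0 t))
    | h0 => simp
    | hadd x y hx hy => simp [hx, hy]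
    | hsmul r x hx => simp [hx]
  | succ b ih =>
    intro G _ _ D hD
    induction n using induction with
    | h0 => simp
    | hadd x y hx hy => simp [hx, hy]
    | hsmul r x hx => simp [hx]
    | hgen e =>
      rw [map_apply_ιMulti, map_apply_ιMulti, ιMulti_cons b e, ιMulti_cons b (s ∘ g ∘ e)]
      have h1 := ih (ιMulti R b (e ∘ Fin.succ))
        (D ∘ₗ wprod 1 b (b + 1) (by omega) (vec (e 0))) (fun b' hb x y => by
          have h2 := hD b (by omega) x (wprod 1 b' b hb (vec (e 0)) y)
          show D _ = 0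
          refine Eq.trans (congrArg D (Subtype.ext ?_)) ((map_neg D _).trans (by rw [h2, neg_zero]))
          show _ * (_ * _) = -(_ * (_ * _))
          rw [← mul_assoc, ← mul_assoc, vec_coe, vec_coe, ← neg_mul,
            eq_neg_of_add_eq_zero_left (ExteriorAlgebra.ι_add_mul_swap (R := R) (e 0) (f x))])
      rw [map_apply_ιMulti, map_apply_ιMulti] at h1
      show D (wprod 1 b (b + 1) _ (vec (s (g (e 0)))) (ιMulti R b (s ∘ g ∘ (e ∘ Fin.succ)))) = _
      obtain ⟨x, hx⟩ := hker (s (g (e 0)) - e 0) (by rw [map_sub, hs, sub_self])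
      have h3 := hD b (by omega) x (ιMulti R b (s ∘ g ∘ (e ∘ Fin.succ)))
      have hv : vec (R := R) (f x) = vec (s (g (e 0))) - vec (e 0) := Subtype.ext (by
        rw [Submodule.coe_sub, vec_coe, vec_coe, vec_coe, hx, map_sub])
      rw [hv, map_sub, LinearMap.sub_apply, map_sub, sub_eq_zero] at h3
      exact h3.trans h1

/-- The component vanishes when too many vectors come from the kernel. -/
theorem compAlt_app_of_lt (hgf : ∀ x, g (f x) = 0) {a b j k i : ℕ} (h : a + b = i) (h' : j + k = i) (hlt : j < a)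
    (x : Fin a → A) (y : Fin b → M) :
    compAlt LinearMap.id g j k i h' (app a b i h (f ∘ x) y) = 0 := by
  classical
  rw [compAlt_apply]
  refine Finset.sum_eq_zero fun σ _ => ?_
  induction σ using Quotient.inductionOn' with
  | _ σ =>
    rw [summand_mk]
    let e : Fin j ⊕ Fin k ≃ Fin a ⊕ Fin b :=
      σ.trans ((finSumFinEquiv.trans (finCongr h')).trans (finSumFinEquiv.trans (finCongr h)).symm)
    have happ : ∀ z, app a b i h (f ∘ x) y ((finSumFinEquiv.trans (finCongr h')) (σ z)) =
        Sum.elim (f ∘ x) y (e z) := fun z => by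
      have h1 : (finSumFinEquiv.trans (finCongr h')) (σ z) = (finSumFinEquiv.trans (finCongr h)) (e z) := by
        simp [e]
      rw [h1]
      rcases e z with t | t <;> simp [app]
    suffices hz : ∃ t, Sum.isLeft (e (Sum.inr t)) by
      obtain ⟨t, ht⟩ := hz
      obtain ⟨t', ht'⟩ := Sum.isLeft_iff.1 ht
      have h0 : g ((app a b i h (f ∘ x) y ∘ ⇑(finSumFinEquiv.trans (finCongr h'))) (σ (Sum.inr t))) = 0 := by
        rw [Function.comp_apply, happ, ht']; exact hgf _
      rw [(ιMulti R k).map_coord_zero t h0, tmul_zero, smul_zero]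
    by_contra hc
    simp only [not_exists] at hc
    have hl : ∀ t, ∃ t', e.symm (Sum.inl t) = Sum.inl t' := fun t => by
      rcases he : e.symm (Sum.inl t) with u | u
      · exact ⟨u, rfl⟩
      · exact absurd (by rw [← he, Equiv.apply_symm_apply]; rfl) (hc u)
    choose fl hfl using hl
    have := Fintype.card_le_of_injective fl fun t t' htt =>
      Sum.inl_injective (e.symm.injective (by rw [hfl, hfl, htt]))
    simp only [Fintype.card_fin] at this
    omega

/-- The diagonal component. -/
theorem compAlt_app (hgf : ∀ x, g (f x) = 0) {a b i : ℕ} (h : a + b = i) (x : Fin a → A) (y : Fin b → M) :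
    compAlt LinearMap.id g a b i h (app a b i h (f ∘ x) y) =
      ιMulti R a (f ∘ x) ⊗ₜ ιMulti R b (g ∘ y) := by
  classical
  rw [compAlt_apply]
  have happ : ∀ z, app a b i h (f ∘ x) y ((finSumFinEquiv.trans (finCongr h)) z) = Sum.elim (f ∘ x) y z := fun z => by
    rcases z with t | t <;> simp [app]
  refine (Finset.sum_eq_single (Quotient.mk'' (1 : Equiv.Perm (Fin a ⊕ Fin b))) ?_ ?_).trans ?_
  · intro σ _ hσ
    induction σ using Quotient.inductionOn' with
    | _ σ =>
      rw [summand_mk]
      by_cases hz : ∃ t, Sum.isLeft (σ (Sum.inr t))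
      · obtain ⟨t, ht⟩ := hz
        obtain ⟨t', ht'⟩ := Sum.isLeft_iff.1 ht
        have h0 : g ((app a b i h (f ∘ x) y ∘ ⇑(finSumFinEquiv.trans (finCongr h))) (σ (Sum.inr t))) = 0 := by
          rw [Function.comp_apply, happ, ht']; exact hgf _
        rw [(ιMulti R b).map_coord_zero t h0, tmul_zero, smul_zero]
      · refine absurd ?_ hσ
        simp only [not_exists] at hz
        have hl : Set.MapsTo σ.symm (Set.range Sum.inl) (Set.range Sum.inl) := by
          rintro _ ⟨t, rfl⟩
          rcases he : σ.symm (Sum.inl t) with u | u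
          · exact ⟨u, rfl⟩
          · exact absurd (by rw [← he, Equiv.apply_symm_apply]; rfl) (hz u)
        obtain ⟨⟨sl, sr⟩, hs⟩ := Equiv.Perm.mem_sumCongrHom_range_of_perm_mapsTo_inl hl
        refine Quotient.sound' (QuotientGroup.leftRel_apply.2 ?_)
        rw [mul_one]
        exact ⟨(sl, sr), hs⟩
  · exact fun hn => absurd (Finset.mem_univ _) hn
  · rw [summand_mk, map_one, one_smul]
    simp only [Function.comp_apply, Equiv.Perm.one_apply, happ, Sum.elim_inl, Sum.elim_inr, LinearMap.id_coe, id_eq]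
    rfl

end Groth.Agent.H16Derived.ExtSESAlg
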