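import Groth.Agent.H16Derived.NoethObj
import Mathlib.CategoryTheory.Abelian.GrothendieckCategory.Basic
import Mathlib.CategoryTheory.Abelian.GrothendieckAxioms.Colim
import Mathlib.CategoryTheory.Abelian.FunctorCategory
import Mathlib.CategoryTheory.Limits.Preserves.Filtered
import Mathlib.CategoryTheory.Adjunction.Limits
import Mathlib.CategoryTheory.Adjunction.Additive
import Mathlib.CategoryTheory.Limits.Preserves.Shapes.Kernels
import Mathlib.Algebra.Homology.ShortComplex.ExactFunctor
import Mathlib.Data.Fintype.Card
import Mathlib.CategoryTheory.Functor.ReflectsIso.Balanced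

/-!
# Generators along a faithful exact left adjoint whose right adjoint preserves filtered colimits
-/

universe w u₁ u₂

open CategoryTheory CategoryTheory.Limits

namespace Groth.Agent.H16Derived.FaithfulGen

set_option linter.unusedSectionVars false

open SubLattice NoethObj

attribute [local instance] IsFiltered.isConnected

variable {A : Type u₁} [Category.{w} A] [Abelian A] [HasColimitsOfSize.{w, w} A]
  {B : Type u₂} [Category.{w} B] [Abelian B]
  (F : A ⥤ B)

section

variable [F.Additive] [F.Faithful] [PreservesFiniteLimits F] [PreservesFiniteColimits F]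
  {G : B ⥤ A} (adj : F ⊣ G)

include adj in
lemma ab5 [HasColimitsOfSize.{w, w} B] [AB5OfSize.{w, w} B] : AB5OfSize.{w, w} A := by
  have : ReflectsFiniteLimits F :=
    reflectsFiniteLimits_of_reflectsIsomorphisms F
  refine ⟨fun J _ _ => ?_⟩
  have : PreservesColimitsOfShape J F := adj.leftAdjoint_preservesColimits.preservesColimitsOfShape
  exact HasExactColimitsOfShape.domain_of_functor J F

/-- Subobjects of `a` inject into subobjects of `F a`. -/
lemma map_mk_le_iff {a : A} (U V : Subobject a) :
    Subobject.mk (F.map U.arrow) ≤ Subobject.mk (F.map V.arrow) ↔ U ≤ V := by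
  constructor
  · intro h
    have h1 : F.map U.arrow = Subobject.ofMkLEMk _ _ h ≫ F.map V.arrow :=
      (Subobject.ofMkLEMk_comp h).symm
    have h2 : F.map (U.arrow ≫ cokernel.π V.arrow) = 0 := by
      rw [F.map_comp, h1, Category.assoc, ← F.map_comp, cokernel.condition, F.map_zero, comp_zero]
    have h3 : V.Factors U.arrow := (factors_iff_comp_eq_zero V _).2 (F.map_eq_zero_iff.1 h2)
    exact Subobject.le_of_comm (V.factorThru _ h3) (Subobject.factorThru_arrow _ _ _)
  · intro h
    exact Subobject.mk_le_mk_of_comm (F.map (Subobject.ofLE U V h))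
      (by rw [← F.map_comp, Subobject.ofLE_arrow])

include F in
lemma isNoetherianObject_of_map (a : A) [IsNoetherianObject (F.obj a)] : IsNoetherianObject a := by
  rw [isNoetherianObject_iff_not_strictMono]
  intro s hs
  refine not_strictMono_of_isNoetherianObject
    (fun n => Subobject.mk (F.map (s n).arrow)) fun m n hmn => ?_
  rw [lt_iff_le_not_ge, map_mk_le_iff, map_mk_le_iff]
  exact lt_iff_le_not_ge.1 (hs hmn)

include F in
lemma wellPowered [WellPowered.{w} B] : WellPowered.{w} A where
  subobject_small a := small_of_injective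
    (f := fun U : Subobject a => Subobject.mk (F.map U.arrow)) fun U V h =>
      le_antisymm ((map_mk_le_iff F U V).1 h.le) ((map_mk_le_iff F V U).1 h.ge)

end

variable [HasColimitsOfSize.{w, w} B] {G : B ⥤ A} (adj : F ⊣ G) {ι : Type w} (s : ι → B)

/-- The index type: finite families of elements. -/
abbrev Idx (a : A) : Type w := Finset (Σ i, s i ⟶ F.obj a)

variable {a : A}

/-- The `k`-th generator in a finite family. -/
noncomputable abbrev gen (j : Idx F s a) (k : Fin j.card) : B := s (j.equivFin.symm k).1.1

/-- The subobject generated by a finite family. -/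
noncomputable abbrev b (j : Idx F s a) : Subobject (F.obj a) :=
  imageSubobject (Sigma.desc fun k : Fin j.card => ((j.equivFin.symm k).1.2 : gen F s j k ⟶ F.obj a))

lemma factors_b (j : Idx F s a) (x : Σ i, s i ⟶ F.obj a) (hx : x ∈ j) : (b F s j).Factors x.2 := by
  have key : ∀ y : j, (b F s j).Factors y.1.2 := by
    intro y
    obtain ⟨k, rfl⟩ := j.equivFin.symm.surjective y
    rw [imageSubobject_factors_iff]
    exact ⟨_, 𝟙 _, inferInstance, Sigma.ι (gen F s j) k, by simp⟩
  exact key ⟨x, hx⟩

lemma b_mono : Monotone (b F s (a := a)) := fun j j' hjj' =>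
  imageSubobject_le _
    (Sigma.desc fun k : Fin j.card => (b F s j').factorThru _
      (factors_b F s j' _ (hjj' (j.equivFin.symm k).2)))
    (Sigma.hom_ext _ _ fun k => by simp)

lemma b_isNoetherianObject (hsN : ∀ i, IsNoetherianObject (s i)) (j : Idx F s a) :
    IsNoetherianObject ((b F s j : Subobject (F.obj a)) : B) :=
  have : ∀ k, IsNoetherianObject (gen F s j k) := fun _ => hsN _
  image_sigma_isNoetherianObject _ _

/-- The finitely generated subobjects, as a functor. -/
noncomputable abbrev bF : Idx F s a ⥤ B := (b_mono F s).functor ⋙ Subobject.underlying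

/-- The inclusion. -/
noncomputable abbrev bι : bF F s (a := a) ⟶ (Functor.const (Idx F s a)).obj (F.obj a) where
  app j := (b F s j).arrow
  naturality j j' f := by
    simp only [Functor.comp_map, Functor.const_obj_map]
    erw [Category.comp_id]
    exact Subobject.underlying_arrow ((b_mono F s).functor.map f)

/-- The cocone with point `G (F a)`. -/
noncomputable abbrev gι : bF F s (a := a) ⋙ G ⟶ (Functor.const (Idx F s a)).obj (G.obj (F.obj a))
    where
  app j := G.map (b F s j).arrow
  naturality j j' f := by
    simp only [Functor.comp_map, Functor.const_obj_map, ← G.map_comp]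
    erw [Category.comp_id]
    exact congrArg G.map (Subobject.underlying_arrow ((b_mono F s).functor.map f))

/-- The obstruction map. -/
noncomputable abbrev q :
    (Functor.const (Idx F s a)).obj a ⟶ cokernel (gι F s (G := G)) :=
  (Functor.const _).map (adj.unit.app a) ≫ cokernel.π _

section

variable [AB5OfSize.{w, w} B]
  (hsep : ∀ ⦃X Y : B⦄ (f g : X ⟶ Y), (∀ (i : ι) (h : s i ⟶ X), h ≫ f = h ≫ g) → f = g)

include hsep in
lemma isColimit_b : Nonempty (IsColimit (Cocone.mk (F.obj a) (bι F s (a := a)))) := by
  have : ∀ j, Mono ((bι F s (a := a)).app j) := fun j => inferInstanceAs (Mono (b F s j).arrow)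
  have := NatTrans.mono_of_mono_app (bι F s (a := a))
  let f := colimit.desc _ (Cocone.mk (F.obj a) (bι F s (a := a)))
  have : Mono f := colim.map_mono' (bι F s) (colimit.isColimit _)
    (isColimitConstCocone _ _) f (fun j => (colimit.ι_desc _ _).trans (Category.comp_id _).symm)
  have : Epi f := by
    refine Preadditive.epi_of_cokernel_zero (hsep _ _ fun i h => ?_)
    rw [comp_zero]
    have hf := factors_b F s {⟨i, h⟩} ⟨i, h⟩ (Finset.mem_singleton_self _)
    rw [← Subobject.factorThru_arrow _ h hf, Category.assoc]
    have e : (b F s ({⟨i, h⟩} : Idx F s a)).arrow =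
        colimit.ι (bF F s) ({⟨i, h⟩} : Idx F s a) ≫ f := (colimit.ι_desc (Cocone.mk (F.obj a) (bι F s (a := a))) _).symm
    exact (congrArg (_ ≫ ·) ((congrArg (· ≫ cokernel.π f) e).trans ((Category.assoc _ _ _).trans
      ((congrArg (_ ≫ ·) (cokernel.condition f)).trans comp_zero)))).trans comp_zero
  have : IsIso f := isIso_of_mono_of_epi f
  have : IsIso ((colimit.isColimit (bF F s (a := a))).desc (Cocone.mk (F.obj a) (bι F s))) :=
    inferInstanceAs (IsIso f)
  exact ⟨IsColimit.ofPointIso (colimit.isColimit _)⟩

variable [F.Additive] [F.Faithful] [PreservesFiniteLimits F] [PreservesFiniteColimits F]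
  [PreservesFilteredColimitsOfSize.{w, w} G]

include hsep in
/-- The parts of `a` lying over finitely generated subobjects of `F a` exhaust `a`. -/
lemma eq_zero_of_forall {Z : A} (φ : a ⟶ Z)
    (h : ∀ j, (kernel.ι (q F adj s)).app j ≫ φ = 0) : φ = 0 := by
  have := ab5 F adj
  have : G.Additive := adj.right_adjoint_additive
  obtain ⟨hc⟩ := isColimit_b F s (a := a) hsep
  have hq : colim.map (q F adj s (a := a)) = 0 := by
    refine colimit.hom_ext fun j => ?_
    rw [colim_map, ι_colimMap, comp_zero, NatTrans.comp_app, Category.assoc]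
    suffices hj : (cokernel.π (gι F s (G := G) (a := a))).app j ≫ colimit.ι _ j = 0 by
      rw [hj, comp_zero]
    refine (isColimitOfPreserves G hc).hom_ext fun k => ?_
    rw [comp_zero]
    let l : Idx F s a := IsFiltered.max j k
    have hnat : ∀ {i l : Idx F s a} (_ : i ⟶ l),
        (cokernel.π (gι F s (G := G) (a := a))).app i ≫ colimit.ι _ i =
          (cokernel.π (gι F s (G := G) (a := a))).app l ≫ colimit.ι _ l := by
      intro i l t
      rw [← colimit.w _ t, ← Category.assoc, ← NatTrans.naturality, Category.assoc]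
      exact Category.id_comp _
    rw [hnat (IsFiltered.leftToMax j k), ← hnat (IsFiltered.rightToMax j k)]
    have h1 := congrArg (fun α => α.app k) (cokernel.condition (gι F s (G := G) (a := a)))
    simp only [NatTrans.comp_app, Limits.zero_app] at h1
    exact (Category.assoc _ _ _).symm.trans ((congrArg (· ≫ colimit.ι _ k) h1).trans zero_comp)
  have hex := (ShortComplex.exact_kernel (q F adj s (a := a))).map
    (colim : (Idx F s a ⥤ A) ⥤ A)
  have : Epi (colim.map (kernel.ι (q F adj s (a := a)))) := hex.epi_f hq
  have h0 : colim.map ((Functor.const (Idx F s a)).map φ) = 0 := by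
    rw [← cancel_epi (colim.map (kernel.ι (q F adj s (a := a)))), ← colim.map_comp, comp_zero]
    have : kernel.ι (q F adj s (a := a)) ≫ (Functor.const (Idx F s a)).map φ = 0 := by
      ext j
      exact h j
    rw [this, Functor.map_zero]
  have := congrArg (fun α => colimit.ι ((Functor.const (Idx F s a)).obj a) (∅ : Idx F s a) ≫ α ≫
    colimit.desc ((Functor.const (Idx F s a)).obj Z) (constCocone _ Z)) h0
  simp at this
  exact (Category.comp_id φ).symm.trans this

/-- The component at `j`. -/
noncomputable abbrev K (j : Idx F s a) : A := (kernel (q F adj s (a := a))).obj j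

/-- Its inclusion in `a`. -/
noncomputable abbrev k (j : Idx F s a) : K F adj s j ⟶ a := (kernel.ι (q F adj s (a := a))).app j

instance (j : Idx F s a) : Mono (k F adj s j) :=
  inferInstanceAs (Mono (((evaluation (Idx F s a) A).obj j).map (kernel.ι (q F adj s (a := a)))))

include adj in
lemma exists_lift (j : Idx F s a) :
    ∃ (w : K F adj s j ⟶ G.obj ((b F s j : Subobject (F.obj a)) : B))
      (v : F.obj (K F adj s j) ⟶ ((b F s j : Subobject (F.obj a)) : B)), Mono w ∧ Mono v := by
  have : G.Additive := adj.right_adjoint_additive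
  have : PreservesLimitsOfSize.{0, 0} G := adj.rightAdjoint_preservesLimits
  have hex := (ShortComplex.exact_cokernel (gι F s (G := G) (a := a))).map
    ((evaluation (Idx F s a) A).obj j)
  have : Mono ((ShortComplex.mk _ _ (cokernel.condition (gι F s (G := G) (a := a)))).map
      ((evaluation (Idx F s a) A).obj j)).f := inferInstanceAs (Mono (G.map (b F s j).arrow))
  have h0 := congrArg (fun α => α.app j) (kernel.condition (q F adj s (a := a)))
  simp only [NatTrans.comp_app, Limits.zero_app] at h0
  let w : K F adj s j ⟶ G.obj ((b F s j : Subobject (F.obj a)) : B) :=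
    hex.lift (k F adj s j ≫ adj.unit.app a) ((Category.assoc _ _ _).trans h0)
  have hw : w ≫ G.map (b F s j).arrow = k F adj s j ≫ adj.unit.app a := hex.lift_f _ _
  let v := F.map w ≫ adj.counit.app ((b F s j : Subobject (F.obj a)) : B)
  have hv : v ≫ (b F s j).arrow = F.map (k F adj s j) := by
    have h1 : adj.counit.app ((b F s j : Subobject (F.obj a)) : B) ≫ (b F s j).arrow =
        F.map (G.map (b F s j).arrow) ≫ adj.counit.app (F.obj a) :=
      (adj.counit.naturality (b F s j).arrow).symm
    refine (Category.assoc _ _ _).trans ?_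
    rw [h1, ← F.map_comp_assoc, hw, F.map_comp,
      Category.assoc, adj.left_triangle_components]
    exact Category.comp_id _
  exact ⟨w, v, mono_of_mono_fac hw, mono_of_mono_fac hv⟩

include adj hsep in
/-- A noetherian object has noetherian image. -/
lemma isNoetherianObject_map (hsN : ∀ i, IsNoetherianObject (s i)) (a : A)
    [IsNoetherianObject a] : IsNoetherianObject (F.obj a) := by
  classical
  let U : Idx F s a → Subobject a := fun j => imageSubobject (k F adj s j)
  have hU : Monotone U := fun i j hij => imageSubobject_le _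
    ((kernel (q F adj s (a := a))).map (homOfLE hij) ≫ factorThruImageSubobject _) (by
      rw [Category.assoc, imageSubobject_arrow_comp, NatTrans.naturality]
      exact Category.comp_id _)
  obtain ⟨M, ⟨j₀, rfl⟩, hmax⟩ :=
    (wellFounded_gt : WellFounded (α := Subobject a) (· > ·)).has_min (Set.range U)
      ⟨_, ⟨∅, rfl⟩⟩
  have hπ : cokernel.π (U j₀).arrow = 0 := eq_zero_of_forall F adj s hsep _ fun j => by
    have hle : U j ≤ U j₀ := by
      have h1 := hmax (U (j ⊔ j₀)) ⟨_, rfl⟩
      have h2 : U j₀ ≤ U (j ⊔ j₀) := hU le_sup_right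
      exact (hU le_sup_left).trans (le_of_eq (h2.eq_of_not_lt h1).symm)
    refine (factors_iff_comp_eq_zero _ _).1 (Subobject.factors_of_le _ hle ?_)
    have := imageSubobject_factors_comp_self (f := k F adj s j) (𝟙 _)
    rwa [Category.id_comp] at this
  have : Epi (U j₀).arrow := Preadditive.epi_of_cokernel_zero hπ
  have : Epi (k F adj s j₀) := by
    rw [← imageSubobject_arrow_comp (k F adj s j₀)]
    exact epi_comp _ _
  have : IsIso (k F adj s j₀) := isIso_of_mono_of_epi _
  obtain ⟨w, v, hw, hv⟩ := exists_lift F adj s j₀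
  have := b_isNoetherianObject F s hsN j₀
  exact isNoetherianObject_of_mono (F.map (inv (k F adj s j₀)) ≫ v)

/-- Index of the candidate generators: subobjects of `G` of quotients of finite sums. -/
def FamT (G : B ⥤ A) : Type _ :=
  Σ p : (Σ n : ℕ, Fin n → ι), Σ R : Subobject (∐ fun k => s (p.2 k)),
    {U : Subobject (G.obj (cokernel R.arrow)) //
      (∀ i, IsNoetherianObject (s i)) → IsNoetherianObject (U : A)}

/-- The candidate generators. -/
noncomputable def famObj {G : B ⥤ A} (x : FamT s G) : A := (x.2.2.1 : A)

omit [AB5OfSize.{w, w} B] [PreservesFilteredColimitsOfSize.{w, w} G] in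
include F in
lemma small_famT [WellPowered.{w} B] : Small.{w} (FamT s G) := by
  have := wellPowered (A := A) F
  unfold FamT
  infer_instance

include adj in
lemma exists_famObj_iso (j : Idx F s a) :
    ∃ x : FamT s G, Nonempty (famObj s x ≅ K F adj s j) := by
  obtain ⟨w, v, hw, hv⟩ := exists_lift F adj s j
  let σ := Sigma.desc fun k : Fin j.card => ((j.equivFin.symm k).1.2 : gen F s j k ⟶ F.obj a)
  let R : Subobject (∐ gen F s j) := Subobject.mk (kernel.ι σ)
  let e : cokernel R.arrow ≅ ((b F s j : Subobject (F.obj a)) : B) :=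
    cokernelIsoOfEq (Subobject.underlyingIso_hom_comp_eq_mk (kernel.ι σ)).symm ≪≫
      cokernelEpiComp _ _ ≪≫ Abelian.coimageIsoImage' σ ≪≫ (imageSubobjectIso σ).symm
  let U : Subobject (G.obj (cokernel R.arrow)) := Subobject.mk (w ≫ G.map e.inv)
  have hU : (∀ i, IsNoetherianObject (s i)) → IsNoetherianObject (U : A) := fun hsN => by
    have := b_isNoetherianObject F s hsN j
    have : IsNoetherianObject (F.obj (K F adj s j)) := isNoetherianObject_of_mono v
    have := isNoetherianObject_of_map F (K F adj s j)
    exact isNoetherianObject_of_mono (Subobject.underlyingIso _).hom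
  exact ⟨⟨⟨j.card, fun k => (j.equivFin.symm k).1.1⟩, R, ⟨U, hU⟩⟩, ⟨Subobject.underlyingIso _⟩⟩

include adj hsep in
/-- A small separating family in `A`: subobjects of `G` of quotients of finite sums of the `s i`. -/
lemma exists_family [WellPowered.{w} B] :
    ∃ (κ : Type w) (t : κ → A), ((∀ i, IsNoetherianObject (s i)) → ∀ x, IsNoetherianObject (t x)) ∧
      ∀ ⦃X Y : A⦄ (f g : X ⟶ Y), (∀ (x : κ) (h : t x ⟶ X), h ≫ f = h ≫ g) → f = g := by
  have := small_famT F s (G := G)
  refine ⟨Shrink.{w} (FamT s G), fun x => famObj s ((equivShrink _).symm x),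
    fun hsN x => ((equivShrink (FamT s G)).symm x).2.2.2 hsN, fun X Y f g h => ?_⟩
  rw [← sub_eq_zero]
  refine eq_zero_of_forall F adj s hsep _ fun j => ?_
  obtain ⟨x, ⟨e⟩⟩ := exists_famObj_iso F adj s j
  obtain ⟨y, rfl⟩ := (equivShrink (FamT s G)).symm.surjective x
  have h2 := h y (e.hom ≫ k F adj s j)
  rw [Category.assoc, Category.assoc, cancel_epi] at h2
  rw [Preadditive.comp_sub, sub_eq_zero]
  exact h2

end

end Groth.Agent.H16Derived.FaithfulGen
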