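import Mathlib.RingTheory.AdicCompletion.Basic
import Mathlib.RingTheory.Finiteness.Finsupp
import Mathlib.RingTheory.Noetherian.Basic
import Mathlib.RingTheory.Ideal.Operations

/-!
# Good filtrations over complete rings
-/

set_option autoImplicit false

universe u

open Pointwise

namespace Groth.Agent.H16Derived.FilComplete

variable {S : Type u} [CommRing S] (J : Ideal S) {M : Type u} [AddCommGroup M] [Module S M]
  (F : ℤ → Submodule S M)

theorem gr_of_finite [IsNoetherianRing S] (hF : Antitone F) [Module.Finite S M]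
    (h : ∃ p₁ : ℤ, ∀ p : ℤ, p₁ ≤ p → J • F p = F (p + 1)) :
    (∀ p : ℤ, (Submodule.map (F (p + 1)).mkQ (F p)).FG) ∧
      ∃ p₁ : ℤ, ∀ p : ℤ, p₁ ≤ p → F (p + 1) = J • F p ⊔ F (p + 2) := by
  obtain ⟨p₁, hp₁⟩ := h
  refine ⟨fun p => (IsNoetherian.noetherian (F p)).map _, p₁, fun p hp => ?_⟩
  rw [hp₁ p hp, sup_eq_left.2 (hF (by omega))]

theorem pow_smul_le (hJ : ∀ p : ℤ, J • F p ≤ F (p + 1)) (n : ℕ) (p : ℤ) : J ^ n • F p ≤ F (p + n) := by
  induction n generalizing p with
  | zero => simp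
  | succ n ih =>
    rw [pow_succ, Submodule.mul_smul]
    refine (smul_mono_right (J ^ n) (hJ p)).trans ((ih (p + 1)).trans (le_of_eq ?_))
    congr 1
    push_cast
    omega

theorem finite_of_gr [IsAdicComplete J S] (hF : Antitone F) (hcod : ∃ p₀ : ℤ, F p₀ = ⊤)
    (hJ : ∀ p : ℤ, J • F p ≤ F (p + 1)) (hsep : ⨅ p : ℤ, F p = ⊥)
    (hgr : ∀ p : ℤ, (Submodule.map (F (p + 1)).mkQ (F p)).FG)
    (h : ∃ p₁ : ℤ, ∀ p : ℤ, p₁ ≤ p → F (p + 1) = J • F p ⊔ F (p + 2)) :
    Module.Finite S M ∧ ∃ p₁ : ℤ, ∀ p : ℤ, p₁ ≤ p → J • F p = F (p + 1) := by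
  obtain ⟨p₀, hp₀⟩ := hcod
  obtain ⟨p₁', hp₁'⟩ := h
  obtain ⟨p₁, hp01, hp₁⟩ : ∃ p₁, p₀ ≤ p₁ ∧ ∀ p : ℤ, p₁ ≤ p → F (p + 1) = J • F p ⊔ F (p + 2) :=
    ⟨max p₀ p₁', le_max_left _ _, fun p hp => hp₁' p ((le_max_right _ _).trans hp)⟩
  -- lifts of generators of the graded piece at `p₁`
  obtain ⟨m, g, hg⟩ := Submodule.fg_iff_exists_fin_generating_family.1 (hgr p₁)
  have hlift : ∀ i, ∃ z ∈ F p₁, (F (p₁ + 1)).mkQ z = g i := fun i =>
    Submodule.mem_map.1 (hg ▸ Submodule.subset_span (Set.mem_range_self i))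
  choose y hy hyg using hlift
  let Y := Submodule.span S (Set.range y)
  have hY : Y ≤ F p₁ := Submodule.span_le.2 (Set.range_subset_iff.2 hy)
  have hstep : ∀ k : ℕ, F (p₁ + k) ≤ J ^ k • Y ⊔ F (p₁ + k + 1) := by
    intro k
    induction k with
    | zero =>
      intro x hx
      simp only [Nat.cast_zero, add_zero, pow_zero, Ideal.one_eq_top, Submodule.top_smul] at hx ⊢
      have hx' : (F (p₁ + 1)).mkQ x ∈ Y.map (F (p₁ + 1)).mkQ := by
        rw [Submodule.map_span, ← Set.range_comp, show (⇑(F (p₁ + 1)).mkQ ∘ y) = g from funext hyg, hg]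
        exact Submodule.mem_map_of_mem hx
      obtain ⟨z, hz, hzx⟩ := hx'
      have : x - z ∈ F (p₁ + 1) := by
        rw [← Submodule.Quotient.mk_eq_zero, Submodule.Quotient.mk_sub, sub_eq_zero]
        exact hzx.symm
      exact Submodule.mem_sup.2 ⟨z, hz, x - z, this, add_sub_cancel z x⟩
    | succ k ih =>
      have e : p₁ + ((k + 1 : ℕ) : ℤ) = p₁ + k + 1 := by push_cast; omega
      rw [e, hp₁ (p₁ + k) (by omega), show p₁ + (k : ℤ) + 1 + 1 = p₁ + k + 2 by omega, pow_succ',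
        Submodule.mul_smul]
      refine sup_le ((smul_mono_right J ih).trans ?_) le_sup_right
      rw [Submodule.smul_sup]
      exact sup_le_sup_left ((hJ _).trans (le_of_eq (congrArg F (by omega)))) _
  -- successive approximation
  have hmain : ∀ k : ℕ, F (p₁ + k) ≤ J ^ k • Y := by
    intro k x hx
    have hs : ∀ n : ℕ, ∀ z : F (p₁ + ↑(k + n)), ∃ c : Fin m →₀ S, (∀ i, c i ∈ J ^ (k + n)) ∧
        (z : M) - (c.sum fun i a => a • y i) ∈ F (p₁ + ↑(k + (n + 1))) := by
      intro n z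
      obtain ⟨w, hw, r, hr, hwr⟩ := Submodule.mem_sup.1 (hstep (k + n) z.2)
      obtain ⟨c, hc, rfl⟩ := (Submodule.mem_ideal_smul_span_iff_exists_sum _ y w).1 hw
      refine ⟨c, hc, ?_⟩
      rw [← hwr, add_sub_cancel_left]
      convert hr using 2
      push_cast
      omega
    choose c hcJ hc using hs
    let r : ∀ n : ℕ, F (p₁ + ↑(k + n)) := fun n => Nat.rec (motive := fun n => F (p₁ + ↑(k + n))) ⟨x, hx⟩
      (fun n z => ⟨_, hc n z⟩) n
    let a : ℕ → Fin m →₀ S := fun n => c n (r n)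
    let s : Fin m → ℕ → S := fun i n => ∑ j ∈ Finset.range n, a j i
    have hsJ : ∀ i n, s i n ∈ J ^ k := fun i n => Submodule.sum_mem _ fun j _ =>
      Ideal.pow_le_pow_right (Nat.le_add_right k j) (hcJ j (r j) i)
    have hL : ∀ i, ∃ L : S, ∀ n, s i n - L ∈ J ^ n := by
      intro i
      obtain ⟨L, hL⟩ := IsPrecomplete.prec (I := J) (M := S) inferInstance (f := s i) (fun {p q} hpq => by
        rw [SModEq.sub_mem]
        simp only [s]
        rw [← Finset.sum_range_add_sum_Ico _ hpq, sub_add_cancel_left, neg_mem_iff,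
          smul_eq_mul, Ideal.mul_top]
        exact Submodule.sum_mem _ fun j hj => Ideal.pow_le_pow_right
          (((Finset.mem_Ico.1 hj).1).trans (Nat.le_add_left j k)) (hcJ j (r j) i))
      refine ⟨L, fun n => ?_⟩
      have := SModEq.sub_mem.1 (hL n)
      rwa [smul_eq_mul, Ideal.mul_top] at this
    choose L hL using hL
    have hr : ∀ n, x - ∑ i, s i n • y i = (r n : M) := by
      intro n
      induction n with
      | zero => simp [s, r]
      | succ n ih =>
        have e : (r (n + 1) : M) = (r n : M) - ((a n).sum fun i t => t • y i) := rfl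
        rw [e, ← ih, Finsupp.sum_fintype _ _ (fun i => zero_smul S (y i))]
        simp only [s, Finset.sum_range_succ, add_smul, Finset.sum_add_distrib]
        abel
    have hx0 : x - ∑ i, L i • y i = 0 := by
      rw [← Submodule.mem_bot S, ← hsep, Submodule.mem_iInf]
      intro p
      refine hF (show p ≤ p₁ + ((p - p₁).toNat : ℕ) by omega) ?_
      have e : x - ∑ i, L i • y i = (r (p - p₁).toNat : M) + ∑ i, (s i (p - p₁).toNat - L i) • y i := by
        rw [← hr, Finset.sum_congr rfl (fun i _ => sub_smul (s i (p - p₁).toNat) (L i) (y i)),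
          Finset.sum_sub_distrib]
        abel
      rw [e]
      refine add_mem (hF (by omega) (r (p - p₁).toNat).2) (Submodule.sum_mem _ fun i _ => ?_)
      exact pow_smul_le J F hJ _ p₁ (Submodule.smul_mem_smul (hL i _) (hy i))
    rw [sub_eq_zero.1 hx0]
    refine Submodule.sum_mem _ fun i _ => Submodule.smul_mem_smul ?_ (Submodule.subset_span (Set.mem_range_self i))
    have := Ideal.sub_mem _ (hsJ i k) (hL i k)
    rwa [sub_sub_cancel] at this
  have heq : ∀ k : ℕ, F (p₁ + k) = J ^ k • Y := fun k =>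
    le_antisymm (hmain k) ((smul_mono_right (J ^ k) hY).trans (pow_smul_le J F hJ k p₁))
  refine ⟨?_, p₁, fun p hp => ?_⟩
  · have hfg : ∀ j : ℕ, (F (p₁ - j)).FG := by
      intro j
      induction j with
      | zero =>
        rw [show p₁ - ((0 : ℕ) : ℤ) = p₁ + ((0 : ℕ) : ℤ) by omega, heq, pow_zero, Ideal.one_eq_top,
          Submodule.top_smul]
        exact Submodule.fg_span (Set.finite_range y)
      | succ j ih =>
        refine Submodule.fg_of_fg_map_of_fg_inf_ker (F (p₁ - ↑(j + 1) + 1)).mkQ (hgr _) ?_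
        rw [Submodule.ker_mkQ, inf_eq_right.2 (hF (by omega))]
        rwa [show p₁ - ((j + 1 : ℕ) : ℤ) + 1 = p₁ - j by push_cast; omega]
    refine ⟨?_⟩
    have := hfg (p₁ - p₀).toNat
    rwa [show p₁ - ((p₁ - p₀).toNat : ℤ) = p₀ by omega, hp₀] at this
  · obtain ⟨k, rfl⟩ : ∃ k : ℕ, p = p₁ + k := ⟨(p - p₁).toNat, by omega⟩
    rw [show p₁ + (k : ℤ) + 1 = p₁ + ((k + 1 : ℕ) : ℤ) by push_cast; omega, heq, heq, pow_succ',
      Submodule.mul_smul]

end Groth.Agent.H16Derived.FilComplete
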