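import Groth.Agent.H16Derived.SystemRep
import Groth.Agent.H16Derived.Horseshoe
import Mathlib.CategoryTheory.Preadditive.Injective.Basic
import Mathlib.Algebra.Homology.HomologySequenceLemmas

/-!
# Filtered K-injective embeddings
-/

set_option autoImplicit false
set_option linter.style.haveILetI false

universe v u

open CategoryTheory CategoryTheory.Limits CochainComplex CochainComplex.HomComplex

namespace Groth.Agent.H16Derived.FilKInj

variable {A : Type u} [Category.{v} A] [Abelian A]

lemma injective_cokernel {X Y : A} (f : X ⟶ Y) [Mono f] (hX : Injective X) (hY : Injective Y) :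
    Injective (cokernel f) := by
  have hS : (ShortComplex.mk f (cokernel.π f) (cokernel.condition f)).ShortExact :=
    { exact := ShortComplex.exact_cokernel f }
  haveI : Injective (ShortComplex.mk f (cokernel.π f) (cokernel.condition f)).X₁ := hX
  let sp := hS.splittingOfInjective
  exact Retract.injective (Y := Y) ⟨sp.s, cokernel.π f, sp.s_g⟩

/-- The cokernel of a monomorphism from a K-injective complex of injectives to a K-injective
complex is K-injective. -/
lemma isKInjective_X₃ {S : ShortComplex (CochainComplex A ℤ)} (hS : S.ShortExact)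
    [S.X₁.IsKInjective] [S.X₂.IsKInjective] (hinj : ∀ n, Injective (S.X₁.X n)) :
    S.X₃.IsKInjective where
  nonempty_homotopy_zero {T} f hT := by
    have hS' : ∀ n, (S.map (HomologicalComplex.eval A (ComplexShape.up ℤ) n)).ShortExact :=
      fun n => hS.map_of_exact _
    let sp := fun n =>
      haveI : Injective (S.map (HomologicalComplex.eval A (ComplexShape.up ℤ) n)).X₁ := hinj n
      (hS' n).splittingOfInjective
    let g : Cochain T S.X₂ 0 := Cochain.ofHoms fun n => f.f n ≫ (sp n).s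
    have hg : g.comp (Cochain.ofHom S.g) (add_zero 0) = Cochain.ofHom f := by
      ext n
      simp only [g, Cochain.comp_v _ _ (add_zero 0) n n n (add_zero n) (add_zero n),
        Cochain.ofHoms_v, Cochain.ofHom_v, Category.assoc]
      exact (congrArg (f.f n ≫ ·) (sp n).s_g).trans (Category.comp_id _)
    have hE : ∀ p q (hpq : p + 1 = q), (δ 0 1 g).v p q hpq ≫ S.g.f q = 0 := by
      intro p q hpq
      have e := δ_comp_ofHom g S.g 1
      rw [hg, δ_ofHom] at e
      have e' := Cochain.congr_v e.symm p q hpq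
      rwa [Cochain.comp_zero_cochain_v, Cochain.ofHom_v, Cochain.zero_v] at e'
    let c : Cochain T S.X₁ 1 := Cochain.mk fun p q hpq =>
      (haveI := (hS' q).mono_f; (hS' q).exact.lift ((δ 0 1 g).v p q hpq) (hE p q hpq))
    have hc : c.comp (Cochain.ofHom S.f) (add_zero 1) = δ 0 1 g := by
      ext p q hpq
      rw [Cochain.comp_zero_cochain_v, Cochain.ofHom_v, Cochain.mk_v]
      haveI := (hS' q).mono_f
      exact (hS' q).exact.lift_f _ _
    have hδc : δ 1 2 c = 0 := by
      ext p q hpq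
      have e := δ_comp_ofHom c S.f 2
      rw [hc, δ_δ] at e
      have e' := Cochain.congr_v e.symm p q hpq
      rw [Cochain.comp_zero_cochain_v, Cochain.ofHom_v, Cochain.zero_v] at e'
      haveI : Mono (S.f.f q) := (hS' q).mono_f
      rw [Cochain.zero_v, ← cancel_mono (S.f.f q), e', zero_comp]
    obtain ⟨h, hh⟩ := CochainComplex.IsKInjective.eq_δ_of_cocycle
      (Cocycle.mk c 2 rfl hδc) hT 0 rfl
    let w : Cochain T S.X₂ 0 := g - h.comp (Cochain.ofHom S.f) (add_zero 0)
    have hw : δ 0 1 w = 0 := by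
      rw [δ_sub, δ_comp_ofHom, hh]
      exact sub_eq_zero.2 hc.symm
    let G : T ⟶ S.X₂ := Cocycle.homOf (Cocycle.mk w 1 rfl hw)
    have hG : G ≫ S.g = f := by
      ext n
      have hz : S.f.f n ≫ S.g.f n = 0 := by
        rw [← HomologicalComplex.comp_f, S.zero, HomologicalComplex.zero_f]
      have hs : (sp n).s ≫ S.g.f n = 𝟙 _ := (sp n).s_g
      refine Eq.trans ?_ ((congrArg (f.f n ≫ ·) hs).trans (Category.comp_id _))
      simp [G, w, g, hz]; rfl
    exact ⟨(Homotopy.ofEq hG.symm).trans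
      (((CochainComplex.IsKInjective.homotopyZero G hT).compRight S.g).trans
        (Homotopy.ofEq zero_comp))⟩

lemma isKInjective_cokernel {X Y : CochainComplex A ℤ} (f : X ⟶ Y) [Mono f] [X.IsKInjective]
    [Y.IsKInjective] (hX : ∀ n, Injective (X.X n)) : (cokernel f).IsKInjective :=
  haveI : (ShortComplex.mk f (cokernel.π f) (cokernel.condition f)).X₁.IsKInjective := ‹_›
  haveI : (ShortComplex.mk f (cokernel.π f) (cokernel.condition f)).X₂.IsKInjective := ‹Y.IsKInjective›
  isKInjective_X₃ (KInjRes.shortExact_cokernel f) hX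

lemma isKInjective_of_homotopy_id_zero {P : CochainComplex A ℤ} (h : Homotopy (𝟙 P) 0) :
    P.IsKInjective where
  nonempty_homotopy_zero f _ :=
    ⟨(Homotopy.ofEq (by simp)).trans ((h.compLeft f).trans (Homotopy.ofEq (by simp)))⟩

/-- The first projection from a biproduct with a contractible complex. -/
noncomputable def fstEquiv (I P : CochainComplex A ℤ) (h : Homotopy (𝟙 P) 0) :
    HomotopyEquiv (I ⊞ P) I where
  hom := biprod.fst
  inv := biprod.inl
  homotopyHomInvId :=
    (Homotopy.ofEq (add_zero _).symm).trans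
      (((Homotopy.refl _).add
        ((Homotopy.ofEq (Category.assoc (biprod.snd : I ⊞ P ⟶ P) (𝟙 P) biprod.inr).symm).trans
          (((h.compLeft biprod.snd).compRight biprod.inr).trans
            (Homotopy.ofEq (by simp)))).symm).trans
        (Homotopy.ofEq (by rw [Category.id_comp]; exact biprod.total)))
  homotopyInvHomId := Homotopy.ofEq biprod.inl_fst

lemma injective_biprod_X {I P : CochainComplex A ℤ} (n : ℤ) (h₁ : Injective (I.X n))
    (h₂ : Injective (P.X n)) : Injective ((I ⊞ P).X n) := by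
  haveI := h₁
  haveI := h₂
  exact Injective.of_iso (HomologicalComplex.biprodXIso I P n).symm inferInstance

lemma injective_cone_X (X : CochainComplex A ℤ) (h : ∀ n, Injective (X.X n)) (n : ℤ) :
    Injective ((mappingCone (𝟙 X)).X n) := by
  haveI := h n
  haveI := h (n + 1)
  exact Injective.of_iso (HomologicalComplex.homotopyCofiber.XIsoBiprod (𝟙 X) n (n + 1) rfl).symm
    inferInstance

lemma exists_lift_of_contractible {X Y C : CochainComplex A ℤ} (f : X ⟶ Y) [Mono f]
    (hC : Homotopy (𝟙 C) 0) (hI : ∀ n, Injective (C.X n)) (u : X ⟶ C) :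
    ∃ ψ : Y ⟶ C, f ≫ ψ = u := by
  obtain ⟨Φ, hΦ, -⟩ := SystemRep.exists_null_extension f hI u
    ((Homotopy.ofEq (by simp)).trans ((hC.compLeft u).trans (Homotopy.ofEq (by simp))))
  exact ⟨Φ, hΦ⟩

section Prod

variable [IsGrothendieckAbelian.{v} A]

lemma homotopy_prod {T : Type v} (C : T → CochainComplex A ℤ)
    (h : ∀ t, Homotopy (𝟙 (C t)) 0) : Nonempty (Homotopy (𝟙 (∏ᶜ C)) 0) :=
  KInjRes.nonempty_homotopy_zero_of_fan _ (productIsProduct C) _ fun t =>
    ⟨(Homotopy.ofEq (show 𝟙 (∏ᶜ C) ≫ Pi.π C t = Pi.π C t ≫ 𝟙 (C t) by simp)).trans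
      (((h t).compLeft _).trans (Homotopy.ofEq (by simp)))⟩

lemma injective_prod_X {T : Type v} (C : T → CochainComplex A ℤ)
    (n : ℤ) (h : ∀ t, Injective ((C t).X n)) : Injective ((∏ᶜ C).X n) := by
  haveI : ∀ t, Injective ((HomologicalComplex.eval A (ComplexShape.up ℤ) n).obj (C t)) := h
  exact Injective.of_iso
    (asIso (piComparison (HomologicalComplex.eval A (ComplexShape.up ℤ) n) C)).symm inferInstance

/-- The main construction. -/
theorem exists_filtered_embedding (K : SpSeq.FilCx A) :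
    ∃ (J : SpSeq.FilCx A) (j : K ⟶ J),
      (∀ n p : ℤ, Injective (J.obj.X n) ∧ Injective ((J.XFil n).step p) ∧ Injective ((J.XFil n).quot p) ∧
        ∀ (p' : ℤ) (h : p ≤ p'), Injective (cokernel ((J.XFil n).stepLE h))) ∧
      (CochainComplex.IsKInjective J.obj ∧ ∀ p : ℤ, CochainComplex.IsKInjective (J.step p) ∧
        CochainComplex.IsKInjective (J.quot p) ∧
        ∀ (p' : ℤ) (h : p ≤ p'), CochainComplex.IsKInjective (cokernel (J.stepLE h))) ∧
      QuasiIso j.hom ∧
      (∀ p : ℤ, ∃ jp : K.step p ⟶ J.step p, jp ≫ (J.fil p).arrow = (K.fil p).arrow ≫ j.hom ∧ QuasiIso jp ∧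
        (∀ (p' : ℤ) (h : p ≤ p'), ∃ (jp' : K.step p' ⟶ J.step p') (jg : cokernel (K.stepLE h) ⟶ cokernel (J.stepLE h)),
          jp' ≫ (J.fil p').arrow = (K.fil p').arrow ≫ j.hom ∧ jp' ≫ J.stepLE h = K.stepLE h ≫ jp ∧
          cokernel.π (K.stepLE h) ≫ jg = jp ≫ cokernel.π (J.stepLE h) ∧ QuasiIso jg)) ∧
      (∀ p : ℤ, ∃ jq : K.quot p ⟶ J.quot p,
        cokernel.π (K.fil p).arrow ≫ jq = j.hom ≫ cokernel.π (J.fil p).arrow ∧ QuasiIso jq) := by
  obtain ⟨N, η, hN⟩ := KInjRes.exists_resolution_functor (A := A)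
  have hq : ∀ M, QuasiIso (η.app M) := fun M => (hN M).2.1
  haveI : ∀ M, (N.obj M).IsKInjective := fun M => (hN M).2.2.1
  have hinjN : ∀ M n, Injective ((N.obj M).X n) := fun M => (hN M).2.2.2
  let X : ℤ → CochainComplex A ℤ := fun p => N.obj (K.step p)
  let T : ∀ {p q : ℤ}, p ≤ q → (X q ⟶ X p) := fun h => N.map (K.stepLE h)
  let C : ℤ → CochainComplex A ℤ := fun k => mappingCone (𝟙 (X k))
  let hC : ∀ k, Homotopy (𝟙 (C k)) 0 := fun k => TermwiseSplit.homotopyIdZero _
  have hCinj : ∀ k n, Injective ((C k).X n) := fun k => injective_cone_X _ (hinjN _)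
  let Cp : ∀ p : ℤ, {k : ULift.{v} ℤ // p < k.down} → CochainComplex A ℤ := fun _ k => C k.1.down
  let J : ℤ → CochainComplex A ℤ := fun p => X p ⊞ ∏ᶜ Cp p
  let C' : ULift.{v} ℤ → CochainComplex A ℤ := fun k => C k.down
  let P := ∏ᶜ C'
  let c : ∀ (p : ℤ) (k : ULift.{v} ℤ), J p ⟶ C' k := fun p k =>
    if h : p < k.down then biprod.snd ≫ Pi.π (Cp p) ⟨k, h⟩
    else biprod.fst ≫ T (not_lt.1 h) ≫ mappingCone.inr (𝟙 (X k.down))
  let Xinf := N.obj K.obj
  let f : ∀ p, J p ⟶ Xinf ⊞ P := fun p =>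
    biprod.lift (biprod.fst ≫ N.map (K.fil p).arrow) (Pi.lift (c p))
  let t : ∀ {p q : ℤ}, p ≤ q → (J q ⟶ J p) := fun {p q} h =>
    biprod.lift (biprod.fst ≫ T h) (Pi.lift fun k : {k : ULift.{v} ℤ // p < k.down} => c q k.1)
  have hT : ∀ {p q r : ℤ} (h : p ≤ q) (h' : q ≤ r), T h' ≫ T h = T (h.trans h') := fun h h' => by
    simp only [T, ← N.map_comp]
    exact congrArg N.map (Subobject.ofLE_comp_ofLE _ _ _ _ _)
  have htf : ∀ {p q : ℤ} (h : p ≤ q), t h ≫ f p = f q := fun {p q} h => by
    apply biprod.hom_ext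
    · simp only [t, f, T, Category.assoc, biprod.lift_fst, biprod.lift_fst_assoc, ← N.map_comp]
      exact congrArg (fun z => biprod.fst ≫ N.map z) (Subobject.ofLE_arrow _)
    · refine Pi.hom_ext _ _ fun k => ?_
      simp only [t, f, Category.assoc, biprod.lift_snd, Pi.lift_π]
      simp only [c]
      split_ifs with h₁ h₂ h₂
      · simp [h₂]
      · simp [h₂]
      · exact absurd (lt_of_le_of_lt h h₂) h₁
      · simp [reassoc_of% (hT (not_lt.1 h₁) h)]
  haveI : ∀ p, Mono (f p) := fun p => ⟨fun {Z} a b hab => by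
    have hc : ∀ k, a ≫ c p k = b ≫ c p k := fun k => by
      simpa [f] using (hab =≫ biprod.snd) =≫ Pi.π C' k
    apply biprod.hom_ext
    · haveI : Mono (mappingCone.inr (𝟙 (X p))) := KInjRes.mono_inr _
      rw [← cancel_mono (mappingCone.inr (𝟙 (X p)))]
      have e := hc ⟨p⟩
      simp only [c, lt_irrefl, dite_false] at e
      have hTid : T (le_refl p) = 𝟙 (X p) := by
        simp only [T, X]
        exact (congrArg N.map (Subobject.ofLE_refl _)).trans (N.map_id _)
      simpa [hTid] using e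
    · refine Pi.hom_ext _ _ fun k => ?_
      have e := hc k.1
      simp only [c, dif_pos k.2] at e
      simpa using e⟩
  let F : SpSeq.FilCx A :=
    { obj := Xinf ⊞ P
      fil := fun p => Subobject.mk (f p)
      anti := fun p q h => Subobject.mk_le_mk_of_comm (t h) (htf h) }
  have hC₀ : Nonempty (Homotopy (𝟙 P) 0) := homotopy_prod C' fun k => hC _
  have hCp : ∀ p, Nonempty (Homotopy (𝟙 (∏ᶜ Cp p)) 0) := fun p => homotopy_prod _ fun k => hC _
  let e₀ := fstEquiv Xinf P hC₀.some
  let e := fun p => fstEquiv (X p) _ (hCp p).some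
  choose ψ hψ using fun k : ULift.{v} ℤ => exists_lift_of_contractible (K.fil k.down).arrow
    (hC k.down) (hCinj _) (η.app (K.step k.down) ≫ mappingCone.inr (𝟙 (X k.down)))
  let j₀ : K.obj ⟶ Xinf ⊞ P := biprod.lift (η.app K.obj) (Pi.lift ψ)
  let jp₀ : ∀ p, K.step p ⟶ J p := fun p =>
    biprod.lift (η.app (K.step p)) (Pi.lift fun k => (K.fil p).arrow ≫ ψ k.1)
  have hjp₀ : ∀ p, jp₀ p ≫ f p = (K.fil p).arrow ≫ j₀ := fun p => by
    apply biprod.hom_ext
    · simp only [jp₀, f, j₀, Category.assoc, biprod.lift_fst, biprod.lift_fst_assoc]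
      exact (η.naturality _).symm
    · refine Pi.hom_ext _ _ fun k => ?_
      simp only [jp₀, f, j₀, Category.assoc, biprod.lift_snd, Pi.lift_π]
      simp only [c]
      split_ifs with h₁
      · simp
      · rw [biprod.lift_fst_assoc, ← Subobject.ofLE_arrow (K.anti (not_lt.1 h₁)), Category.assoc,
          hψ, ← Category.assoc, ← Category.assoc]
        exact congrArg (· ≫ _) (η.naturality _).symm
  let u : ∀ p, F.step p ≅ J p := fun p => Subobject.underlyingIso (f p)
  have hu : ∀ p, (u p).inv ≫ (F.fil p).arrow = f p := fun p => Subobject.underlyingIso_arrow _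
  let jp : ∀ p, K.step p ⟶ F.step p := fun p => jp₀ p ≫ (u p).inv
  have hjp : ∀ p, jp p ≫ (F.fil p).arrow = (K.fil p).arrow ≫ j₀ := fun p => by
    simp only [jp, Category.assoc]
    exact (congrArg (jp₀ p ≫ ·) (hu p)).trans (hjp₀ p)
  let j : K ⟶ F := ⟨j₀, fun p => by
    rw [Subobject.pullback_obj]
    exact Subobject.le_mk_of_comm (pullback.lift (jp p) (K.fil p).arrow (hjp p))
      (pullback.lift_snd _ _ _)⟩
  haveI hqj : QuasiIso j₀ := by
    haveI : QuasiIso (biprod.fst : Xinf ⊞ P ⟶ Xinf) := inferInstanceAs (QuasiIso e₀.hom)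
    haveI : QuasiIso (j₀ ≫ biprod.fst) := by simpa [j₀] using hq K.obj
    exact quasiIso_of_comp_right j₀ biprod.fst
  have hqjp : ∀ p, QuasiIso (jp p) := fun p => by
    haveI : QuasiIso (biprod.fst : J p ⟶ X p) := inferInstanceAs (QuasiIso (e p).hom)
    haveI : QuasiIso (jp₀ p ≫ biprod.fst) := by simpa [jp₀] using hq (K.step p)
    haveI : QuasiIso (jp₀ p) := quasiIso_of_comp_right (jp₀ p) biprod.fst
    exact inferInstanceAs (QuasiIso (jp₀ p ≫ (u p).inv))
  have hk₀ : CochainComplex.IsKInjective F.obj := e₀.symm.isKInjective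
  have hkp : ∀ p, CochainComplex.IsKInjective (F.step p) := fun p =>
    haveI : CochainComplex.IsKInjective (J p) := (e p).symm.isKInjective
    CochainComplex.isKInjective_of_iso (u p).symm
  have hi₀ : ∀ n, Injective (F.obj.X n) := fun n =>
    injective_biprod_X n (hinjN _ n) (injective_prod_X _ n fun k => hCinj _ n)
  have hip : ∀ p n, Injective ((F.step p).X n) := fun p n =>
    Injective.of_iso ((HomologicalComplex.eval A (ComplexShape.up ℤ) n).mapIso (u p).symm)
      (injective_biprod_X n (hinjN _ n) (injective_prod_X _ n fun k => hCinj _ n))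
  have hsq : ∀ {p q : ℤ} (h : p ≤ q), jp q ≫ F.stepLE h = K.stepLE h ≫ jp p := fun {p q} h => by
    refine (cancel_mono (F.fil p).arrow).1 ?_
    refine (Category.assoc _ _ _).trans (((congrArg (jp q ≫ ·) (Subobject.ofLE_arrow (F.anti h))).trans (hjp q)).trans ?_)
    exact ((Category.assoc _ _ _).trans ((congrArg (K.stepLE h ≫ ·) (hjp p)).trans
      ((Category.assoc _ _ _).symm.trans (congrArg (· ≫ j₀) (Subobject.ofLE_arrow (K.anti h)))))).symm
  refine ⟨F, j, fun n p => ?_, ⟨hk₀, fun p => ?_⟩, hqj, fun p => ⟨jp p, hjp p, hqjp p,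
    fun p' h => ?_⟩, fun p => ?_⟩
  · have hst : ∀ q, Injective ((F.XFil n).step q) := fun q =>
      haveI : Mono ((F.fil q).arrow.f n) := inferInstanceAs (Mono ((HomologicalComplex.eval A (ComplexShape.up ℤ) n).map (F.fil q).arrow))
      Injective.of_iso (Subobject.underlyingIso ((F.fil q).arrow.f n)).symm (hip q n)
    haveI : Mono ((F.XFil n).fil p).arrow := inferInstance
    exact ⟨hi₀ n, hst p, injective_cokernel _ (hst p) (hi₀ n), fun q h =>
      injective_cokernel _ (hst q) (hst p)⟩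
  · haveI := hk₀
    haveI := hkp p
    exact ⟨hkp p, isKInjective_cokernel _ (hip p), fun q h =>
      haveI := hkp q
      isKInjective_cokernel _ (hip q)⟩
  · let φ : ShortComplex.mk (K.stepLE h) (cokernel.π (K.stepLE h)) (cokernel.condition _) ⟶
        ShortComplex.mk (F.stepLE h) (cokernel.π (F.stepLE h)) (cokernel.condition _) :=
      { τ₁ := jp p'
        τ₂ := jp p
        τ₃ := cokernel.map _ _ (jp p') (jp p) (hsq h).symm
        comm₁₂ := hsq h
        comm₂₃ := (cokernel.π_desc _ _ _).symm }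
    exact ⟨jp p', φ.τ₃, hjp p', hsq h, φ.comm₂₃.symm,
      HomologicalComplex.HomologySequence.quasiIso_τ₃ φ (KInjRes.shortExact_cokernel _)
        (KInjRes.shortExact_cokernel _) (hqjp p') (hqjp p)⟩
  · let φ : ShortComplex.mk (K.fil p).arrow (cokernel.π (K.fil p).arrow) (cokernel.condition _) ⟶
        ShortComplex.mk (F.fil p).arrow (cokernel.π (F.fil p).arrow) (cokernel.condition _) :=
      { τ₁ := jp p
        τ₂ := j₀
        τ₃ := cokernel.map _ _ (jp p) j₀ (hjp p).symm
        comm₁₂ := hjp p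
        comm₂₃ := (cokernel.π_desc _ _ _).symm }
    exact ⟨φ.τ₃, φ.comm₂₃.symm,
      HomologicalComplex.HomologySequence.quasiIso_τ₃ φ (KInjRes.shortExact_cokernel _)
        (KInjRes.shortExact_cokernel _) (hqjp p) hqj⟩

end Prod

end Groth.Agent.H16Derived.FilKInj
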