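import Groth.Prelude.Def_W4c5qcohlocdualityLoc
import Mathlib.CategoryTheory.Abelian.GrothendieckCategory.EnoughInjectives
import Mathlib.CategoryTheory.Abelian.SerreClass.Basic
import Mathlib.CategoryTheory.Limits.Constructions.Filtered
import Mathlib.CategoryTheory.Limits.Connected
import Mathlib.CategoryTheory.Limits.FunctorCategory.Basic
import Mathlib.CategoryTheory.Limits.Preserves.Shapes.Pullbacks
import Mathlib.CategoryTheory.Limits.Shapes.Pullback.IsPullback.Basic

/-!
# Objects closed for a localizing closure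
-/

set_option autoImplicit false
set_option linter.style.haveILetI false
set_option linter.unusedSectionVars false

universe w v u

open CategoryTheory CategoryTheory.Limits

namespace Groth.Agent.H16Derived.GabClosed

variable {C : Type u} [Category.{v} C] [Abelian C] {I N M : C} (p : I ⟶ N)

/-- Maps into the target lift uniquely. -/
def Bij (Z : C) : Prop := Function.Bijective fun g : Z ⟶ I => g ≫ p

/-- The class of objects all of whose subobjects lift uniquely. -/
def Cls : ObjectProperty C := fun X => ∀ (Z : C) (i : Z ⟶ X), Mono i → Bij p Z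

lemma bij_iso {Z Z' : C} (e : Z ≅ Z') (h : Bij p Z) : Bij p Z' := by
  refine ⟨fun g g' hg => ?_, fun k => ?_⟩
  · rw [← cancel_epi e.hom]
    exact h.1 (by simpa using congrArg (e.hom ≫ ·) hg)
  · obtain ⟨g, hg⟩ := h.2 (e.hom ≫ k)
    exact ⟨e.inv ≫ g, by simpa using congrArg (e.inv ≫ ·) hg⟩

instance : (Cls p).IsClosedUnderIsomorphisms where
  of_iso {X Y} e hX := fun Z i hi => hX Z (i ≫ e.inv) (mono_comp _ _)

lemma bij_of_isZero {Z : C} (h : IsZero Z) : Bij p Z :=
  ⟨fun _ _ _ => h.eq_of_src _ _, fun _ => ⟨0, h.eq_of_src _ _⟩⟩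

lemma cls_sub {X Y : C} (f : X ⟶ Y) [Mono f] (h : Cls p Y) : Cls p X :=
  fun Z i hi => h Z (i ≫ f) (mono_comp _ _)

lemma bij_of_epi {K W Z : C} (k : K ⟶ W) (e : W ⟶ Z) [Epi e] (w : k ≫ e = 0)
    (hex : (ShortComplex.mk k e w).Exact) (hK : Bij p K) (hW : Bij p W) : Bij p Z := by
  refine ⟨fun g g' hg => ?_, fun h => ?_⟩
  · rw [← cancel_epi e]
    exact hW.1 (by simpa using congrArg (e ≫ ·) hg)
  · obtain ⟨g, hg : g ≫ p = e ≫ h⟩ := hW.2 (e ≫ h)
    have hk : k ≫ g = 0 := hK.1 (by
      show (k ≫ g) ≫ p = 0 ≫ p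
      rw [Category.assoc, hg, reassoc_of% w, zero_comp, zero_comp])
    haveI : Epi (ShortComplex.mk k e w).g := ‹_›
    refine ⟨hex.gIsCokernel.desc (CokernelCofork.ofπ g hk), ?_⟩
    rw [← cancel_epi e]
    show e ≫ (hex.gIsCokernel.desc (CokernelCofork.ofπ g hk)) ≫ p = e ≫ h
    rw [← Category.assoc, ← hg]
    exact congrArg (· ≫ p) (Cofork.IsColimit.π_desc hex.gIsCokernel)

lemma bij_ext [Injective I] {K W Z : C} (k : K ⟶ W) (e : W ⟶ Z) [Mono k] [Epi e] (w : k ≫ e = 0)
    (hex : (ShortComplex.mk k e w).Exact) (hK : Bij p K) (hZ : Bij p Z) : Bij p W := by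
  haveI : Epi (ShortComplex.mk k e w).g := ‹_›
  have hdesc : ∀ {T : C} (g : W ⟶ T), k ≫ g = 0 → ∃ g' : Z ⟶ T, e ≫ g' = g := fun g hk =>
    ⟨hex.gIsCokernel.desc (CokernelCofork.ofπ g hk), Cofork.IsColimit.π_desc hex.gIsCokernel⟩
  refine ⟨fun g g' hg => ?_, fun h => ?_⟩
  · have hg' : (g - g') ≫ p = 0 := by rw [Preadditive.sub_comp, sub_eq_zero]; exact hg
    have hk : k ≫ (g - g') = 0 := hK.1 (by
      show (k ≫ (g - g')) ≫ p = 0 ≫ p
      rw [Category.assoc, hg', comp_zero, zero_comp])
    obtain ⟨d, hd⟩ := hdesc _ hk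
    have : d = 0 := hZ.1 (by
      show d ≫ p = 0 ≫ p
      rw [← cancel_epi e, reassoc_of% hd, hg', zero_comp, comp_zero])
    rw [← sub_eq_zero, ← hd, this, comp_zero]
  · obtain ⟨gK, hgK : gK ≫ p = k ≫ h⟩ := hK.2 (k ≫ h)
    let g₁ := Injective.factorThru gK k
    obtain ⟨d, hd⟩ := hdesc (h - g₁ ≫ p) (by
      rw [Preadditive.comp_sub, ← Category.assoc, Injective.comp_factorThru, hgK, sub_self])
    obtain ⟨g₂, hg₂ : g₂ ≫ p = d⟩ := hZ.2 d
    refine ⟨g₁ + e ≫ g₂, ?_⟩
    show (g₁ + e ≫ g₂) ≫ p = h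
    rw [Preadditive.add_comp, Category.assoc, hg₂, hd, add_sub_cancel]

lemma cls_quot {X Y : C} (f : X ⟶ Y) [Epi f] (h : Cls p X) : Cls p Y := by
  intro Z i hi
  haveI : Epi (pullback.snd f i) := inferInstance
  exact bij_of_epi p (kernel.ι (pullback.snd f i)) (pullback.snd f i) (kernel.condition _)
    (ShortComplex.exact_of_f_is_kernel _ (kernelIsKernel _))
    (h _ (kernel.ι (pullback.snd f i) ≫ pullback.fst f i) (mono_comp _ _)) (h _ (pullback.fst f i) inferInstance)

lemma cls_ext [Injective I] {A X B : C} (a : A ⟶ X) (b : X ⟶ B) [Mono a] (w : a ≫ b = 0)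
    (hex : (ShortComplex.mk a b w).Exact) (hA : Cls p A) (hB : Cls p B) : Cls p X := by
  intro Z i hi
  let e := Limits.factorThruImage (i ≫ b)
  have hke : kernel.ι e ≫ i ≫ b = 0 :=
    (congrArg (kernel.ι e ≫ ·) (Limits.image.fac (i ≫ b))).symm.trans ((kernel.condition_assoc e _).trans zero_comp)
  haveI : Mono (ShortComplex.mk a b w).f := ‹_›
  let l : kernel e ⟶ A := hex.lift (kernel.ι e ≫ i) (by simpa using hke)
  have hl : l ≫ a = kernel.ι e ≫ i := hex.lift_f _ _
  have : Mono l := by
    haveI : Mono (l ≫ a) := hl.symm ▸ mono_comp _ _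
    exact mono_of_mono l a
  exact bij_ext p (kernel.ι e) e (kernel.condition _) (ShortComplex.exact_of_f_is_kernel _ (kernelIsKernel _))
    (hA _ l this) (hB _ (Limits.image.ι (i ≫ b)) inferInstance)

instance [Injective I] : (Cls p).IsSerreClass where
  exists_zero := by
    refine ⟨_, isZero_zero C, fun Z i hi => ?_⟩
    haveI := hi
    exact bij_of_isZero p (IsZero.of_mono i (isZero_zero C))
  prop_of_mono := fun f _ h => cls_sub p f h
  prop_of_epi := fun f _ h => cls_quot p f h
  prop_X₂_of_shortExact := fun {S} hS h₁ h₃ => by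
    haveI := hS.mono_f
    exact cls_ext p S.f S.g S.zero hS.exact h₁ h₃

section Coprod

variable [IsGrothendieckAbelian.{w} C] [Injective I]

lemma cls_finset {α : Type w} (X : α → C) (hX : ∀ a, Cls p (X a)) (s : Finset (Discrete α)) :
    Cls p (∐ fun x : s => X x.1.as) := by
  classical
  induction s using Finset.induction_on with
  | empty =>
    have hz0 : IsZero (∐ fun x : (∅ : Finset (Discrete α)) => X x.1.as) := by
      rw [IsZero.iff_id_eq_zero]
      exact Sigma.hom_ext _ _ fun x => absurd x.2 (Finset.notMem_empty _)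
    intro Z i hi
    haveI := hi
    exact bij_of_isZero p (IsZero.of_mono i hz0)
  | @insert a s ha ih =>
    let q : X a.as ⊞ (∐ fun x : s => X x.1.as) ⟶ ∐ fun x : (insert a s : Finset (Discrete α)) => X x.1.as :=
      biprod.desc (Sigma.ι (fun x : (insert a s : Finset (Discrete α)) => X x.1.as) ⟨a, Finset.mem_insert_self a s⟩)
        (Sigma.desc fun x => Sigma.ι (fun x : (insert a s : Finset (Discrete α)) => X x.1.as)
          ⟨x.1, Finset.mem_insert_of_mem x.2⟩)
    haveI : Epi q := ⟨fun g g' h => Sigma.hom_ext _ _ fun x => by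
      rcases x with ⟨x, hx⟩
      rcases Finset.mem_insert.1 hx with rfl | hx'
      · simpa [q] using biprod.inl ≫= h
      · simpa [q] using Sigma.ι (fun x : s => X x.1.as) ⟨x, hx'⟩ ≫= (biprod.inr ≫= h)⟩
    refine cls_quot p q ?_
    exact cls_ext p biprod.inl biprod.snd biprod.inl_snd
      (ShortComplex.exact_of_f_is_kernel _ (biprod.isKernelSndKernelFork _ _)) (hX _) ih

lemma isIso_colimMap_cocone {J : Type w} [SmallCategory J] [IsConnected J] [HasColimitsOfShape J C] {G : J ⥤ C}
    (c : Cocone G) (hc : IsColimit c) : IsIso (colimMap c.ι) := by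
  let k := (isColimitConstCocone J c.pt).coconePointUniqueUpToIso
    (colimit.isColimit ((Functor.const J).obj c.pt))
  let e := (colimit.isColimit G).coconePointUniqueUpToIso hc
  suffices h : colimMap c.ι = (e ≪≫ k).hom by rw [h]; infer_instance
  apply colimit.hom_ext
  intro j
  have hk : (constCocone J c.pt).ι.app j ≫ k.hom = colimit.ι ((Functor.const J).obj c.pt) j :=
    IsColimit.comp_coconePointUniqueUpToIso_hom _ _ _
  have he : colimit.ι G j ≫ e.hom = c.ι.app j := IsColimit.comp_coconePointUniqueUpToIso_hom _ _ _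
  rw [ι_colimMap]
  refine Eq.trans (congrArg (c.ι.app j ≫ ·) (hk.symm.trans (Category.id_comp _))) ?_
  exact (congrArg (· ≫ k.hom) he).symm.trans (Category.assoc _ _ _)

open CoproductsFromFiniteFiltered in
theorem cls_coprod {α : Type w} (X : α → C) (hX : ∀ a, Cls p (X a)) : Cls p (∐ X) := by
  intro Z i hi
  let G := liftToFinsetObj (Discrete.functor X)
  let γ : G ⟶ (Functor.const _).obj (∐ X) := (finiteSubcoproductsCocone X).ι
  let ι' : (Functor.const (Finset (Discrete α))).obj Z ⟶ (Functor.const _).obj (∐ X) :=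
    (Functor.const _).map i
  haveI : IsFiltered (Finset (Discrete α)) := by
    classical
    exact inferInstance
  haveI : IsConnected (Finset (Discrete α)) := IsFiltered.isConnected _
  haveI : IsIso (colimMap γ) :=
    isIso_colimMap_cocone _ (isColimitFiniteSubproductsCocone X)
  have hpb := (IsPullback.of_hasPullback γ ι').map colim
  haveI : IsIso (colim.map γ) := inferInstanceAs (IsIso (colimMap γ))
  haveI : IsIso (colim.map (pullback.snd γ ι')) := hpb.isIso_snd_of_isIso
  let P := pullback γ ι'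
  let π : ∀ s, P.obj s ⟶ Z := fun s => (pullback.snd γ ι').app s
  let c : Cocone P :=
    { pt := Z
      ι :=
        { app := π
          naturality := fun s t f => by simpa [π] using (pullback.snd γ ι').naturality f } }
  have hc : IsColimit c := by
    refine IsColimit.ofIsoColimit (colimit.isColimit P) (Cocone.ext
      (asIso (colim.map (pullback.snd γ ι')) ≪≫
        (IsColimit.coconePointUniqueUpToIso (colimit.isColimit _) (isColimitConstCocone _ Z))) fun s => ?_)
    show colimit.ι P s ≫ colimMap _ ≫ _ = π s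
    rw [ι_colimMap_assoc]
    refine (congrArg (π s ≫ ·) (IsColimit.comp_coconePointUniqueUpToIso_hom _ _ s)).trans ?_
    exact Category.comp_id _
  have hP : ∀ s, Bij p (P.obj s) := fun s => by
    haveI : Mono i := hi
    haveI : ∀ x, Mono (ι'.app x) := fun _ => inferInstanceAs (Mono i)
    haveI : Mono ι' := NatTrans.mono_of_mono_app ι'
    haveI : Mono (pullback.fst γ ι') := inferInstance
    have hm : Mono (((evaluation _ C).obj s).map (pullback.fst γ ι')) := inferInstance
    exact cls_finset p X hX s (P.obj s) ((pullback.fst γ ι').app s) hm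
  refine ⟨fun g g' hg => hc.hom_ext fun s => (hP s).1 (by simpa using congrArg (c.ι.app s ≫ ·) hg), fun h => ?_⟩
  choose g hg using fun s => (hP s).2 (c.ι.app s ≫ h)
  let cI : Cocone P :=
    { pt := I
      ι :=
        { app := g
          naturality := fun s t f => by
            apply (hP s).1
            show (P.map f ≫ g t) ≫ p = (g s ≫ 𝟙 _) ≫ p
            rw [Category.comp_id, Category.assoc, show g t ≫ p = _ from hg t, show g s ≫ p = _ from hg s,
              ← Category.assoc, c.w f] } }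
  refine ⟨hc.desc cI, hc.hom_ext fun s => ?_⟩
  show c.ι.app s ≫ hc.desc cI ≫ p = c.ι.app s ≫ h
  rw [IsColimit.fac_assoc]
  exact hg s

theorem isLocalizing_cls : GabLoc.IsLocalizing.{w} (Cls p) := by
  refine ⟨inferInstance, fun α => ⟨fun X => ?_⟩⟩
  rintro ⟨⟨F, ι, hc⟩, hF⟩
  let e : (∐ fun a : α => F.obj ⟨a⟩) ≅ X :=
    (coproductIsCoproduct _).coconePointUniqueUpToIso ((IsColimit.precomposeHomEquiv Discrete.natIsoFunctor.symm _).symm hc)
  exact (Cls p).prop_of_iso e (cls_coprod p _ fun a => hF _)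

end Coprod

variable (j : M ⟶ I) [Mono j] (hjp : j ≫ p = 0) (hex : (ShortComplex.mk j p hjp).Exact)

include hjp hex

lemma bij_of_closed [Epi p] {P : ObjectProperty C} (hM : GabLoc.IsClosedFor P M) {Z : C} (hZ : P Z) : Bij p Z := by
  haveI : Mono (ShortComplex.mk j p hjp).f := ‹_›
  refine ⟨fun g g' hg => ?_, fun h => ?_⟩
  · rw [← sub_eq_zero]
    have h₀ : (g - g') ≫ p = 0 := by rw [Preadditive.sub_comp, sub_eq_zero]; exact hg
    refine (hex.lift_f (g - g') h₀).symm.trans ?_
    rw [hM.1 hZ (hex.lift (g - g') h₀), zero_comp]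
  · let m : M ⟶ pullback p h := pullback.lift j 0 (by simp [hjp])
    have hm : m ≫ pullback.snd p h = 0 := pullback.lift_snd _ _ _
    haveI : Mono m := mono_of_mono_fac (show m ≫ pullback.fst p h = j from pullback.lift_fst _ _ _)
    haveI : Epi (pullback.snd p h) := inferInstance
    have hse : (ShortComplex.mk m (pullback.snd p h) hm).ShortExact := by
      refine { exact := ShortComplex.exact_of_f_is_kernel _ (KernelFork.IsLimit.ofι' _ _ fun {T} x hx =>
        ⟨hex.lift (x ≫ pullback.fst p h) ?_, ?_⟩) }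
      · show (x ≫ pullback.fst p h) ≫ p = 0
        rw [Category.assoc, pullback.condition, ← Category.assoc]
        exact (congrArg (· ≫ h) hx).trans zero_comp
      · apply pullback.hom_ext
        · rw [Category.assoc]
          exact (congrArg (_ ≫ ·) (pullback.lift_fst _ _ _)).trans (hex.lift_f _ _)
        · rw [Category.assoc]
          exact ((congrArg (_ ≫ ·) hm).trans comp_zero).trans hx.symm
    obtain ⟨⟨r⟩⟩ := hM.2 m (pullback.snd p h) hm hZ hse
    let σ := ShortComplex.Splitting.ofExactOfRetraction _ hse.exact r.retraction r.id inferInstance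
    refine ⟨σ.s ≫ pullback.fst p h, ?_⟩
    show (σ.s ≫ pullback.fst p h) ≫ p = h
    rw [Category.assoc, pullback.condition, ← Category.assoc]
    exact (congrArg (· ≫ h) σ.s_g).trans (Category.id_comp h)

lemma closed_of_bij [Injective I] {P : ObjectProperty C} (h : ∀ Z, P Z → Bij p Z) : GabLoc.IsClosedFor P M := by
  haveI : Mono (ShortComplex.mk j p hjp).f := ‹_›
  refine ⟨fun Y hY g => ?_, fun X Y i π hiπ hY hse => ?_⟩
  · refine zero_of_comp_mono j ((h Y hY).1 ?_)
    show (g ≫ j) ≫ p = 0 ≫ p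
    rw [Category.assoc, hjp, comp_zero, zero_comp]
  · haveI := hse.mono_f
    haveI := hse.epi_g
    haveI : Mono i := hse.mono_f
    let φ := Injective.factorThru j i
    let d : Y ⟶ N := hse.exact.gIsCokernel.desc (CokernelCofork.ofπ (φ ≫ p) (by
      show i ≫ φ ≫ p = 0
      rw [← Category.assoc, Injective.comp_factorThru, hjp]))
    have hd : π ≫ d = φ ≫ p := Cofork.IsColimit.π_desc hse.exact.gIsCokernel
    obtain ⟨g, hg : g ≫ p = d⟩ := (h Y hY).2 d
    have h₀ : (φ - π ≫ g) ≫ p = 0 := by rw [Preadditive.sub_comp, Category.assoc, hg, hd, sub_self]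
    refine IsSplitMono.mk' ⟨hex.lift (φ - π ≫ g) h₀, ?_⟩
    rw [← cancel_mono j, Category.assoc, Category.id_comp]
    refine (congrArg (i ≫ ·) (hex.lift_f (φ - π ≫ g) h₀)).trans ?_
    rw [Preadditive.comp_sub, Injective.comp_factorThru, reassoc_of% hiπ, zero_comp, sub_zero]

omit hjp hex

/-- Closed for a subobject-closed class implies closed for its localizing closure. -/
theorem closed_locClosure [IsGrothendieckAbelian.{w} C] (P : ObjectProperty C) (M : C)
    (hP : ∀ ⦃Z X : C⦄ (i : Z ⟶ X), Mono i → P X → ∃ Q : ObjectProperty C, GabLoc.IsClosedFor Q M ∧ Q Z)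
    : GabLoc.IsClosedFor (GabLoc.locClosure.{w} P) M := by
  let j := Injective.ι M
  have hex : (ShortComplex.mk j (cokernel.π j) (cokernel.condition j)).Exact :=
    ShortComplex.exact_of_g_is_cokernel _ (cokernelIsCokernel j)
  refine closed_of_bij (cokernel.π j) j (cokernel.condition j) hex fun Z hZ => ?_
  have hT := hZ (Cls (cokernel.π j)) (isLocalizing_cls (cokernel.π j)) fun X hX Z' i hi => by
    obtain ⟨Q, hQ, hQZ⟩ := hP i hi hX
    exact bij_of_closed (cokernel.π j) j (cokernel.condition j) hex hQ hQZ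
  exact hT Z (𝟙 Z) inferInstance

theorem closed_mono {P Q : ObjectProperty C} (h : P ≤ Q) {M : C} (hM : GabLoc.IsClosedFor Q M) :
    GabLoc.IsClosedFor P M :=
  ⟨fun _ hY f => hM.1 (h _ hY) f, fun _ _ i q hq hY hse => hM.2 i q hq (h _ hY) hse⟩

end Groth.Agent.H16Derived.GabClosed
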