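import Mathlib.CategoryTheory.Abelian.GrothendieckCategory.EnoughInjectives
import Mathlib.CategoryTheory.MorphismProperty.TransfiniteComposition
import Mathlib.Order.TransfiniteIteration

/-!
# Transfinite filtrations from a successor step on subobjects

A variant of Mathlib's `generatingMonomorphisms.exists_transfiniteCompositionOfShape` for an arbitrary step.
-/

set_option autoImplicit false
set_option linter.style.haveILetI false
set_option backward.defeqAttrib.useBackward true
set_option backward.isDefEq.respectTransparency false

universe w v u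

open CategoryTheory CategoryTheory.Limits

namespace Groth.Agent.H16Derived.TransFil

variable {C : Type u} [Category.{v} C] [Abelian C] [IsGrothendieckAbelian.{w} C] {X : C}
  (φ : Subobject X → Subobject X) (hle : ∀ A, A ≤ φ A)
  (A₀ : Subobject X) (J : Type w) [LinearOrder J] [OrderBot J] [SuccOrder J] [WellFoundedLT J]

/-- The iteration as a functor. -/
noncomputable def toMonoOver : J ⥤ MonoOver X where
  obj j := MonoOver.mk (transfiniteIterate φ j A₀).arrow
  map {j j'} f := MonoOver.homMk (Subobject.ofLE _ _
      (monotone_transfiniteIterate _ _ hle (leOfHom f)))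
  map_id _ := Subsingleton.elim _ _
  map_comp _ _ := Subsingleton.elim _ _

/-- The iteration as a diagram. -/
noncomputable abbrev diag : J ⥤ C := toMonoOver φ hle A₀ J ⋙ MonoOver.forget _ ⋙ Over.forget _

instance : (diag φ hle A₀ J).IsWellOrderContinuous where
  nonempty_isColimit m hm := ⟨by
    have := hm.nonempty_Iio.to_subtype
    let c := (Set.principalSegIio m).cocone (toMonoOver φ hle A₀ J ⋙ MonoOver.forget _)
    have : Mono c.pt.hom := by dsimp [c, toMonoOver]; infer_instance
    apply IsGrothendieckAbelian.isColimitMapCoconeOfSubobjectMkEqISup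
      ((Set.principalSegIio m).monotone.functor ⋙ toMonoOver φ hle A₀ J) c
    dsimp [c, toMonoOver]
    simp only [Subobject.mk_arrow]
    exact transfiniteIterate_limit φ A₀ m hm⟩

variable {W : MorphismProperty C} (hW : ∀ A, W (Subobject.ofLE _ _ (hle A)))

include hW in
set_option backward.isDefEq.respectTransparency.types false in
theorem exists_transfinite {A : C} (f : A ⟶ X) [Mono f] (j : J)
    (hj : transfiniteIterate φ j (Subobject.mk f) = ⊤) :
    MorphismProperty.transfiniteCompositions.{w} W f := by
  rw [MorphismProperty.transfiniteCompositions_iff]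
  refine ⟨Set.Iic j, inferInstance, inferInstance, inferInstance, inferInstance, ⟨?_⟩⟩
  let t : W.TransfiniteCompositionOfShape (Set.Iic j)
      ((diag φ hle (Subobject.mk f) J).map (homOfLE bot_le : ⊥ ⟶ j)) :=
    { F := (Set.initialSegIic j).monotone.functor ⋙ diag φ hle (Subobject.mk f) J
      isoBot := Iso.refl _
      incl :=
        { app k := (diag φ hle (Subobject.mk f) J).map (homOfLE k.2)
          naturality k k' h := by simp [MonoOver.forget, toMonoOver] }
      isColimit := colimitOfDiagramTerminal isTerminalTop _
      map_mem := fun k hk => by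
        dsimp [MonoOver.forget, toMonoOver]
        convert! hW (transfiniteIterate φ k.1 (Subobject.mk f)) using 2
        all_goals
          rw [Set.Iic.succ_eq_of_not_isMax hk, transfiniteIterate_succ _ _ _ (Set.not_isMax_coe _ hk)] }
  have := (Subobject.isIso_arrow_iff_eq_top (transfiniteIterate φ j (Subobject.mk f))).2 hj
  refine t.ofArrowIso (Arrow.isoMk ((Subobject.isoOfEq _ _ (transfiniteIterate_bot _ _) ≪≫
    Subobject.underlyingIso f)) (asIso (transfiniteIterate φ j (Subobject.mk f)).arrow) ?_)
  dsimp [MonoOver.forget, toMonoOver]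
  rw [Category.assoc, Subobject.underlyingIso_hom_comp_eq_mk, Subobject.ofLE_arrow, Subobject.ofLE_arrow]

include hW hle in
theorem exists_transfinite_of_lt (hlt : ∀ A, A ≠ ⊤ → A < φ A) (htop : φ ⊤ = ⊤) {A : C} (f : A ⟶ X) [Mono f] :
    MorphismProperty.transfiniteCompositions.{w} W f := by
  let κ := Order.succ (Cardinal.mk (Shrink.{w} (Subobject X)))
  have : Nonempty κ.ord.ToType := by simp [κ]
  have := WellFoundedLT.toOrderBot κ.ord.ToType
  have hJ : HasCardinalLT (Subobject X) (Cardinal.mk κ.ord.ToType) := lt_of_lt_of_le (Order.lt_succ _) (by simp [κ])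
  obtain ⟨j, hj⟩ := top_mem_range_transfiniteIterate φ (Subobject.mk f) (J := κ.ord.ToType) hlt (by simp [htop])
    (fun h ↦ by simpa [hasCardinalLT_iff_cardinal_mk_lt] using hJ.of_injective _ h)
  exact exists_transfinite φ hle κ.ord.ToType hW f j hj

end Groth.Agent.H16Derived.TransFil
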