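import Mathlib.CategoryTheory.Abelian.GrothendieckCategory.Subobject
import Mathlib.CategoryTheory.Abelian.GrothendieckCategory.EnoughInjectives
import Mathlib.Algebra.Homology.ShortComplex.Abelian
import Mathlib.Order.Zorn

/-!
# Indecomposable injectives are uniform
-/

set_option autoImplicit false
set_option linter.style.haveILetI false
set_option linter.unusedSectionVars false

universe w v u

open CategoryTheory CategoryTheory.Limits

namespace Groth.Agent.H16Derived.Uniform

variable {C : Type u} [Category.{v} C] [Abelian C]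

/-- Two maps into an object meet only in zero. -/
def Disj {A K E : C} (a : A ⟶ E) (k : K ⟶ E) : Prop := ∀ {T : C} (x : T ⟶ A) (y : T ⟶ K), x ≫ a = y ≫ k → x = 0

lemma disj_symm {A K E : C} {a : A ⟶ E} {k : K ⟶ E} [Mono k] (h : Disj a k) : Disj k a :=
  fun x y e => zero_of_comp_mono k (by rw [e, h y x e.symm, zero_comp])

lemma disj_iff_mono {A K E : C} (a : A ⟶ E) (k : K ⟶ E) [Mono k] : Disj a k ↔ Mono (a ≫ cokernel.π k) := by
  constructor
  · intro h
    refine Preadditive.mono_of_cancel_zero _ fun {T} x hx => ?_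
    exact h x _ (Abelian.monoLift_comp k (x ≫ a) (by rw [Category.assoc]; exact hx)).symm
  · intro h T x y e
    exact zero_of_comp_mono (a ≫ cokernel.π k) (by rw [← Category.assoc, e, Category.assoc, cokernel.condition, comp_zero])

/-- A small copy of an index type. -/
structure Idx {α : Type*} [Small.{w} α] : Type w where
  val : Shrink.{w} α

variable [IsGrothendieckAbelian.{w} C]

/-- A maximal subobject mapped monomorphically. -/
theorem exists_max {E Q : C} (q : E ⟶ Q) (B : Subobject E) (hB : Mono (B.arrow ≫ q)) :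
    ∃ K : Subobject E, B ≤ K ∧ Mono (K.arrow ≫ q) ∧ ∀ S : Subobject E, K ≤ S → Mono (S.arrow ≫ q) → S ≤ K := by
  suffices hub : ∀ c ⊆ {S : Subobject E | Mono (S.arrow ≫ q)}, IsChain (· ≤ ·) c → ∀ y ∈ c,
      ∃ ub ∈ {S : Subobject E | Mono (S.arrow ≫ q)}, ∀ z ∈ c, z ≤ ub by
    obtain ⟨K, hBK, hK⟩ := zorn_le_nonempty₀ _ hub B hB
    exact ⟨K, hBK, hK.1, fun S hKS hS => hK.2 hS hKS⟩
  intro c hc hchain y hy
  haveI : Small.{w} c := small_of_injective (f := Subtype.val) Subtype.val_injective
  let e : c ≃ Idx.{w} (α := c) :=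
    { toFun := fun x => ⟨equivShrink.{w} c x⟩
      invFun := fun j => (equivShrink.{w} c).symm j.val
      left_inv := fun x => by simp
      right_inv := fun j => by cases j; simp }
  letI : Preorder (Idx.{w} (α := c)) := Preorder.lift fun j => (e.symm j).1
  haveI : Nonempty (Idx.{w} (α := c)) := ⟨e ⟨y, hy⟩⟩
  haveI : IsDirectedOrder (Idx.{w} (α := c)) := ⟨fun i j => by
    rcases hchain.total (e.symm i).2 (e.symm j).2 with h | h
    · exact ⟨j, h, le_refl _⟩
    · exact ⟨i, le_refl _, h⟩⟩
  haveI : IsFiltered (Idx.{w} (α := c)) := isFiltered_of_directed_le_nonempty _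
  let G : Idx.{w} (α := c) ⥤ MonoOver Q :=
    { obj := fun j => @MonoOver.mk _ _ Q _ ((e.symm j).1.arrow ≫ q) (hc (e.symm j).2)
      map := fun {i j} h => MonoOver.homMk (Subobject.ofLE _ _ (show (e.symm i).1 ≤ (e.symm j).1 from (leOfHom h : i ≤ j))) (by simp)
      map_id := fun _ => Subsingleton.elim _ _
      map_comp := fun _ _ => Subsingleton.elim _ _ }
  let F := G ⋙ MonoOver.forget _ ⋙ Over.forget _
  let cc : Cocone F :=
    { pt := E
      ι :=
        { app := fun j => (e.symm j).1.arrow
          naturality := fun i j h => (Subobject.ofLE_arrow _).trans (Category.comp_id _).symm } }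
  let f := colimit.desc F cc
  have hf : ∀ j, colimit.ι F j ≫ f = (e.symm j).1.arrow := fun j => colimit.ι_desc _ _
  haveI : Mono (f ≫ q) := IsGrothendieckAbelian.mono_of_isColimit_monoOver G (colimit.isColimit F) (f ≫ q)
    (fun j => by
      show colimit.ι F j ≫ f ≫ q = (e.symm j).1.arrow ≫ q
      exact (Category.assoc _ _ _).symm.trans (congrArg (· ≫ q) (hf j)))
  haveI : Mono f := mono_of_mono f q
  refine ⟨Subobject.mk f, ?_, fun z hz => ?_⟩
  · show Mono ((Subobject.mk f).arrow ≫ q)
    rw [← Subobject.underlyingIso_hom_comp_eq_mk, Category.assoc]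
    infer_instance
  · refine Subobject.le_mk_of_comm ?_ ?_ (X := z)
    · exact Subobject.ofLE z (e.symm (e ⟨z, hz⟩)).1 (by simp) ≫ colimit.ι F (e ⟨z, hz⟩)
    · refine (Category.assoc _ _ _).trans ((congrArg (_ ≫ ·) (hf _)).trans ?_)
      exact Subobject.ofLE_arrow _

/-- Nonzero subobjects of an indecomposable injective meet. -/
theorem not_disj {E : C} [Injective E] (hind : ∀ (X Y : C), Nonempty (E ≅ X ⊞ Y) → IsZero X ∨ IsZero Y)
    (A B : Subobject E) (hA : ¬ IsZero (A : C)) (hB : ¬ IsZero (B : C)) : ¬ Disj A.arrow B.arrow := by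
  intro hAB
  obtain ⟨K, hBK, hK, hKmax⟩ := exists_max (cokernel.π A.arrow) B ((disj_iff_mono _ _).1 (disj_symm hAB))
  have hAK : Disj A.arrow K.arrow := disj_symm ((disj_iff_mono _ _).2 hK)
  obtain ⟨L, hAL, hL, hLmax⟩ := exists_max (cokernel.π K.arrow) A ((disj_iff_mono _ _).1 hAK)
  haveI := hL
  let π := cokernel.π K.arrow
  let α : (A : C) ⟶ cokernel K.arrow := A.arrow ≫ π
  haveI : Mono α := (disj_iff_mono _ _).1 hAK
  -- `A ⟶ E/K` is essential
  have hess : ∀ {S : C} (s : S ⟶ cokernel K.arrow), Mono s → Disj α s → s = 0 := by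
    intro S s hs hds
    haveI := hs
    let S' := pullback π s
    have hle : K ≤ Subobject.mk (pullback.fst π s) :=
      Subobject.le_mk_of_comm (pullback.lift K.arrow 0 (by simp [π])) (pullback.lift_fst _ _ _)
    have hd : Disj A.arrow (pullback.fst π s) := fun x y e => hds x (y ≫ pullback.snd π s) (by
      rw [← Category.assoc, e, Category.assoc, Category.assoc, pullback.condition])
    have hm : Mono ((Subobject.mk (pullback.fst π s)).arrow ≫ cokernel.π A.arrow) := by
      haveI := (disj_iff_mono _ _).1 (disj_symm hd)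
      rw [← Subobject.underlyingIso_hom_comp_eq_mk, Category.assoc]
      infer_instance
    obtain hge := hKmax _ hle hm
    have h0 : pullback.fst π s ≫ π = 0 := by
      rw [← Subobject.ofMkLE_arrow hge, Category.assoc]
      exact (congrArg (_ ≫ ·) (cokernel.condition K.arrow)).trans comp_zero
    rw [pullback.condition] at h0
    haveI : Epi (pullback.snd π s) := inferInstance
    rw [← cancel_epi (pullback.snd π s), comp_zero, h0]
  let φ : cokernel K.arrow ⟶ E := Injective.factorThru L.arrow (L.arrow ≫ π)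
  have hφ : (L.arrow ≫ π) ≫ φ = L.arrow := Injective.comp_factorThru _ _
  have hαφ : α ≫ φ = A.arrow := by
    rw [show α = Subobject.ofLE A L hAL ≫ L.arrow ≫ π from (Subobject.ofLE_arrow_assoc hAL π).symm,
      Category.assoc, hφ, Subobject.ofLE_arrow]
  have hker : ∀ {Q : C} (g : E ⟶ Q), Mono (A.arrow ≫ g) → Mono (φ ≫ g) := fun g hg => by
    refine Preadditive.mono_of_kernel_zero (hess _ inferInstance fun x y e => ?_)
    haveI := hg
    refine zero_of_comp_mono (A.arrow ≫ g) ?_
    rw [← hαφ, Category.assoc, ← Category.assoc, e, Category.assoc, kernel.condition, comp_zero]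
  haveI hmπ : Mono (φ ≫ π) := hker π inferInstance
  haveI : Mono φ := mono_of_mono φ π
  have hLle : L ≤ Subobject.mk φ := Subobject.le_mk_of_comm (L.arrow ≫ π) hφ
  have hge : Subobject.mk φ ≤ L := hLmax _ hLle (by
    rw [← Subobject.underlyingIso_hom_comp_eq_mk, Category.assoc]
    infer_instance)
  let r := Subobject.ofMkLE φ L hge
  have hr : r ≫ L.arrow ≫ π = 𝟙 _ := by
    rw [← cancel_mono φ, Category.assoc, hφ, Category.id_comp]
    exact Subobject.ofMkLE_arrow hge
  let S := ShortComplex.mk K.arrow π (cokernel.condition _)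
  have hS : S.Exact := ShortComplex.exact_of_g_is_cokernel S (cokernelIsCokernel _)
  let σ := ShortComplex.Splitting.ofExactOfSection S hS (r ≫ L.arrow) (by rw [Category.assoc]; exact hr) inferInstance
  let e : E ≅ (K : C) ⊞ cokernel K.arrow :=
    { hom := biprod.lift σ.r π
      inv := biprod.desc K.arrow σ.s
      hom_inv_id := by rw [biprod.lift_desc]; exact σ.id
      inv_hom_id := by
        apply biprod.hom_ext' <;> apply biprod.hom_ext <;> simp only [Category.assoc, biprod.inl_desc_assoc,
          biprod.inr_desc_assoc, biprod.lift_fst, biprod.lift_snd, Category.comp_id, biprod.inl_fst, biprod.inl_snd,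
          biprod.inr_fst, biprod.inr_snd]
        · exact σ.f_r
        · exact cokernel.condition _
        · exact σ.s_r
        · exact σ.s_g }
  rcases hind _ _ ⟨e⟩ with h | h
  · exact hB (IsZero.of_mono (Subobject.ofLE B K hBK) h)
  · exact hA (IsZero.of_mono α h)

end Groth.Agent.H16Derived.Uniform
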