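import Groth.Prelude.Def_W4c5qcohlocdualityLoc
import Groth.Agent.H16Derived.TransFil
import Groth.Agent.H16Derived.Uniform
import Mathlib.CategoryTheory.Abelian.SerreClass.Basic
import Mathlib.CategoryTheory.Subobject.Limits

/-!
# Transfinite filtrations and localizing closures
-/

set_option autoImplicit false
set_option linter.style.haveILetI false
set_option linter.unusedSectionVars false

universe w v u

open CategoryTheory CategoryTheory.Limits
open scoped ZeroObject

namespace Groth.Agent.H16Derived.GabFilt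

open Groth.Agent.H16Derived.Uniform

variable {C : Type u} [Category.{v} C] [Abelian C] [IsGrothendieckAbelian.{w} C] (P : ObjectProperty C)

lemma subquot_sub {A A' : C} (i : A' ⟶ A) [Mono i] (h : GabLoc.subquotCoprod.{w} P A) :
    GabLoc.subquotCoprod.{w} P A' := by
  obtain ⟨J, X, hX, B, m, e, hm, he⟩ := h
  haveI := hm
  haveI := he
  exact ⟨J, X, hX, pullback i e, pullback.snd i e ≫ m, pullback.fst i e, inferInstance, inferInstance⟩

lemma subquot_zero {A : C} (h : IsZero A) : GabLoc.subquotCoprod.{w} P A :=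
  ⟨PEmpty.{w + 1}, fun j => j.elim, fun j => j.elim, A, 0, 𝟙 A, ⟨fun _ _ _ => h.eq_of_tgt _ _⟩, inferInstance⟩

lemma subquot_iso {A A' : C} (e : A ≅ A') (h : GabLoc.subquotCoprod.{w} P A) : GabLoc.subquotCoprod.{w} P A' :=
  subquot_sub P e.inv h

/-- Every nonzero quotient has a nonzero subobject in the class. -/
def Cls : ObjectProperty C := fun X => ∀ (Y : C) (π : X ⟶ Y), Epi π → ¬ IsZero Y →
  ∃ (S : C) (s : S ⟶ Y), Mono s ∧ ¬ IsZero S ∧ GabLoc.subquotCoprod.{w} P S

lemma cls_quot {X Y : C} (f : X ⟶ Y) [Epi f] (h : Cls.{w} P X) : Cls.{w} P Y :=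
  fun Z π hπ hZ => h Z (f ≫ π) inferInstance hZ

lemma cls_of_mem {X : C} (hX : P X) : Cls.{w} P X := fun Y π hπ hY =>
  ⟨Y, 𝟙 Y, inferInstance, hY, PUnit.{w + 1}, fun _ => X, fun _ => hX, X, Sigma.ι (fun _ : PUnit.{w + 1} => X) ⟨⟩, π,
    inferInstance, hπ⟩

lemma cls_sub {X Z : C} (i : Z ⟶ X) [Mono i] (h : Cls.{w} P X) : Cls.{w} P Z := by
  intro Y π hπ hY
  let j := pushout.inr i π
  haveI : Mono j := inferInstance
  have hB₀ : Mono ((⊥ : Subobject (pushout i π)).arrow ≫ cokernel.π j) :=
    ⟨fun _ _ _ => ((isZero_zero C).of_iso Subobject.botCoeIsoZero).eq_of_tgt _ _⟩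
  obtain ⟨B, -, hB, hBmax⟩ := exists_max (cokernel.π j) (⊥ : Subobject (pushout i π)) hB₀
  have hjB : Disj j B.arrow := disj_symm ((disj_iff_mono _ _).2 hB)
  let Q := cokernel B.arrow
  let α := j ≫ cokernel.π B.arrow
  haveI : Mono α := (disj_iff_mono _ _).1 hjB
  have hQ : ¬ IsZero Q := fun h => hY (IsZero.of_mono α h)
  haveI : Epi (pushout.inl i π ≫ cokernel.π B.arrow) := inferInstance
  obtain ⟨S, s, hs, hS, hSP⟩ := h Q (pushout.inl i π ≫ cokernel.π B.arrow) inferInstance hQ
  haveI := hs
  refine ⟨pullback α s, pullback.fst α s, inferInstance, fun hz => hS ?_, subquot_sub P (pullback.snd α s) hSP⟩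
  let S' := pullback (cokernel.π B.arrow) s
  have hle : B ≤ Subobject.mk (pullback.fst (cokernel.π B.arrow) s) :=
    Subobject.le_mk_of_comm (pullback.lift B.arrow 0 (by simp)) (pullback.lift_fst _ _ _)
  have hd : Disj j (pullback.fst (cokernel.π B.arrow) s) := fun x y e => by
    let l := pullback.lift (f := α) (g := s) x (y ≫ pullback.snd _ s)
      (by rw [← Category.assoc, e, Category.assoc, Category.assoc, pullback.condition])
    rw [show x = l ≫ pullback.fst α s from (pullback.lift_fst _ _ _).symm, hz.eq_of_tgt l 0, zero_comp]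
  have hm : Mono ((Subobject.mk (pullback.fst (cokernel.π B.arrow) s)).arrow ≫ cokernel.π j) := by
    haveI := (disj_iff_mono _ _).1 (disj_symm hd)
    rw [← Subobject.underlyingIso_hom_comp_eq_mk, Category.assoc]
    infer_instance
  have hge := hBmax _ hle hm
  have h0 : pullback.fst (cokernel.π B.arrow) s ≫ cokernel.π B.arrow = 0 := by
    rw [← Subobject.ofMkLE_arrow hge, Category.assoc, cokernel.condition, comp_zero]
  rw [pullback.condition] at h0
  rw [IsZero.iff_id_eq_zero, ← cancel_epi (pullback.snd (cokernel.π B.arrow) s), ← cancel_mono s, Category.comp_id,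
    comp_zero, zero_comp, h0]

lemma cls_ext {A X B : C} (a : A ⟶ X) (b : X ⟶ B) [Mono a] [Epi b] (w : a ≫ b = 0)
    (hex : (ShortComplex.mk a b w).Exact) (hA : Cls.{w} P A) (hB : Cls.{w} P B) : Cls.{w} P X := by
  intro Y π hπ hY
  haveI := hπ
  by_cases h0 : a ≫ π = 0
  · haveI : Epi (ShortComplex.mk a b w).g := ‹Epi b›
    let d : B ⟶ Y := hex.gIsCokernel.desc (CokernelCofork.ofπ π h0)
    have hd : b ≫ d = π := Cofork.IsColimit.π_desc hex.gIsCokernel
    haveI : Epi d := epi_of_epi_fac hd
    exact hB Y d inferInstance hY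
  · obtain ⟨S, s, hs, hS, hSP⟩ := hA (Limits.image (a ≫ π)) (Limits.factorThruImage _) inferInstance
      (fun hz => h0 (by rw [← Limits.image.fac (a ≫ π), hz.eq_of_tgt (Limits.factorThruImage _) 0, zero_comp]))
    exact ⟨S, s ≫ Limits.image.ι _, mono_comp _ _, hS, hSP⟩

lemma cls_coprod {α : Type w} (X : α → C) (hX : ∀ a, Cls.{w} P (X a)) : Cls.{w} P (∐ X) := by
  intro Y π hπ hY
  haveI := hπ
  obtain ⟨a, ha⟩ : ∃ a, Sigma.ι X a ≫ π ≠ 0 := by
    by_contra h
    simp only [not_exists, not_not] at h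
    refine hY ((IsZero.iff_id_eq_zero _).2 ?_)
    rw [← cancel_epi π, Category.comp_id, comp_zero]
    exact Sigma.hom_ext _ _ fun a => by rw [h a, comp_zero]
  obtain ⟨S, s, hs, hS, hSP⟩ := hX a (Limits.image (Sigma.ι X a ≫ π)) (Limits.factorThruImage _) inferInstance
    (fun hz => ha (by
      rw [← Limits.image.fac (Sigma.ι X a ≫ π), hz.eq_of_tgt (Limits.factorThruImage _) 0, zero_comp]))
  exact ⟨S, s ≫ Limits.image.ι _, mono_comp _ _, hS, hSP⟩

instance : (Cls.{w} P).IsClosedUnderIsomorphisms where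
  of_iso e h := cls_quot P e.hom h

theorem isLocalizing_cls : GabLoc.IsLocalizing.{w} (Cls.{w} P) := by
  refine ⟨{
    exists_zero := ⟨0, isZero_zero C, fun Y π hπ hY =>
      absurd (IsZero.of_epi π (isZero_zero C)) hY⟩
    prop_of_mono := fun f _ h => cls_sub P f h
    prop_of_epi := fun f _ h => cls_quot P f h
    prop_X₂_of_shortExact := fun {S} hS h₁ h₃ => ?_ }, fun α => ⟨fun X => ?_⟩⟩
  · haveI := hS.mono_f
    haveI := hS.epi_g
    exact cls_ext P S.f S.g S.zero hS.exact h₁ h₃
  · rintro ⟨⟨F, ι, hc⟩, hF⟩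
    let e : (∐ fun a : α => F.obj ⟨a⟩) ≅ X :=
      (coproductIsCoproduct _).coconePointUniqueUpToIso ((IsColimit.precomposeHomEquiv Discrete.natIsoFunctor.symm _).symm hc)
    exact (Cls.{w} P).prop_of_iso e (cls_coprod P _ fun a => hF _)

variable {P}

lemma exists_larger {X : C} (hX : Cls.{w} P X) (A : Subobject X) (hA : A ≠ ⊤) :
    ∃ (A' : Subobject X) (h : A < A'), GabLoc.monoModSubquot.{w} P (Subobject.ofLE A A' h.le) := by
  obtain ⟨S, s, hs, hS, hSP⟩ := hX (cokernel A.arrow) (cokernel.π A.arrow) inferInstance (fun hz => hA (by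
    haveI : Epi A.arrow := Preadditive.epi_of_isZero_cokernel _ hz
    haveI : IsIso A.arrow := isIso_of_mono_of_epi _
    exact Subobject.eq_top_of_isIso_arrow A))
  haveI := hs
  let p := pullback.fst (cokernel.π A.arrow) s
  let q := pullback.snd (cokernel.π A.arrow) s
  let a : (A : C) ⟶ pullback (cokernel.π A.arrow) s := pullback.lift A.arrow 0 (by simp)
  have ha : a ≫ p = A.arrow := pullback.lift_fst _ _ _
  have haq : a ≫ q = 0 := pullback.lift_snd _ _ _
  have hle : A ≤ Subobject.mk p := Subobject.le_mk_of_comm a ha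
  haveI : Mono a := mono_of_mono_fac ha
  haveI : Epi q := inferInstance
  haveI : Epi (ShortComplex.mk a q haq).g := ‹Epi q›
  have hex : (ShortComplex.mk a q haq).Exact := by
    refine ShortComplex.exact_of_f_is_kernel _ (KernelFork.IsLimit.ofι' _ _ fun {T} x hx => ?_)
    have hx' : (x ≫ p) ≫ cokernel.π A.arrow = 0 := by
      rw [Category.assoc, pullback.condition, ← Category.assoc]
      exact (congrArg (· ≫ s) hx).trans zero_comp
    refine ⟨Abelian.monoLift A.arrow (x ≫ p) hx', ?_⟩
    rw [← cancel_mono p]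
    exact (Category.assoc _ _ _).trans ((congrArg (_ ≫ ·) ha).trans (Abelian.monoLift_comp _ _ _))
  have e : cokernel a ≅ S := (cokernelIsCokernel a).coconePointUniqueUpToIso hex.gIsCokernel
  have hlt : A < Subobject.mk p := lt_of_le_of_ne hle fun heq => hS (by
    rw [IsZero.iff_id_eq_zero, ← cancel_epi q, ← cancel_mono s, Category.comp_id, comp_zero, zero_comp]
    show q ≫ s = 0
    rw [← pullback.condition]
    show p ≫ cokernel.π A.arrow = 0
    rw [← Subobject.ofMkLE_arrow heq.ge, Category.assoc, cokernel.condition, comp_zero])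
  refine ⟨Subobject.mk p, hlt, inferInstance, subquot_iso P ?_ hSP⟩
  refine e.symm ≪≫ cokernel.mapIso a (Subobject.ofLE A _ hle) (Iso.refl _) (Subobject.underlyingIso p).symm ?_
  rw [← cancel_mono (Subobject.mk p).arrow]
  simp [ha]

open scoped Classical in
theorem exists_filtration {X : C} (hX : Cls.{w} P X) :
    MorphismProperty.transfiniteCompositions.{w} (GabLoc.monoModSubquot.{w} P) (0 : (0 : C) ⟶ X) := by
  let φ : Subobject X → Subobject X := fun A => if hA : A = ⊤ then ⊤ else (exists_larger hX A hA).choose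
  have hlt : ∀ A, A ≠ ⊤ → A < φ A := fun A hA => by
    simp only [φ, dif_neg hA]
    exact (exists_larger hX A hA).choose_spec.choose
  have hle : ∀ A, A ≤ φ A := fun A => by
    by_cases hA : A = ⊤
    · simp [φ, hA]
    · exact (hlt A hA).le
  have hW : ∀ A, GabLoc.monoModSubquot.{w} P (Subobject.ofLE _ _ (hle A)) := fun A => by
    have key : ∀ (B : Subobject X) (h : A ≤ B), B = φ A → GabLoc.monoModSubquot.{w} P (Subobject.ofLE A B h) →
        GabLoc.monoModSubquot.{w} P (Subobject.ofLE A (φ A) (hle A)) := by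
      rintro B h rfl hP
      exact hP
    by_cases hA : A = ⊤
    · refine key ⊤ le_top (by simp [φ, hA]) ⟨inferInstance, subquot_zero P ?_⟩
      haveI : IsIso (Subobject.ofLE A ⊤ le_top) := by
        subst hA
        rw [Subobject.ofLE_refl]
        infer_instance
      exact isZero_cokernel_of_epi _
    · exact key _ (exists_larger hX A hA).choose_spec.choose.le (by simp [φ, hA])
        (exists_larger hX A hA).choose_spec.choose_spec
  haveI : Mono (0 : (0 : C) ⟶ X) := ⟨fun _ _ _ => (isZero_zero C).eq_of_tgt _ _⟩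
  exact TransFil.exists_transfinite_of_lt φ hle hW hlt (by simp [φ]) _

theorem mem_closure_of_transfinite {X : C}
    (h : MorphismProperty.transfiniteCompositions.{w} (GabLoc.monoModSubquot.{w} P) (0 : (0 : C) ⟶ X))
    (T : ObjectProperty C) (hT : GabLoc.IsLocalizing.{w} T) (hPT : P ≤ T) : T X := by
  haveI := hT.isSerreClass
  have hq : ∀ A, GabLoc.subquotCoprod.{w} P A → T A := by
    rintro A ⟨J, Y, hY, B, m, e, hm, he⟩
    haveI := hT.isClosedUnderCoproducts J
    exact T.prop_of_epi e (T.prop_of_mono m (T.prop_of_isColimit (colimit.isColimit (Discrete.functor Y))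
      fun j => hPT _ (hY j.as)))
  rw [MorphismProperty.transfiniteCompositions_iff] at h
  obtain ⟨J, _, _, _, _, ⟨t⟩⟩ := h
  have hcolim : ∀ {K : Type w} [Category.{w} K] (G : K ⥤ C) (c : Cocone G), IsColimit c →
      (∀ k, T (G.obj k)) → T c.pt := by
    intro K _ G c hc hG
    haveI := hT.isClosedUnderCoproducts K
    haveI : Epi (Sigma.desc fun k => c.ι.app k) := ⟨fun g g' hgg => hc.hom_ext fun k => by
      simpa using Sigma.ι G.obj k ≫= hgg⟩
    exact T.prop_of_epi (Sigma.desc fun k => c.ι.app k)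
      (T.prop_of_isColimit (colimit.isColimit (Discrete.functor G.obj)) fun k => hG k.as)
  suffices ∀ j, T (t.F.obj j) from hcolim _ _ t.isColimit this
  intro j
  induction j using SuccOrder.limitRecOn with
  | isMin j hj =>
    obtain rfl := hj.eq_bot
    exact T.prop_of_iso t.isoBot.symm T.prop_zero
  | succ j hj ih =>
    obtain ⟨hm, hc⟩ := t.map_mem j hj
    exact T.prop_X₂_of_shortExact (S := ShortComplex.mk (t.F.map (homOfLE (Order.le_succ j))) (cokernel.π _)
      (cokernel.condition _)) { exact := ShortComplex.exact_of_g_is_cokernel _ (cokernelIsCokernel _), mono_f := hm }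
      ih (hq _ hc)
  | isSuccLimit j hj ih =>
    exact hcolim _ _ (t.F.isColimitOfIsWellOrderContinuous j hj) fun k => ih k.1 k.2

theorem closure_iff (X : C) : GabLoc.locClosure.{w} P X ↔
    MorphismProperty.transfiniteCompositions.{w} (GabLoc.monoModSubquot.{w} P) (0 : (0 : C) ⟶ X) :=
  ⟨fun h => exists_filtration (h _ (isLocalizing_cls P) fun _ hY => cls_of_mem P hY),
    fun h T hT hPT => mem_closure_of_transfinite h T hT hPT⟩

end Groth.Agent.H16Derived.GabFilt
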