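import Groth.Agent.H16Derived.QCohD.HomVanish
import Groth.Agent.H16Derived.QCohD.Equiv
import Groth.Agent.H16Derived.ProjFormula.PTri
import Groth.Agent.H16Derived.MVPush.Support
import Groth.Agent.H16Derived.Thomason.Supp
import Groth.Agent.H11Ample.Extend
import Groth.Agent.H10Coh.TwistExact
import Groth.Prelude.Def_KoszTw

/-!
# Objects orthogonal to all negative powers of an invertible module vanish on `X_s`

For a section `s` of an invertible module `L` and `K` with quasi-coherent cohomology: if all morphisms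
`O_X[n] ⟶ K ⊗ L^N` vanish and `X_s` is affine then `K` vanishes on `X_s`.
-/

set_option autoImplicit false
set_option linter.style.haveILetI false
set_option backward.isDefEq.respectTransparency false

universe u

open CategoryTheory CategoryTheory.Limits CategoryTheory.Pretriangulated AlgebraicGeometry Opposite TopologicalSpace

attribute [local instance] HasDerivedCategory.standard

noncomputable section

namespace Groth.Agent.H16Derived.GenAmple

open Groth.Agent.H11Tilde Groth.Agent.H11Ample Groth.Agent.H10Coh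
open Groth.Agent.H16Derived.QCohD
open Groth.Agent.H16Derived.KFlat Groth.Agent.H16Derived.KFlat.Stalk

variable {X : Scheme.{u}} (L : X.Modules)

/-- Tensoring on the right with `L`. -/
abbrev tw : X.Modules ⥤ X.Modules := (DCoh.tensorBi (X := X)).flip.obj L

variable {L} (s : Coh.structureModule X ⟶ L)

/-- Multiplication by `s` on one module. -/
def sigApp (F : X.Modules) : F ⟶ (tw L).obj F :=
  (SecTwist.unitorR F).inv ≫ KoszTw.tensorMap (𝟙 F) s

theorem sigApp_apply (F : X.Modules) (U : X.Opens) (m : Γ(F, U)) :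
    (sigApp s F).app U m = tm m (SecTwist.val s U) := by
  have h : (SecTwist.unitorR F).inv.app U m =
      SecTwist.tmul F (Coh.structureModule X) U m (1 : X.ringCatSheaf.obj.obj (op U)) := by
    have h1 : (SecTwist.unitorR F).hom.app U
        (SecTwist.tmul F (Coh.structureModule X) U m (1 : X.ringCatSheaf.obj.obj (op U))) = m :=
      (SecTwist.unitorR_tmul F U m 1).trans (one_smul _ _)
    conv_lhs => rw [← h1]
    exact congr($(congrArg (fun k => Scheme.Modules.Hom.app k U) (SecTwist.unitorR F).hom_inv_id) _)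
  show (KoszTw.tensorMap (𝟙 F) s).app U ((SecTwist.unitorR F).inv.app U m) = _
  rw [h]
  exact KoszTw.tensorMap_tmul (𝟙 F) s U m _

theorem tw_map_tm {F G : X.Modules} (f : F ⟶ G) {U : X.Opens} (m : Γ(F, U)) (e : Γ(L, U)) :
    ((tw L).map f).app U (tm m e) = tm (f.app U m) e := by
  show ((DCoh.tensorBi.map f).app L).app U _ = _
  rw [KoszTw.tensorBi_map_app]
  exact KoszTw.tensorMap_tmul f (𝟙 L) U m e

/-- Multiplication by `s`. -/
def sig : 𝟭 X.Modules ⟶ tw L where
  app := sigApp s
  naturality F G f := by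
    refine Scheme.Modules.hom_ext _ _ fun U => ?_
    ext m
    show (sigApp s G).app U (f.app U m) = ((tw L).map f).app U ((sigApp s F).app U m)
    rw [sigApp_apply, sigApp_apply, tw_map_tm]

variable (hL : PicF.IsInvertible L)

include hL in
theorem exact_tw : PreservesFiniteLimits (tw L) ∧ PreservesFiniteColimits (tw L) := by
  have h : ∀ S : ShortComplex X.Modules, S.ShortExact → (S.map (tw L)).ShortExact := fun S hS =>
    isFlatObj_of_isFlat (isFlat_of_isFinLocFree (fun x => let ⟨U, hxU, ⟨e⟩⟩ := hL x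
      ⟨U, 1, hxU, ⟨e ≪≫ (coproductUniqueIso fun _ : Fin 1 => Coh.structureModule (↑U : Scheme.{u})).symm⟩⟩)) S hS
  exact ((Functor.exact_tfae (tw L)).out 0 3).1 h

/-- The nonvanishing locus. -/
abbrev ns : X.Opens := gen L (SecTwist.val s ⊤)

theorem val_res (W : X.Opens) :
    L.presheaf.map (homOfLE (le_top : W ≤ ⊤)).op (SecTwist.val s ⊤) = SecTwist.val s W :=
  SecTwist.map_val s (homOfLE le_top)

include hL in
theorem isIso_restrict_sig (F : X.Modules) :
    IsIso ((Scheme.Modules.restrictFunctor (ns s).ι).map ((sig s).app F)) := by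
  haveI : ∀ W, IsIso (((Scheme.Modules.restrictFunctor (ns s).ι).map ((sig s).app F)).app W) := fun W => by
    refine (ConcreteCategory.isIso_iff_bijective _).2 ?_
    let W' := (ns s).ι ''ᵁ W
    have hle : W' ≤ ns s := (ns s).ι_image_le W
    show Function.Bijective ((sigApp s F).app W')
    have he := isGen_gen (L := L) (SecTwist.val s ⊤)
    rw [val_res] at he
    have h := bijective_tm (F := F) he hle
    have e : L.presheaf.map (homOfLE hle).op (SecTwist.val s (ns s)) = SecTwist.val s W' := SecTwist.map_val s (homOfLE hle)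
    rw [e] at h
    exact (congrArg Function.Bijective (funext fun m => sigApp_apply s F W' m)).mpr h
  exact Scheme.Modules.Hom.isIso_iff_isIso_app.2 this

/-- The comparison of homology for the identity functor. -/
theorem mapHomologyIso_id_inv {C : Type*} [Category C] [Abelian C] (S : ShortComplex C) : (S.mapHomologyIso (𝟭 C)).inv = 𝟙 _ := by
  let γ : ShortComplex.LeftHomologyMapData (𝟙 S) S.homologyData.left (S.homologyData.left.map (𝟭 C)) :=
    { φK := 𝟙 _, φH := 𝟙 _, commi := (Category.id_comp _).trans (Category.comp_id _).symm, commf' := by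
        erw [Category.comp_id, Category.id_comp]; exact (ShortComplex.LeftHomologyData.map_f' S.homologyData.left (𝟭 C)).symm,
      commπ := (Category.comp_id _).trans (Category.id_comp _).symm }
  have h := γ.homologyMap_eq
  rw [ShortComplex.homologyMap_id] at h
  have h1 : (S.homologyData.left.homologyIso).hom = 𝟙 _ := by
    dsimp [ShortComplex.LeftHomologyData.homologyIso]
    exact Iso.inv_hom_id _
  have h2 := h.symm
  rw [h1] at h2
  erw [Category.id_comp, Category.id_comp] at h2
  exact h2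

section Derived

variable [PreservesFiniteLimits (tw L)] [PreservesFiniteColimits (tw L)]

/-- Tensoring on the derived category. -/
abbrev TD : DCoh.D X ⥤ DCoh.D X := (tw L).mapDerivedCategory

/-- Multiplication by `s` on complexes. -/
def sigC (C : CochainComplex X.Modules ℤ) :
    C ⟶ ((tw L).mapHomologicalComplex (ComplexShape.up ℤ)).obj C where
  f i := (sig s).app (C.X i)
  comm' i j _ := ((sig s).naturality (C.d i j)).symm

/-- Multiplication by `s` as a transformation of functors on complexes. -/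
def sigQ : (DerivedCategory.Q : CochainComplex X.Modules ℤ ⥤ DCoh.D X) ⟶
    (tw L).mapHomologicalComplex (ComplexShape.up ℤ) ⋙ DerivedCategory.Q where
  app C := DerivedCategory.Q.map (sigC s C)
  naturality C C' f := by
    refine ((DerivedCategory.Q).map_comp _ _).symm.trans
      ((congrArg _ ?_).trans ((DerivedCategory.Q).map_comp _ _))
    refine HomologicalComplex.Hom.ext (funext fun i => ?_)
    exact (sig s).naturality (f.f i)

/-- Multiplication by `s` on the derived category. -/
def sigD : 𝟭 (DCoh.D X) ⟶ TD (L := L) :=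
  letI : Localization.Lifting (DerivedCategory.Q (C := X.Modules))
      (HomologicalComplex.quasiIso X.Modules (ComplexShape.up ℤ))
      (DerivedCategory.Q (C := X.Modules)) (𝟭 (DCoh.D X)) := ⟨Functor.rightUnitor _⟩
  letI : Localization.Lifting (DerivedCategory.Q (C := X.Modules))
      (HomologicalComplex.quasiIso X.Modules (ComplexShape.up ℤ))
      ((tw L).mapHomologicalComplex (ComplexShape.up ℤ) ⋙ DerivedCategory.Q) (TD (L := L)) :=
    ⟨(tw L).mapDerivedCategoryFactors⟩
  Localization.liftNatTrans DerivedCategory.Q (HomologicalComplex.quasiIso X.Modules (ComplexShape.up ℤ))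
    DerivedCategory.Q ((tw L).mapHomologicalComplex (ComplexShape.up ℤ) ⋙ DerivedCategory.Q) _ _ (sigQ s)

theorem sigD_Q (C : CochainComplex X.Modules ℤ) :
    (sigD s).app (DerivedCategory.Q.obj C) ≫ (tw L).mapDerivedCategoryFactors.hom.app C =
      DerivedCategory.Q.map (sigC s C) := by
  rw [sigD, Localization.liftNatTrans_app, Category.assoc, Category.assoc]
  erw [Iso.inv_hom_id_app]
  exact (Category.id_comp _).trans (Category.comp_id _)

theorem hd_sigD (E : DCoh.D X) (m : ℤ) :
    ∃ k : (tw L).obj (DCoh.HD E m) ≅ DCoh.HD ((TD (L := L)).obj E) m,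
      (DerivedCategory.homologyFunctor X.Modules m).map ((sigD s).app E) = (sig s).app (DCoh.HD E m) ≫ k.hom := by
  let H := DerivedCategory.homologyFunctor X.Modules m
  let C := DerivedCategory.Q.objPreimage E
  let e : DerivedCategory.Q.obj C ≅ E := DerivedCategory.Q.objObjPreimageIso E
  let C' := ((tw L).mapHomologicalComplex (ComplexShape.up ℤ)).obj C
  let φ := DerivedCategory.homologyFunctorFactors X.Modules m
  let ψ : H.obj (DerivedCategory.Q.obj C') ≅ (tw L).obj (C.homology m) :=
    φ.app C' ≪≫ (C.sc m).mapHomologyIso (tw L)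
  have hC : H.map (DerivedCategory.Q.map (sigC s C)) ≫ ψ.hom = φ.hom.app C ≫ (sig s).app (C.homology m) := by
    have h1 := φ.hom.naturality (sigC s C)
    have h2 : (sig s).app (C.homology m) =
        HomologicalComplex.homologyMap (sigC s C) m ≫ ((C.sc m).mapHomologyIso (tw L)).hom := by
      have := NatTrans.app_homology (sig s) (C.sc m)
      refine this.trans ?_
      have hid := mapHomologyIso_id_inv (C.sc m)
      exact ((congrArg (· ≫ _) hid).trans (Category.id_comp _)).trans rfl
    show H.map _ ≫ φ.hom.app C' ≫ _ = _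
    exact ((Category.assoc _ _ _).symm.trans ((congrArg (· ≫ _) h1).trans (Category.assoc _ _ _))).trans
      (congrArg (φ.hom.app C ≫ ·) h2.symm)
  let a : H.obj E ≅ C.homology m := H.mapIso e.symm ≪≫ φ.app C
  refine ⟨(tw L).mapIso a ≪≫ ψ.symm ≪≫ H.mapIso (((tw L).mapDerivedCategoryFactors.app C).symm ≪≫
    (TD (L := L)).mapIso e), ?_⟩
  have hn : (sigD s).app E = e.inv ≫ (sigD s).app (DerivedCategory.Q.obj C) ≫ (TD (L := L)).map e.hom := by
    rw [← (sigD s).naturality e.hom, Functor.id_map, Iso.inv_hom_id_assoc]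
  have hq : (sigD s).app (DerivedCategory.Q.obj C) =
      DerivedCategory.Q.map (sigC s C) ≫ (tw L).mapDerivedCategoryFactors.inv.app C := by
    rw [← sigD_Q, Category.assoc, Iso.hom_inv_id_app]
    exact (Category.comp_id _).symm
  have hnat : (sig s).app (H.obj E) ≫ (tw L).map a.hom = a.hom ≫ (sig s).app (C.homology m) :=
    ((sig s).naturality a.hom).symm
  calc H.map ((sigD s).app E)
      = H.map e.inv ≫ (H.map (DerivedCategory.Q.map (sigC s C)) ≫ ψ.hom) ≫ ψ.inv ≫
          H.map ((tw L).mapDerivedCategoryFactors.inv.app C) ≫ H.map ((TD (L := L)).map e.hom) := by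
        rw [hn, hq, Category.assoc, Functor.map_comp, Functor.map_comp, Functor.map_comp, Category.assoc,
          Iso.hom_inv_id_assoc]
    _ = (a.hom ≫ (sig s).app (C.homology m)) ≫ ψ.inv ≫
          H.map ((tw L).mapDerivedCategoryFactors.inv.app C) ≫ H.map ((TD (L := L)).map e.hom) := by
        rw [hC]; simp [a]
    _ = _ := by
        rw [← hnat]
        simp [Functor.map_comp]
        rfl

theorem isIso_rd_sigD (hL : PicF.IsInvertible L) (E : DCoh.D X) :
    IsIso ((DCoh.restrictD (ns s).ι).map ((sigD s).app E)) := by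
  obtain ⟨C, ⟨e⟩⟩ : ∃ C, Nonempty (DerivedCategory.Q.obj C ≅ E) :=
    ⟨_, ⟨DerivedCategory.Q.objObjPreimageIso E⟩⟩
  let R := Scheme.Modules.restrictFunctor (ns s).ι
  haveI : IsIso ((R.mapHomologicalComplex (ComplexShape.up ℤ)).map (sigC s C)) := by
    haveI : ∀ i, IsIso (((R.mapHomologicalComplex (ComplexShape.up ℤ)).map (sigC s C)).f i) := fun i =>
      isIso_restrict_sig s hL (C.X i)
    exact HomologicalComplex.Hom.isIso_of_components _
  have h1 : IsIso (R.mapDerivedCategory.map (DerivedCategory.Q.map (sigC s C))) :=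
    ((MorphismProperty.isomorphisms (DCoh.D (ns s : Scheme.{u}))).arrow_mk_iso_iff
      (Arrow.isoMk (R.mapDerivedCategoryFactors.app C) (R.mapDerivedCategoryFactors.app _)
        (R.mapDerivedCategoryFactors.hom.naturality (sigC s C)).symm)).2
      (inferInstanceAs (IsIso (DerivedCategory.Q.map ((R.mapHomologicalComplex (ComplexShape.up ℤ)).map (sigC s C)))))
  have h2 : IsIso ((DCoh.restrictD (ns s).ι).map ((sigD s).app (DerivedCategory.Q.obj C))) := by
    rw [← sigD_Q, Functor.map_comp] at h1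
    haveI := h1
    exact IsIso.of_isIso_comp_right (R.mapDerivedCategory.map ((sigD s).app (DerivedCategory.Q.obj C)))
      (R.mapDerivedCategory.map ((tw L).mapDerivedCategoryFactors.hom.app C))
  haveI : IsIso ((DCoh.restrictD (ns s).ι).map ((sigD s).app E)) := by
    haveI := h2
    have hn : (sigD s).app E = e.inv ≫ (sigD s).app (DerivedCategory.Q.obj C) ≫ (TD (L := L)).map e.hom := by
      rw [← (sigD s).naturality e.hom, Functor.id_map, Iso.inv_hom_id_assoc]
    rw [hn, Functor.map_comp, Functor.map_comp]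
    infer_instance
  infer_instance

/-- The iterates of tensoring. -/
def TN : ℕ → (DCoh.D X ⥤ DCoh.D X)
  | 0 => 𝟭 _
  | N + 1 => TD (L := L) ⋙ TN N

/-- The powers of `s`. -/
def sN : ∀ N : ℕ, 𝟭 (DCoh.D X) ⟶ TN (L := L) N
  | 0 => 𝟙 _
  | N + 1 => { app := fun E => (sigD s).app E ≫ (sN N).app ((TD (L := L)).obj E)
               naturality := fun E E' f => by
                 show f ≫ (sigD s).app E' ≫ (sN N).app _ = _
                 rw [← Category.assoc, show f ≫ (sigD s).app E' = (sigD s).app E ≫ (TD (L := L)).map f from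
                   (sigD s).naturality f, Category.assoc, Category.assoc]
                 exact congrArg ((sigD s).app E ≫ ·) ((sN N).naturality ((TD (L := L)).map f)) }

theorem sN_succ (N : ℕ) (E : DCoh.D X) :
    (sN s (N + 1)).app E = (sigD s).app E ≫ (sN s N).app ((TD (L := L)).obj E) := rfl

theorem sN_add (M : ℕ) : ∀ (N : ℕ) (E : DCoh.D X),
    ∃ j : (TN (L := L) M).obj ((TN (L := L) N).obj E) ≅ (TN (L := L) (M + N)).obj E,
      (sN s N).app E ≫ (sN s M).app _ ≫ j.hom = (sN s (M + N)).app E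
  | 0, E => ⟨Iso.refl _, by
      show 𝟙 E ≫ (sN s M).app E ≫ 𝟙 _ = _
      rw [Category.id_comp, Category.comp_id]
      rfl⟩
  | N + 1, E => by
      obtain ⟨j, hj⟩ := sN_add M N ((TD (L := L)).obj E)
      refine ⟨j, ?_⟩
      rw [sN_succ, Category.assoc]
      exact congrArg ((sigD s).app E ≫ ·) hj

theorem ptri_TN : ∀ N : ℕ, ProjFormula.PTri (TN (L := L) N)
  | 0 => ProjFormula.ptri_of_isTriangulated (𝟭 (DCoh.D X))
  | N + 1 => (ProjFormula.ptri_of_isTriangulated (TD (L := L))).comp (ptri_TN N)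

theorem isIso_rd_sN (hL : PicF.IsInvertible L) : ∀ (N : ℕ) (E : DCoh.D X),
    IsIso ((DCoh.restrictD (ns s).ι).map ((sN s N).app E))
  | 0, E => by
      show IsIso ((DCoh.restrictD (ns s).ι).map (𝟙 E))
      infer_instance
  | N + 1, E => by
      haveI := isIso_rd_sigD s hL E
      haveI := isIso_rd_sN hL N ((TD (L := L)).obj E)
      rw [sN_succ, Functor.map_comp]
      infer_instance

/-- Quasi-coherent cohomology vanishing on `X_s`. -/
structure Off (E : DCoh.D X) : Prop where
  qc : DCoh.IsQCohD E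
  zero : ∀ i, IsZero ((DCoh.HD E i).restrict (ns s).ι)

include hL in
theorem Off.td {E : DCoh.D X} (h : Off s E) : Off s ((TD (L := L)).obj E) := by
  refine ⟨fun i => ?_, fun i => ?_⟩
  · obtain ⟨k, -⟩ := hd_sigD s E i
    exact QCohD.isQCoh_iso k (H11Ample.isQCoh_tensor (h.qc i) hL)
  · obtain ⟨k, hk⟩ := hd_sigD s E i
    haveI := isIso_restrict_sig s hL (DCoh.HD E i)
    exact ((h.zero i).of_iso (asIso ((Scheme.Modules.restrictFunctor (ns s).ι).map ((sig s).app (DCoh.HD E i)))).symm).of_iso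
      ((Scheme.Modules.restrictFunctor (ns s).ι).mapIso k).symm

theorem Off.tn (hL : PicF.IsInvertible L) : ∀ (N : ℕ) {E : DCoh.D X}, Off s E → Off s ((TN (L := L) N).obj E)
  | 0, _, h => h
  | N + 1, E, h => Off.tn hL N (h.td s hL)

/-- All morphisms from the shifts of `K` to objects off `X_s` are killed by a power of `s`. -/
def Kl (K : DCoh.D X) : Prop :=
  ∀ (n : ℤ) (E : DCoh.D X), Off s E → ∀ φ : K⟦n⟧ ⟶ E, ∃ N, φ ≫ (sN s N).app E = 0

theorem stable_kl (hL : PicF.IsInvertible L) : Stable (X := X) (Kl s) where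
  of_iso {K K'} e h n E hE φ := by
    obtain ⟨N, hN⟩ := h n E hE ((shiftFunctor _ n).map e.hom ≫ φ)
    rw [Category.assoc] at hN
    exact ⟨N, (cancel_epi ((shiftFunctor _ n).map e.hom)).1 (hN.trans comp_zero.symm)⟩
  shift {K} h m n E hE φ := by
    let c : (K⟦m⟧)⟦n⟧ ≅ K⟦m + n⟧ := ((shiftFunctorAdd (DCoh.D X) m n).app K).symm
    obtain ⟨N, hN⟩ := h (m + n) E hE (c.inv ≫ φ)
    rw [Category.assoc] at hN
    exact ⟨N, (cancel_epi c.inv).1 (hN.trans comp_zero.symm)⟩
  ext₂ T hT h₁ h₃ n E hE φ := by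
    let T' := (Triangle.shiftFunctor (DCoh.D X) n).obj T
    have hT' : T' ∈ distTriang (DCoh.D X) := Triangle.shift_distinguished T hT n
    change T'.obj₂ ⟶ E at φ
    obtain ⟨N, hN⟩ := h₁ n E hE (T'.mor₁ ≫ φ)
    rw [Category.assoc] at hN
    obtain ⟨e, he⟩ := Triangle.yoneda_exact₂ T' hT' (φ ≫ (sN s N).app E) hN
    obtain ⟨M, hM⟩ := h₃ n _ (Off.tn s hL N hE) e
    obtain ⟨j, hj⟩ := sN_add s M N E
    refine ⟨M + N, ?_⟩
    show φ ≫ (sN s (M + N)).app E = 0
    have h0 : φ ≫ (sN s N).app E ≫ (sN s M).app _ = 0 := by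
      rw [← Category.assoc, he, Category.assoc]
      exact (congrArg (T'.mor₂ ≫ ·) hM).trans comp_zero
    rw [← hj, ← Category.assoc ((sN s N).app E), ← Category.assoc φ, h0, zero_comp]
  of_isZero hZ n E hE φ := ⟨0, (Functor.map_isZero _ hZ).eq_of_src _ _⟩

include hL in
/-- On a trivialising open the morphisms killed by a power of the coordinate die. -/
theorem comp_sN_eq_zero {W : X.Opens} (m : ℤ) : ∀ (p : ℕ) (E : DCoh.D X)
    (z : freeSh W ⟶ DCoh.HD E m),
    (∀ y ∈ W, ∃ (V : X.Opens) (hV : V ≤ W) (e : Γ(L, V)) (c : Γ(X, V)), y ∈ V ∧ IsGen L e ∧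
      SecTwist.val s V = c • e ∧ c ^ p • (DCoh.HD E m).presheaf.map (homOfLE hV).op (freeShEquiv W _ z) = 0) →
    z ≫ (DerivedCategory.homologyFunctor X.Modules m).map ((sN s p).app E) = 0
  | 0, E, z, h => by
      have hz : freeShEquiv W _ z = 0 := eq_of_locally _ _ fun y hy => by
        obtain ⟨V, hV, e, c, hyV, -, -, hc⟩ := h y hy
        rw [pow_zero, one_smul] at hc
        exact ⟨V, hV, hyV, hc.trans (map_zero _).symm⟩
      have : z = 0 := (freeShEquiv W _).injective (hz.trans (by rw [← Limits.zero_comp (f := (0 : DCoh.HD E m ⟶ DCoh.HD E m)) (X := freeSh W), freeShEquiv_comp]; rfl))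
      rw [this, zero_comp]
  | p + 1, E, z, h => by
      obtain ⟨k, hk⟩ := hd_sigD s E m
      rw [sN_succ, Functor.map_comp, hk, ← Category.assoc]
      refine comp_sN_eq_zero m p _ _ fun y hy => ?_
      obtain ⟨V, hV, e, c, hyV, he, hce, hc⟩ := h y hy
      refine ⟨V, hV, e, c, hyV, he, hce, ?_⟩
      rw [freeShEquiv_comp, ← app_map_apply]
      show c ^ p • (k.hom.app V) ((sigApp s (DCoh.HD E m)).app V _) = 0
      rw [sigApp_apply, hce, tm_smul_right, ← tm_smul_left, ← Scheme.Modules.Hom.app_smul, ← tm_smul_left, smul_smul, ← pow_succ, hc,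
        tm_zero_left, map_zero]

theorem kl_freeSh (hL : PicF.IsInvertible L) {W : X.Opens} (hW : IsAffineOpen W) :
    Kl s ((DerivedCategory.singleFunctor X.Modules 0).obj (freeSh W)) := fun n E hE φ => by
  classical
  let σ := ((DerivedCategory.singleFunctors X.Modules).shiftIso n (-n) 0 (by omega)).app (freeSh W)
  let φ' : (DerivedCategory.singleFunctor X.Modules (-n)).obj (freeSh W) ⟶ E := σ.inv ≫ φ
  let z := θ (freeSh W) (-n) φ'
  let H := DCoh.HD E (-n)
  haveI : H.IsQuasicoherent := hE.qc (-n)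
  let ζ : Γ(H, W) := freeShEquiv W H z
  have hy : ∀ y ∈ W, ∃ (V : X.Opens) (hV : V ≤ W) (e : Γ(L, V)) (c : Γ(X, V)) (p : ℕ), y ∈ V ∧ IsGen L e ∧
      SecTwist.val s V = c • e ∧ c ^ p • H.presheaf.map (homOfLE hV).op ζ = 0 := fun y hy => by
    obtain ⟨V₀, e₀, hyV₀, he₀⟩ := exists_gen hL y
    obtain ⟨V, hV, hyV, hVle⟩ := exists_isAffineOpen_mem_and_subset (x := y) (U := W ⊓ V₀) ⟨hy, hyV₀⟩
    have hle : V ≤ W ⊓ V₀ := hVle
    have hle' : V ≤ V₀ := hle.trans inf_le_right
    have he := he₀.res hle'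
    obtain ⟨c, hc⟩ := exists_coeff he (SecTwist.val s V)
    have hb : X.basicOpen c ≤ ns s := (gen_inf_eq_basicOpen he _ c ((val_res s V).trans hc)).ge.trans inf_le_left
    have h0 : H.presheaf.map (homOfLE (X.basicOpen_le c)).op
        (H.presheaf.map (homOfLE (hle.trans inf_le_left)).op ζ) = 0 := by
      have hsub : Subsingleton Γ(H.restrict (ns s).ι, (ns s).ι ⁻¹ᵁ X.basicOpen c) := by
        have h := (IsZero.iff_id_eq_zero _).1 (hE.zero (-n))
        have h0 : ∀ x : Γ(H.restrict (ns s).ι, (ns s).ι ⁻¹ᵁ X.basicOpen c), x = 0 := fun x =>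
          congr($(congrArg (fun k => Scheme.Modules.Hom.app k ((ns s).ι ⁻¹ᵁ X.basicOpen c)) h) x)
        exact ⟨fun x y => (h0 x).trans (h0 y).symm⟩
      have himg : (ns s).ι ''ᵁ ((ns s).ι ⁻¹ᵁ X.basicOpen c) = X.basicOpen c := by
        rw [Scheme.Hom.image_preimage_eq_opensRange_inf, Scheme.Opens.opensRange_ι, inf_eq_right.2 hb]
      have : Subsingleton Γ(H, (ns s).ι ''ᵁ ((ns s).ι ⁻¹ᵁ X.basicOpen c)) := hsub
      rw [himg] at this
      exact Subsingleton.elim _ _
    obtain ⟨p, hp⟩ := exists_pow_smul_eq_zero_of_isCompact H hV.isCompact c _ h0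
    exact ⟨V, hle.trans inf_le_left, _, c, p, hyV, he, hc, hp⟩
  choose V hV e c p hyV he hce hp using hy
  obtain ⟨t, ht⟩ := hW.isCompact.elim_finite_subcover (fun y : W => (V y.1 y.2 : Set X)) (fun y => (V y.1 y.2).isOpen)
    fun y hy => Set.mem_iUnion.2 ⟨⟨y, hy⟩, hyV y hy⟩
  refine ⟨t.sup fun y => p y.1 y.2, ?_⟩
  have hz := comp_sN_eq_zero s hL (-n) (t.sup fun y => p y.1 y.2) E z fun y hy => by
    obtain ⟨i, hi, hiy⟩ := Set.mem_iUnion₂.1 (ht hy)
    refine ⟨V i.1 i.2, hV i.1 i.2, e i.1 i.2, c i.1 i.2, hiy, he i.1 i.2, hce i.1 i.2, ?_⟩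
    rw [← Nat.sub_add_cancel (Finset.le_sup (f := fun y : W => p y.1 y.2) hi), pow_add, mul_smul]
    exact (congrArg _ (hp i.1 i.2)).trans (smul_zero _)
  have hq : DCoh.IsQCohD ((TN (L := L) (t.sup fun y => p y.1 y.2)).obj E) := (Off.tn s hL _ hE).qc
  have h : φ' ≫ (sN s (t.sup fun y => p y.1 y.2)).app E = 0 := by
    refine (bijective_θ_affine hq hW (-n)).1 ?_
    rw [θ_comp]
    exact hz.trans (by simp [θ])
  rw [Category.assoc] at h
  exact (cancel_epi σ.inv).1 (h.trans comp_zero.symm)

variable [CompactSpace X] [QuasiSeparatedSpace X]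

theorem kl_of_isPerfect (hL : PicF.IsInvertible L) {K : DCoh.D X} (hK : DCoh.IsPerfect K) : Kl s K :=
  (stable_kl s hL).of_isPerfect (fun _ hW => kl_freeSh s hL hW) hK

theorem restrict_hom_eq_zero (hL : PicF.IsInvertible L) (hU : IsCompact ((ns s : X.Opens) : Set X))
    {P K : DCoh.D X} (hP : DCoh.IsPerfect P) (hK : DCoh.IsQCohD K) (n : ℤ)
    (h : ∀ (N : ℕ) (φ : P⟦n⟧ ⟶ (TN (L := L) N).obj K), φ = 0)
    (g : (rd (ns s).ι).obj (P⟦n⟧) ⟶ (rd (ns s).ι).obj K) : g = 0 := by
  let U := ns s
  haveI := Thomason.quasiCompact_ι U hU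
  haveI := QCohD.hasRpush U.ι
  let adj := Thomason.restrictRpushAdj U.ι
  let gh : P⟦n⟧ ⟶ (DCoh.Rpush U.ι).obj ((rd U.ι).obj K) := adj.homEquiv _ _ g
  obtain ⟨C, δ, w, hT⟩ := distinguished_cocone_triangle (adj.unit.app K)
  have hqR := QCohD.isQCohD_rpush U.ι (QCohD.isQCohD_rd U.ι hK)
  have hC : Off s C := by
    refine ⟨QCohD.AffineUnit.isQCohD_obj₃ hT hK hqR, fun i => ?_⟩
    have hz : IsZero ((rd U.ι).obj C) :=
      (Triangle.isZero₃_iff_isIso₁ _ ((rd U.ι).map_distinguished _ hT)).2 (Thomason.isIso_rd_map_unit U.ι K)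
    obtain ⟨e⟩ := MVPush.nonempty_hd_restrict_iso U C i
    exact ((DerivedCategory.homologyFunctor _ i).map_isZero hz).of_iso e.symm
  obtain ⟨N, hN⟩ := kl_of_isPerfect s hL hP n C hC (gh ≫ δ)
  let T := TN (L := L) N
  obtain ⟨e, he⟩ : ∃ e : P⟦n⟧ ⟶ T.obj K, gh ≫ (sN s N).app _ = e ≫ T.map (adj.unit.app K) := by
    refine (ptri_TN N).exact hT _ ?_
    have hn : δ ≫ (sN s N).app C = (sN s N).app _ ≫ T.map δ := (sN s N).naturality δ
    rw [Category.assoc]
    exact ((congrArg (gh ≫ ·) hn.symm).trans (Category.assoc _ _ _).symm).trans hN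
  rw [h N e, zero_comp] at he
  haveI := isIso_rd_sN s hL N ((DCoh.Rpush U.ι).obj ((rd U.ι).obj K))
  have h1 : (rd U.ι).map gh = 0 := by
    have h2 := congrArg (rd U.ι).map he
    rw [Functor.map_comp, Functor.map_zero] at h2
    exact (cancel_mono ((rd U.ι).map ((sN s N).app _))).1 (h2.trans zero_comp.symm)
  have h3 : (rd U.ι).map gh ≫ adj.counit.app _ = g :=
    (Adjunction.homEquiv_counit adj _ _ gh).symm.trans ((adj.homEquiv _ _).symm_apply_apply g)
  rw [← h3, h1, zero_comp]

end Derived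

end Groth.Agent.H16Derived.GenAmple
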