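import Mathlib.CategoryTheory.Triangulated.TStructure.Heart
import Mathlib.CategoryTheory.Triangulated.TStructure.TruncLEGT
import Mathlib.CategoryTheory.Triangulated.TStructure.AbelianSubcategory
import Mathlib.CategoryTheory.Limits.Constructions.FiniteProductsOfBinaryProducts

/-!
The heart of a t-structure is abelian.
-/

namespace Groth.Agent.H16Derived

open CategoryTheory Category Limits Pretriangulated Triangulated
open scoped ZeroObject

universe v u v' u'

variable {C : Type u} [Category.{v} C] [Preadditive C] [HasZeroObject C] [HasShift C ℤ]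
  [∀ n : ℤ, (shiftFunctor C n).Additive] [Pretriangulated C] (t : TStructure C)
  {H : Type u'} [Category.{v'} H] [Preadditive H] [t.Heart H]

lemma heart_hom_shift_eq_zero ⦃X Y : H⦄ ⦃n : ℤ⦄
    (f : t.ιHeart.obj X ⟶ (t.ιHeart.obj Y)⟦n⟧) (hn : n < 0) : f = 0 := by
  have := t.isGE_shift (t.ιHeart.obj Y) 0 n (-n) (by lia)
  exact t.zero f 0 (-n) (by lia)

lemma exists_heart_iso (X : C) [t.IsLE X 0] [t.IsGE X 0] :
    ∃ Y : H, Nonempty (t.ιHeart.obj Y ≅ X) := by
  have : (t.ιHeart (H := H)).essImage X := by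
    rw [t.essImage_ιHeart H, t.mem_heart_iff]
    exact ⟨inferInstance, inferInstance⟩
  exact this

include t in
lemma heart_hasFiniteProducts : HasFiniteProducts H := by
  have : HasTerminal H := by
    obtain ⟨Z, ⟨e⟩⟩ := exists_heart_iso t (H := H) (0 : C)
    have hZ : IsZero Z := by
      rw [IsZero.iff_id_eq_zero]
      apply t.ιHeart.map_injective
      exact ((isZero_zero C).of_iso e).eq_of_src _ _
    exact hZ.isTerminal.hasTerminal
  have : HasBinaryProducts H := by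
    have h : ∀ X Y : H, HasBinaryBiproduct X Y := fun X Y => by
      obtain ⟨S, ⟨e⟩⟩ : ∃ S : H, Nonempty (t.ιHeart.obj S ≅ t.ιHeart.obj X ⊞ t.ιHeart.obj Y) := by
        have : t.IsLE (t.ιHeart.obj X ⊞ t.ιHeart.obj Y) 0 :=
          t.isLE₂ _ (binaryBiproductTriangle_distinguished (t.ιHeart.obj X) (t.ιHeart.obj Y)) 0
            (inferInstanceAs (t.IsLE (t.ιHeart.obj X) 0)) (inferInstanceAs (t.IsLE (t.ιHeart.obj Y) 0))
        have : t.IsGE (t.ιHeart.obj X ⊞ t.ιHeart.obj Y) 0 :=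
          t.isGE₂ _ (binaryBiproductTriangle_distinguished (t.ιHeart.obj X) (t.ιHeart.obj Y)) 0
            (inferInstanceAs (t.IsGE (t.ιHeart.obj X) 0)) (inferInstanceAs (t.IsGE (t.ιHeart.obj Y) 0))
        exact exists_heart_iso t _
      let b : BinaryBicone X Y :=
        { pt := S
          fst := t.ιHeart.preimage (e.hom ≫ biprod.fst)
          snd := t.ιHeart.preimage (e.hom ≫ biprod.snd)
          inl := t.ιHeart.preimage (biprod.inl ≫ e.inv)
          inr := t.ιHeart.preimage (biprod.inr ≫ e.inv)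
          inl_fst := t.ιHeart.map_injective (by simp)
          inl_snd := t.ιHeart.map_injective (by simp)
          inr_fst := t.ιHeart.map_injective (by simp)
          inr_snd := t.ιHeart.map_injective (by simp) }
      refine hasBinaryBiproduct_of_total b (t.ιHeart.map_injective ?_)
      simp only [b, Functor.map_add, Functor.map_comp, Functor.map_preimage, assoc,
        CategoryTheory.Functor.map_id]
      rw [← Preadditive.comp_add, ← assoc biprod.fst, ← assoc biprod.snd, ← Preadditive.add_comp,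
        biprod.total, id_comp, e.hom_inv_id]
    have : HasBinaryBiproducts H := ⟨h⟩
    infer_instance
  exact hasFiniteProducts_of_has_binary_and_terminal

lemma heart_admissible [IsTriangulated C] :
    AbelianSubcategory.admissibleMorphism (t.ιHeart (H := H)) = ⊤ := by
  ext X₁ X₂ f₁
  simp only [MorphismProperty.top_apply, iff_true]
  intro X₃ f₂ f₃ hT
  have hR := rot_of_distTriang _ hT
  have h1 : t.IsLE ((t.ιHeart.obj X₁)⟦(1 : ℤ)⟧) (-1) := t.isLE_shift _ 0 1 (-1) (by lia)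
  have h1' : t.IsGE ((t.ιHeart.obj X₁)⟦(1 : ℤ)⟧) (-1) := t.isGE_shift _ 0 1 (-1) (by lia)
  have h3 : t.IsLE X₃ 0 :=
    t.isLE₂ _ hR 0 (inferInstanceAs (t.IsLE (t.ιHeart.obj X₂) 0))
      (t.isLE_of_le ((t.ιHeart.obj X₁)⟦(1 : ℤ)⟧) (-1) 0 (by lia))
  have h3' : t.IsGE X₃ (-1) :=
    t.isGE₂ _ hR (-1) (t.isGE_of_ge (t.ιHeart.obj X₂) (-1) 0 (by lia)) h1'
  have hA : t.IsLE ((t.truncLT 0).obj X₃) (-1) := t.isLE_truncLT_obj X₃ 0 (-1) (by lia)
  have hA₁ : t.IsLE (((t.truncLT 0).obj X₃)⟦(-1 : ℤ)⟧) 0 := t.isLE_shift _ (-1) (-1) 0 (by lia)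
  have hA₂ : t.IsGE (((t.truncLT 0).obj X₃)⟦(-1 : ℤ)⟧) 0 :=
    t.isGE_shift ((t.truncLT 0).obj X₃) (-1) (-1) 0 (by lia)
  obtain ⟨K, ⟨eK⟩⟩ := exists_heart_iso t (H := H) (((t.truncLT 0).obj X₃)⟦(-1 : ℤ)⟧)
  obtain ⟨Q, ⟨eQ⟩⟩ := exists_heart_iso t (H := H) ((t.truncGE 0).obj X₃)
  let e₁ : (t.ιHeart.obj K)⟦(1 : ℤ)⟧ ≅ (t.truncLT 0).obj X₃ :=
    (shiftFunctor C (1 : ℤ)).mapIso eK ≪≫
      (shiftFunctorCompIsoId C (-1 : ℤ) 1 (by lia)).app _
  refine ⟨K, Q, e₁.hom ≫ (t.truncLTι 0).app X₃, (t.truncGEπ 0).app X₃ ≫ eQ.inv,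
    eQ.hom ≫ (t.truncGEδLT 0).app X₃ ≫ e₁.inv⟦(1 : ℤ)⟧', ?_⟩
  refine isomorphic_distinguished _ (t.triangleLTGE_distinguished 0 X₃) _ ?_
  refine Triangle.isoMk _ _ e₁ (Iso.refl _) eQ ?_ ?_ ?_
  · exact comp_id (e₁.hom ≫ (t.truncLTι 0).app X₃)
  · exact ((assoc _ _ _).trans
      ((congrArg ((t.truncGEπ 0).app X₃ ≫ ·) eQ.inv_hom_id).trans (comp_id _))).trans
        (id_comp _).symm
  · change (eQ.hom ≫ (t.truncGEδLT 0).app X₃ ≫ e₁.inv⟦(1 : ℤ)⟧') ≫ e₁.hom⟦(1 : ℤ)⟧' =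
      eQ.hom ≫ (t.truncGEδLT 0).app X₃
    rw [assoc, assoc, ← Functor.map_comp, e₁.inv_hom_id, CategoryTheory.Functor.map_id]
    exact congrArg (eQ.hom ≫ ·) (comp_id _)

variable (H) in
/-- The heart of a t-structure is abelian. -/
@[instance_reducible]
noncomputable def heartAbelian [IsTriangulated C] : Abelian H :=
  have := heart_hasFiniteProducts t (H := H)
  AbelianSubcategory.abelian t.ιHeart (heart_hom_shift_eq_zero t) (heart_admissible t)

end Groth.Agent.H16Derived
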