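import Groth.Agent.H16Derived.Heart
import Mathlib.CategoryTheory.Triangulated.HomologicalFunctor
import Mathlib.Algebra.Homology.ShortComplex.ExactFunctor

/-!
The degree zero cohomology functor attached to a t-structure is homological.
-/

namespace Groth.Agent.H16Derived

open CategoryTheory Category Limits Pretriangulated Triangulated
open scoped ZeroObject

universe v u v' u'

variable {C : Type u} [Category.{v} C] [Preadditive C] [HasZeroObject C] [HasShift C ℤ]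
  [∀ n : ℤ, (shiftFunctor C n).Additive] [Pretriangulated C] [IsTriangulated C]
  (t : TStructure C)
  {H : Type u'} [Category.{v'} H] [Abelian H] [t.Heart H] (F : C ⥤ H)
  (e : F ⋙ t.ιHeart ≅ t.truncGE 0 ⋙ t.truncLE 0)

omit [IsTriangulated C] in
include e in
lemma heartFunctor_preservesZero : F.PreservesZeroMorphisms where
  map_zero X Y := t.ιHeart.map_injective (by
    have h : t.ιHeart.map (F.map (0 : X ⟶ Y)) ≫ e.hom.app Y =
        e.hom.app X ≫ (t.truncLE 0).map ((t.truncGE 0).map 0) := e.hom.naturality 0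
    rw [← cancel_mono (e.hom.app Y), h]
    simp)

omit [IsTriangulated C] in
include e in
lemma heartFunctor_isIso_map_of_truncGE {X Y : C} (f : X ⟶ Y)
    (hf : IsIso ((t.truncGE 0).map f)) : IsIso (F.map f) := by
  have h₁ : IsIso ((t.truncGE 0 ⋙ t.truncLE 0).map f) :=
    inferInstanceAs (IsIso ((t.truncLE 0).map ((t.truncGE 0).map f)))
  have h₂ : IsIso ((F ⋙ t.ιHeart).map f) := (NatIso.isIso_map_iff e f).2 h₁
  have : IsIso (t.ιHeart.map (F.map f)) := h₂
  exact isIso_of_reflects_iso (F.map f) t.ιHeart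

include e in
lemma heartFunctor_isIso_map_of_truncLE {X Y : C} (f : X ⟶ Y)
    (hf : IsIso ((t.truncLE 0).map f)) : IsIso (F.map f) := by
  let e' : F ⋙ t.ιHeart ≅ t.truncLE 0 ⋙ t.truncGE 0 := e ≪≫ (t.truncGELEIsoLEGE 0 0).symm
  have h₁ : IsIso ((t.truncLE 0 ⋙ t.truncGE 0).map f) :=
    inferInstanceAs (IsIso ((t.truncGE 0).map ((t.truncLE 0).map f)))
  have h₂ : IsIso ((F ⋙ t.ιHeart).map f) := (NatIso.isIso_map_iff e' f).2 h₁
  have : IsIso (t.ιHeart.map (F.map f)) := h₂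
  exact isIso_of_reflects_iso (F.map f) t.ιHeart

/-- For `X ≤ 0`, the universal map from `X` to the heart. -/
noncomputable def heartFunctorUnit (X : C) [t.IsLE X 0] : X ⟶ t.ιHeart.obj (F.obj X) :=
  (t.truncGEπ 0).app X ≫ inv ((t.truncLEι 0).app ((t.truncGE 0).obj X)) ≫ e.inv.app X

lemma heartFunctorUnit_naturality {X Y : C} [t.IsLE X 0] [t.IsLE Y 0] (f : X ⟶ Y) :
    f ≫ heartFunctorUnit t F e Y = heartFunctorUnit t F e X ≫ t.ιHeart.map (F.map f) := by
  have h₁ : f ≫ (t.truncGEπ 0).app Y = (t.truncGEπ 0).app X ≫ (t.truncGE 0).map f :=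
    (t.truncGEπ 0).naturality f
  have h₂ : (t.truncGE 0).map f ≫ inv ((t.truncLEι 0).app ((t.truncGE 0).obj Y)) =
      inv ((t.truncLEι 0).app ((t.truncGE 0).obj X)) ≫ (t.truncLE 0).map ((t.truncGE 0).map f) := by
    rw [IsIso.eq_inv_comp, ← assoc, IsIso.comp_inv_eq]
    exact ((t.truncLEι 0).naturality _).symm
  have h₃ : (t.truncLE 0).map ((t.truncGE 0).map f) ≫ e.inv.app Y =
      e.inv.app X ≫ t.ιHeart.map (F.map f) := e.inv.naturality f
  simp [heartFunctorUnit, reassoc_of% h₁, reassoc_of% h₂, h₃]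

lemma heartFunctorUnit_desc {X : C} [t.IsLE X 0] {A : H} (u : X ⟶ t.ιHeart.obj A) :
    ∃! q : F.obj X ⟶ A, heartFunctorUnit t F e X ≫ t.ιHeart.map q = u := by
  refine ⟨t.ιHeart.preimage (e.hom.app X ≫ (t.truncLEι 0).app ((t.truncGE 0).obj X) ≫
    t.descTruncGE u 0), ?_, fun q hq => t.ιHeart.map_injective ?_⟩
  · simp [heartFunctorUnit]
  · rw [Functor.map_preimage]
    have hq' : inv ((t.truncLEι 0).app ((t.truncGE 0).obj X)) ≫ e.inv.app X ≫ t.ιHeart.map q =
        t.descTruncGE u 0 :=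
      t.from_truncGE_obj_ext (by simpa [heartFunctorUnit] using hq)
    rw [← hq']
    simp

/-- For `X ≥ 0`, the universal map from the heart to `X`. -/
noncomputable def heartFunctorCounit (X : C) [t.IsGE X 0] : t.ιHeart.obj (F.obj X) ⟶ X :=
  e.hom.app X ≫ (t.truncLEι 0).app ((t.truncGE 0).obj X) ≫ inv ((t.truncGEπ 0).app X)

omit [IsTriangulated C] in
lemma heartFunctorCounit_naturality {X Y : C} [t.IsGE X 0] [t.IsGE Y 0] (f : X ⟶ Y) :
    heartFunctorCounit t F e X ≫ f = t.ιHeart.map (F.map f) ≫ heartFunctorCounit t F e Y := by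
  have h₁ : inv ((t.truncGEπ 0).app X) ≫ f = (t.truncGE 0).map f ≫ inv ((t.truncGEπ 0).app Y) := by
    rw [IsIso.inv_comp_eq, ← assoc, IsIso.eq_comp_inv]
    exact (t.truncGEπ 0).naturality f
  have h₂ : (t.truncLE 0).map ((t.truncGE 0).map f) ≫ (t.truncLEι 0).app ((t.truncGE 0).obj Y) =
      (t.truncLEι 0).app ((t.truncGE 0).obj X) ≫ (t.truncGE 0).map f :=
    (t.truncLEι 0).naturality _
  have h₃ : t.ιHeart.map (F.map f) ≫ e.hom.app Y =
      e.hom.app X ≫ (t.truncLE 0).map ((t.truncGE 0).map f) := e.hom.naturality f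
  simp [heartFunctorCounit, h₁, reassoc_of% h₃, reassoc_of% h₂]

omit [IsTriangulated C] in
lemma heartFunctorCounit_lift {X : C} [t.IsGE X 0] {A : H} (u : t.ιHeart.obj A ⟶ X) :
    ∃! q : A ⟶ F.obj X, t.ιHeart.map q ≫ heartFunctorCounit t F e X = u := by
  refine ⟨t.ιHeart.preimage (t.liftTruncLE (u ≫ (t.truncGEπ 0).app X) 0 ≫ e.inv.app X), ?_,
    fun q hq => t.ιHeart.map_injective ?_⟩
  · simp [heartFunctorCounit]
  · rw [Functor.map_preimage]
    have hq' : t.ιHeart.map q ≫ e.hom.app X = t.liftTruncLE (u ≫ (t.truncGEπ 0).app X) 0 :=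
      t.to_truncLE_obj_ext (by rw [← hq]; simp [heartFunctorCounit])
    rw [← hq']
    simp

variable [F.PreservesZeroMorphisms]

include e in
lemma heartFunctor_exact_epi_of_LE (T : Triangle C) (hT : T ∈ distTriang C)
    (h₁ : t.IsLE T.obj₁ 0) (h₂ : t.IsLE T.obj₂ 0) :
    ((shortComplexOfDistTriangle T hT).map F).Exact ∧ Epi (F.map T.mor₂) := by
  have hX : t.IsLE (T.obj₁⟦(1 : ℤ)⟧) (-1) := t.isLE_shift _ 0 1 (-1) (by lia)
  have h₃ : t.IsLE T.obj₃ 0 :=
    t.isLE₂ _ (rot_of_distTriang _ hT) 0 h₂ (t.isLE_of_le (T.obj₁⟦(1 : ℤ)⟧) (-1) 0 (by lia))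
  have hep : Epi (F.map T.mor₂) := by
    refine Preadditive.epi_of_cancel_zero _ fun {A} q hq => ?_
    refine (heartFunctorUnit_desc t F e _).unique (y₁ := q) (y₂ := 0) rfl ?_
    have h : T.mor₂ ≫ heartFunctorUnit t F e T.obj₃ ≫ t.ιHeart.map q = 0 := by
      rw [← assoc, heartFunctorUnit_naturality, assoc, ← Functor.map_comp, hq, Functor.map_zero,
        comp_zero]
    obtain ⟨y, hy⟩ := Triangle.yoneda_exact₃ T hT _ h
    rw [hy, t.zero y (-1) 0 (by lia), comp_zero, Functor.map_zero, comp_zero]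
  have : Epi ((shortComplexOfDistTriangle T hT).map F).g := hep
  refine ⟨ShortComplex.exact_of_g_is_cokernel _ (CokernelCofork.IsColimit.ofπ' _ _
    fun {A} (p : F.obj T.obj₂ ⟶ A) hp => ?_), hep⟩
  have hp' : T.mor₁ ≫ heartFunctorUnit t F e T.obj₂ ≫ t.ιHeart.map p = 0 := by
    have hp₀ : F.map T.mor₁ ≫ p = 0 := hp
    rw [← assoc, heartFunctorUnit_naturality, assoc, ← Functor.map_comp, hp₀, Functor.map_zero,
      comp_zero]
  refine Classical.indefiniteDescription _ ?_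
  obtain ⟨u, hu⟩ := Triangle.yoneda_exact₂ T hT _ hp'
  obtain ⟨q, hq, -⟩ := heartFunctorUnit_desc t F e u
  refine ⟨q, (heartFunctorUnit_desc t F e _).unique (y₁ := F.map T.mor₂ ≫ q) (y₂ := p) ?_ rfl⟩
  rw [hu, ← hq, Functor.map_comp, ← assoc, ← heartFunctorUnit_naturality, assoc]

include e in
lemma heartFunctor_exact_mono_of_GE (T : Triangle C) (hT : T ∈ distTriang C)
    (h₂ : t.IsGE T.obj₂ 0) (h₃ : t.IsGE T.obj₃ 0) :
    ((shortComplexOfDistTriangle T hT).map F).Exact ∧ Mono (F.map T.mor₁) := by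
  have hZ : t.IsGE (T.obj₃⟦(-1 : ℤ)⟧) 1 := t.isGE_shift _ 0 (-1) 1 (by lia)
  have h₁ : t.IsGE T.obj₁ 0 :=
    t.isGE₂ _ (inv_rot_of_distTriang _ hT) 0 (t.isGE_of_ge (T.obj₃⟦(-1 : ℤ)⟧) 0 1 (by lia)) h₂
  have hmono : Mono (F.map T.mor₁) := by
    refine Preadditive.mono_of_cancel_zero _ fun {A} q hq => ?_
    refine (heartFunctorCounit_lift t F e _).unique (y₁ := q) (y₂ := 0) rfl ?_
    have h : (t.ιHeart.map q ≫ heartFunctorCounit t F e T.obj₁) ≫ T.mor₁ = 0 := by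
      rw [assoc, heartFunctorCounit_naturality, ← assoc, ← Functor.map_comp, hq, Functor.map_zero,
        zero_comp]
    obtain ⟨y, hy⟩ := Triangle.coyoneda_exact₂ _ (inv_rot_of_distTriang _ hT) _ h
    refine Eq.trans ?_ hy.symm
    rw [Functor.map_zero, zero_comp, t.zero_of_isLE_of_isGE y 0 1 (by lia) inferInstance hZ]
    exact zero_comp.symm
  have : Mono ((shortComplexOfDistTriangle T hT).map F).f := hmono
  refine ⟨ShortComplex.exact_of_f_is_kernel _ (KernelFork.IsLimit.ofι' _ _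
    fun {A} (p : A ⟶ F.obj T.obj₂) hp => ?_), hmono⟩
  have hp' : (t.ιHeart.map p ≫ heartFunctorCounit t F e T.obj₂) ≫ T.mor₂ = 0 := by
    have hp₀ : p ≫ F.map T.mor₂ = 0 := hp
    rw [assoc, heartFunctorCounit_naturality, ← assoc, ← Functor.map_comp, hp₀, Functor.map_zero,
      zero_comp]
  refine Classical.indefiniteDescription _ ?_
  obtain ⟨u, hu⟩ := Triangle.coyoneda_exact₂ T hT _ hp'
  obtain ⟨q, hq, -⟩ := heartFunctorCounit_lift t F e u
  refine ⟨q, (heartFunctorCounit_lift t F e _).unique (y₁ := q ≫ F.map T.mor₁) (y₂ := p) ?_ rfl⟩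
  rw [hu, ← hq, Functor.map_comp, assoc, ← heartFunctorCounit_naturality, assoc]

include e in
lemma heartFunctor_exact_epi (T : Triangle C) (hT : T ∈ distTriang C) (h₁ : t.IsLE T.obj₁ 0) :
    ((shortComplexOfDistTriangle T hT).map F).Exact ∧ Epi (F.map T.mor₂) := by
  let f' := t.liftTruncLE T.mor₁ 0
  obtain ⟨W, g', k', hW⟩ := distinguished_cocone_triangle f'
  let O := someOctahedron (show f' ≫ (t.truncLEι 0).app T.obj₂ = T.mor₁ from t.liftTruncLE_ι _ _)
    hW (t.triangleLEGT_distinguished 0 T.obj₂) hT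
  have hi : IsIso (F.map O.m₁) := by
    refine heartFunctor_isIso_map_of_truncLE t F e _ ?_
    have hG : t.IsGE ((t.truncGT 0).obj T.obj₂) 1 := t.isGE_truncGT_obj _ _ _ (by lia)
    exact t.isIso₁_truncLT_map_of_isGE _ O.mem (0 + 1) (show t.IsGE ((t.truncGT 0).obj T.obj₂) (0 + 1) from hG)
  have hι : IsIso (F.map ((t.truncLEι 0).app T.obj₂)) :=
    heartFunctor_isIso_map_of_truncLE t F e _ inferInstance
  obtain ⟨hex, hep⟩ := heartFunctor_exact_epi_of_LE t F e _ hW h₁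
    (inferInstanceAs (t.IsLE ((t.truncLE 0).obj T.obj₂) 0))
  have hc : g' ≫ O.m₁ = (t.truncLEι 0).app T.obj₂ ≫ T.mor₂ := O.comm₁
  have hc' : F.map g' ≫ F.map O.m₁ = F.map ((t.truncLEι 0).app T.obj₂) ≫ F.map T.mor₂ := by
    rw [← F.map_comp, ← F.map_comp, hc]
  have hl : F.map f' ≫ F.map ((t.truncLEι 0).app T.obj₂) = F.map T.mor₁ := by
    rw [← F.map_comp, t.liftTruncLE_ι]
  refine ⟨ShortComplex.exact_of_iso
    (ShortComplex.isoMk (S₁ := (shortComplexOfDistTriangle _ hW).map F)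
      (S₂ := (shortComplexOfDistTriangle T hT).map F)
      (Iso.refl _) (@asIso _ _ _ _ _ hι) (@asIso _ _ _ _ _ hi)
      ((id_comp _).trans hl.symm) hc'.symm) hex, ?_⟩
  have : Epi (F.map ((t.truncLEι 0).app T.obj₂) ≫ F.map T.mor₂) := by
    rw [← hc']
    exact epi_comp' hep (@IsIso.epi_of_iso _ _ _ _ _ hi)
  exact epi_of_epi (F.map ((t.truncLEι 0).app T.obj₂)) _

include e in
lemma heartFunctor_exact_mono (T : Triangle C) (hT : T ∈ distTriang C) (h₃ : t.IsGE T.obj₃ 0) :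
    ((shortComplexOfDistTriangle T hT).map F).Exact ∧ Mono (F.map T.mor₁) := by
  let g' := t.descTruncGE T.mor₂ 0
  obtain ⟨W, f', k', hW⟩ := distinguished_cocone_triangle₁ g'
  let O := someOctahedron (show (t.truncGEπ 0).app T.obj₂ ≫ g' = T.mor₂ from t.π_descTruncGE _ _)
    (rot_of_distTriang _ (t.triangleLTGE_distinguished 0 T.obj₂)) (rot_of_distTriang _ hW)
    (rot_of_distTriang _ hT)
  obtain ⟨m, hm⟩ : ∃ m : T.obj₁ ⟶ W, m⟦(1 : ℤ)⟧' = O.m₃ := ⟨_, (shiftFunctor C (1 : ℤ)).map_preimage _⟩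
  have hS := Triangle.shift_distinguished _ O.mem (-1)
  have hG : IsIso ((t.truncGE 0).map m) := by
    have hlt : t.IsLE ((t.truncLT 0).obj T.obj₂) (-1) := t.isLE_truncLT_obj T.obj₂ 0 (-1) (by lia)
    have : t.IsLE ((𝟭 C).obj ((t.truncLT 0).obj T.obj₂)) (-1) := hlt
    have h₁ : t.IsLE (((t.truncLT 0).obj T.obj₂)⟦(1 : ℤ)⟧⟦(-1 : ℤ)⟧) (-1) :=
      t.isLE_of_iso ((shiftFunctorCompIsoId C (1 : ℤ) (-1) (by lia)).symm.app _) (-1)
    have hiso := t.isIso₂_truncGE_map_of_isLE _ hS (-1) 0 (by lia) h₁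
    have hneg : IsIso ((t.truncGE 0).map ((O.m₃)⟦(-1 : ℤ)⟧')) := by
      have hiso' : IsIso ((t.truncGE 0).map (((-1 : ℤ).negOnePow) • (O.m₃)⟦(-1 : ℤ)⟧')) := hiso
      rw [Int.negOnePow_neg, Int.negOnePow_one, Units.neg_smul, one_smul, Functor.map_neg] at hiso'
      exact ⟨-(inv (-(t.truncGE 0).map ((O.m₃)⟦(-1 : ℤ)⟧'))), by
        rw [Preadditive.comp_neg, ← Preadditive.neg_comp, IsIso.hom_inv_id], by
        rw [Preadditive.neg_comp, ← Preadditive.comp_neg, IsIso.inv_hom_id]⟩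
    rw [← hm] at hneg
    exact (NatIso.isIso_map_iff (Functor.isoWhiskerRight
      (shiftFunctorCompIsoId C (1 : ℤ) (-1) (by lia)) (t.truncGE 0)) m).1 hneg
  have hi : IsIso (F.map m) := heartFunctor_isIso_map_of_truncGE t F e _ hG
  have hπ : IsIso (F.map ((t.truncGEπ 0).app T.obj₂)) :=
    heartFunctor_isIso_map_of_truncGE t F e _ inferInstance
  obtain ⟨hex, hmo⟩ := heartFunctor_exact_mono_of_GE t F e _ hW
    (inferInstanceAs (t.IsGE ((t.truncGE 0).obj T.obj₂) 0)) h₃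
  have hc : T.mor₁ ≫ (t.truncGEπ 0).app T.obj₂ = m ≫ f' := by
    apply (shiftFunctor C (1 : ℤ)).map_injective
    have h₄ : (-T.mor₁⟦(1 : ℤ)⟧') ≫ ((t.truncGEπ 0).app T.obj₂)⟦(1 : ℤ)⟧' =
        O.m₃ ≫ (-f'⟦(1 : ℤ)⟧') := O.comm₄
    rw [← hm] at h₄
    rw [Functor.map_comp, Functor.map_comp]
    exact neg_inj.1 ((Preadditive.neg_comp _ _).symm.trans (h₄.trans (Preadditive.comp_neg _ _)))
  have hc' : F.map T.mor₁ ≫ F.map ((t.truncGEπ 0).app T.obj₂) = F.map m ≫ F.map f' := by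
    rw [← F.map_comp, ← F.map_comp, hc]
  have hd : F.map ((t.truncGEπ 0).app T.obj₂) ≫ F.map g' = F.map T.mor₂ := by
    rw [← F.map_comp, t.π_descTruncGE]
  refine ⟨ShortComplex.exact_of_iso
    (ShortComplex.isoMk (S₁ := (shortComplexOfDistTriangle T hT).map F)
      (S₂ := (shortComplexOfDistTriangle _ hW).map F)
      (@asIso _ _ _ _ _ hi) (@asIso _ _ _ _ _ hπ) (Iso.refl _)
      hc'.symm (hd.trans (comp_id _).symm)).symm hex, ?_⟩
  have : Mono (F.map T.mor₁ ≫ F.map ((t.truncGEπ 0).app T.obj₂)) := by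
    rw [hc']
    exact mono_comp' (@IsIso.mono_of_iso _ _ _ _ _ hi) hmo
  exact mono_of_mono _ (F.map ((t.truncGEπ 0).app T.obj₂))

include e in
lemma heartFunctor_isHomological : F.IsHomological where
  exact T hT := by
    obtain ⟨U, g, k, hU⟩ := distinguished_cocone_triangle ((t.truncLEι 0).app T.obj₁ ≫ T.mor₁)
    let O := someOctahedron (show (t.truncLEι 0).app T.obj₁ ≫ T.mor₁ = _ from rfl)
      (t.triangleLEGT_distinguished 0 T.obj₁) hT hU
    obtain ⟨hex, -⟩ := heartFunctor_exact_epi t F e _ hU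
      (inferInstanceAs (t.IsLE ((t.truncLE 0).obj T.obj₁) 0))
    have hG : t.IsGE ((t.truncGT 0).obj T.obj₁) 1 := t.isGE_truncGT_obj _ _ _ (by lia)
    obtain ⟨-, hmono⟩ := heartFunctor_exact_mono t F e _ (rot_of_distTriang _ O.mem)
      (show t.IsGE (((t.truncGT 0).obj T.obj₁)⟦(1 : ℤ)⟧) 0 from t.isGE_shift _ 1 1 0 (by lia))
    have hm : Mono (F.map O.m₃) := hmono
    have hι : IsIso (F.map ((t.truncLEι 0).app T.obj₁)) :=
      heartFunctor_isIso_map_of_truncLE t F e _ inferInstance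
    let φ : (shortComplexOfDistTriangle _ hU).map F ⟶ (shortComplexOfDistTriangle T hT).map F :=
      { τ₁ := F.map ((t.truncLEι 0).app T.obj₁)
        τ₂ := 𝟙 _
        τ₃ := F.map O.m₃
        comm₁₂ := (F.map_comp _ _).symm.trans (comp_id _).symm
        comm₂₃ := (id_comp _).trans ((congrArg F.map O.comm₃.symm).trans (F.map_comp _ _)) }
    have : Epi φ.τ₁ := @IsIso.epi_of_iso _ _ _ _ _ hι
    have : Mono φ.τ₃ := hm
    have : IsIso φ.τ₂ := inferInstanceAs (IsIso (𝟙 _))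
    exact (ShortComplex.exact_iff_of_epi_of_isIso_of_mono φ).1 hex

end Groth.Agent.H16Derived
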