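import Groth.Agent.H22Alg.KExists
import Groth.Agent.H16Derived.ExtSES

/-! # The `λ`-operations on `K₀` of bundles on an arbitrary scheme -/

set_option autoImplicit false
set_option linter.style.haveILetI false

universe u

open CategoryTheory CategoryTheory.Limits AlgebraicGeometry Opposite TopologicalSpace LambdaRing
attribute [local instance] HasDerivedCategory.standard

noncomputable section

namespace Groth.Agent.H16Derived.KLam

open H16Derived.KFlat.Stalk
open Groth.Agent.H22Alg
open Groth.Agent.H22Alg.KExists (lamS lamS_unit cl_mul cl_structure cl_extP extP extP_spec finLocFree_extP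
  isExtPow_zero isExtPow_one mulHom mulHom_cl mulHom_comm mulHom_assoc one_mulHom)

attribute [local instance] KExists.commRing

variable {X : Scheme.{u}}

theorem lamS_mul {S : ShortComplex X.Modules} (hS : S.ShortExact)
    (h₁ : FlatMod.IsFinLocFree S.X₁) (h₂ : FlatMod.IsFinLocFree S.X₂) (h₃ : FlatMod.IsFinLocFree S.X₃) :
    lamS S.X₂ = lamS S.X₁ * lamS S.X₃ := by
  refine PowerSeries.ext fun i => ?_
  rw [PowerSeries.coeff_mul, lamS, lamS, lamS, PowerSeries.coeff_mk,
    H16Derived.ExtSES.cl_extPow_shortExact hS h₁ h₂ h₃ (extP_spec i h₂) (fun j => extP j S.X₁) (fun j => extP j S.X₃)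
      (fun j => extP_spec j h₁) (fun j => extP_spec j h₃),
    Finset.Nat.sum_antidiagonal_eq_sum_range_succ_mk]
  refine Finset.sum_congr rfl fun j _ => ?_
  rw [PowerSeries.coeff_mk, PowerSeries.coeff_mk, cl_mul (finLocFree_extP j h₁) (finLocFree_extP _ h₃)]

theorem exists_lamHom : ∃ Λ : SGA6.Kvb X →+ Additive (PowerSeries (SGA6.Kvb X))ˣ, ∀ E : X.Modules,
    FlatMod.IsFinLocFree E → ((Λ (KRR.cl X E)).toMul : PowerSeries (SGA6.Kvb X)) = lamS E := by
  classical
  obtain ⟨Λ, hΛ⟩ := KModel.exists_lift (X := X) (G := Additive (PowerSeries (SGA6.Kvb X))ˣ)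
    (fun E => if h : FlatMod.IsFinLocFree E then Additive.ofMul (lamS_unit h).unit else 0) fun S hS a b c => by
      simp only [dif_pos a, dif_pos b, dif_pos c]
      refine Additive.toMul.injective (Units.ext ?_)
      simp [lamS_mul hS a b c]
  refine ⟨Λ, fun E hE => ?_⟩
  rw [hΛ E hE, dif_pos hE]
  simp

/-- The λ-series. -/
def lamHom : SGA6.Kvb X →+ Additive (PowerSeries (SGA6.Kvb X))ˣ := exists_lamHom.choose

/-- The λ-operation. -/
def lamOp (i : ℕ) (x : SGA6.Kvb X) : SGA6.Kvb X :=
  PowerSeries.coeff i ((lamHom x).toMul : PowerSeries (SGA6.Kvb X))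

theorem lamOp_cl (i : ℕ) {E : X.Modules} (hE : FlatMod.IsFinLocFree E) :
    lamOp i (KRR.cl X E) = KRR.cl X (extP i E) := by
  rw [lamOp, lamHom, exists_lamHom.choose_spec E hE, lamS, PowerSeries.coeff_mk]

theorem lamOp_add (k : ℕ) (x y : SGA6.Kvb X) :
    lamOp k (x + y) = ∑ i ∈ Finset.range (k + 1), lamOp i x * lamOp (k - i) y := by
  simp only [lamOp, map_add, toMul_add, Units.val_mul, PowerSeries.coeff_mul]
  exact Finset.Nat.sum_antidiagonal_eq_sum_range_succ_mk _ k

theorem lamOp_zero (x : SGA6.Kvb X) : lamOp 0 x = 1 := by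
  have h : ((AddMonoidHom.mk' (fun x => Additive.ofMul (Units.map (PowerSeries.constantCoeff (R := SGA6.Kvb X)).toMonoidHom
      (lamHom x).toMul)) fun a b => by simp)) = 0 := KModel.kvb_ext fun E hE => by
    refine Additive.toMul.injective (Units.ext ?_)
    show PowerSeries.constantCoeff ((lamHom (KRR.cl X E)).toMul : PowerSeries (SGA6.Kvb X)) = 1
    rw [← PowerSeries.coeff_zero_eq_constantCoeff_apply]
    exact (lamOp_cl 0 hE).trans ((cl_extP hE (isExtPow_zero E)).trans cl_structure)
  have := congrArg (fun f => ((Additive.toMul (f x) : (SGA6.Kvb X)ˣ) : SGA6.Kvb X)) h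
  rw [lamOp, PowerSeries.coeff_zero_eq_constantCoeff_apply]
  exact this

theorem lamOp_one (x : SGA6.Kvb X) : lamOp 1 x = x := by
  refine DFunLike.congr_fun (KModel.kvb_ext (a := AddMonoidHom.mk' (fun x => lamOp 1 x) fun a b => ?_)
    (b := AddMonoidHom.id _) fun E hE => ?_) x
  · rw [lamOp_add, Finset.sum_range_succ, Finset.sum_range_one, lamOp_zero, lamOp_zero, one_mul, mul_one, add_comm]
  · exact (lamOp_cl 1 hE).trans (cl_extP hE (isExtPow_one E))

theorem lamOp_extPow {i : ℕ} {E L : X.Modules} (hE : FlatMod.IsFinLocFree E) (hL : ExtPow.IsExtPow i E L) :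
    lamOp i (KRR.cl X E) = KRR.cl X L :=
  (lamOp_cl i hE).trans (cl_extP hE hL)

/-- The pre-λ-structure. -/
theorem isLambdaStructureVb (X : Scheme.{u}) : SGA6.IsLambdaStructureVb X mulHom lamOp :=
  ⟨mulHom_comm, mulHom_assoc, one_mulHom, fun _ _ => mulHom_cl, fun _ _ _ hE hL => lamOp_extPow hE hL,
    fun x => lamOp_zero x, fun x => lamOp_one x, fun k x y => lamOp_add k x y⟩

end Groth.Agent.H16Derived.KLam
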