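import Groth.Agent.H16Derived.PBQC
import Groth.Agent.H16Derived.KLam
import Groth.Agent.H22Alg.PB.Exists
import Groth.Agent.H22Alg.KPullLam
import Groth.Agent.H22Alg.ExtPowHom
import Groth.Agent.H22Alg.PBRel
import Groth.Agent.H27Lambda.Splitting

/-! # `K₀` of bundles on a quasi-compact scheme is a special λ-ring -/

set_option autoImplicit false
set_option linter.style.haveILetI false

universe v u

open CategoryTheory CategoryTheory.Limits AlgebraicGeometry Opposite TopologicalSpace LambdaRing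
attribute [local instance] HasDerivedCategory.standard
attribute [local instance] Groth.Agent.H22Alg.KExists.commRing
attribute [local instance 10000] Groth.Agent.H10Coh.hasSheafifyAb Groth.Agent.H10Coh.hasWeakSheafifyAb Groth.Agent.H10Coh.hasExtAb Groth.Agent.H10Coh.enoughInjAb

noncomputable section

namespace Groth.Agent.H16Derived.KSpecial

open H16Derived.KFlat.Stalk
open Groth.Agent.H22Alg
open Groth.Agent.H22Alg.KExists (rk rk_of_rank rk_add rk_tensor rk_extPow cl_mul cl_structure cl_extP extP extP_spec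
  finLocFree_extP finLocFree_structure mulHom_cl)

@[reducible] def kops (X : Scheme.{u}) : LambdaOps (SGA6.Kvb X) where
  lam := KLam.lamOp
  lam_zero := KLam.lamOp_zero
  lam_one := KLam.lamOp_one
  lam_add := KLam.lamOp_add

attribute [local instance] kops
attribute [local instance] H27Lambda.lineOps

variable {X Y : Scheme.{u}}

theorem rk_chart {M : X.Modules} (hM : FlatMod.IsFinLocFree M) {U : X.Opens} {n : ℕ}
    (e : M.restrict U.ι ≅ FlatMod.freeMod (↑U : Scheme.{u}) n) {x : X} (hx : x ∈ U) : rk x M = n := by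
  obtain ⟨V, hV, hxV, hle⟩ := exists_isAffineOpen_mem_and_subset (x := x) (U := U) hx
  obtain ⟨b⟩ := H8Props.FinLocFree.exists_basis_of_chart M e hle
  obtain ⟨b'⟩ := ExtPowSum.exists_stalkBasis (H8Props.FinLocFree.isQCoh_of_isFinLocFree _ hM) hV b hxV
  rw [rk, Module.finrank_eq_card_basis b', Fintype.card_fin]

theorem ofRank_of_rk {M : X.Modules} (hM : FlatMod.IsFinLocFree M) {n : ℕ} (h : ∀ x, rk x M = n) :
    FlatMod.IsFinLocFreeOfRank n M := fun x => by
  obtain ⟨U, m, hx, ⟨e⟩⟩ := hM x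
  have := (rk_chart hM e hx).symm.trans (h x)
  subst this
  exact ⟨U, hx, ⟨e⟩⟩

theorem rk_pullback (f : Y ⟶ X) {M : X.Modules} (hM : FlatMod.IsFinLocFree M) (y : Y) :
    rk y ((Scheme.Modules.pullback f).obj M) = rk (f y) M := by
  obtain ⟨V, n, hx, ⟨e⟩⟩ := hM (f y)
  rw [rk_chart hM e hx, rk_chart (isFinLocFree_pullback f hM) (U := f ⁻¹ᵁ V) ((pullbackRestrictIso f V).app M ≪≫
    (Scheme.Modules.pullback (f ∣_ V)).mapIso e ≪≫ freeModPullbackIso (f ∣_ V) n) hx]

theorem isLocallyConstant_rk {M : X.Modules} (hM : FlatMod.IsFinLocFree M) : IsLocallyConstant fun x : X => rk x M :=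
  (IsLocallyConstant.iff_exists_open _).2 fun x => by
    obtain ⟨U, n, hx, ⟨e⟩⟩ := hM x
    exact ⟨U, U.2, hx, fun y hy => (rk_chart hM e hy).trans (rk_chart hM e hx).symm⟩

/-- A bundle of rank at most one. -/
structure Small (L : X.Modules) : Prop where
  flf : FlatMod.IsFinLocFree L
  le : ∀ x, rk x L ≤ 1

theorem Small.pullback (f : Y ⟶ X) {L : X.Modules} (h : Small L) : Small ((Scheme.Modules.pullback f).obj L) :=
  ⟨isFinLocFree_pullback f h.flf, fun y => (rk_pullback f h.flf y).trans_le (h.le _)⟩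

theorem Small.tensor {L M : X.Modules} (hL : Small L) (hM : Small M) :
    Small (((DCoh.tensorBi (X := X)).obj L).obj M) :=
  ⟨isFinLocFree_tensor hL.flf hM.flf, fun x => (rk_tensor hL.flf hM.flf x).trans_le
    ((Nat.mul_le_mul (hL.le x) (hM.le x)).trans (le_refl 1))⟩

theorem small_structure (X : Scheme.{u}) : Small (Coh.structureModule X) :=
  ⟨finLocFree_structure X, fun x => (rk_of_rank
    (PB.rank_one_of_isInvertible (PicLoc.isInvertible_structureModule X)) x).le⟩

theorem lamOp_small {L : X.Modules} (h : Small L) {k : ℕ} (hk : 2 ≤ k) :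
    KLam.lamOp k (KRR.cl X L) = 0 := by
  rw [KLam.lamOp_cl k h.flf]
  exact KModel.cl_isZero (PBRel.isZero_of_rank_zero (ofRank_of_rk (finLocFree_extP k h.flf) fun x => by
    rw [rk_extPow h.flf (extP_spec k h.flf) x]
    exact Nat.choose_eq_zero_of_lt (by have := h.le x; omega)))

/-- The classes of bundles of rank at most one. -/
abbrev SCl (X : Scheme.{u}) : Type _ := {v : SGA6.Kvb X // ∃ L, Small L ∧ v = KRR.cl X L}

/-- The universal map. -/
def ev (X : Scheme.{u}) : MvPolynomial (SCl X) ℤ →+* SGA6.Kvb X :=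
  MvPolynomial.eval₂Hom (Int.castRingHom _) fun v : SCl X => (v : SGA6.Kvb X) - 1

lemma ev_u (v : SCl X) : ev X (1 + MvPolynomial.X v) = (v : SGA6.Kvb X) := by simp [ev]

theorem cl_mem {L : X.Modules} (h : Small L) : KRR.cl X L ∈ (ev X).range :=
  ⟨1 + MvPolynomial.X ⟨_, L, h, rfl⟩, ev_u _⟩

open MvPolynomial in
theorem commutes_ev (X : Scheme.{u}) : H27Lambda.Commutes (ev X) := by
  refine H27Lambda.commutes_of_addClosure _
    (Submonoid.closure (Set.range fun v : SCl X => (1 + MvPolynomial.X v : MvPolynomial (SCl X) ℤ)) : Set _)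
    (eq_top_iff.2 fun p hp => ?_) fun w hw => ?_
  · clear hp
    rw [← Subring.mem_closure_iff]
    induction p using MvPolynomial.induction_on with
    | C a => rw [eq_intCast (C : ℤ →+* MvPolynomial (SCl X) ℤ) a]; exact intCast_mem _ a
    | add p q hp hq => exact add_mem hp hq
    | mul_X p v hp =>
      refine mul_mem hp ?_
      have h1 : (1 + MvPolynomial.X v : MvPolynomial (SCl X) ℤ) ∈
          Subring.closure (Set.range fun v : SCl X => (1 + MvPolynomial.X v : MvPolynomial (SCl X) ℤ)) :=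
        Subring.subset_closure ⟨v, rfl⟩
      simpa using sub_mem h1 (one_mem _)
  · have h : lamSeries w = 1 + PowerSeries.C w * PowerSeries.X ∧ ∃ L, Small L ∧ ev X w = KRR.cl X L := by
      induction hw using Submonoid.closure_induction with
      | mem y hy =>
        obtain ⟨v, rfl⟩ := hy
        exact ⟨H27Lambda.line_lamSeries_u ℤ _ v, by rw [ev_u]; exact v.2⟩
      | one =>
        exact ⟨by rw [map_one, one_mul]; exact H27Lambda.lamSeries_one (H27Lambda.line_special ℤ _).lam_one_eq_zero,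
          _, small_structure X, map_one _⟩
      | mul a b _ _ iha ihb =>
        obtain ⟨ha, L, hL, hLe⟩ := iha
        obtain ⟨hb, M, hM, hMe⟩ := ihb
        refine ⟨?_, _, hL.tensor hM, by rw [map_mul, hLe, hMe, cl_mul hL.flf hM.flf]⟩
        rw [H27Lambda.lamSeries_mul_of_special (H27Lambda.line_special ℤ _), ha, hb,
          H27Lambda.mulSer_linear (by simp), map_add, map_one, map_mul, PowerSeries.rescale_X,
          show PowerSeries.rescale a (PowerSeries.C b) = PowerSeries.C b by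
            ext n; rw [PowerSeries.coeff_rescale]; cases n <;> simp [PowerSeries.coeff_C],
          map_mul]
        ring
    obtain ⟨L, hL, hLe⟩ := h.2
    rw [h.1, H27Lambda.lamSeries_of_linear (u := ev X w) fun k hk => by rw [hLe]; exact lamOp_small hL hk]
    simp

/-- Pull-back as a ring map. -/
theorem exists_pullR (f : Y ⟶ X) : ∃ p : SGA6.Kvb X →+* SGA6.Kvb Y,
    ∀ F, FlatMod.IsFinLocFree F → p (KRR.cl X F) = KRR.cl Y ((Scheme.Modules.pullback f).obj F) := by
  obtain ⟨p, hp⟩ : ∃ p : SGA6.Kvb X →+ SGA6.Kvb Y, ∀ F, FlatMod.IsFinLocFree F →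
      p (KRR.cl X F) = KRR.cl Y ((Scheme.Modules.pullback f).obj F) :=
    KModel.exists_lift _ fun S hS a b c =>
      KModel.cl_add (KModel.shortExact_pullback f hS c) (isFinLocFree_pullback f a) (isFinLocFree_pullback f b)
        (isFinLocFree_pullback f c)
  have h1 : p 1 = 1 := by
    rw [← cl_structure, hp _ (finLocFree_structure X),
      KModel.cl_iso (structurePullbackIso f) (isFinLocFree_pullback f (finLocFree_structure X)), cl_structure]
  have hm : ∀ a b, p (a * b) = p a * p b := by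
    have hk : ∀ A, FlatMod.IsFinLocFree A → ∀ b, p (KRR.cl X A * b) = p (KRR.cl X A) * p b := fun A hA b =>
      DFunLike.congr_fun (KModel.kvb_ext (a := p.comp (AddMonoidHom.mulLeft (KRR.cl X A)))
        (b := (AddMonoidHom.mulLeft (p (KRR.cl X A))).comp p) fun B hB => by
          simp only [AddMonoidHom.comp_apply, AddMonoidHom.coe_mulLeft]
          rw [cl_mul hA hB, hp _ (isFinLocFree_tensor hA hB), hp A hA, hp B hB,
            cl_mul (isFinLocFree_pullback f hA) (isFinLocFree_pullback f hB)]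
          exact KModel.cl_iso ((pullTensorLIso f B).app A) (isFinLocFree_pullback f (isFinLocFree_tensor hA hB))) b
    intro a b
    exact DFunLike.congr_fun (KModel.kvb_ext (a := p.comp (AddMonoidHom.mulRight b))
      (b := (AddMonoidHom.mulRight (p b)).comp p) fun A hA => by
        simp only [AddMonoidHom.comp_apply, AddMonoidHom.coe_mulRight]
        exact hk A hA b) a
  exact ⟨{ toFun := p, map_one' := h1, map_mul' := hm, map_zero' := map_zero p, map_add' := map_add p }, hp⟩

theorem closure_cl : AddSubgroup.closure {z : SGA6.Kvb X | ∃ E, FlatMod.IsFinLocFree E ∧ z = KRR.cl X E} = ⊤ := by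
  refine eq_top_iff.2 fun z _ => ?_
  obtain ⟨A, B, hA, hB, rfl⟩ := KExists.exists_diff z
  exact sub_mem (AddSubgroup.subset_closure ⟨A, hA, rfl⟩) (AddSubgroup.subset_closure ⟨B, hB, rfl⟩)

theorem commutes_pull (f : Y ⟶ X) {p : SGA6.Kvb X →+* SGA6.Kvb Y}
    (hp : ∀ F, FlatMod.IsFinLocFree F → p (KRR.cl X F) = KRR.cl Y ((Scheme.Modules.pullback f).obj F)) :
    H27Lambda.Commutes p := by
  refine H27Lambda.commutes_of_addClosure _ _ closure_cl ?_
  rintro _ ⟨E, hE, rfl⟩
  refine PowerSeries.ext fun k => ?_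
  rw [PowerSeries.coeff_map, H27Lambda.coeff_lamSeries, H27Lambda.coeff_lamSeries]
  show p (KLam.lamOp k (KRR.cl X E)) = KLam.lamOp k (p (KRR.cl X E))
  rw [KLam.lamOp_cl k hE, hp _ (finLocFree_extP k hE), hp E hE]
  exact (KLam.lamOp_extPow (isFinLocFree_pullback f hE)
    (ExtPowHom.isExtPow_pullback f (H8Props.FinLocFree.isQCoh_of_isFinLocFree _ hE) (extP_spec k hE))).symm

theorem pull_range_ev (f : Y ⟶ X) {p : SGA6.Kvb X →+* SGA6.Kvb Y}
    (hp : ∀ F, FlatMod.IsFinLocFree F → p (KRR.cl X F) = KRR.cl Y ((Scheme.Modules.pullback f).obj F))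
    {z : SGA6.Kvb X} (hz : z ∈ (ev X).range) : p z ∈ (ev Y).range := by
  obtain ⟨a, rfl⟩ := hz
  induction a using MvPolynomial.induction_on with
  | C a => rw [eq_intCast (MvPolynomial.C : ℤ →+* MvPolynomial (SCl X) ℤ) a, map_intCast, map_intCast]; exact intCast_mem _ a
  | add a b ha hb => rw [map_add, map_add]; exact add_mem ha hb
  | mul_X a v ha =>
    rw [map_mul, map_mul]
    refine mul_mem ha ?_
    obtain ⟨L, hL, hv⟩ := v.2
    rw [show ev X (MvPolynomial.X v) = (v : SGA6.Kvb X) - 1 by simp [ev], map_sub, map_one, hv, hp L hL.flf]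
    exact sub_mem (cl_mem (hL.pullback f)) (one_mem _)

/-- Splitting a bundle of constant rank. -/
theorem split_rank : ∀ (r : ℕ) (X : Scheme.{u}) [CompactSpace ↥X] (E : X.Modules),
    FlatMod.IsFinLocFreeOfRank r E →
    ∃ (Y : Scheme.{u}) (_ : CompactSpace ↥Y) (f : Y ⟶ X) (p : SGA6.Kvb X →+* SGA6.Kvb Y),
      (∀ F, FlatMod.IsFinLocFree F → p (KRR.cl X F) = KRR.cl Y ((Scheme.Modules.pullback f).obj F)) ∧
      Function.Injective p ∧ p (KRR.cl X E) ∈ (ev Y).range := by
  intro r
  induction r with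
  | zero =>
    intro X _ E hE
    refine ⟨X, inferInstance, 𝟙 X, RingHom.id _, fun F hF =>
      KModel.cl_iso ((Scheme.Modules.pullbackId X).app F).symm hF, Function.injective_id, ?_⟩
    rw [KModel.cl_isZero (PBRel.isZero_of_rank_zero hE), map_zero]
    exact zero_mem _
  | succ r ih =>
    intro X _ E hE
    have hE' := KModel.finLocFree_of_rank hE
    obtain ⟨P, π, O1, q, hPB⟩ := PB.exists_isProjBundle E (H8Props.FinLocFree.isQCoh_of_isFinLocFree _ hE')
    haveI := hPB.epi
    obtain ⟨O, hO, -, Ψ, hΨ, hb⟩ := PBQC.exists_bijective hE hPB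
    obtain ⟨p, hp⟩ := exists_pullR π
    haveI : CompactSpace ↥P := by
      haveI := (PB.isPn_of_isProjBundle hE hPB).isProper
      exact QuasiCompact.compactSpace_of_compactSpace π
    have hp0 : ∀ a, p a = Ψ 0 a := fun a => DFunLike.congr_fun (KModel.kvb_ext (a := p.toAddMonoidHom) (b := Ψ 0) fun F hF => by
      rw [RingHom.toAddMonoidHom_eq_coe, AddMonoidHom.coe_coe, hp F hF, hΨ 0 F hF]
      obtain ⟨e⟩ := PB.nonempty_tw_zero hO ((Scheme.Modules.pullback π).obj F)
      exact KModel.cl_iso e.symm (isFinLocFree_pullback π hF)) a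
    have hinj : Function.Injective p := fun a b hab => by
      have h := hb.1 (a₁ := Pi.single 0 a) (a₂ := Pi.single 0 b) (by
        simp only [PB.Φ, AddMonoidHom.mk'_apply]
        rw [Finset.sum_eq_single (0 : Fin (r + 1)) (fun i _ hi => by rw [Pi.single_eq_of_ne hi, map_zero]) (by simp),
          Finset.sum_eq_single (0 : Fin (r + 1)) (fun i _ hi => by rw [Pi.single_eq_of_ne hi, map_zero]) (by simp)]
        simpa [hp0] using hab)
      simpa using congrFun h 0
    have hO1' := KModel.finLocFree_of_rank hPB.invertible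
    have hpE := isFinLocFree_pullback π hE'
    have hS : (ShortComplex.mk (kernel.ι q) q (kernel.condition q)).ShortExact :=
      { exact := ShortComplex.exact_kernel q }
    have hM := isFinLocFree_left hS hpE hO1'
    have hMr : FlatMod.IsFinLocFreeOfRank r (kernel q) := ofRank_of_rk hM fun y => by
      have h : rk y ((Scheme.Modules.pullback π).obj E) = rk y (kernel q) + rk y O1 := rk_add hS hM hO1' y
      rw [rk_pullback π hE', rk_of_rank hE, rk_of_rank hPB.invertible] at h
      show rk y (kernel q) = r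
      omega
    obtain ⟨Y, hY, f, g, hg, hgi, hgM⟩ := ih P (kernel q) hMr
    refine ⟨Y, hY, f ≫ π, g.comp p, fun F hF => ?_, hgi.comp hinj, ?_⟩
    · rw [RingHom.comp_apply, hp F hF, hg _ (isFinLocFree_pullback π hF)]
      exact KModel.cl_iso ((Scheme.Modules.pullbackComp f π).app F)
        (isFinLocFree_pullback f (isFinLocFree_pullback π hF))
    · rw [RingHom.comp_apply, hp E hE', show KRR.cl P ((Scheme.Modules.pullback π).obj E) = KRR.cl P (kernel q) + KRR.cl P O1
        from KModel.cl_add hS hM hpE hO1', map_add, hg O1 hO1']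
      exact add_mem hgM (cl_mem ⟨isFinLocFree_pullback f hO1', fun y => by
        rw [rk_pullback f hO1', rk_of_rank hPB.invertible]⟩)

/-- The structure sheaf of a clopen. -/
theorem exists_small_clopen (C : Set X) (hC : IsClopen C) :
    ∃ L : X.Modules, Small L ∧ ∀ x : X, (x ∈ C → rk x L = 1) ∧ (x ∉ C → rk x L = 0) := by
  let U : X.Opens := ⟨C, hC.isOpen⟩
  let V : X.Opens := ⟨Cᶜ, hC.compl.isOpen⟩
  let L := (Scheme.Modules.pushforward U.ι).obj (Coh.structureModule (↑U : Scheme.{u}))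
  let e1 : L.restrict U.ι ≅ FlatMod.freeMod (↑U : Scheme.{u}) 1 :=
    (asIso (Scheme.Modules.restrictAdjunction U.ι).counit).app _ ≪≫
      (coproductUniqueIso fun _ : Fin 1 => Coh.structureModule (↑U : Scheme.{u})).symm
  have hV : IsZero (L.restrict V.ι) := by
    refine (IsZero.iff_id_eq_zero _).2 (Scheme.Modules.hom_ext _ _ fun W => ?_)
    have hb : U.ι ⁻¹ᵁ (V.ι ''ᵁ W) = ⊥ := by
      refine Opens.ext (Set.eq_empty_of_forall_notMem ?_)
      rintro ⟨z, hz⟩ hz'
      obtain ⟨⟨w, hw⟩, -, hwz⟩ : z ∈ V.ι ''ᵁ W := hz'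
      subst hwz
      exact hw hz
    haveI : Subsingleton ↑Γ(Coh.structureModule (↑U : Scheme.{u}), U.ι ⁻¹ᵁ (V.ι ''ᵁ W)) := by
      rw [hb]
      exact inferInstanceAs (Subsingleton Γ((↑U : Scheme.{u}), ⊥))
    refine AddCommGrpCat.hom_ext (AddMonoidHom.ext fun s => ?_)
    exact @Subsingleton.elim ↑Γ(Coh.structureModule (↑U : Scheme.{u}), U.ι ⁻¹ᵁ (V.ι ''ᵁ W)) _ _ _
  have e0 : Nonempty (L.restrict V.ι ≅ FlatMod.freeMod (↑V : Scheme.{u}) 0) := by
    have hf : IsZero (FlatMod.freeMod (↑V : Scheme.{u}) 0) := by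
      rw [IsZero.iff_id_eq_zero]
      exact Sigma.hom_ext _ _ fun i => Fin.elim0 i
    exact ⟨hV.iso hf⟩
  have hL : FlatMod.IsFinLocFree L := fun x => by
    by_cases hx : x ∈ C
    · exact ⟨U, 1, hx, ⟨e1⟩⟩
    · exact ⟨V, 0, hx, e0⟩
  have h : ∀ x : X, (x ∈ C → rk x L = 1) ∧ (x ∉ C → rk x L = 0) := fun x =>
    ⟨fun hx => rk_chart hL e1 hx, fun hx => rk_chart (U := V) hL e0.some hx⟩
  refine ⟨L, ⟨hL, fun x => ?_⟩, h⟩
  by_cases hx : x ∈ C
  · exact ((h x).1 hx).le
  · exact ((h x).2 hx).le.trans zero_le_one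

/-- A complement to constant rank. -/
theorem exists_pad {E : X.Modules} (hE : FlatMod.IsFinLocFree E) : ∀ N : ℕ,
    ∃ Q : X.Modules, FlatMod.IsFinLocFree Q ∧ KRR.cl X Q ∈ (ev X).range ∧ ∀ x, rk x Q = N - rk x E := by
  intro N
  induction N with
  | zero =>
    have hf : IsZero (FlatMod.freeMod X 0) := by
      rw [IsZero.iff_id_eq_zero]
      exact Sigma.hom_ext _ _ fun i => Fin.elim0 i
    refine ⟨_, KModel.finLocFree_zero hf, by rw [KModel.cl_isZero hf]; exact zero_mem _, fun x => ?_⟩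
    rw [Nat.zero_sub]
    exact rk_chart (U := ⊤) (KModel.finLocFree_zero hf)
      ((Scheme.Modules.restrictFunctorIsoPullback (⊤ : X.Opens).ι).app _ ≪≫ freeModPullbackIso (⊤ : X.Opens).ι 0) trivial
  | succ N ih =>
    obtain ⟨Q, hQ, hQr, hQk⟩ := ih
    have hlc : IsLocallyConstant fun x : X => rk x E := isLocallyConstant_rk hE
    obtain ⟨L, hL, hLk⟩ := exists_small_clopen {x : X | rk x E ≤ N}
      ⟨isOpen_compl_iff.1 (hlc (Set.Iic N)ᶜ), hlc (Set.Iic N)⟩
    have hS : (ShortComplex.mk (biprod.inl : Q ⟶ Q ⊞ L) (biprod.snd : Q ⊞ L ⟶ L) biprod.inl_snd).ShortExact :=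
      (ShortComplex.Splitting.ofHasBinaryBiproduct Q L).shortExact
    refine ⟨Q ⊞ L, ExtSES.finLocFree_mid hS hQ hL.flf, ?_, fun x => ?_⟩
    · rw [KModel.cl_biprod hQ hL.flf]
      exact add_mem hQr (cl_mem hL)
    · have h : rk x (Q ⊞ L) = rk x Q + rk x L := rk_add hS hQ hL.flf x
      rw [h, hQk]
      by_cases hx : rk x E ≤ N
      · rw [(hLk x).1 hx]; omega
      · rw [(hLk x).2 hx]; omega

/-- Splitting an arbitrary bundle. -/
theorem split_one (X : Scheme.{u}) [CompactSpace ↥X] (E : X.Modules) (hE : FlatMod.IsFinLocFree E) :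
    ∃ (Y : Scheme.{u}) (_ : CompactSpace ↥Y) (f : Y ⟶ X) (p : SGA6.Kvb X →+* SGA6.Kvb Y),
      (∀ F, FlatMod.IsFinLocFree F → p (KRR.cl X F) = KRR.cl Y ((Scheme.Modules.pullback f).obj F)) ∧
      Function.Injective p ∧ p (KRR.cl X E) ∈ (ev Y).range := by
  obtain ⟨N, hN⟩ : ∃ N : ℕ, ∀ x : X, rk x E ≤ N := by
    obtain ⟨N, hN⟩ := (isCompact_range (isLocallyConstant_rk hE).continuous).bddAbove
    exact ⟨N, fun x => hN ⟨x, rfl⟩⟩
  obtain ⟨Q, hQ, hQr, hQk⟩ := exists_pad hE N
  have hS : (ShortComplex.mk (biprod.inl : E ⟶ E ⊞ Q) (biprod.snd : E ⊞ Q ⟶ Q) biprod.inl_snd).ShortExact :=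
    (ShortComplex.Splitting.ofHasBinaryBiproduct E Q).shortExact
  have hr : FlatMod.IsFinLocFreeOfRank N (E ⊞ Q) := ofRank_of_rk (ExtSES.finLocFree_mid hS hE hQ) fun x => by
    have h : rk x (E ⊞ Q) = rk x E + rk x Q := rk_add hS hE hQ x
    rw [h, hQk]
    have := hN x
    omega
  obtain ⟨Y, hY, f, p, hp, hpi, hpm⟩ := split_rank N X _ hr
  refine ⟨Y, hY, f, p, hp, hpi, ?_⟩
  rw [KModel.cl_biprod hE hQ, map_add] at hpm
  simpa using sub_mem hpm (pull_range_ev f hp hQr)

theorem exists_line_model (X : Scheme.{u}) [CompactSpace ↥X] (x y : SGA6.Kvb X) :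
    ∃ (Y : Scheme.{u}) (p : SGA6.Kvb X →+* SGA6.Kvb Y), H27Lambda.Commutes p ∧ Function.Injective p ∧
      p x ∈ (ev Y).range ∧ p y ∈ (ev Y).range := by
  obtain ⟨A, B, hA, hB, rfl⟩ := KExists.exists_diff x
  obtain ⟨C, D, hC, hD, rfl⟩ := KExists.exists_diff y
  obtain ⟨Y1, _, f1, p1, hp1, hi1, hA1⟩ := split_one X A hA
  obtain ⟨Y2, _, f2, p2, hp2, hi2, hB2⟩ := split_one Y1 _ (isFinLocFree_pullback f1 hB)
  obtain ⟨Y3, _, f3, p3, hp3, hi3, hC3⟩ :=
    split_one Y2 _ (isFinLocFree_pullback f2 (isFinLocFree_pullback f1 hC))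
  obtain ⟨Y4, _, f4, p4, hp4, hi4, hD4⟩ :=
    split_one Y3 _ (isFinLocFree_pullback f3 (isFinLocFree_pullback f2 (isFinLocFree_pullback f1 hD)))
  have c1 := commutes_pull f1 hp1
  have c2 := commutes_pull f2 hp2
  have c3 := commutes_pull f3 hp3
  have c4 := commutes_pull f4 hp4
  refine ⟨Y4, ((p4.comp p3).comp p2).comp p1, fun z => ?_, ((hi4.comp hi3).comp hi2).comp hi1, ?_, ?_⟩
  · rw [PowerSeries.map_comp, PowerSeries.map_comp, PowerSeries.map_comp]
    simp only [RingHom.comp_apply]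
    rw [c1, c2, c3, c4]
  · simp only [RingHom.comp_apply, map_sub]
    refine sub_mem (pull_range_ev f4 hp4 (pull_range_ev f3 hp3 (pull_range_ev f2 hp2 hA1))) ?_
    rw [hp1 B hB]
    exact pull_range_ev f4 hp4 (pull_range_ev f3 hp3 hB2)
  · simp only [RingHom.comp_apply, map_sub]
    rw [hp1 C hC, hp2 _ (isFinLocFree_pullback f1 hC), hp1 D hD, hp2 _ (isFinLocFree_pullback f1 hD),
      hp3 _ (isFinLocFree_pullback f2 (isFinLocFree_pullback f1 hD))]
    exact sub_mem (pull_range_ev f4 hp4 hC3) hD4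

/-- `K₀` of bundles on a quasi-compact scheme is special. -/
theorem isSpecial_kvb (X : Scheme.{u}) [CompactSpace ↥X] : IsSpecial (SGA6.Kvb X) := by
  refine ⟨fun n hn => ?_, fun n Pn hP x y => ?_, fun i j Qij hQ x => ?_⟩
  · show KLam.lamOp n (1 : SGA6.Kvb X) = 0
    rw [← cl_structure]
    exact lamOp_small (small_structure X) hn
  · obtain ⟨Y, p, hc, hi, hx, hy⟩ := exists_line_model X x y
    obtain ⟨a, ha⟩ := hx
    obtain ⟨b, hb⟩ := hy
    have hφ := commutes_ev Y
    apply hi
    rw [hc.lam, map_mul, ← ha, ← hb, ← map_mul, ← hφ.lam,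
      (H27Lambda.line_special ℤ _).lam_mul n Pn hP a b, H27Lambda.aeval_int_map, H27Lambda.aeval_int_map]
    congr 2
    funext k
    rcases k with k | k <;>
      simp only [Sum.elim_inl, Sum.elim_inr, hφ.lam, hc.lam, ha, hb]
  · obtain ⟨Y, p, hc, hi, hx, -⟩ := exists_line_model X x x
    obtain ⟨a, ha⟩ := hx
    have hφ := commutes_ev Y
    apply hi
    rw [hc.lam, hc.lam, ← ha, ← hφ.lam, ← hφ.lam,
      (H27Lambda.line_special ℤ _).lam_lam i j Qij hQ a, H27Lambda.aeval_int_map, H27Lambda.aeval_int_map]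
    congr 2
    funext k
    rw [hφ.lam, hc.lam, ha]

/-- Any model of `K₀` of bundles on a quasi-compact scheme is special. -/
theorem isSpecial_of_model (S : Scheme.{u}) [CompactSpace ↥S]
    (K : Type v) [CommRing K] [LambdaRing.LambdaOps K] (φ : SGA6.Kvb S →+ K) (hφ : Function.Bijective φ)
    (h1 : φ (KRR.cl S (Coh.structureModule S)) = 1)
    (hmul : ∀ E F : S.Modules, FlatMod.IsFinLocFree E → FlatMod.IsFinLocFree F →
      φ (KRR.cl S E) * φ (KRR.cl S F) = φ (KRR.cl S (((DCoh.tensorBi (X := S)).obj E).obj F)))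
    (hlam : ∀ (i : ℕ) (E L : S.Modules), FlatMod.IsFinLocFree E → FlatMod.IsFinLocFree L →
      ExtPow.IsExtPow i E L → LambdaRing.LambdaOps.lam i (φ (KRR.cl S E)) = φ (KRR.cl S L)) :
    LambdaRing.IsSpecial K := by
  have hm : ∀ a b, φ (a * b) = φ a * φ b := by
    have hk : ∀ A, FlatMod.IsFinLocFree A → ∀ b, φ (KRR.cl S A * b) = φ (KRR.cl S A) * φ b := fun A hA b =>
      DFunLike.congr_fun (KModel.kvb_ext (a := φ.comp (AddMonoidHom.mulLeft (KRR.cl S A)))
        (b := (AddMonoidHom.mulLeft (φ (KRR.cl S A))).comp φ) fun B hB => by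
          simp only [AddMonoidHom.comp_apply, AddMonoidHom.coe_mulLeft]
          rw [cl_mul hA hB, hmul A B hA hB]) b
    intro a b
    exact DFunLike.congr_fun (KModel.kvb_ext (a := φ.comp (AddMonoidHom.mulRight b))
      (b := (AddMonoidHom.mulRight (φ b)).comp φ) fun A hA => by
        simp only [AddMonoidHom.comp_apply, AddMonoidHom.coe_mulRight]
        exact hk A hA b) a
  let F : SGA6.Kvb S →+* K :=
    { toFun := φ, map_one' := by rw [← cl_structure]; exact h1, map_mul' := hm, map_zero' := map_zero φ, map_add' := map_add φ }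
  have hc : H27Lambda.Commutes F := by
    refine H27Lambda.commutes_of_addClosure _ _ closure_cl ?_
    rintro _ ⟨E, hE, rfl⟩
    refine PowerSeries.ext fun k => ?_
    rw [PowerSeries.coeff_map, H27Lambda.coeff_lamSeries, H27Lambda.coeff_lamSeries]
    show φ (KLam.lamOp k (KRR.cl S E)) = LambdaOps.lam k (φ (KRR.cl S E))
    rw [KLam.lamOp_cl k hE]
    exact (hlam k E _ hE (finLocFree_extP k hE) (extP_spec k hE)).symm
  have hs := isSpecial_kvb S
  have hsur : Function.Surjective F := hφ.2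
  refine ⟨fun n hn => ?_, fun n Pn hP x y => ?_, fun i j Qij hQ x => ?_⟩
  · rw [← map_one F, ← hc.lam, hs.lam_one_eq_zero n hn, map_zero]
  · obtain ⟨x, rfl⟩ := hsur x
    obtain ⟨y, rfl⟩ := hsur y
    rw [← map_mul, ← hc.lam, hs.lam_mul n Pn hP x y, H27Lambda.aeval_int_map]
    congr 2
    funext k
    rcases k with k | k <;> simp only [Sum.elim_inl, Sum.elim_inr, hc.lam]
  · obtain ⟨x, rfl⟩ := hsur x
    rw [← hc.lam, ← hc.lam, hs.lam_lam i j Qij hQ x, H27Lambda.aeval_int_map]
    congr 2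
    funext k
    rw [hc.lam]

end Groth.Agent.H16Derived.KSpecial
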