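import Mathlib.Algebra.Homology.ShortComplex.Abelian
import Mathlib.Algebra.Homology.HomologicalComplexAbelian
import Mathlib.Algebra.Homology.Refinements
import Mathlib.CategoryTheory.Preadditive.Injective.Basic

/-!
# Ladders of maps to injective complexes
-/

set_option autoImplicit false
set_option linter.style.haveILetI false

universe v u

open CategoryTheory CategoryTheory.Limits

namespace Groth.Agent.H16Derived.Ladder

variable {V : Type u} [Category.{v} V] [Abelian V]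

/-- Extend two compatible maps into an injective object. -/
lemma exists_ext₂ {P Q X J : V} [Injective J] (u : P ⟶ X) (v : Q ⟶ X) (a : P ⟶ J) (b : Q ⟶ J)
    (h : ∀ {T : V} (x : T ⟶ P) (y : T ⟶ Q), x ≫ u = y ≫ v → x ≫ a = y ≫ b) :
    ∃ f : X ⟶ J, u ≫ f = a ∧ v ≫ f = b := by
  have key : ∀ {T : V} (k : T ⟶ P ⊞ Q), k ≫ biprod.desc u (-v) = 0 → k ≫ biprod.desc a (-b) = 0 := fun k hk => by
    rw [biprod.desc_eq, Preadditive.comp_add, Preadditive.comp_neg, Preadditive.comp_neg, add_neg_eq_zero,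
      ← Category.assoc, ← Category.assoc] at hk
    rw [biprod.desc_eq, Preadditive.comp_add, Preadditive.comp_neg, Preadditive.comp_neg, add_neg_eq_zero,
      ← Category.assoc, ← Category.assoc]
    exact h _ _ hk
  have hk : kernel.ι (biprod.desc u (-v)) ≫ biprod.desc a (-b) = 0 := key _ (kernel.condition _)
  let S := ShortComplex.mk (kernel.ι (biprod.desc u (-v))) (biprod.desc u (-v)) (kernel.condition _)
  have hS : S.Exact := ShortComplex.exact_of_f_is_kernel S (kernelIsKernel _)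
  refine ⟨hS.descToInjective (biprod.desc a (-b)) hk, ?_, ?_⟩
  · have := biprod.inl ≫= hS.comp_descToInjective (biprod.desc a (-b)) hk
    simpa [S] using this
  · have := biprod.inr ≫= hS.comp_descToInjective (biprod.desc a (-b)) hk
    simpa [S] using this

/-- Extend a map into an injective object. -/
lemma exists_ext₁ {P X J : V} [Injective J] (u : P ⟶ X) (a : P ⟶ J)
    (h : ∀ {T : V} (x : T ⟶ P), x ≫ u = 0 → x ≫ a = 0) : ∃ f : X ⟶ J, u ≫ f = a := by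
  let S := ShortComplex.mk (kernel.ι u) u (kernel.condition _)
  have hS : S.Exact := ShortComplex.exact_of_f_is_kernel S (kernelIsKernel _)
  exact ⟨hS.descToInjective a (h _ (kernel.condition u)), hS.comp_descToInjective _ _⟩

/-- The inclusion of the degree zero cohomology. -/
noncomputable def ι₀ (C : CochainComplex V ℕ) : C.homology 0 ⟶ C.X 0 :=
  inv (C.homologyπ 0) ≫ C.iCycles 0

instance (C : CochainComplex V ℕ) : Mono (ι₀ C) := by
  unfold ι₀
  infer_instance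

lemma ι₀_d (C : CochainComplex V ℕ) : ι₀ C ≫ C.d 0 1 = 0 := by simp [ι₀]

lemma exists_ι₀ (C : CochainComplex V ℕ) {T : V} (x : T ⟶ C.X 0) (hx : x ≫ C.d 0 1 = 0) :
    ∃ y : T ⟶ C.homology 0, y ≫ ι₀ C = x :=
  ⟨C.liftCycles x 1 (by simp) hx ≫ C.homologyπ 0, by simp [ι₀]⟩

lemma map_ι₀ {C D : CochainComplex V ℕ} (φ : C ⟶ D) :
    HomologicalComplex.homologyMap φ 0 ≫ ι₀ D = ι₀ C ≫ φ.f 0 := by
  rw [← cancel_epi (C.homologyπ 0)]
  simp [ι₀]

lemma exists_bdry (C : CochainComplex V ℕ) (n : ℕ) (hC : C.ExactAt (n + 1)) {T : V} (x : T ⟶ C.X (n + 1))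
    (hx : x ≫ C.d (n + 1) (n + 2) = 0) :
    ∃ (T' : V) (π : T' ⟶ T) (_ : Epi π) (y : T' ⟶ C.X n), π ≫ x = y ≫ C.d n (n + 1) :=
  (C.exactAt_iff_exact_up_to_refinements n (n + 1) (n + 2) (by simp) (by simp)).1 hC x hx

variable (C' C C'' I' I I'' : CochainComplex V ℕ)
  (jC : C' ⟶ C) (πC : C ⟶ C'') (jI : I' ⟶ I) (πI : I ⟶ I'')

/-- The ladder in one degree. -/
structure St (n : ℕ) where
  a : C'.X n ⟶ I'.X n
  b : C.X n ⟶ I.X n
  c : C''.X n ⟶ I''.X n
  sq₁ : jC.f n ≫ b = a ≫ jI.f n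
  sq₂ : πC.f n ≫ c = b ≫ πI.f n
  za : ∀ {T : V} (x : T ⟶ C'.X n), x ≫ C'.d n (n + 1) = 0 → (x ≫ a) ≫ I'.d n (n + 1) = 0
  zb : ∀ {T : V} (x : T ⟶ C.X n), x ≫ C.d n (n + 1) = 0 → (x ≫ b) ≫ I.d n (n + 1) = 0
  zc : ∀ {T : V} (x : T ⟶ C''.X n), x ≫ C''.d n (n + 1) = 0 → (x ≫ c) ≫ I''.d n (n + 1) = 0

lemma z_succ {C I : CochainComplex V ℕ} (n : ℕ) (hC : C.ExactAt (n + 1)) (b : C.X n ⟶ I.X n) (b' : C.X (n + 1) ⟶ I.X (n + 1))
    (h : C.d n (n + 1) ≫ b' = b ≫ I.d n (n + 1)) {T : V} (x : T ⟶ C.X (n + 1))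
    (hx : x ≫ C.d (n + 1) (n + 2) = 0) : (x ≫ b') ≫ I.d (n + 1) (n + 2) = 0 := by
  obtain ⟨T', π, hπ, y, hy⟩ := exists_bdry C n hC x hx
  rw [← cancel_epi π, comp_zero, ← Category.assoc, ← Category.assoc, hy, Category.assoc y, h]
  simp

variable (mC : ∀ n, Mono (jC.f n)) (wC : ∀ n, jC.f n ≫ πC.f n = 0)
  (exC : ∀ n, (ShortComplex.mk (jC.f n) (πC.f n) (wC n)).Exact)
  (wI : ∀ n, jI.f n ≫ πI.f n = 0)
  (hC' : ∀ n, 0 < n → C'.ExactAt n) (hC : ∀ n, 0 < n → C.ExactAt n) (hC'' : ∀ n, 0 < n → C''.ExactAt n)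
  (injI' : ∀ n, Injective (I'.X n)) (injI : ∀ n, Injective (I.X n)) (injI'' : ∀ n, Injective (I''.X n))

include mC exC wI hC' hC hC'' injI' injI injI''

lemma exists_succ (n : ℕ) (s : St C' C C'' I' I I'' jC πC jI πI n) :
    ∃ t : St C' C C'' I' I I'' jC πC jI πI (n + 1),
      C'.d n (n + 1) ≫ t.a = s.a ≫ I'.d n (n + 1) ∧ C.d n (n + 1) ≫ t.b = s.b ≫ I.d n (n + 1) ∧
        C''.d n (n + 1) ≫ t.c = s.c ≫ I''.d n (n + 1) := by
  haveI := injI' (n + 1)
  haveI := injI (n + 1)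
  haveI := injI'' (n + 1)
  obtain ⟨a, ha⟩ := exists_ext₁ (C'.d n (n + 1)) (s.a ≫ I'.d n (n + 1)) fun x hx => by
    rw [← Category.assoc]; exact s.za x hx
  obtain ⟨b, hb, hb'⟩ := exists_ext₂ (C.d n (n + 1)) (jC.f (n + 1)) (s.b ≫ I.d n (n + 1)) (a ≫ jI.f (n + 1))
    fun {T} x y hxy => by
    haveI := mC (n + 2)
    have hy : y ≫ C'.d (n + 1) (n + 2) = 0 := by
      rw [← cancel_mono (jC.f (n + 2)), zero_comp, Category.assoc, ← jC.comm, ← reassoc_of% hxy]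
      simp
    obtain ⟨T', π, hπ, y', hy'⟩ := exists_bdry C' n (hC' _ n.succ_pos) y hy
    have hz := s.zb (π ≫ x - y' ≫ jC.f n) (by
      rw [Preadditive.sub_comp, Category.assoc, Category.assoc, hxy, jC.comm, reassoc_of% hy', sub_self])
    rw [Preadditive.sub_comp, Preadditive.sub_comp, sub_eq_zero, Category.assoc, Category.assoc] at hz
    rw [← cancel_epi π, hz, Category.assoc, Category.assoc, reassoc_of% hy', reassoc_of% s.sq₁, jI.comm,
      reassoc_of% ha]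
  obtain ⟨c, hc, hc'⟩ := exists_ext₂ (C''.d n (n + 1)) (πC.f (n + 1)) (s.c ≫ I''.d n (n + 1)) (b ≫ πI.f (n + 1))
    fun {T} z w hzw => by
    haveI := mC (n + 3)
    have hwd : (w ≫ C.d (n + 1) (n + 2)) ≫ πC.f (n + 2) = 0 := by
      rw [Category.assoc, ← πC.comm, ← reassoc_of% hzw]
      simp
    obtain ⟨T₁, π₁, hπ₁, y, hy⟩ := (exC (n + 2)).exact_up_to_refinements (w ≫ C.d (n + 1) (n + 2)) hwd
    have hyd : y ≫ C'.d (n + 2) (n + 3) = 0 := by
      rw [← cancel_mono (jC.f (n + 3)), zero_comp, Category.assoc, ← jC.comm, ← Category.assoc]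
      show (y ≫ jC.f (n + 2)) ≫ _ = 0
      rw [← hy]
      simp
    obtain ⟨T₂, π₂, hπ₂, y', hy'⟩ := exists_bdry C' (n + 1) (hC' _ (Nat.succ_pos _)) y hyd
    obtain ⟨T₃, π₃, hπ₃, v, hv⟩ := exists_bdry C n (hC _ n.succ_pos)
      ((π₂ ≫ π₁) ≫ w - y' ≫ jC.f (n + 1)) (by
        rw [Preadditive.sub_comp, Category.assoc, Category.assoc, hy, Category.assoc, jC.comm, reassoc_of% hy',
          sub_self])
    let p := π₃ ≫ π₂ ≫ π₁
    have hpw : p ≫ w = v ≫ C.d n (n + 1) + (π₃ ≫ y') ≫ jC.f (n + 1) := by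
      rw [← hv]
      simp [p]
    haveI hp : Epi p := inferInstance
    clear_value p
    have hpz : (p ≫ z - v ≫ πC.f n) ≫ C''.d n (n + 1) = 0 := by
      rw [Preadditive.sub_comp, Category.assoc, Category.assoc, hzw, πC.comm, ← Category.assoc p, hpw]
      simp [wC]
    have hz := s.zc _ hpz
    rw [Preadditive.sub_comp, Preadditive.sub_comp, sub_eq_zero, Category.assoc, Category.assoc] at hz
    rw [← cancel_epi p, hz, ← Category.assoc p w, hpw]
    simp only [Preadditive.add_comp, Category.assoc, reassoc_of% s.sq₂, πI.comm, reassoc_of% hb, reassoc_of% hb', wI]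
    simp
  exact ⟨⟨a, b, c, hb', hc', fun x hx => z_succ n (hC' _ n.succ_pos) _ _ ha x hx,
    fun x hx => z_succ n (hC _ n.succ_pos) _ _ hb x hx,
    fun x hx => z_succ n (hC'' _ n.succ_pos) _ _ hc x hx⟩, ha, hb, hc⟩

variable (g' : C'.homology 0 ⟶ I'.homology 0) (g : C.homology 0 ⟶ I.homology 0)
  (g'' : C''.homology 0 ⟶ I''.homology 0)
  (hg1 : HomologicalComplex.homologyMap jC 0 ≫ g = g' ≫ HomologicalComplex.homologyMap jI 0)
  (hg2 : HomologicalComplex.homologyMap πC 0 ≫ g'' = g ≫ HomologicalComplex.homologyMap πI 0)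

include hg1 hg2

lemma exists_zero : ∃ s : St C' C C'' I' I I'' jC πC jI πI 0,
    ι₀ C' ≫ s.a = g' ≫ ι₀ I' ∧ ι₀ C ≫ s.b = g ≫ ι₀ I ∧ ι₀ C'' ≫ s.c = g'' ≫ ι₀ I'' := by
  haveI := injI' 0
  haveI := injI 0
  haveI := injI'' 0
  obtain ⟨a, ha⟩ := exists_ext₁ (ι₀ C') (g' ≫ ι₀ I') fun x hx => by
    rw [zero_of_comp_mono (ι₀ C') hx, zero_comp]
  obtain ⟨b, hb, hb'⟩ := exists_ext₂ (ι₀ C) (jC.f 0) (g ≫ ι₀ I) (a ≫ jI.f 0) fun {T} x y hxy => by
    haveI := mC 1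
    have hy : y ≫ C'.d 0 1 = 0 := by
      rw [← cancel_mono (jC.f 1), zero_comp, Category.assoc, ← jC.comm, ← reassoc_of% hxy, ι₀_d, comp_zero]
    obtain ⟨y₀, rfl⟩ := exists_ι₀ C' y hy
    have hx : x = y₀ ≫ HomologicalComplex.homologyMap jC 0 := by
      rw [← cancel_mono (ι₀ C), hxy, Category.assoc, Category.assoc, map_ι₀]
    rw [hx, Category.assoc, reassoc_of% hg1, map_ι₀, Category.assoc, reassoc_of% ha]
  obtain ⟨c, hc, hc'⟩ := exists_ext₂ (ι₀ C'') (πC.f 0) (g'' ≫ ι₀ I'') (b ≫ πI.f 0) fun {T} z w hzw => by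
    haveI := mC 2
    have hwd : (w ≫ C.d 0 1) ≫ πC.f 1 = 0 := by
      rw [Category.assoc, ← πC.comm, ← reassoc_of% hzw, ι₀_d, comp_zero]
    obtain ⟨T₁, π₁, hπ₁, y, hy⟩ := (exC 1).exact_up_to_refinements (w ≫ C.d 0 1) hwd
    have hyd : y ≫ C'.d 1 2 = 0 := by
      rw [← cancel_mono (jC.f 2), zero_comp, Category.assoc, ← jC.comm, ← Category.assoc]
      show (y ≫ jC.f 1) ≫ _ = 0
      rw [← hy]
      simp
    obtain ⟨T₂, π₂, hπ₂, y', hy'⟩ := exists_bdry C' 0 (hC' _ Nat.one_pos) y hyd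
    let p := π₂ ≫ π₁
    have hyd' : (p ≫ w - y' ≫ jC.f 0) ≫ C.d 0 1 = 0 := by
      rw [Preadditive.sub_comp, Category.assoc, Category.assoc, hy, Category.assoc, jC.comm, reassoc_of% hy',
        sub_self]
    obtain ⟨w₀, hw₀⟩ := exists_ι₀ C _ hyd'
    have hpw : p ≫ w = w₀ ≫ ι₀ C + y' ≫ jC.f 0 := by rw [hw₀, sub_add_cancel]
    have hz : p ≫ z = w₀ ≫ HomologicalComplex.homologyMap πC 0 := by
      rw [← cancel_mono (ι₀ C''), Category.assoc, hzw, ← Category.assoc p, hpw, Preadditive.add_comp,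
        Category.assoc, Category.assoc, Category.assoc, wC, map_ι₀]
      simp
    rw [← cancel_epi p, reassoc_of% hz, reassoc_of% hg2, map_ι₀, ← Category.assoc p w, hpw,
      Preadditive.add_comp, Category.assoc, Category.assoc, reassoc_of% hb, reassoc_of% hb', wI]
    simp
  have hz : ∀ {C I : CochainComplex V ℕ} (g : C.homology 0 ⟶ I.homology 0) (b : C.X 0 ⟶ I.X 0),
      ι₀ C ≫ b = g ≫ ι₀ I → ∀ {T : V} (x : T ⟶ C.X 0), x ≫ C.d 0 1 = 0 → (x ≫ b) ≫ I.d 0 1 = 0 := by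
    intro C I g b h T x hx
    obtain ⟨x₀, rfl⟩ := exists_ι₀ C x hx
    rw [Category.assoc x₀, h, Category.assoc, Category.assoc, ι₀_d, comp_zero, comp_zero]
  exact ⟨⟨a, b, c, hb', hc', fun x hx => hz g' a ha x hx, fun x hx => hz g b hb x hx,
    fun x hx => hz g'' c hc x hx⟩, ha, hb, hc⟩

theorem exists_ladder : ∃ (f' : C' ⟶ I') (f : C ⟶ I) (f'' : C'' ⟶ I''),
      jC ≫ f = f' ≫ jI ∧ πC ≫ f'' = f ≫ πI ∧
      HomologicalComplex.homologyMap f' 0 = g' ∧ HomologicalComplex.homologyMap f 0 = g ∧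
      HomologicalComplex.homologyMap f'' 0 = g'' := by
  obtain ⟨s₀, ha, hb, hc⟩ := exists_zero C' C C'' I' I I'' jC πC jI πI mC wC exC wI hC' hC hC'' injI' injI injI''
    g' g g'' hg1 hg2
  choose nx hnx using exists_succ C' C C'' I' I I'' jC πC jI πI mC wC exC wI hC' hC hC'' injI' injI injI''
  let s : ∀ n, St C' C C'' I' I I'' jC πC jI πI n := fun n => Nat.rec s₀ (fun k t => nx k t) n
  let f' : C' ⟶ I' := { f := fun n => (s n).a
                        comm' := fun i j (h : i + 1 = j) => by subst h; exact (hnx i (s i)).1.symm }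
  let f : C ⟶ I := { f := fun n => (s n).b
                     comm' := fun i j (h : i + 1 = j) => by subst h; exact (hnx i (s i)).2.1.symm }
  let f'' : C'' ⟶ I'' := { f := fun n => (s n).c
                           comm' := fun i j (h : i + 1 = j) => by subst h; exact (hnx i (s i)).2.2.symm }
  refine ⟨f', f, f'', ?_, ?_, ?_, ?_, ?_⟩
  · ext n; exact (s n).sq₁
  · ext n; exact (s n).sq₂
  · rw [← cancel_mono (ι₀ I'), map_ι₀]; exact ha
  · rw [← cancel_mono (ι₀ I), map_ι₀]; exact hb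
  · rw [← cancel_mono (ι₀ I''), map_ι₀]; exact hc

end Groth.Agent.H16Derived.Ladder
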