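import Groth.Agent.H16Derived.ML
import Groth.Agent.H16Derived.EssConst
import Groth.Prelude.Def_Formal2
import Mathlib.Algebra.Homology.HomologicalComplexLimits
import Mathlib.Algebra.Homology.ShortComplex.Ab
import Mathlib.Algebra.Category.Grp.Limits

/-!
# Homology of the limit of a tower of complexes of abelian groups
-/

set_option autoImplicit false
set_option linter.style.haveILetI false

universe u

open CategoryTheory CategoryTheory.Limits Opposite

namespace Groth.Agent.H16Derived.LimHom

open ML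

local notation "Cx" => HomologicalComplex AddCommGrpCat (ComplexShape.up ℤ)

/-- `x` is a cycle with class `y`. -/
def Rep (K : Cx) (p : ℤ) (y : K.homology p) (x : K.X p) : Prop :=
  ∃ c : K.cycles p, K.iCycles p c = x ∧ K.homologyπ p c = y

section Single

variable {K L : HomologicalComplex AddCommGrpCat.{u} (ComplexShape.up ℤ)} {p : ℤ}

lemma iCycles_injective (c c' : K.cycles p) (h : K.iCycles p c = K.iCycles p c') : c = c' :=
  (AddCommGrpCat.mono_iff_injective _).1 inferInstance h

lemma homologyπ_surjective (y : K.homology p) : ∃ c : K.cycles p, K.homologyπ p c = y :=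
  (AddCommGrpCat.epi_iff_surjective _).1 inferInstance y

lemma exists_rep (y : K.homology p) : ∃ x, Rep K p y x := by
  obtain ⟨c, hc⟩ := homologyπ_surjective y
  exact ⟨_, c, rfl, hc⟩

lemma Rep.d {y : K.homology p} {x : K.X p} (h : Rep K p y x) : K.d p (p + 1) x = 0 := by
  obtain ⟨c, rfl, -⟩ := h
  rw [← comp_apply, K.iCycles_d]
  rfl

lemma exists_rep_of_cycle (x : K.X p) (hx : K.d p (p + 1) x = 0) : ∃ y, Rep K p y x := by
  have h : (ShortComplex.mk (K.iCycles p) (K.d p (p + 1)) (K.iCycles_d p (p + 1))).Exact :=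
    ShortComplex.exact_of_f_is_kernel _ (K.cyclesIsKernel p (p + 1) (by simp))
  obtain ⟨c, hc⟩ := ((ShortComplex.ab_exact_iff_function_exact _).1 h x).1 hx
  exact ⟨_, c, hc, rfl⟩

lemma Rep.unique {y y' : K.homology p} {x : K.X p} (h : Rep K p y x) (h' : Rep K p y' x) : y = y' := by
  obtain ⟨c, hc, rfl⟩ := h
  obtain ⟨c', hc', rfl⟩ := h'
  rw [iCycles_injective c c' (hc.trans hc'.symm)]

lemma rep_zero : Rep K p 0 0 := ⟨0, map_zero _, map_zero _⟩

lemma Rep.add {y y' : K.homology p} {x x' : K.X p} (h : Rep K p y x) (h' : Rep K p y' x') :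
    Rep K p (y + y') (x + x') := by
  obtain ⟨c, rfl, rfl⟩ := h
  obtain ⟨c', rfl, rfl⟩ := h'
  exact ⟨c + c', map_add _ _ _, map_add _ _ _⟩

lemma Rep.sub {y y' : K.homology p} {x x' : K.X p} (h : Rep K p y x) (h' : Rep K p y' x') :
    Rep K p (y - y') (x - x') := by
  obtain ⟨c, rfl, rfl⟩ := h
  obtain ⟨c', rfl, rfl⟩ := h'
  exact ⟨c - c', map_sub _ _ _, map_sub _ _ _⟩

lemma Rep.map (φ : K ⟶ L) {y : K.homology p} {x : K.X p} (h : Rep K p y x) :
    Rep L p (HomologicalComplex.homologyMap φ p y) (φ.f p x) := by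
  obtain ⟨c, rfl, rfl⟩ := h
  refine ⟨HomologicalComplex.cyclesMap φ p c, ?_, ?_⟩
  · rw [← comp_apply, HomologicalComplex.cyclesMap_i, comp_apply]
  · rw [← comp_apply, ← HomologicalComplex.homologyπ_naturality, comp_apply]

lemma rep_boundary {q : ℤ} (hqp : q + 1 = p) (w : K.X q) : Rep K p 0 (K.d q p w) := by
  refine ⟨K.toCycles q p w, by rw [← comp_apply, K.toCycles_i], ?_⟩
  rw [← comp_apply, K.toCycles_comp_homologyπ]
  rfl

lemma Rep.zero_iff {q : ℤ} (hqp : q + 1 = p) {y : K.homology p} {x : K.X p} (h : Rep K p y x) :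
    y = 0 ↔ ∃ w, K.d q p w = x := by
  constructor
  · rintro rfl
    obtain ⟨c, hc, hc0⟩ := h
    have he : (ShortComplex.mk (K.toCycles q p) (K.homologyπ p) (K.toCycles_comp_homologyπ q p)).Exact :=
      ShortComplex.exact_of_g_is_cokernel _ (K.homologyIsCokernel q p (by simp; omega))
    obtain ⟨w, hw⟩ := ((ShortComplex.ab_exact_iff_function_exact _).1 he c).1 hc0
    exact ⟨w, by rw [← K.toCycles_i q p, comp_apply]; exact (congrArg (K.iCycles p) hw).trans hc⟩
  · rintro ⟨w, rfl⟩
    exact h.unique (rep_boundary hqp w)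

end Single

variable (K : ℕᵒᵖ ⥤ HomologicalComplex AddCommGrpCat.{u} (ComplexShape.up ℤ))

/-- The transition map in degree `p`. -/
noncomputable abbrev t (p : ℤ) (n : ℕ) : (K.obj (op (n + 1))).X p →+ (K.obj (op n)).X p :=
  ((K.map (homOfLE (Nat.le_succ n)).op).f p).hom

/-- The transition map in homology. -/
noncomputable abbrev th (p : ℤ) (n : ℕ) :
    (K.obj (op (n + 1))).homology p →+ (K.obj (op n)).homology p :=
  (HomologicalComplex.homologyMap (K.map (homOfLE (Nat.le_succ n)).op) p).hom

/-- The projections of the limit. -/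
noncomputable abbrev pr (p : ℤ) (n : ℕ) : (limit K).X p →+ (K.obj (op n)).X p :=
  ((limit.π K (op n)).f p).hom

/-- The projections in homology. -/
noncomputable abbrev prh (p : ℤ) (n : ℕ) : (limit K).homology p →+ (K.obj (op n)).homology p :=
  (HomologicalComplex.homologyMap (limit.π K (op n)) p).hom

variable {K}

lemma pr_compat (p : ℤ) (x : (limit K).X p) (n : ℕ) : t K p n (pr K p (n + 1) x) = pr K p n x := by
  rw [t, pr, ← comp_apply, ← HomologicalComplex.comp_f, limit.w]

lemma compat_all {p : ℤ} (s : ∀ n : ℕ, (K.obj (op n)).X p) (hs : ∀ n, t K p n (s (n + 1)) = s n)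
    {a b : ℕ} (h : a ≤ b) : (K.map (homOfLE h).op).f p (s b) = s a := by
  induction b, h using Nat.le_induction with
  | base =>
    rw [show (homOfLE (le_refl a)).op = 𝟙 (op a) from rfl, K.map_id]
    rfl
  | succ b hab ih =>
    rw [show (homOfLE (hab.trans b.le_succ)).op = (homOfLE b.le_succ).op ≫ (homOfLE hab).op from rfl,
      K.map_comp, HomologicalComplex.comp_f, comp_apply]
    exact (congrArg _ (hs b)).trans ih

lemma exists_limit {p : ℤ} (s : ∀ n : ℕ, (K.obj (op n)).X p) (hs : ∀ n, t K p n (s (n + 1)) = s n) :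
    ∃ x : (limit K).X p, ∀ n, pr K p n x = s n := by
  obtain ⟨x, hx, -⟩ := (Types.isLimit_iff _).1 ⟨isLimitOfPreserves
    (HomologicalComplex.eval AddCommGrpCat.{u} (ComplexShape.up ℤ) p ⋙ forget AddCommGrpCat.{u})
    (limit.isLimit K)⟩ (fun i => s i.unop) (fun {i j} f => compat_all s hs (leOfHom f.unop))
  exact ⟨x, fun n => hx (op n)⟩

lemma limit_ext {p : ℤ} (x y : (limit K).X p) (h : ∀ n, pr K p n x = pr K p n y) : x = y :=
  Concrete.isLimit_ext (K ⋙ HomologicalComplex.eval AddCommGrpCat.{u} (ComplexShape.up ℤ) p)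
    (isLimitOfPreserves (HomologicalComplex.eval AddCommGrpCat.{u} (ComplexShape.up ℤ) p)
      (limit.isLimit K)) x y fun i => h i.unop

lemma post_apply (p : ℤ) (n : ℕ) (y : (limit K).homology p) :
    limit.π (K ⋙ HomologicalComplex.homologyFunctor _ _ p) (op n)
      ((limit.post K (HomologicalComplex.homologyFunctor _ _ p)).hom y) = prh K p n y :=
  ConcreteCategory.congr_hom (limit.post_π K (HomologicalComplex.homologyFunctor _ _ p) (op n)) y

lemma post_eq_zero_iff (p : ℤ) (y : (limit K).homology p) :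
    (limit.post K (HomologicalComplex.homologyFunctor _ _ p)).hom y = 0 ↔
      ∀ n, prh K p n y = 0 := by
  refine ⟨fun h n => (post_apply p n y).symm.trans ((congrArg _ h).trans (map_zero _)), fun h => ?_⟩
  refine Concrete.limit_ext _ _ _ fun i => ?_
  exact (post_apply p i.unop y).trans ((h i.unop).trans (map_zero _).symm)

/-! ### Surjective transition maps -/

lemma exists_section_rec {A : ℕ → Type u} [∀ n, AddCommGroup (A n)] (f : ∀ n, A (n + 1) →+ A n)
    (hf : ∀ n, Function.Surjective (f n)) (e : ∀ n, A n) :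
    ∃ w : ∀ n, A n, ∀ n, f n (w (n + 1)) - w n = e n :=
  ⟨fun n => Nat.rec (0 : A 0) (fun n w => (hf n (w + e n)).choose) n, fun n => by
    show f n (hf n (_ + e n)).choose - _ = e n
    rw [(hf n _).choose_spec, add_sub_cancel_left]⟩

variable (K) in
/-- The boundary relation between towers of classes in degree `q` and classes of the limit in degree `p`. -/
def Rel (q p : ℤ) (g : ∀ n : ℕ, (K.obj (op n)).homology q) (y : (limit K).homology p) : Prop :=
  ∃ (w : ∀ n : ℕ, (K.obj (op n)).X q) (z : (limit K).X p), Rep (limit K) p y z ∧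
    (∀ n, (K.obj (op n)).d q p (w n) = pr K p n z) ∧
    ∀ n, Rep (K.obj (op n)) q (g n) (t K q n (w (n + 1)) - w n)

section Surjective

variable (hK : ∀ (n : ℕ) (q : ℤ), Function.Surjective ((K.map (homOfLE (Nat.le_succ n)).op).f q).hom)
  {q p : ℤ}

include hK

lemma exists_rel (hqp : q + 1 = p) (g : ∀ n : ℕ, (K.obj (op n)).homology q) : ∃ y, Rel K q p g y := by
  subst hqp
  choose e he using fun n => exists_rep (g n)
  obtain ⟨w, hw⟩ := exists_section_rec (fun n => t K q n) (fun n => hK n q) e
  obtain ⟨z, hz⟩ := exists_limit (K := K) (p := q + 1) (fun n => (K.obj (op n)).d q (q + 1) (w n)) fun n => by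
    have h1 : t K (q + 1) n ((K.obj (op (n + 1))).d q (q + 1) (w (n + 1))) =
        (K.obj (op n)).d q (q + 1) (t K q n (w (n + 1))) := by
      rw [t, t, ← comp_apply, ← comp_apply, HomologicalComplex.Hom.comm]
    have h2 : t K q n (w (n + 1)) = w n + e n := by rw [← hw n]; abel
    rw [h1, h2, map_add, (he n).d, add_zero]
  have hzd : (limit K).d (q + 1) (q + 1 + 1) z = 0 := limit_ext _ _ fun n => by
    rw [map_zero, pr, ← comp_apply, ← HomologicalComplex.Hom.comm, comp_apply]
    refine (congrArg _ (hz n)).trans ?_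
    rw [← comp_apply, HomologicalComplex.d_comp_d]
    rfl
  obtain ⟨y, hy⟩ := exists_rep_of_cycle z hzd
  exact ⟨y, w, z, hy, fun n => (hz n).symm, fun n => by rw [hw n]; exact he n⟩

omit hK in
lemma Rel.mem (hqp : q + 1 = p) {g : ∀ n : ℕ, (K.obj (op n)).homology q} {y : (limit K).homology p}
    (h : Rel K q p g y) (n : ℕ) : prh K p n y = 0 := by
  obtain ⟨w, z, hy, hz, -⟩ := h
  exact ((hy.map (limit.π K (op n))).zero_iff hqp).2 ⟨w n, hz n⟩

omit hK in
lemma Rel.add {g g' : ∀ n : ℕ, (K.obj (op n)).homology q} {y y' : (limit K).homology p}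
    (h : Rel K q p g y) (h' : Rel K q p g' y') : Rel K q p (g + g') (y + y') := by
  obtain ⟨w, z, hy, hz, hg⟩ := h
  obtain ⟨w', z', hy', hz', hg'⟩ := h'
  refine ⟨w + w', z + z', hy.add hy', fun n => ?_, fun n => ?_⟩
  · rw [Pi.add_apply, map_add, map_add, hz, hz']
  · rw [Pi.add_apply, Pi.add_apply, Pi.add_apply, map_add, add_sub_add_comm]
    exact (hg n).add (hg' n)

omit hK in
lemma Rel.sub {g g' : ∀ n : ℕ, (K.obj (op n)).homology q} {y y' : (limit K).homology p}
    (h : Rel K q p g y) (h' : Rel K q p g' y') : Rel K q p (g - g') (y - y') := by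
  obtain ⟨w, z, hy, hz, hg⟩ := h
  obtain ⟨w', z', hy', hz', hg'⟩ := h'
  refine ⟨w - w', z - z', hy.sub hy', fun n => ?_, fun n => ?_⟩
  · rw [Pi.sub_apply, map_sub, map_sub, hz, hz']
  · rw [Pi.sub_apply, Pi.sub_apply, Pi.sub_apply, map_sub, sub_sub_sub_comm]
    exact (hg n).sub (hg' n)

lemma Rel.range_iff (hqp : q + 1 = p) {g : ∀ n : ℕ, (K.obj (op n)).homology q}
    {y : (limit K).homology p} (h : Rel K q p g y) :
    y = 0 ↔ g ∈ (Formal2.towerDiff (fun n => (K.obj (op n)).homology q) (fun n => th K q n)).range := by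
  obtain ⟨w, z, hy, hz, hg⟩ := h
  constructor
  · intro hy0
    obtain ⟨W, hW⟩ := (hy.zero_iff hqp).1 hy0
    have hcyc : ∀ n, (K.obj (op n)).d q (q + 1) (w n - pr K q n W) = 0 := fun n => by
      subst hqp
      rw [map_sub, hz n, ← hW, sub_eq_zero, pr, pr, ← comp_apply, ← comp_apply,
        HomologicalComplex.Hom.comm]
    choose c hc using fun n => exists_rep_of_cycle _ (hcyc n)
    refine ⟨fun n => -(c n), funext fun n => ?_⟩
    refine Rep.unique (x := t K q n (w (n + 1)) - w n) ?_ (hg n)
    have h1 := ((hc (n + 1)).map (K.map (homOfLE (Nat.le_succ n)).op)).sub (hc n)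
    have e1 : t K q n (w (n + 1)) - w n =
        (K.map (homOfLE (Nat.le_succ n)).op).f q (w (n + 1) - pr K q (n + 1) W) - (w n - pr K q n W) := by
      rw [map_sub, show (K.map (homOfLE (Nat.le_succ n)).op).f q (pr K q (n + 1) W) = pr K q n W from
        pr_compat q W n]
      abel
    rw [e1]
    simp only [Formal2.towerDiff, AddMonoidHom.coe_mk, ZeroHom.coe_mk, map_neg, sub_neg_eq_add,
      neg_add_eq_sub]
    exact h1
  · rintro ⟨G, rfl⟩
    choose c hc using fun n => exists_rep (G n)
    have h2 : ∀ n, ∃ v : (K.obj (op n)).X (q - 1),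
        (K.obj (op n)).d (q - 1) q v = (t K q n (w (n + 1)) - w n) - (c n - t K q n (c (n + 1))) := fun n =>
      (((hg n).sub ((hc n).sub ((hc (n + 1)).map (K.map (homOfLE (Nat.le_succ n)).op)))).zero_iff
        (by omega)).1 (sub_self _)
    choose v hv using h2
    obtain ⟨V, hV⟩ := exists_section_rec (fun n => t K (q - 1) n) (fun n => hK n (q - 1)) v
    obtain ⟨W, hW⟩ := exists_limit (K := K) (p := q) (fun n => w n + c n - (K.obj (op n)).d (q - 1) q (V n))
      fun n => by
        have h3 : t K q n ((K.obj (op (n + 1))).d (q - 1) q (V (n + 1))) =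
            (K.obj (op n)).d (q - 1) q (V n) + (K.obj (op n)).d (q - 1) q (v n) := by
          rw [← map_add, ← show t K (q - 1) n (V (n + 1)) = V n + v n by rw [← hV n]; abel, t, t,
            ← comp_apply, ← comp_apply, HomologicalComplex.Hom.comm]
        rw [map_sub, map_add, h3, hv n]
        abel
    refine (hy.zero_iff hqp).2 ⟨W, limit_ext _ _ fun n => ?_⟩
    subst hqp
    rw [pr, ← comp_apply, ← HomologicalComplex.Hom.comm, comp_apply]
    refine (congrArg _ (hW n)).trans ?_
    rw [map_sub, map_add, (hc n).d, add_zero, hz n, ← comp_apply ((K.obj (op n)).d (q - 1) q),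
      HomologicalComplex.d_comp_d]
    exact sub_zero _

lemma Rel.unique (hqp : q + 1 = p) {g : ∀ n : ℕ, (K.obj (op n)).homology q}
    {y y' : (limit K).homology p} (h : Rel K q p g y) (h' : Rel K q p g y') : y = y' := by
  rw [← sub_eq_zero, (h.sub h').range_iff hK hqp, sub_self]
  exact zero_mem _

omit hK in
lemma exists_rel_of_mem (hqp : q + 1 = p) {y : (limit K).homology p} (h : ∀ n, prh K p n y = 0) :
    ∃ g, Rel K q p g y := by
  obtain ⟨z, hz⟩ := exists_rep y
  choose w hw using fun n => (((hz.map (limit.π K (op n))).zero_iff hqp).1 (h n))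
  have hcyc : ∀ n, (K.obj (op n)).d q (q + 1) (t K q n (w (n + 1)) - w n) = 0 := fun n => by
    subst hqp
    rw [map_sub, hw n, sub_eq_zero, t, ← comp_apply, HomologicalComplex.Hom.comm, comp_apply]
    exact (congrArg _ (hw (n + 1))).trans (pr_compat _ z n)
  choose g hg using fun n => exists_rep_of_cycle _ (hcyc n)
  exact ⟨g, w, z, hz, hw, hg⟩

theorem kernel_equiv (hqp : q + 1 = p) :
    Nonempty ((limit.post K (HomologicalComplex.homologyFunctor _ _ p)).hom.ker ≃+
      Formal2.limOne (fun n => (K.obj (op n)).homology q) (fun n => th K q n)) := by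
  choose Φ hΦ using exists_rel hK hqp
  let φ : (∀ n : ℕ, (K.obj (op n)).homology q) →+
      (limit.post K (HomologicalComplex.homologyFunctor _ _ p)).hom.ker :=
    AddMonoidHom.mk' (fun g => ⟨Φ g, (post_eq_zero_iff p _).2 ((hΦ g).mem hqp)⟩)
      fun g g' => Subtype.ext (Rel.unique hK hqp (hΦ (g + g')) ((hΦ g).add (hΦ g')))
  have hker : (Formal2.towerDiff (fun n => (K.obj (op n)).homology q) (fun n => th K q n)).range = φ.ker := by
    ext g
    rw [AddMonoidHom.mem_ker, ← (hΦ g).range_iff hK hqp]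
    exact ⟨fun h => Subtype.ext h, fun h => congrArg Subtype.val h⟩
  have hsurj : Function.Surjective φ := fun y => by
    obtain ⟨g, hg⟩ := exists_rel_of_mem hqp ((post_eq_zero_iff p _).1 y.2)
    exact ⟨g, Subtype.ext (Rel.unique hK hqp (hΦ g) hg)⟩
  exact ⟨((QuotientAddGroup.quotientAddEquivOfEq hker).trans
    (QuotientAddGroup.quotientKerEquivOfSurjective φ hsurj)).symm⟩

theorem post_surjective (p : ℤ) :
    Function.Surjective (limit.post K (HomologicalComplex.homologyFunctor _ _ p)).hom := by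
  intro c
  obtain ⟨q, rfl⟩ : ∃ q, p = q + 1 := ⟨p - 1, by omega⟩
  let cn : ∀ n : ℕ, (K.obj (op n)).homology (q + 1) := fun n =>
    limit.π (K ⋙ HomologicalComplex.homologyFunctor _ _ (q + 1)) (op n) c
  have hcn : ∀ n, th K (q + 1) n (cn (n + 1)) = cn n := fun n =>
    ConcreteCategory.congr_hom (limit.w (K ⋙ HomologicalComplex.homologyFunctor _ _ (q + 1))
      (homOfLE (Nat.le_succ n)).op) c
  choose x hx using fun n => exists_rep (cn n)
  have h2 : ∀ n, ∃ v, (K.obj (op n)).d q (q + 1) v = t K (q + 1) n (x (n + 1)) - x n := fun n =>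
    (((hx (n + 1)).map (K.map (homOfLE (Nat.le_succ n)).op)).sub (hx n)).zero_iff rfl |>.1
      (sub_eq_zero.2 (hcn n))
  choose v hv using h2
  obtain ⟨V, hV⟩ := exists_section_rec (fun n => t K q n) (fun n => hK n q) v
  obtain ⟨z, hz⟩ := exists_limit (K := K) (p := q + 1) (fun n => x n - (K.obj (op n)).d q (q + 1) (V n))
    fun n => by
      have h3 : t K (q + 1) n ((K.obj (op (n + 1))).d q (q + 1) (V (n + 1))) =
          (K.obj (op n)).d q (q + 1) (V n) + (K.obj (op n)).d q (q + 1) (v n) := by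
        rw [← map_add, ← show t K q n (V (n + 1)) = V n + v n by rw [← hV n]; abel, t, t,
          ← comp_apply, ← comp_apply, HomologicalComplex.Hom.comm]
      rw [map_sub, h3, hv n]
      abel
  have hzd : (limit K).d (q + 1) (q + 1 + 1) z = 0 := limit_ext _ _ fun n => by
    rw [map_zero, pr, ← comp_apply, ← HomologicalComplex.Hom.comm, comp_apply]
    refine (congrArg _ (hz n)).trans ?_
    rw [map_sub, (hx n).d, ← comp_apply, HomologicalComplex.d_comp_d]
    exact sub_zero 0
  obtain ⟨y, hy⟩ := exists_rep_of_cycle z hzd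
  refine ⟨y, Concrete.limit_ext _ _ _ fun i => ?_⟩
  refine (post_apply (q + 1) i.unop y).trans ?_
  have h4 := hy.map (limit.π K (op i.unop))
  rw [show (limit.π K (op i.unop)).f (q + 1) z = _ from hz i.unop] at h4
  refine h4.unique ?_
  have h5 := (hx i.unop).sub (rep_boundary (K := K.obj (op i.unop)) rfl (V i.unop))
  rwa [sub_zero] at h5

end Surjective

/-! ### Mittag-Leffler systems -/

section MittagLeffler

variable (K)

/-- The cycles of the tower, mapping to the terms. -/
noncomputable def cyclesInto (p : ℤ) :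
    K ⋙ HomologicalComplex.cyclesFunctor _ _ p ⟶ K ⋙ HomologicalComplex.eval _ _ p where
  app i := (K.obj i).iCycles p
  naturality i j f := HomologicalComplex.cyclesMap_i _ p

/-- The boundary map of the tower into cycles. -/
noncomputable def toCyclesT (q p : ℤ) :
    K ⋙ HomologicalComplex.eval _ _ q ⟶ K ⋙ HomologicalComplex.cyclesFunctor _ _ p where
  app i := (K.obj i).toCycles q p
  naturality i j f := by
    change (K.map f).f q ≫ (K.obj j).toCycles q p =
      (K.obj i).toCycles q p ≫ HomologicalComplex.cyclesMap (K.map f) p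
    rw [← cancel_mono ((K.obj j).iCycles p)]
    simp

/-- The differential of the tower. -/
def dT (q p : ℤ) : K ⋙ HomologicalComplex.eval _ _ q ⟶ K ⋙ HomologicalComplex.eval _ _ p where
  app i := (K.obj i).d q p
  naturality i j f := (K.map f).comm q p

/-- The classes of the cycles of the tower. -/
noncomputable def classT (p : ℤ) :
    K ⋙ HomologicalComplex.cyclesFunctor _ _ p ⟶ K ⋙ HomologicalComplex.homologyFunctor _ _ p where
  app i := (K.obj i).homologyπ p
  naturality i j f := (HomologicalComplex.homologyπ_naturality _ p).symm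

variable {K}

lemma exact_toCycles (q p : ℤ) (h : q + 1 = p) (i : ℕᵒᵖ) :
    ((classT K p).app i).hom.ker = ((toCyclesT K q p).app i).hom.range := by
  have he : (ShortComplex.mk ((K.obj i).toCycles q p) ((K.obj i).homologyπ p)
      ((K.obj i).toCycles_comp_homologyπ q p)).Exact :=
    ShortComplex.exact_of_g_is_cokernel _ ((K.obj i).homologyIsCokernel q p (by simp; omega))
  exact ((ShortComplex.ab_exact_iff_range_eq_ker).1 he).symm

lemma exact_iCycles (q p : ℤ) (h : q + 1 = p) (i : ℕᵒᵖ) :
    ((dT K q p).app i).hom.ker = ((cyclesInto K q).app i).hom.range := by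
  have he : (ShortComplex.mk ((K.obj i).iCycles q) ((K.obj i).d q p)
      ((K.obj i).iCycles_d q p)).Exact :=
    ShortComplex.exact_of_f_is_kernel _ ((K.obj i).cyclesIsKernel q p (by simp; omega))
  exact ((ShortComplex.ab_exact_iff_range_eq_ker).1 he).symm

theorem post_bijective_of_ml (n : ℤ)
    (h2 : ((K ⋙ HomologicalComplex.eval _ _ (n - 2)) ⋙ forget AddCommGrpCat).IsMittagLeffler)
    (h1 : ((K ⋙ HomologicalComplex.eval _ _ (n - 1)) ⋙ forget AddCommGrpCat).IsMittagLeffler)
    (hH : ∃ (C₀ : AddCommGrpCat.{u})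
      (c : (Functor.const ℕᵒᵖ).obj C₀ ⟶ K ⋙ HomologicalComplex.homologyFunctor _ _ (n - 1)),
      DerCA.IsEssConstant (K ⋙ HomologicalComplex.homologyFunctor _ _ (n - 1)) C₀ c) :
    IsIso (limit.post K (HomologicalComplex.homologyFunctor _ _ n)) := by
  rw [ConcreteCategory.isIso_iff_bijective]
  constructor
  · refine (injective_iff_map_eq_zero (limit.post K (HomologicalComplex.homologyFunctor _ _ n)).hom).2
      fun y hy => ?_
    obtain ⟨z, hz⟩ := exists_rep y
    have hw : ∀ i : ℕ, ∃ w, (K.obj (op i)).d (n - 1) n w = pr K n i z := fun i =>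
      ((hz.map (limit.π K (op i))).zero_iff (by omega)).1 ((post_eq_zero_iff n y).1 hy i)
    obtain ⟨C₀, c, hc⟩ := hH
    obtain ⟨V, -⟩ := EssConst.exists_val hc
    have hZ : ((K ⋙ HomologicalComplex.cyclesFunctor _ _ (n - 1)) ⋙ forget AddCommGrpCat).IsMittagLeffler := by
      refine isMittagLeffler_of_exact (toCyclesT K (n - 2) (n - 1)) (classT K (n - 1))
        (exact_toCycles (n - 2) (n - 1) (by omega)) h2 fun i => ?_
      obtain ⟨k, hik, hVk, hdeep⟩ := V.deep i
      refine ⟨k, hik, fun l hkl x => ?_⟩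
      obtain ⟨y', hy'⟩ := homologyπ_surjective (K := K.obj (op l))
        (V.c.app (op l) (V.s k hVk ((classT K (n - 1)).app (op k) x)))
      refine ⟨y', ?_⟩
      have n1 : ∀ {m : ℕ} (h : i ≤ m) (a : (K ⋙ HomologicalComplex.cyclesFunctor _ _ (n - 1)).obj (op m)),
          (classT K (n - 1)).app (op i) (trHom (K ⋙ HomologicalComplex.cyclesFunctor _ _ (n - 1)) h a) =
            ARSys.tr (K ⋙ HomologicalComplex.homologyFunctor _ _ (n - 1)) h
              ((classT K (n - 1)).app (op m) a) := fun h a => naturality_trHom (classT K (n - 1)) h a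
      rw [n1, n1, hdeep]
      refine (congrArg _ hy').trans ?_
      rw [← comp_apply, EssConst.cone_tr, comp_apply]
    obtain ⟨W, hW, hWd⟩ := exists_lift (cyclesInto K (n - 1)) (dT K (n - 1) n) countable_cofinal_nat
      (exact_iCycles (n - 1) n (by omega)) hZ (fun i => pr K n i z)
      (fun i j h => compat_all (fun m => pr K n m z) (pr_compat n z) h) hw
    obtain ⟨w, hw'⟩ := exists_limit (K := K) (p := n - 1) W fun m => hW m (m + 1) m.le_succ
    refine (hz.zero_iff (q := n - 1) (by omega)).2 ⟨w, limit_ext _ _ fun i => ?_⟩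
    rw [pr, ← comp_apply, ← HomologicalComplex.Hom.comm, comp_apply]
    exact (congrArg _ (hw' i)).trans (hWd i)
  · intro c
    obtain ⟨Z, hZ, hZc⟩ := exists_lift (toCyclesT K (n - 1) n) (classT K n) countable_cofinal_nat
      (exact_toCycles (n - 1) n (by omega)) h1
      (fun i => limit.π (K ⋙ HomologicalComplex.homologyFunctor _ _ n) (op i) c)
      (fun i j h => limit_element_compat _ c (homOfLE h).op)
      (fun i => homologyπ_surjective (K := K.obj (op i)) _)
    obtain ⟨z, hz⟩ := exists_limit (K := K) (p := n) (fun i => (K.obj (op i)).iCycles n (Z i)) fun m =>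
      (naturality_trHom (cyclesInto K n) m.le_succ (Z (m + 1))).symm.trans
        (congrArg ((K.obj (op m)).iCycles n) (hZ m (m + 1) m.le_succ))
    have hzd : (limit K).d n (n + 1) z = 0 := limit_ext _ _ fun i => by
      rw [map_zero, pr, ← comp_apply, ← HomologicalComplex.Hom.comm, comp_apply]
      refine (congrArg _ (hz i)).trans ?_
      rw [← comp_apply, HomologicalComplex.iCycles_d]
      rfl
    obtain ⟨y, hy⟩ := exists_rep_of_cycle z hzd
    refine ⟨y, Concrete.limit_ext _ _ _ fun i => ?_⟩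
    refine (post_apply n i.unop y).trans ((hy.map (limit.π K (op i.unop))).unique ?_)
    exact ⟨Z i.unop, (hz i.unop).symm, hZc i.unop⟩

end MittagLeffler

end Groth.Agent.H16Derived.LimHom
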