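import Groth.Agent.H16Derived.ML
import Mathlib.CategoryTheory.Abelian.RightDerived
import Mathlib.CategoryTheory.Abelian.FunctorCategory
import Mathlib.CategoryTheory.Limits.Preserves.FunctorCategory
import Mathlib.Algebra.Category.Grp.Abelian
import Mathlib.Algebra.Category.Grp.Limits
import Mathlib.Algebra.Homology.ShortComplex.Ab
import Mathlib.Algebra.Homology.ShortComplex.PreservesHomology
import Mathlib.CategoryTheory.Preadditive.Injective.Basic

/-!
# The derived limits of a tower vanish from degree two on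
-/

set_option autoImplicit false

universe u

open CategoryTheory CategoryTheory.Limits Opposite

namespace Groth.Agent.H16Derived.LimTower

open ML

/-- The index type of the free tower. -/
abbrev E (k n : ℕ) : Type u := ULift.{u} (PLift (k ≤ n))

/-- The representable free tower at level `n`. -/
noncomputable def rep (n : ℕ) : ℕᵒᵖ ⥤ AddCommGrpCat.{u} where
  obj k := AddCommGrpCat.of (E.{u} k.unop n →₀ ℤ)
  map {k m} f := AddCommGrpCat.ofHom
    (Finsupp.mapDomain.addMonoidHom (M := ℤ) fun h : E.{u} k.unop n => (⟨⟨(leOfHom f.unop).trans h.down.down⟩⟩ : E.{u} m.unop n))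
  map_id k := by
    refine AddCommGrpCat.hom_ext (Finsupp.addHom_ext fun h a => ?_)
    change Finsupp.mapDomain _ (Finsupp.single h a) = Finsupp.single h a
    rw [Finsupp.mapDomain_single]
  map_comp f g := by
    refine AddCommGrpCat.hom_ext (Finsupp.addHom_ext fun h a => ?_)
    change Finsupp.mapDomain _ (Finsupp.single h a) = Finsupp.mapDomain _ (Finsupp.mapDomain _ (Finsupp.single h a))
    rw [Finsupp.mapDomain_single, Finsupp.mapDomain_single, Finsupp.mapDomain_single]

/-- The transition of representable towers. -/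
noncomputable def repMap (n : ℕ) : rep.{u} n ⟶ rep.{u} (n + 1) where
  app k := AddCommGrpCat.ofHom (X := E.{u} k.unop n →₀ ℤ) (Y := E.{u} k.unop (n + 1) →₀ ℤ)
    (Finsupp.mapDomain.addMonoidHom (M := ℤ) fun h : E.{u} k.unop n => (⟨⟨h.down.down.trans n.le_succ⟩⟩ : E.{u} k.unop (n + 1)))
  naturality k m f := by
    refine AddCommGrpCat.hom_ext (Finsupp.addHom_ext fun (h : E.{u} k.unop n) a => ?_)
    change Finsupp.mapDomain _ (Finsupp.mapDomain _ (Finsupp.single h a)) =
      Finsupp.mapDomain _ (Finsupp.mapDomain _ (Finsupp.single h a))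
    rw [Finsupp.mapDomain_single, Finsupp.mapDomain_single, Finsupp.mapDomain_single, Finsupp.mapDomain_single]

theorem surjective_of_injective (J : ℕᵒᵖ ⥤ AddCommGrpCat.{u}) [Injective J] {i j : ℕ} (h : i ≤ j) :
    Function.Surjective (trHom J h) := by
  induction j, h using Nat.le_induction with
  | base => exact fun x => ⟨x, tr_refl (J ⋙ forget AddCommGrpCat) x⟩
  | succ j hij ih =>
    intro x
    obtain ⟨y, rfl⟩ := ih x
    have hm : ∀ k, Mono ((repMap.{u} j).app k) := fun k => by
      rw [AddCommGrpCat.mono_iff_injective]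
      exact Finsupp.mapDomain_injective fun (a b : E.{u} k.unop j) _ => Subsingleton.elim a b
    haveI : Mono (repMap.{u} j) := NatTrans.mono_of_mono_app _
    let φ : rep.{u} j ⟶ J :=
      { app := fun k => AddCommGrpCat.ofHom (X := E.{u} k.unop j →₀ ℤ) (Y := J.obj k)
          (Finsupp.liftAddHom fun h : E.{u} k.unop j => zmultiplesHom (J.obj k) (trHom J (i := k.unop) h.down.down y))
        naturality := fun k m f => by
          refine AddCommGrpCat.hom_ext (Finsupp.addHom_ext fun (h : E.{u} k.unop j) a => ?_)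
          change Finsupp.liftAddHom _ (Finsupp.mapDomain _ (Finsupp.single h a)) =
            (J.map f).hom (Finsupp.liftAddHom _ (Finsupp.single h a))
          rw [Finsupp.mapDomain_single, Finsupp.liftAddHom_apply_single, Finsupp.liftAddHom_apply_single,
            zmultiplesHom_apply, zmultiplesHom_apply, map_zsmul]
          exact congrArg (a • ·) (trHom_trHom J (leOfHom f.unop) h.down.down y).symm }
    obtain ⟨ψ, hψ⟩ := Injective.factors φ (repMap.{u} j)
    refine ⟨ψ.app (op (j + 1)) (Finsupp.single (⟨⟨le_rfl⟩⟩ : E.{u} (j + 1) (j + 1)) 1), ?_⟩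
    rw [← trHom_trHom J hij j.le_succ]
    refine congrArg _ ?_
    rw [← naturality_trHom]
    have e : trHom (rep.{u} (j + 1)) j.le_succ (Finsupp.single (⟨⟨le_rfl⟩⟩ : E.{u} (j + 1) (j + 1)) 1) =
        (repMap.{u} j).app (op j) (Finsupp.single (⟨⟨le_rfl⟩⟩ : E.{u} j j) 1) := by
      change Finsupp.mapDomain _ _ = Finsupp.mapDomain _ _
      rw [Finsupp.mapDomain_single, Finsupp.mapDomain_single]
    rw [e]
    refine (congrArg (fun (g : rep.{u} j ⟶ J) => g.app (op j) (Finsupp.single (⟨⟨le_rfl⟩⟩ : E.{u} j j) 1)) hψ).trans ?_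
    refine (Finsupp.liftAddHom_apply_single _ _ _).trans ?_
    rw [zmultiplesHom_apply, one_zsmul]
    exact tr_refl (J ⋙ forget AddCommGrpCat) y

theorem isZero_rightDerived_lim [EnoughInjectives (ℕᵒᵖ ⥤ AddCommGrpCat.{u})]
    [(lim : (ℕᵒᵖ ⥤ AddCommGrpCat.{u}) ⥤ AddCommGrpCat.{u}).Additive]
    (A : ℕᵒᵖ ⥤ AddCommGrpCat.{u}) (i : ℕ) (hi : 2 ≤ i) :
    IsZero (((lim : (ℕᵒᵖ ⥤ AddCommGrpCat.{u}) ⥤ AddCommGrpCat.{u}).rightDerived i).obj A) := by
  obtain ⟨n, rfl⟩ : ∃ n, i = n + 2 := ⟨i - 2, by omega⟩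
  let I := injectiveResolution A
  refine IsZero.of_iso ?_ (I.isoRightDerivedObj _ (n + 2))
  show IsZero (HomologicalComplex.homology
    (((lim : (ℕᵒᵖ ⥤ AddCommGrpCat.{u}) ⥤ AddCommGrpCat.{u}).mapHomologicalComplex (ComplexShape.up ℕ)).obj I.cocomplex) (n + 2))
  rw [← HomologicalComplex.exactAt_iff_isZero_homology,
    HomologicalComplex.exactAt_iff' _ (n + 1) (n + 2) (n + 3) (by simp) (by simp),
    ShortComplex.ab_exact_iff]
  intro x hx
  replace hx : limMap (I.cocomplex.d (n + 2) (n + 3)) x = 0 := hx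
  -- pointwise exactness of the resolution
  have hE : ∀ (m : ℕ) (k : ℕ) (b : (I.cocomplex.X (m + 1)).obj (op k)), (I.cocomplex.d (m + 1) (m + 2)).app (op k) b = 0 →
      ∃ a, (I.cocomplex.d m (m + 1)).app (op k) a = b := fun m k =>
    (ShortComplex.ab_exact_iff _).1 ((I.exact_succ m).map ((evaluation _ AddCommGrpCat.{u}).obj (op k)))
  -- the kernel of `dⁿ⁺¹` as a tower, with surjective transition maps
  let Z := kernel (I.cocomplex.d (n + 1) (n + 2))
  have hZ : ∀ k, ((I.cocomplex.d (n + 1) (n + 2)).app (op k)).hom.ker =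
      ((kernel.ι (I.cocomplex.d (n + 1) (n + 2))).app (op k)).hom.range := fun k => by
    have hk := (ShortComplex.exact_of_f_is_kernel (ShortComplex.mk _ _ (kernel.condition (I.cocomplex.d (n + 1) (n + 2))))
      (kernelIsKernel _)).map ((evaluation _ AddCommGrpCat.{u}).obj (op k))
    exact (ShortComplex.ab_exact_iff_range_eq_ker.1 hk).symm
  have hZs : (Z ⋙ forget AddCommGrpCat).IsMittagLeffler := by
    refine (isMittagLeffler_iff_ab Z).2 fun k => ⟨k, le_rfl, fun l hkl z => ?_⟩
    have hmono : Mono ((kernel.ι (I.cocomplex.d (n + 1) (n + 2))).app (op k)) :=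
      inferInstanceAs (Mono (((evaluation _ AddCommGrpCat.{u}).obj (op k)).map (kernel.ι (I.cocomplex.d (n + 1) (n + 2)))))
    have hd : (I.cocomplex.d (n + 1) (n + 2)).app (op k) ((kernel.ι (I.cocomplex.d (n + 1) (n + 2))).app (op k) z) = 0 := by
      have : (kernel.ι (I.cocomplex.d (n + 1) (n + 2))).app (op k) z ∈
          ((I.cocomplex.d (n + 1) (n + 2)).app (op k)).hom.ker := by rw [hZ]; exact ⟨z, rfl⟩
      exact this
    obtain ⟨a, ha⟩ := hE n k _ hd
    obtain ⟨a', rfl⟩ := surjective_of_injective (I.cocomplex.X n) hkl a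
    have hmem : (I.cocomplex.d n (n + 1)).app (op l) a' ∈ ((I.cocomplex.d (n + 1) (n + 2)).app (op l)).hom.ker := by
      show (I.cocomplex.d (n + 1) (n + 2)).app (op l) ((I.cocomplex.d n (n + 1)).app (op l) a') = 0
      rw [← ConcreteCategory.comp_apply, ← NatTrans.comp_app, HomologicalComplex.d_comp_d]
      rfl
    rw [hZ] at hmem
    obtain ⟨w, hw⟩ := hmem
    refine ⟨w, (AddCommGrpCat.mono_iff_injective _).1 hmono ?_⟩
    rw [naturality_trHom, naturality_trHom]
    refine (congrArg _ hw).trans ?_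
    rw [← naturality_trHom, ha]
    exact (tr_refl (I.cocomplex.X (n + 1) ⋙ forget AddCommGrpCat) _).symm
  let c : ∀ k, (I.cocomplex.X (n + 2)).obj (op k) := fun k => limit.π (I.cocomplex.X (n + 2)) (op k) x
  have hc : ∀ k l (h : k ≤ l), trHom (I.cocomplex.X (n + 2)) h (c l) = c k := fun k l h =>
    limit_element_compat _ x (homOfLE h).op
  have hcd : ∀ k, (I.cocomplex.d (n + 2) (n + 3)).app (op k) (c k) = 0 := fun k => by
    show (limit.π (I.cocomplex.X (n + 2)) (op k) ≫ (I.cocomplex.d (n + 2) (n + 3)).app (op k)) x = 0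
    rw [← limMap_π, ConcreteCategory.comp_apply, hx, map_zero]
  obtain ⟨b, hb, hbc⟩ := exists_lift (kernel.ι (I.cocomplex.d (n + 1) (n + 2))) (I.cocomplex.d (n + 1) (n + 2))
    countable_cofinal_nat (fun k => hZ k.unop) hZs c hc (fun k => hE (n + 1) k _ (hcd k))
  obtain ⟨y, hy⟩ := exists_limit_element (I.cocomplex.X (n + 1)) (fun k => b k.unop)
    (fun k l f => hb l.unop k.unop (leOfHom f.unop))
  refine ⟨y, ?_⟩
  show limMap (I.cocomplex.d (n + 1) (n + 2)) y = x
  refine limit_element_ext _ _ _ fun k => ?_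
  obtain ⟨k⟩ := k
  rw [← ConcreteCategory.comp_apply, limMap_π, ConcreteCategory.comp_apply, hy]
  exact hbc k

end Groth.Agent.H16Derived.LimTower
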