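import Mathlib.CategoryTheory.CofilteredSystem
import Mathlib.Algebra.Category.Grp.Limits
import Mathlib.Algebra.Category.Grp.Abelian
import Mathlib.Order.Directed
import Mathlib.Data.Set.Countable

/-!
# Inverse systems indexed by a directed preorder and the Mittag-Leffler condition

Element-wise statements: characterisation of Mittag-Leffler systems, sections of systems with a
countable cofinal set of indices, and torsors under Mittag-Leffler systems of abelian groups.
-/

universe v u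

open CategoryTheory Opposite

namespace Groth.Agent.H16Derived.ML

variable {ι : Type u} [Preorder ι]

/-- The transition map of an inverse system of types. -/
def tr (F : ιᵒᵖ ⥤ Type v) {i j : ι} (h : i ≤ j) (x : F.obj (op j)) : F.obj (op i) :=
  F.map (homOfLE h).op x

lemma tr_refl (F : ιᵒᵖ ⥤ Type v) {i : ι} (x : F.obj (op i)) : tr F (le_refl i) x = x :=
  congr_fun (congrArg (fun f => (ConcreteCategory.hom f : _ → _)) (F.map_id (op i))) x

lemma tr_tr (F : ιᵒᵖ ⥤ Type v) {i j k : ι} (h : i ≤ j) (h' : j ≤ k) (x : F.obj (op k)) :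
    tr F h (tr F h' x) = tr F (h.trans h') x := by
  simp only [tr, ← comp_apply, ← F.map_comp]
  rfl

lemma map_eq_tr (F : ιᵒᵖ ⥤ Type v) {i j : ι} (f : op j ⟶ op i) (x : F.obj (op j)) :
    F.map f x = tr F (leOfHom f.unop) x := rfl

lemma mem_eventualRange (F : ιᵒᵖ ⥤ Type v) {i : ι} (x : F.obj (op i)) :
    x ∈ F.eventualRange (op i) ↔ ∀ (k : ι) (h : i ≤ k), ∃ y, tr F h y = x := by
  rw [Functor.mem_eventualRange_iff]
  exact ⟨fun H k h => H (homOfLE h).op, fun H k f => H k.unop (leOfHom f.unop)⟩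

variable [IsDirected ι (· ≤ ·)]

/-- An inverse system is Mittag-Leffler iff for every index `i` there is `j ≥ i` such that the
image of the stage `j` in the stage `i` is contained in the image of every stage `k ≥ j`. -/
lemma isMittagLeffler_iff (F : ιᵒᵖ ⥤ Type v) :
    F.IsMittagLeffler ↔ ∀ i, ∃ (j : ι) (hij : i ≤ j), ∀ (k : ι) (hjk : j ≤ k) (x : F.obj (op j)),
      ∃ y, tr F (hij.trans hjk) y = tr F hij x := by
  constructor
  · intro H i
    obtain ⟨j, f, hf⟩ := H (op i)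
    refine ⟨j.unop, leOfHom f.unop, fun k hjk x => ?_⟩
    obtain ⟨y, hy⟩ := hf (homOfLE ((leOfHom f.unop).trans hjk)).op ⟨x, rfl⟩
    exact ⟨y, hy⟩
  · intro H i
    obtain ⟨j, hij, hj⟩ := H i.unop
    refine ⟨op j, (homOfLE hij).op, fun k g => ?_⟩
    rintro _ ⟨x, rfl⟩
    obtain ⟨l, hl, hl'⟩ := exists_ge_ge j k.unop
    obtain ⟨y, hy⟩ := hj l hl x
    refine ⟨tr F hl' y, ?_⟩
    exact (tr_tr F (leOfHom g.unop) hl' y).trans hy

lemma exists_tr_eq (F : ιᵒᵖ ⥤ Type v) (hF : F.IsMittagLeffler) (i : ι) :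
    ∃ (j : ι) (hij : i ≤ j), ∀ (x : F.obj (op j)), tr F hij x ∈ F.eventualRange (op i) := by
  obtain ⟨j, hij, hj⟩ := (isMittagLeffler_iff F).1 hF i
  refine ⟨j, hij, fun x => (mem_eventualRange F _).2 fun k hk => ?_⟩
  obtain ⟨l, hl, hl'⟩ := exists_ge_ge j k
  obtain ⟨y, hy⟩ := hj l hl x
  exact ⟨tr F hl' y, (tr_tr F hk hl' y).trans hy⟩

section sequences

omit [IsDirected ι (· ≤ ·)] in
lemma countable_cofinal_nat : ∃ s : Set ℕ, s.Countable ∧ ∀ i, ∃ j ∈ s, i ≤ j :=
  ⟨Set.univ, Set.to_countable _, fun i => ⟨i, trivial, le_rfl⟩⟩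

/-- A countable cofinal set in a directed preorder yields a cofinal monotone sequence starting
above any given index. -/
lemma exists_cofinal_seq (hcof : ∃ s : Set ι, s.Countable ∧ ∀ i, ∃ j ∈ s, i ≤ j) (i₀ : ι) :
    ∃ c : ℕ → ι, i₀ ≤ c 0 ∧ (∀ n, c n ≤ c (n + 1)) ∧ ∀ i, ∃ n, i ≤ c n := by
  obtain ⟨s, hs, hcof⟩ := hcof
  have hne : s.Nonempty := let ⟨j, hj, _⟩ := hcof i₀; ⟨j, hj⟩
  obtain ⟨e, he⟩ := hs.exists_eq_range hne
  choose up h₁ h₂ using fun a b : ι => exists_ge_ge a b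
  let c : ℕ → ι := fun n => Nat.rec i₀ (fun n a => up a (e n)) n
  refine ⟨c, le_rfl, fun n => h₁ _ _, fun i => ?_⟩
  obtain ⟨j, hj, hij⟩ := hcof i
  rw [he] at hj
  obtain ⟨n, rfl⟩ := hj
  exact ⟨n + 1, hij.trans (h₂ _ _)⟩

end sequences

/-- Through every element of the eventual range of a Mittag-Leffler system with a countable
cofinal set of indices passes a section. -/
lemma exists_section_through (hcof : ∃ s : Set ι, s.Countable ∧ ∀ i, ∃ j ∈ s, i ≤ j)
    (F : ιᵒᵖ ⥤ Type v) (hF : F.IsMittagLeffler) {i₀ : ι} (x : F.obj (op i₀))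
    (hx : x ∈ F.eventualRange (op i₀)) :
    ∃ s : ∀ i, F.obj (op i), (∀ i j (h : i ≤ j), tr F h (s j) = s i) ∧ s i₀ = x := by
  have hcof' : ∀ (i j : ι), ∃ k, i ≤ k ∧ j ≤ k := exists_ge_ge
  obtain ⟨c, hc₀, hc, hcofc⟩ := exists_cofinal_seq hcof i₀
  have step : ∀ {i j : ι} (h : i ≤ j) (y : F.obj (op i)), y ∈ F.eventualRange (op i) →
      ∃ z ∈ F.eventualRange (op j), tr F h z = y := fun {i j} h y hy => by
    obtain ⟨z, hz, hzy⟩ := hF.subset_image_eventualRange F (homOfLE h).op hy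
    exact ⟨z, hz, hzy⟩
  obtain ⟨z₀, hz₀, hz₀'⟩ := step hc₀ x hx
  choose g hg₁ hg₂ using fun (n : ℕ) (z : F.eventualRange (op (c n))) =>
    step (hc n) z.1 z.2
  let z : ∀ n, F.eventualRange (op (c n)) :=
    fun n => Nat.rec ⟨z₀, hz₀⟩ (fun n w => ⟨g n w, hg₁ n w⟩) n
  have hmono : Monotone c := monotone_nat_of_le_succ hc
  have hzle : ∀ {m n} (h : m ≤ n), tr F (hmono h) (z n).1 = (z m).1 := by
    intro m n h
    induction n, h using Nat.le_induction with
    | base => exact tr_refl F _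
    | succ n h ih =>
      have h' : tr F (hc n) (z (n + 1)).1 = (z n).1 := hg₂ n (z n)
      rw [← ih, ← h', tr_tr]
  choose N hN using hcofc
  have key : ∀ i n (h : i ≤ c n), tr F h (z n).1 = tr F (hN i) (z (N i)).1 := by
    intro i n h
    rcases le_total n (N i) with h' | h'
    · rw [← hzle h', tr_tr]
    · rw [← hzle h', tr_tr]
  refine ⟨fun i => tr F (hN i) (z (N i)).1, fun i j h => ?_, ?_⟩
  · rw [tr_tr]
    exact key i (N j) _
  · exact (key i₀ 0 hc₀).symm.trans hz₀'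

/-- A Mittag-Leffler system of nonempty types with a countable cofinal set of indices has a
section. -/
lemma exists_section (hcof : ∃ s : Set ι, s.Countable ∧ ∀ i, ∃ j ∈ s, i ≤ j)
    (F : ιᵒᵖ ⥤ Type v) (hF : F.IsMittagLeffler) (hne : ∀ i, Nonempty (F.obj (op i))) :
    ∃ s : ∀ i, F.obj (op i), ∀ i j (h : i ≤ j), tr F h (s j) = s i := by
  rcases isEmpty_or_nonempty ι with hι | ⟨⟨i₀⟩⟩
  · exact ⟨fun i => isEmptyElim i, fun i => isEmptyElim i⟩
  · obtain ⟨j, hij, hj⟩ := exists_tr_eq F hF i₀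
    obtain ⟨x⟩ := hne j
    obtain ⟨s, hs, -⟩ := exists_section_through hcof F hF _ (hj x)
    exact ⟨s, hs⟩

section ab

/-- The transition map of an inverse system of abelian groups. -/
def trHom (A : ιᵒᵖ ⥤ AddCommGrpCat.{v}) {i j : ι} (h : i ≤ j) : A.obj (op j) →+ A.obj (op i) :=
  (A.map (homOfLE h).op).hom

omit [IsDirected ι (· ≤ ·)] in
lemma trHom_trHom (A : ιᵒᵖ ⥤ AddCommGrpCat.{v}) {i j k : ι} (h : i ≤ j) (h' : j ≤ k)
    (x : A.obj (op k)) : trHom A h (trHom A h' x) = trHom A (h.trans h') x :=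
  tr_tr (A ⋙ forget AddCommGrpCat) h h' x

lemma isMittagLeffler_iff_ab (A : ιᵒᵖ ⥤ AddCommGrpCat.{v}) :
    (A ⋙ forget AddCommGrpCat).IsMittagLeffler ↔ ∀ i, ∃ (j : ι) (hij : i ≤ j),
      ∀ (k : ι) (hjk : j ≤ k) (x : A.obj (op j)),
        ∃ y, trHom A (hij.trans hjk) y = trHom A hij x :=
  isMittagLeffler_iff _

omit [IsDirected ι (· ≤ ·)] in
lemma naturality_trHom {A B : ιᵒᵖ ⥤ AddCommGrpCat.{v}} (u : A ⟶ B) {i j : ι} (h : i ≤ j)
    (x : A.obj (op j)) : u.app (op i) (trHom A h x) = trHom B h (u.app (op j) x) := by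
  simp only [trHom, ← comp_apply, ← u.naturality]

variable {A B C : ιᵒᵖ ⥤ AddCommGrpCat.{v}} (u : A ⟶ B) (v : B ⟶ C)

/-- The Mittag-Leffler condition passes to extensions. -/
lemma isMittagLeffler_of_exact (hex : ∀ i, (v.app i).hom.ker = (u.app i).hom.range)
    (hA : (A ⋙ forget AddCommGrpCat).IsMittagLeffler)
    (hC : ∀ i, ∃ (j : ι) (hij : i ≤ j), ∀ (k : ι) (hjk : j ≤ k) (x : B.obj (op j)),
      ∃ y : B.obj (op k), v.app (op i) (trHom B (hij.trans hjk) y) =
        v.app (op i) (trHom B hij x)) :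
    (B ⋙ forget AddCommGrpCat).IsMittagLeffler := by
  refine (isMittagLeffler_iff_ab B).2 fun i => ?_
  obtain ⟨j, hij, hj⟩ := (isMittagLeffler_iff_ab A).1 hA i
  obtain ⟨k, hjk, hk⟩ := hC j
  refine ⟨k, hij.trans hjk, fun l hkl b => ?_⟩
  obtain ⟨b', hb'⟩ := hk l hkl b
  have hmem : trHom B hjk b - trHom B (hjk.trans hkl) b' ∈ (v.app (op j)).hom.ker := by
    simp [AddMonoidHom.mem_ker, hb']
  rw [hex] at hmem
  obtain ⟨a, ha⟩ := hmem
  obtain ⟨a', ha'⟩ := hj l (hjk.trans hkl) a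
  refine ⟨b' + u.app (op l) a', ?_⟩
  have h₁ : trHom B (hij.trans (hjk.trans hkl)) (u.app (op l) a') =
      trHom B hij (trHom B hjk b - trHom B (hjk.trans hkl) b') := by
    rw [← naturality_trHom, ha', naturality_trHom]
    exact congrArg _ ha
  rw [map_add, h₁, map_sub, trHom_trHom, trHom_trHom]
  abel

/-- Lifting a compatible family along `v` when the kernel system `A` is Mittag-Leffler. -/
lemma exists_lift (hcof : ∃ s : Set ι, s.Countable ∧ ∀ i, ∃ j ∈ s, i ≤ j)
    (hex : ∀ i, (v.app i).hom.ker = (u.app i).hom.range)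
    (hA : (A ⋙ forget AddCommGrpCat).IsMittagLeffler)
    (c : ∀ i, C.obj (op i)) (hc : ∀ i j (h : i ≤ j), trHom C h (c j) = c i)
    (hlift : ∀ i, ∃ b, v.app (op i) b = c i) :
    ∃ b : ∀ i, B.obj (op i), (∀ i j (h : i ≤ j), trHom B h (b j) = b i) ∧
      ∀ i, v.app (op i) (b i) = c i := by
  let G : ιᵒᵖ ⥤ Type v :=
    { obj := fun i => {b : B.obj i // v.app i b = c i.unop}
      map := fun {i j} f => ↾(fun b => ⟨B.map f b.1, by
        have h : v.app j (B.map f b.1) = C.map f (v.app i b.1) := by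
          simp only [← comp_apply, v.naturality]
        rw [h, b.2]
        exact hc j.unop i.unop (leOfHom f.unop)⟩)
      map_id := fun i => by ext b; simp
      map_comp := fun f g => by ext b; simp }
  have hG : G.IsMittagLeffler := (isMittagLeffler_iff G).2 fun i => by
    obtain ⟨j, hij, hj⟩ := (isMittagLeffler_iff_ab A).1 hA i
    refine ⟨j, hij, fun k hjk b => ?_⟩
    obtain ⟨b', hb'⟩ := hlift k
    have hmem : b.1 - trHom B hjk b' ∈ (v.app (op j)).hom.ker := by
      rw [AddMonoidHom.mem_ker, map_sub, sub_eq_zero]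
      exact b.2.trans ((naturality_trHom v hjk b').trans
        ((congrArg (trHom C hjk) hb').trans (hc j k hjk))).symm
    rw [hex] at hmem
    obtain ⟨a, ha⟩ := hmem
    obtain ⟨a', ha'⟩ := hj k hjk a
    refine ⟨⟨b' + u.app (op k) a', ?_⟩, Subtype.ext ?_⟩
    · have hz : u.app (op k) a' ∈ (v.app (op k)).hom.ker := by
        rw [hex]; exact ⟨a', rfl⟩
      rw [map_add, hb', show v.app (op k) (u.app (op k) a') = 0 from hz, add_zero]
    · change trHom B (hij.trans hjk) (b' + u.app (op k) a') = trHom B hij b.1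
      have h₁ : trHom B (hij.trans hjk) (u.app (op k) a') =
          trHom B hij (b.1 - trHom B hjk b') := by
        rw [← naturality_trHom, ha', naturality_trHom]
        exact congrArg _ ha
      rw [map_add, h₁, map_sub, trHom_trHom]
      abel
  obtain ⟨s, hs⟩ := exists_section hcof G hG fun i =>
    let ⟨b, hb⟩ := hlift i; ⟨⟨b, hb⟩⟩
  exact ⟨fun i => (s i).1, fun i j h => congrArg Subtype.val (hs i j h), fun i => (s i).2⟩

end ab

section limit

open CategoryTheory.Limits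

/-- An element of a limit of abelian groups from a compatible family. -/
lemma exists_limit_element {J : Type u} [Category* J] (F : J ⥤ AddCommGrpCat.{v}) [HasLimit F]
    [PreservesLimit F (forget AddCommGrpCat.{v})]
    (s : ∀ i, F.obj i) (hs : ∀ ⦃i j⦄ (f : i ⟶ j), F.map f (s i) = s j) :
    ∃ x : ↑(limit F), ∀ i, limit.π F i x = s i := by
  obtain ⟨x, hx, -⟩ := (Types.isLimit_iff _).1
    ⟨isLimitOfPreserves (forget AddCommGrpCat.{v}) (limit.isLimit F)⟩ s (fun f => hs f)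
  exact ⟨x, hx⟩

lemma limit_element_ext {J : Type u} [Category* J] (F : J ⥤ AddCommGrpCat.{v}) [HasLimit F]
    [PreservesLimit F (forget AddCommGrpCat.{v})]
    (x y : ↑(limit F)) (h : ∀ i, limit.π F i x = limit.π F i y) : x = y :=
  Concrete.limit_ext F x y h

lemma limit_element_compat {J : Type u} [Category* J] (F : J ⥤ AddCommGrpCat.{v}) [HasLimit F]
    (x : ↑(limit F)) {i j : J} (f : i ⟶ j) : F.map f (limit.π F i x) = limit.π F j x := by
  rw [← comp_apply, limit.w]

end limit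

end Groth.Agent.H16Derived.ML
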