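import Groth.Agent.H16Derived.SubLattice
import Mathlib.CategoryTheory.Abelian.Exact
import Mathlib.CategoryTheory.Subobject.NoetherianObject

/-!
# Noetherian objects in abelian categories: quotients, extensions, finite sums
-/

universe v u

open CategoryTheory CategoryTheory.Limits

namespace Groth.Agent.H16Derived.NoethObj

open SubLattice

variable {A : Type u} [Category.{v} A] [Abelian A]

lemma imageSubobject_arrow {X : A} (U : Subobject X) : imageSubobject U.arrow = U := by
  rw [imageSubobject_mono, Subobject.mk_arrow]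

lemma factors_iff_comp_eq_zero {X T : A} (U : Subobject X) (x : T ⟶ X) :
    U.Factors x ↔ x ≫ cokernel.π U.arrow = 0 := by
  constructor
  · intro h
    rw [← Subobject.factorThru_arrow U x h, Category.assoc, cokernel.condition, comp_zero]
  · intro h
    have h' : (imageSubobject U.arrow).Factors x := by
      rw [imageSubobject_factors_iff]
      exact (ShortComplex.exact_cokernel U.arrow).exact_up_to_refinements x h
    rwa [imageSubobject_arrow] at h'

/-- A quotient of a noetherian object is noetherian. -/
lemma of_epi {X Y : A} (f : X ⟶ Y) [Epi f] [IsNoetherianObject X] : IsNoetherianObject Y := by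
  have key : ∀ (U : Subobject Y) ⦃T : A⦄ (x : T ⟶ X),
      (kernelSubobject (f ≫ cokernel.π U.arrow)).Factors x ↔ U.Factors (x ≫ f) := fun U T x => by
    rw [kernelSubobject_factors_iff, factors_iff_comp_eq_zero, Category.assoc]
  rw [isNoetherianObject_iff_not_strictMono]
  intro s hs
  refine not_strictMono_of_isNoetherianObject
    (fun n => kernelSubobject (f ≫ cokernel.π (s n).arrow)) fun m n hmn => ?_
  have hle : ∀ U V : Subobject Y, U ≤ V → kernelSubobject (f ≫ cokernel.π U.arrow) ≤
      kernelSubobject (f ≫ cokernel.π V.arrow) := fun U V h => le_of_forall fun T x hx =>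
    (key V x).2 (Subobject.factors_of_le _ h ((key U x).1 hx))
  refine lt_of_le_of_ne (hle _ _ (hs.monotone hmn.le)) fun heq => (hs hmn).not_ge ?_
  refine le_of_forall fun T y hy => ?_
  obtain ⟨T', π, hπ, x, hx⟩ := surjective_up_to_refinements_of_epi f y
  have h1 : (kernelSubobject (f ≫ cokernel.π (s m).arrow)).Factors x := by
    rw [show kernelSubobject (f ≫ cokernel.π (s m).arrow) =
      kernelSubobject (f ≫ cokernel.π (s n).arrow) from heq, key, ← hx]
    exact factors_comp π hy
  rw [key, ← hx] at h1
  exact factors_of_epi π h1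

/-- An extension of noetherian objects is noetherian. -/
lemma of_exact {S : ShortComplex A} (hS : S.Exact) [IsNoetherianObject S.X₁]
    [IsNoetherianObject S.X₃] : IsNoetherianObject S.X₂ := by
  have : IsNoetherianObject (imageSubobject S.f : A) := of_epi (factorThruImageSubobject S.f)
  let a : Subobject S.X₂ → Subobject (imageSubobject S.f : A) := fun U =>
    kernelSubobject ((imageSubobject S.f).arrow ≫ cokernel.π U.arrow)
  let b : Subobject S.X₂ → Subobject S.X₃ := fun U => imageSubobject (U.arrow ≫ S.g)
  have ha : ∀ U ⦃T : A⦄ (x : T ⟶ (imageSubobject S.f : A)),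
      (a U).Factors x ↔ U.Factors (x ≫ (imageSubobject S.f).arrow) := fun U T x => by
    rw [kernelSubobject_factors_iff, factors_iff_comp_eq_zero, Category.assoc]
  have hb : ∀ U ⦃T : A⦄ (z : T ⟶ S.X₃), (b U).Factors z ↔ ∃ (T' : A) (π : T' ⟶ T) (_ : Epi π)
      (u : T' ⟶ S.X₂), U.Factors u ∧ π ≫ z = u ≫ S.g := fun U T z => by
    rw [imageSubobject_factors_iff]
    constructor
    · rintro ⟨T', π, hπ, u, h⟩
      exact ⟨T', π, hπ, u ≫ U.arrow, Subobject.factors_comp_arrow _, by rw [h, Category.assoc]⟩
    · rintro ⟨T', π, hπ, u, hu, h⟩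
      exact ⟨T', π, hπ, U.factorThru u hu, by rw [h, Subobject.factorThru_arrow_assoc]⟩
  rw [isNoetherianObject_iff_monotone_chain_condition]
  intro s
  obtain ⟨n₁, h₁⟩ := monotone_chain_condition_of_isNoetherianObject ⟨fun n => a (s n),
    fun m n h => le_of_forall fun T x hx => (ha _ x).2
      (Subobject.factors_of_le _ (s.2 h) ((ha _ x).1 hx))⟩
  obtain ⟨n₂, h₂⟩ := monotone_chain_condition_of_isNoetherianObject ⟨fun n => b (s n),
    fun m n h => le_of_forall fun T x hx => by
      obtain ⟨T', π, hπ, u, hu, hux⟩ := (hb _ x).1 hx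
      exact (hb _ x).2 ⟨T', π, hπ, u, Subobject.factors_of_le _ (s.2 h) hu, hux⟩⟩
  refine ⟨max n₁ n₂, fun m hm => le_antisymm (s.2 hm) (le_of_forall fun T x hx => ?_)⟩
  have hb' : (b (s (max n₁ n₂))).Factors (x ≫ S.g) := by
    have h : b (s (max n₁ n₂)) = b (s m) :=
      (h₂ _ (le_max_right _ _)).symm.trans (h₂ m ((le_max_right _ _).trans hm))
    rw [h, hb]
    exact ⟨T, 𝟙 T, inferInstance, x, hx, Category.id_comp _⟩
  obtain ⟨T', π, hπ, u, hu, hux⟩ := (hb _ _).1 hb'
  have h0 : (π ≫ x - u) ≫ S.g = 0 := by rw [Preadditive.sub_comp, Category.assoc, hux, sub_self]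
  have hf : (imageSubobject S.f).Factors (π ≫ x - u) := by
    rw [imageSubobject_factors_iff]
    exact hS.exact_up_to_refinements _ h0
  have ha' : (a (s (max n₁ n₂))).Factors ((imageSubobject S.f).factorThru _ hf) := by
    have h : a (s (max n₁ n₂)) = a (s m) :=
      (h₁ _ (le_max_left _ _)).symm.trans (h₁ m ((le_max_left _ _).trans hm))
    rw [h, ha, Subobject.factorThru_arrow]
    exact factors_sub (factors_comp π hx) (Subobject.factors_of_le _ (s.2 hm) hu)
  rw [ha, Subobject.factorThru_arrow] at ha'
  have h3 := Subobject.factors_add _ _ ha' hu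
  rw [sub_add_cancel] at h3
  exact factors_of_epi π h3

lemma sup_isNoetherianObject {X : A} (U V : Subobject X) [IsNoetherianObject (U : A)]
    [IsNoetherianObject (V : A)] : IsNoetherianObject ((U ⊔ V : Subobject X) : A) := by
  let S : ShortComplex A := ShortComplex.mk (biprod.inl : (U : A) ⟶ (U : A) ⊞ (V : A)) biprod.snd
    biprod.inl_snd
  have hS : S.Exact :=
    (ShortComplex.Splitting.ofHasBinaryBiproduct (U : A) (V : A)).shortExact.exact
  have : IsNoetherianObject S.X₁ := inferInstanceAs (IsNoetherianObject (U : A))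
  have : IsNoetherianObject S.X₃ := inferInstanceAs (IsNoetherianObject (V : A))
  have h2 : IsNoetherianObject ((U : A) ⊞ (V : A)) := of_exact hS
  rw [sup_eq_imageSubobject]
  exact of_epi (factorThruImageSubobject _)

/-- The image of a finite coproduct of noetherian objects is noetherian. -/
lemma image_sigma_isNoetherianObject {X : A} {n : ℕ} (S : Fin n → A)
    [∀ k, IsNoetherianObject (S k)] [HasCoproduct S] (g : ∀ k, S k ⟶ X) :
    IsNoetherianObject ((imageSubobject (Sigma.desc g) : Subobject X) : A) := by
  have hsup : ∀ t : Finset (Fin n),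
      IsNoetherianObject ((t.sup fun k => imageSubobject (g k) : Subobject X) : A) := by
    intro t
    induction t using Finset.cons_induction with
    | empty =>
      rw [Finset.sup_empty]
      exact isNoetherianObject_of_isZero
        (IsZero.of_iso (IsInitial.isZero initialIsInitial) Subobject.botCoeIsoInitial)
    | cons k t _ ih =>
      rw [Finset.sup_cons]
      have : IsNoetherianObject ((imageSubobject (g k) : Subobject X) : A) :=
        of_epi (factorThruImageSubobject (g k))
      exact sup_isNoetherianObject _ _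
  have := hsup Finset.univ
  have hle : imageSubobject (Sigma.desc g) ≤ Finset.univ.sup fun k => imageSubobject (g k) :=
    imageSubobject_le _ (Sigma.desc fun k => factorThruImageSubobject (g k) ≫ Subobject.ofLE _ _
      (Finset.le_sup (f := fun k => imageSubobject (g k)) (Finset.mem_univ k)))
      (Sigma.hom_ext _ _ fun k => by simp)
  exact isNoetherianObject_of_mono (Subobject.ofLE _ _ hle)

end Groth.Agent.H16Derived.NoethObj
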