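import Groth.Agent.H10Coh.AffineAmple
import Groth.Agent.H10Coh.AmpleVanishing
import Groth.Agent.H22Alg.DegAmple

/-!
# Vanishing for high twists of bundles, without Noetherian hypotheses

If all non-negative powers of an ample invertible module have no higher cohomology, then so do the high
twists of every bundle.
-/

set_option autoImplicit false
set_option linter.style.haveILetI false

noncomputable section

universe u

open CategoryTheory CategoryTheory.Limits AlgebraicGeometry Opposite TopologicalSpace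
open Groth.Agent.H11Tilde Groth.Agent.H11Ample Groth.Agent.H8Props.FinLocFree Groth.Agent.H10Coh Groth.Agent.H10Coh.Tw

attribute [local instance 10000] Groth.Agent.H10Coh.hasSheafifyAb Groth.Agent.H10Coh.hasWeakSheafifyAb Groth.Agent.H10Coh.hasExtAb Groth.Agent.H10Coh.enoughInjAb

namespace Groth.Agent.H16Derived.VanishVB

variable {X S : Scheme.{u}}

/-- High twists of a bundle have no higher cohomology. -/
theorem exists_vanishing [CompactSpace X] [QuasiSeparatedSpace X] {L : X.Modules} (hL : CohB1.IsAmple L)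
    (h : ∀ n : ℕ, ∀ p : ℕ, 0 < p → Subsingleton (HnM (CohB1.tensorPow L n) p ⊤))
    {F : X.Modules} (hF : FlatMod.IsFinLocFree F) :
    ∃ n₀ : ℕ, ∀ n : ℕ, n₀ ≤ n → ∀ p : ℕ, 0 < p → Subsingleton (HnM (CohB1.tensorMod F (CohB1.tensorPow L n)) p ⊤) := by
  obtain ⟨d, hd⟩ := exists_bound (X := X)
  suffices ∀ j (G : X.Modules), FlatMod.IsFinLocFree G → ∃ n₀ : ℕ, ∀ n : ℕ, n₀ ≤ n → ∀ p : ℕ, 0 < p → d ≤ p + j →
      Subsingleton (HnM (CohB1.tensorMod G (CohB1.tensorPow L n)) p ⊤) by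
    obtain ⟨n₀, hn₀⟩ := this d F hF
    exact ⟨n₀, fun n hn p hp => hn₀ n hn p hp (Nat.le_add_left _ _)⟩
  have hpow : ∀ n, FlatMod.IsFinLocFree (CohB1.tensorPow L n) := fun n =>
    H28Pinch.isFinLocFree_of_isInvertible (isInvertible_tensorPow hL.1 n)
  intro j
  induction j with
  | zero =>
    exact fun G hG => ⟨0, fun n _ p _ hdp => @Equiv.subsingleton _ _ (HHEquiv _ p).toEquiv.symm
      (hd _ (isQCoh_of_isFinLocFree _ (isFinLocFree_tensorMod hG (hpow n))) p hdp)⟩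
  | succ j ih =>
    intro G hG
    obtain ⟨k, r, ψ, -, hψ⟩ := exists_epi_sigma hL (isCoh_of_vb hG) 0
    have hsum : FlatMod.IsFinLocFree (∐ fun _ : Fin r => Coh.structureModule X) :=
      H16Derived.KFlat.Stalk.isFinLocFree_sigma _ fun _ =>
        H28Pinch.isFinLocFree_of_isInvertible (isInvertible_tensorPow hL.1 0)
    have hK := isFinLocFree_kernel ψ hsum (isFinLocFree_tensorMod hG (hpow k))
    obtain ⟨n₁, hn₁⟩ := ih _ hK
    refine ⟨k + n₁, fun n hn p hp hdp => ?_⟩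
    obtain ⟨m, rfl⟩ : ∃ m, n = k + m := ⟨n - k, by omega⟩
    obtain ⟨ee⟩ := H22Alg.DegAmple.nonempty_tensorPow_add L k m
    have key := subsingleton_quot_tensor ψ (isInvertible_tensorPow hL.1 m) p (U := ⊤)
      (fun _ => subsingleton_of_iso (leftUnitIso _).symm (h m p hp))
      (hn₁ m (by omega) (p + 1) (Nat.succ_pos _) (by omega))
    exact subsingleton_of_iso (assoc G _ _ ≪≫ ((DCoh.tensorBi (X := X)).obj G).mapIso ee) key

variable (f : X ⟶ S) [QuasiCompact f] [QuasiSeparated f]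

/-- Over an affine open of the base. -/
theorem exists_vanishing_over {L : X.Modules} (hL : PicF.IsInvertible L)
    (ha : ∀ W : S.Opens, IsAffineOpen W → CohB1.IsAmple (L.restrict (f ⁻¹ᵁ W).ι))
    {W : S.Opens} (hW : IsAffineOpen W)
    (h : ∀ n : ℕ, ∀ p : ℕ, 0 < p → Subsingleton (HnM (CohB1.tensorPow L n) p (f ⁻¹ᵁ W)))
    {M : X.Modules} (hM : FlatMod.IsFinLocFree M) :
    ∃ k₀ : ℕ, ∀ k : ℕ, k₀ ≤ k → ∀ p, 0 < p →
      Subsingleton (HnM (CohB1.tensorMod M (CohB1.tensorPow L k)) p (f ⁻¹ᵁ W)) := by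
  haveI : CompactSpace ↥((f ⁻¹ᵁ W : X.Opens) : Scheme.{u}) :=
    isCompact_iff_compactSpace.1 (QuasiCompact.isCompact_preimage (f := f) _ W.2 hW.isCompact)
  haveI : IsAffine (W : Scheme.{u}) := hW
  haveI : QuasiSeparatedSpace ↥((f ⁻¹ᵁ W : X.Opens) : Scheme.{u}) := quasiSeparatedSpace_of_quasiSeparated (f ∣_ W)
  have h' : ∀ n : ℕ, ∀ p : ℕ, 0 < p →
      Subsingleton (HnM (CohB1.tensorPow (L.restrict (f ⁻¹ᵁ W).ι) n) p ⊤) := fun n p hp => by
    obtain ⟨e'⟩ := nonempty_restrict_tensorPow (f ⁻¹ᵁ W) hL n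
    have h0 := h n p hp
    rw [← Scheme.Opens.ι_image_top (f ⁻¹ᵁ W)] at h0
    haveI := h0
    exact subsingleton_of_iso e'.symm (restrEquivM (f ⁻¹ᵁ W).ι (CohB1.tensorPow L n) p ⊤).symm.toEquiv.subsingleton
  have hM' : FlatMod.IsFinLocFree (M.restrict (f ⁻¹ᵁ W).ι) :=
    H16Derived.KFlat.Stalk.isFinLocFree_of_iso ((Scheme.Modules.restrictFunctorIsoPullback _).app M).symm
      (H16Derived.KFlat.Stalk.isFinLocFree_pullback (f ⁻¹ᵁ W).ι hM)
  obtain ⟨k₀, hk₀⟩ := exists_vanishing (ha W hW) h' hM'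
  refine ⟨k₀, fun k hk p hp => ?_⟩
  obtain ⟨e⟩ := nonempty_restrict_tensor (f ⁻¹ᵁ W) M (isInvertible_tensorPow hL k)
  obtain ⟨e'⟩ := nonempty_restrict_tensorPow (f ⁻¹ᵁ W) hL k
  have h1 := subsingleton_of_iso (PicGrp.tensorModIso (Iso.refl (M.restrict (f ⁻¹ᵁ W).ι)) e' ≪≫ e) (hk₀ k hk p hp)
  exact subsingleton_HnM_image (f ⁻¹ᵁ W).ι (CohB1.tensorMod M (CohB1.tensorPow L k)) p ⊤ (f ⁻¹ᵁ W)
    (Scheme.Opens.ι_image_top _) h1

/-- High twists of a bundle have no higher direct images. -/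
theorem exists_isZero_rpush [CompactSpace S] {L : X.Modules} (hL : PicF.IsInvertible L)
    (ha : ∀ W : S.Opens, IsAffineOpen W → CohB1.IsAmple (L.restrict (f ⁻¹ᵁ W).ι))
    (h : ∀ W : S.Opens, IsAffineOpen W → ∀ n : ℕ, ∀ p : ℕ, 0 < p →
      Subsingleton (HnM (CohB1.tensorPow L n) p (f ⁻¹ᵁ W)))
    (M : X.Modules) (hM : FlatMod.IsFinLocFree M) :
    ∃ n₀ : ℕ, ∀ n : ℕ, n₀ ≤ n → ∀ p : ℕ, 0 < p →
      IsZero ((Coh.RpushAb f p).obj (Coh.toAb (CohB1.tensorMod M (CohB1.tensorPow L n)))) := by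
  classical
  have hex : ∀ x : S, ∃ V : S.Opens, IsAffineOpen V ∧ x ∈ V := fun x => exists_isAffineOpen_mem x
  choose V hV hxV using hex
  obtain ⟨T, hT⟩ := CompactSpace.elim_nhds_subcover (fun x => (V x : Set S))
    fun x => (V x).isOpen.mem_nhds (hxV x)
  choose K hK using fun x => exists_vanishing_over f hL ha (hV x) (h _ (hV x)) hM
  refine ⟨∑ x ∈ T, K x, fun n hn p hp => ?_⟩
  obtain ⟨m, rfl⟩ : ∃ m, p = m + 1 := ⟨p - 1, by omega⟩
  let N := CohB1.tensorMod M (CohB1.tensorPow L n)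
  haveI : N.IsQuasicoherent := isQCoh_tensor (isQCoh_of_isFinLocFree M hM) (isInvertible_tensorPow hL n)
  haveI : ((MRes.inj N).Z 0).IsQuasicoherent := ‹N.IsQuasicoherent›
  haveI := isQuasicoherent_hdir f (MRes.inj N) m
  have hz : IsZero (hdir f (MRes.inj N) m) := by
    refine isZero_of_qcoh_cover _ (fun x : {x // x ∈ T} => V x.1) (fun x => hV x.1) (fun y => ?_) fun x => ?_
    · obtain ⟨x, hx, hy⟩ := Set.mem_iUnion₂.1 (hT.ge (Set.mem_univ y))
      exact ⟨⟨x, hx⟩, hy⟩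
    · have h := hK x.1 n ((Finset.single_le_sum (fun i _ => Nat.zero_le (K i)) x.2).trans hn) (m + 1) hp
      have e := (hdirEquiv f (MRes.inj N) m (hV x.1)).symm.toEquiv
      exact @Equiv.subsingleton _ _ e h
  exact ((shF S).map_isZero hz).of_iso (nonempty_rpushAb_iso_hdir f N m).some.symm

end Groth.Agent.H16Derived.VanishVB
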