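import Groth.Agent.H22Alg.PB.Gen
import Groth.Agent.H22Alg.PB.Vanish
import Groth.Agent.H16Derived.VanishVB
import Groth.Agent.H16Derived.BaseChange.AcyclicFlat

/-!
# `K₀` of bundles on a projective bundle over a quasi-compact scheme

The arguments of `H22Alg.PB` with the Noetherian hypotheses removed: high twists of bundles are regular
and direct images of acyclic bundles are bundles over any quasi-compact base.
-/

set_option autoImplicit false
set_option linter.style.haveILetI false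

universe u

open CategoryTheory CategoryTheory.Limits AlgebraicGeometry Opposite TopologicalSpace
open Groth.Agent.H11Tilde Groth.Agent.H11Ample Groth.Agent.H10Coh.Stab
attribute [local instance] HasDerivedCategory.standard
attribute [local instance 10000] Groth.Agent.H10Coh.hasSheafifyAb Groth.Agent.H10Coh.hasWeakSheafifyAb Groth.Agent.H10Coh.hasExtAb Groth.Agent.H10Coh.enoughInjAb
attribute [local instance] Groth.Agent.H10Coh.enoughInjMod
attribute [local instance] Groth.Agent.H22Alg.KExists.commRing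

noncomputable section

namespace Groth.Agent.H16Derived.PBQC

open Groth.Agent.H22Alg Groth.Agent.H22Alg.PB
open H16Derived.KFlat.Stalk

variable {n : ℕ} {Y : Scheme.{u}}

theorem vanish_powers (n : ℕ) (Y : Scheme.{u}) (W : Y.Opens) (hW : IsAffineOpen W) (k p : ℕ) (hp : 0 < p) :
    Subsingleton (H10Coh.HnM (CohB1.tensorPow (Twist.twistOver n Y 1) k) p (KRR.pr n Y ⁻¹ᵁ W)) := by
  obtain ⟨t⟩ := RegBundle.nonempty_tensorPow_twist (n := n) (Y := Y) k
  exact H10Coh.Tw.subsingleton_of_iso t.symm (subsingleton_hnm_twistOver hW (by omega) (by omega))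

/-- High twists of a bundle are regular. -/
theorem exists_reg_twist_py [CompactSpace ↥Y] {F : (KRR.PY n Y).Modules} (hF : FlatMod.IsFinLocFree F) :
    ∃ m₀ : ℕ, ∀ m : ℕ, m₀ ≤ m → KRR.IsRegSheaf n Y (KRR.twF n Y (m : ℤ) F) := by
  haveI := CMKer.isProper_pr n Y
  obtain ⟨n₀, h₀⟩ := H16Derived.VanishVB.exists_isZero_rpush (KRR.pr n Y)
    (RegSheaf.isInvertible_twistOver (n := n) (T := Y) 1)
    (fun W hW => (isRelAmple_twistOver n Y).2 ⟨W, hW⟩) (vanish_powers n Y) F hF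
  refine ⟨n₀ + n, fun m hm i hi => ?_⟩
  obtain ⟨e⟩ := RegSheaf.nonempty_twF_twF (n := n) (T := Y) (-(i : ℤ)) (m : ℤ) ((m : ℤ) - i) (by ring) F
  refine CMReg.van_iso e.symm ?_
  by_cases h : i ≤ n
  · obtain ⟨k, hk⟩ : ∃ k : ℕ, (m : ℤ) - i = k := ⟨m - i, by omega⟩
    rw [hk]
    obtain ⟨t⟩ := RegBundle.nonempty_tensorPow_twist (n := n) (Y := Y) k
    exact CMReg.van_iso (H10Coh.Tw.commIso F _ ≪≫ PicGrp.tensorModIso t (Iso.refl F))
      (h₀ k (by omega) i hi)
  · exact CMKer.van_high (by omega) (CMKer.isQCoh_twF _ (H8Props.FinLocFree.isQCoh_of_isFinLocFree _ hF))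

variable {X P : Scheme.{u}} {r : ℕ} {π : P ⟶ X} {O : ℤ → P.Modules}
  {E : X.Modules} {O1 : P.Modules} {q : (Scheme.Modules.pullback π).obj E ⟶ O1}

theorem isLFP (hπ : IsPn r π O) : LocallyOfFinitePresentation π :=
  hπ.local_prop _ fun U => inferInstance

/-- High twists of a bundle are regular. -/
theorem exists_chart_affine (hπ : IsPn r π O) (x : X) :
    ∃ c : Chart r π O, IsAffineOpen c.U ∧ x ∈ c.U := by
  obtain ⟨V, c, hV, hxV, -, hle⟩ := hπ.exists_affine_nhd x ⊤ trivial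
  let φ : (↑V : Scheme.{u}) ⟶ ↑c.U := X.homOfLE hle
  let ψ := KRR.projSpaceMap r φ
  haveI : IsOpenImmersion ψ :=
    MorphismProperty.of_isPullback (P := @IsOpenImmersion) (KBaseChangeCl.isPullback_map φ).flip inferInstance
  haveI : IsOpenImmersion (ψ ≫ c.j) := inferInstance
  have hw : (ψ ≫ c.j) ≫ π = KRR.pr r (↑V : Scheme.{u}) ≫ V.ι := by
    rw [Category.assoc, c.w, ← Category.assoc, (KBaseChangeCl.isPullback_map φ).w, Category.assoc,
      Scheme.homOfLE_ι]
  have hψ : ψ.opensRange = KRR.pr r (↑c.U : Scheme.{u}) ⁻¹ᵁ (c.U.ι ⁻¹ᵁ V) := by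
    refine SetLike.coe_injective ?_
    show Set.range ψ = (KRR.pr r (↑c.U : Scheme.{u})) ⁻¹' (c.U.ι ⁻¹' V)
    have h := KBaseChangeCl.isPullback_map (n := r) φ
    rw [show ψ = h.isoPullback.hom ≫ pullback.fst _ _ from (h.isoPullback_hom_fst).symm, ← Scheme.Hom.coe_opensRange,
      Scheme.Hom.opensRange_comp_of_isIso, Scheme.Hom.coe_opensRange, Scheme.Pullback.range_fst]
    congr 1
    refine Set.ext fun y => ⟨?_, fun hy => ?_⟩
    · rintro ⟨z, rfl⟩
      show c.U.ι (φ z) ∈ V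
      rw [← Scheme.Hom.comp_apply, Scheme.homOfLE_ι]
      exact z.2
    · refine ⟨⟨c.U.ι y, hy⟩, c.U.ι.isOpenEmbedding.injective ?_⟩
      show (φ ≫ c.U.ι) _ = _
      rw [Scheme.homOfLE_ι]
      rfl
  obtain ⟨e1⟩ := BCReg.nonempty_pull_twist (n := r) φ (1 : ℤ)
  refine ⟨⟨V, ψ ≫ c.j, inferInstance, hw, ?_, ⟨((Scheme.Modules.pullbackComp ψ c.j).app _).symm ≪≫
    (Scheme.Modules.pullback ψ).mapIso c.iso.some ≪≫ e1⟩⟩, hV, hxV⟩
  rw [← c.image_preimage V hle, Scheme.Hom.opensRange_comp, hψ]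

/-- High twists of a bundle are regular. -/
theorem exists_reg_twist (hπ : IsPn r π O) [CompactSpace ↥X] {F : P.Modules} (hF : FlatMod.IsFinLocFree F) :
    ∃ m₀ : ℕ, ∀ m : ℕ, m₀ ≤ m → Reg π O (PB.tw O (m : ℤ) F) := by
  haveI := hπ.isProper
  choose c hca hc using exists_chart_affine hπ
  obtain ⟨s, hs⟩ := CompactSpace.isCompact_univ.elim_finite_subcover (fun x : X => ((c x).U : Set X))
    (fun x => (c x).U.isOpen) (fun x _ => Set.mem_iUnion.2 ⟨x, hc x⟩)
  have key : ∀ x : X, ∃ m₀ : ℕ, ∀ m : ℕ, m₀ ≤ m →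
      KRR.IsRegSheaf r (↑(c x).U : Scheme.{u}) (KRR.twF r (↑(c x).U : Scheme.{u}) (m : ℤ) ((c x).res F)) := fun x => by
    haveI : IsAffine (↑(c x).U : Scheme.{u}) := hca x
    exact exists_reg_twist_py (F := (c x).res F) (H16Derived.KFlat.Stalk.isFinLocFree_pullback _ hF)
  choose m₀ hm₀ using key
  refine ⟨s.sup m₀, fun m hm i hi => ?_⟩
  obtain ⟨k, rfl⟩ : ∃ k, i = k + 1 := ⟨i - 1, by omega⟩
  have hq : Coh.IsQCoh (PB.tw O (-((k + 1 : ℕ) : ℤ)) (PB.tw O (m : ℤ) F)) := hπ.isQCoh_tw _ (hπ.isQCoh_tw _ (H8Props.FinLocFree.isQCoh_of_isFinLocFree _ hF))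
  refine H10Coh.isZero_rpush_of_vanishing π.base _ k {V : X.Opens | IsAffineOpen V ∧ ∃ x ∈ s, V ≤ (c x).U}
    ?_ fun V hV => ?_
  · refine Opens.isBasis_iff_nbhd.2 fun {W y} hy => ?_
    obtain ⟨x, hxs, hyx⟩ := Set.mem_iUnion₂.1 (hs (Set.mem_univ y))
    obtain ⟨V, hV, hyV, hle⟩ := exists_isAffineOpen_mem_and_subset (x := y) (U := W ⊓ (c x).U) ⟨hy, hyx⟩
    exact ⟨V, ⟨hV, x, hxs, fun z hz => (hle hz).2⟩, hyV, fun z hz => (hle hz).1⟩
  · obtain ⟨hVa, x, hxs, hVc⟩ := hV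
    haveI := CMKer.isProper_pr r (↑(c x).U : Scheme.{u})
    refine ((c x).hnm_iff _ (k + 1) hVc).2 (subsingleton_of_van (f := KRR.pr r (↑(c x).U : Scheme.{u}))
      ((c x).isQCoh_res hq) ?_ ((c x).isAffineOpen_preimage hVa hVc))
    obtain ⟨e⟩ := (c x).nonempty_res_tw hπ.tw (-((k + 1 : ℕ) : ℤ)) (PB.tw O (m : ℤ) F)
    obtain ⟨e'⟩ := (c x).nonempty_res_tw hπ.tw (m : ℤ) F
    exact CMReg.van_iso (e ≪≫ ((DCoh.tensorBi (X := KRR.PY r (↑(c x).U : Scheme.{u}))).obj _).mapIso e').symm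
      (hm₀ x m (le_trans (Finset.le_sup hxs) hm) (k + 1) hi)

/-- Direct images of acyclic bundles are bundles. -/
theorem finLocFree_push (hπ : IsPn r π O) {F : P.Modules} (hF : FlatMod.IsFinLocFree F)
    (hvan : ∀ i : ℕ, 1 ≤ i → Van π i F) : FlatMod.IsFinLocFree ((Scheme.Modules.pushforward π).obj F) := by
  haveI := hπ.isProper
  haveI := hπ.flat
  haveI := isLFP hπ
  exact H16Derived.BaseChange.finLocFree_pushforward_of_acyclic π hF hvan

theorem push_additive (hπ : IsPn r π O) : KTelescope.Additive (Ac π) (cP π) := fun _ hS h₁ h₂ h₃ =>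
  KModel.cl_add (shortExact_push hS (h₁.2 1 le_rfl)) (finLocFree_push hπ h₁.1 h₁.2) (finLocFree_push hπ h₂.1 h₂.2)
    (finLocFree_push hπ h₃.1 h₃.2)

/-- The values `π_* (π^* A (d))`. -/
theorem exists_val (hπ : IsPn r π O) {d : ℤ} (hd : -(r : ℤ) ≤ d) :
    ∃ v : SGA6.Kvb X →+ SGA6.Kvb X, ∀ A, FlatMod.IsFinLocFree A →
      v (KRR.cl X A) = cP π (PB.tw O d ((Scheme.Modules.pullback π).obj A)) :=
  KModel.exists_lift (fun A => cP π (PB.tw O d ((Scheme.Modules.pullback π).obj A))) fun S hS a b c =>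
    push_additive hπ ((S.map (Scheme.Modules.pullback π)).map ((DCoh.tensorBi (X := P)).obj (O d)))
      (shortExact_tw hπ.tw d (shortExact_pull hS c)) (hπ.ac_twist hd a) (hπ.ac_twist hd b) (hπ.ac_twist hd c)

/-- The recursion satisfied by the values. -/
theorem val_rec (hE : FlatMod.IsFinLocFreeOfRank (r + 1) E)
    (hPB : KRR.IsProjBundle π E O1 q) (hπ : IsPn r π O) (hO1 : Nonempty (O 1 ≅ O1))
    (M : ℕ → X.Modules) (hM : ∀ k, ExtPow.IsExtPow k E (M k)) {A : X.Modules} (hA : FlatMod.IsFinLocFree A)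
    {d : ℤ} (hd : 1 ≤ d) :
    ∑ p ∈ Finset.range (r + 2), ((-1 : ℤ) ^ p) •
      cP π (tw O (d - p) ((Scheme.Modules.pullback π).obj (CohB1.tensorMod (M p) A))) = 0 := by
  obtain ⟨T, δ, w, hex, hepi, hT⟩ := exists_seq hE hPB hπ.tw hO1 M hM hA d
  have hMA : ∀ p, FlatMod.IsFinLocFree (CohB1.tensorMod (M p) A) := fun p =>
    isFinLocFree_tensor (ExtPowHom.finLocFree_of_isExtPow (KPullLam.finLocFree_of_rank hE) (hM p)) hA
  have hzM : ∀ p, r + 1 < p → IsZero (T p) := fun p hp => by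
    have h0 := isZero_extPow_of_gt hE (hM p) hp
    refine IsZero.of_iso ?_ (hT p).some
    refine Functor.map_isZero ((DCoh.tensorBi (X := P)).obj (O (d - p))) ?_
    haveI : (Scheme.Modules.pullback π).IsLeftAdjoint :=
      (Scheme.Modules.pullbackPushforwardAdjunction π).isLeftAdjoint
    refine (Scheme.Modules.pullback π).map_isZero (IsZero.of_iso ?_ (H10Coh.Tw.commIso (M p) A))
    exact Functor.map_isZero ((DCoh.tensorBi (X := X)).obj A) h0
  have hAc : ∀ p, Ac π (T p) := fun p => by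
    by_cases hp : p ≤ r + 1
    · have h := hπ.ac_twist (d := d - p) (by omega) (hMA p)
      exact ⟨isFinLocFree_of_iso (hT p).some.symm h.1, fun i hi => (h.2 i hi).of_iso (hT p).some.symm⟩
    · have hz := hzM p (by omega)
      exact ⟨isFinLocFree_of_isZero hz, fun i _ => Van.of_isZero π i hz⟩
  have hcyc : ∀ p, (ShortComplex.mk (kernel.ι (δ (p + 1))) (kernel.lift (δ p) (δ (p + 1)) (w p))
      (by rw [← cancel_mono (kernel.ι (δ p))]; simp)).ShortExact := fun p =>
    { exact := by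
        refine ShortComplex.exact_of_f_is_kernel _ (KernelFork.IsLimit.ofι' _ _ fun {T'} k hk => ?_)
        exact ⟨kernel.lift _ k (by
          have := hk =≫ kernel.ι (δ p)
          simpa using this), kernel.lift_ι _ _ _⟩
      mono_f := inferInstanceAs (Mono (kernel.ι (δ (p + 1))))
      epi_g := (ShortComplex.exact_iff_epi_kernel_lift _).1 (hex p) }
  have hflf : ∀ p, FlatMod.IsFinLocFree (kernel (δ p)) := fun p => by
    induction p with
    | zero =>
      exact isFinLocFree_left (S := ShortComplex.mk (kernel.ι (δ 0)) (δ 0) (kernel.condition _))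
        { exact := ShortComplex.exact_kernel _ } (hAc 1).1 (hAc 0).1
    | succ p ih => exact isFinLocFree_left (hcyc p) (hAc (p + 2)).1 ih
  have hvan : ∀ e p, r + 1 ≤ p + e → ∀ i, 1 ≤ i → Van π i (kernel (δ p)) := fun e => by
    induction e with
    | zero =>
      intro p hp i _
      exact Van.of_isZero π i (IsZero.of_mono (kernel.ι (δ p)) (hzM (p + 1) (by omega)))
    | succ e ih =>
      intro p hp i hi
      exact RegSheaf.isZero_right (Coh.pushAb π) (RegSheaf.shortExact_toAb (hcyc p)) i ((hAc (p + 2)).2 i hi)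
        (ih (p + 1) (by omega) (i + 1) (by omega))
  have h := sum_eq_zero_desc (push_additive hπ) δ w hex (r + 1) (hzM _ (by omega)) hAc
    fun p => ⟨hflf p, hvan (r + 1) p (by omega)⟩
  refine Eq.trans (Finset.sum_congr rfl fun p _ => ?_) h
  refine congrArg (_ • ·) (KModel.cl_iso ((Scheme.Modules.pushforward π).mapIso (hT p).some) ?_).symm
  exact finLocFree_push hπ (hAc p).1 (hAc p).2

theorem L₀_rel (hπ : IsPn r π O) (N : ℕ) {B : X.Modules} (hB : FlatMod.IsFinLocFree B)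
    {S : ShortComplex P.Modules} (hS : S.ShortExact) (h₁ : KRR.vbP P S.X₁) (h₂ : KRR.vbP P S.X₂)
    (h₃ : KRR.vbP P S.X₃)
    (a₁ : Ac π (CohB1.tensorMod ((Scheme.Modules.pullback π).obj B) (tw O (N : ℤ) S.X₁)))
    (a₂ : Ac π (CohB1.tensorMod ((Scheme.Modules.pullback π).obj B) (tw O (N : ℤ) S.X₂)))
    (a₃ : Ac π (CohB1.tensorMod ((Scheme.Modules.pullback π).obj B) (tw O (N : ℤ) S.X₃))) :
    L₀ π O (N : ℤ) B (FreeAbelianGroup.of ⟨S.X₂, h₂⟩ - FreeAbelianGroup.of ⟨S.X₁, h₁⟩ -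
      FreeAbelianGroup.of ⟨S.X₃, h₃⟩) = 0 := by
  let T := (DCoh.tensorBi (X := P)).obj ((Scheme.Modules.pullback π).obj B)
  have hT : ((S.map ((DCoh.tensorBi (X := P)).obj (O (N : ℤ)))).map T).ShortExact :=
    H16Derived.KFlat.Stalk.isFlatObj_flip_of_isFlat
      (H16Derived.KFlat.Stalk.isFlat_of_isFinLocFree (isFinLocFree_pullback π hB))
      _ (shortExact_tw hπ.tw (N : ℤ) hS)
  have h := push_additive hπ _ hT a₁ a₂ a₃
  rw [map_sub, map_sub, L₀, FreeAbelianGroup.lift_apply_of, FreeAbelianGroup.lift_apply_of,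
    FreeAbelianGroup.lift_apply_of, sub_sub, sub_eq_zero]
  exact h

theorem eventually_zero [CompactSpace ↥X] (hπ : IsPn r π O) {x : FreeAbelianGroup (Subtype (KRR.vbP P))}
    (hx : x ∈ KZero.relSub (KRR.vbP P)) :
    ∃ N₀ : ℕ, ∀ N : ℕ, N₀ ≤ N → ∀ B, FlatMod.IsFinLocFree B → L₀ π O N B x = 0 := by
  induction hx using AddSubgroup.closure_induction with
  | mem x hx =>
    obtain ⟨S, h₁, h₂, h₃, hS, rfl⟩ := hx
    haveI := hπ.isProper
    obtain ⟨n₁, hn₁⟩ := exists_reg_twist hπ h₁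
    obtain ⟨n₂, hn₂⟩ := exists_reg_twist hπ h₂
    obtain ⟨n₃, hn₃⟩ := exists_reg_twist hπ h₃
    refine ⟨max n₁ (max n₂ n₃), fun N hN B hB => ?_⟩
    have hpB := isFinLocFree_pullback π hB
    have a₁ := hπ.ac_tensor hB (hπ.finLocFree_tw N h₁) (hn₁ N (by omega))
    have a₂ := hπ.ac_tensor hB (hπ.finLocFree_tw N h₂) (hn₂ N (by omega))
    have a₃ := hπ.ac_tensor hB (hπ.finLocFree_tw N h₃) (hn₃ N (by omega))
    exact L₀_rel hπ N hB hS h₁ h₂ h₃ a₁ a₂ a₃
  | zero => exact ⟨0, fun _ _ _ _ => map_zero _⟩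
  | add a b _ _ ha hb =>
    obtain ⟨Na, ha⟩ := ha
    obtain ⟨Nb, hb⟩ := hb
    exact ⟨max Na Nb, fun N hN B hB => by rw [map_add, ha N (by omega) B hB, hb N (by omega) B hB, add_zero]⟩
  | neg a _ ha =>
    obtain ⟨Na, ha⟩ := ha
    exact ⟨Na, fun N hN B hB => by rw [map_neg, ha N hN B hB, neg_zero]⟩

/-- Independence. -/
theorem injective [CompactSpace ↥X] (hE : FlatMod.IsFinLocFreeOfRank (r + 1) E) (hPB : KRR.IsProjBundle π E O1 q)
    (hπ : IsPn r π O) (hO1 : Nonempty (O 1 ≅ O1)) (Ψ : Fin (r + 1) → (SGA6.Kvb X →+ SGA6.Kvb P))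
    (hΨ : ∀ (i : Fin (r + 1)) A, FlatMod.IsFinLocFree A →
      Ψ i (KRR.cl X A) = KRR.cl P (tw O ((i : ℕ) : ℤ) ((Scheme.Modules.pullback π).obj A)))
    (a : Fin (r + 1) → SGA6.Kvb X) (ha : ∑ i, Ψ i (a i) = 0) : a = 0 := by
  classical
  have hE' := KPullLam.finLocFree_of_rank hE
  -- values
  choose v hv using fun (d : ℕ) => exists_val hπ (d := (d : ℤ) - r) (by omega)
  let val : ℤ → (SGA6.Kvb X →+ SGA6.Kvb X) := fun d => v (d + r).toNat
  have hval : ∀ d : ℤ, -(r : ℤ) ≤ d → ∀ A, FlatMod.IsFinLocFree A →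
      val d (KRR.cl X A) = cP π (tw O d ((Scheme.Modules.pullback π).obj A)) := fun d hd A hA => by
    show v (d + r).toNat _ = _
    rw [hv _ A hA, show (((d + r).toNat : ℕ) : ℤ) - r = d by omega]
  let M := fun k => KExists.extP k E
  have hM : ∀ k, ExtPow.IsExtPow k E (M k) := fun k => KExists.extP_spec k hE'
  have hMf : ∀ k, FlatMod.IsFinLocFree (M k) := fun k => KExists.finLocFree_extP k hE'
  -- the test functions
  let f : ℤ → (SGA6.Kvb X →+ SGA6.Kvb X) := fun N =>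
    AddMonoidHom.mk' (fun b => ∑ i : Fin (r + 1), val (N + (i : ℕ)) (b * a i))
      fun b b' => by simp only [add_mul, map_add, Finset.sum_add_distrib]
  -- large twists
  obtain ⟨N₀, hN₀⟩ : ∃ N₀ : ℕ, ∀ N : ℕ, N₀ ≤ N → f (N : ℤ) = 0 := by
    choose w hw using fun i => QuotientAddGroup.mk_surjective (a i)
    let lift' : Fin (r + 1) → (FreeAbelianGroup (Subtype (KRR.vbP X)) →+ FreeAbelianGroup (Subtype (KRR.vbP P))) :=
      fun i => FreeAbelianGroup.map fun A => ⟨tw O ((i : ℕ) : ℤ) ((Scheme.Modules.pullback π).obj A.1),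
        hπ.finLocFree_tw _ (isFinLocFree_pullback π A.2)⟩
    have hcl : ∀ {Z : Scheme.{u}} (A : Subtype (KRR.vbP Z)),
        (QuotientAddGroup.mk (FreeAbelianGroup.of A) : SGA6.Kvb Z) = KRR.cl Z A.1 := fun A => by
      rw [KRR.cl, KZero.clSub, dif_pos A.2]
    have hmk : ∀ i y, Ψ i (QuotientAddGroup.mk y) = QuotientAddGroup.mk (lift' i y) := fun i y => by
      induction y using FreeAbelianGroup.induction_on with
      | zero => simp
      | of A =>
        rw [hcl A, hΨ i A.1 A.2, FreeAbelianGroup.map_of_apply, hcl]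
      | neg A ih => simp only [QuotientAddGroup.mk_neg, map_neg, ih]
      | add A B iha ihb => simp only [QuotientAddGroup.mk_add, map_add, iha, ihb]
    have hrel : (∑ i, lift' i (w i)) ∈ KZero.relSub (KRR.vbP P) := by
      rw [← QuotientAddGroup.eq_zero_iff]
      refine Eq.trans ?_ ha
      simp only [← hw, hmk]
      exact map_sum (QuotientAddGroup.mk' (KZero.relSub (KRR.vbP P))) _ _
    obtain ⟨N₀, hN₀⟩ := eventually_zero hπ hrel
    refine ⟨N₀, fun N hN => KModel.kvb_ext fun B hB => ?_⟩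
    have h0 := hN₀ N hN B hB
    rw [map_sum] at h0
    rw [AddMonoidHom.zero_apply]
    refine Eq.trans ?_ h0
    show ∑ i : Fin (r + 1), val ((N : ℤ) + (i : ℕ)) (KRR.cl X B * a i) = _
    refine Finset.sum_congr rfl fun i _ => ?_
    rw [← hw i]
    generalize w i = y
    induction y using FreeAbelianGroup.induction_on with
    | zero => simp
    | of A =>
      rw [hcl A, KExists.cl_mul hB A.2, FreeAbelianGroup.map_of_apply, L₀, FreeAbelianGroup.lift_apply_of,
        hval _ (by omega) _ (isFinLocFree_tensor hB A.2)]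
      obtain ⟨c⟩ := nonempty_tw_tw hπ.tw (N : ℤ) ((i : ℕ) : ℤ) ((N : ℤ) + (i : ℕ)) rfl
        ((Scheme.Modules.pullback π).obj (CohB1.tensorMod B A.1))
      have hac := hπ.ac_twist (d := (N : ℤ) + (i : ℕ)) (by omega) (isFinLocFree_tensor hB A.2)
      refine KModel.cl_iso ((Scheme.Modules.pushforward π).mapIso ?_) (finLocFree_push hπ hac.1 hac.2)
      exact c.symm ≪≫ PicGrp.tensorModIso (Iso.refl _) (PicGrp.tensorModIso (Iso.refl _) ((pullTensorLIso π A.1).app B)) ≪≫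
        PicGrp.tensorModIso (Iso.refl _) (leftComm _ _ _) ≪≫ leftComm _ _ _
    | neg A ih => simp only [QuotientAddGroup.mk_neg, map_neg, mul_neg, ih]
    | add A B iha ihb => simp only [QuotientAddGroup.mk_add, map_add, mul_add, iha, ihb]
  -- descending
  have hrec : ∀ N : ℤ, 1 ≤ N → ∀ b, ∑ k ∈ Finset.range (r + 2),
      ((-1 : ℤ) ^ k) • f (N - k) (KRR.cl X (M k) * b) = 0 := fun N hN b => by
    simp only [f, AddMonoidHom.mk'_apply, Finset.smul_sum, mul_assoc]
    rw [Finset.sum_comm]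
    refine Finset.sum_eq_zero fun i _ => ?_
    let T : SGA6.Kvb X →+ SGA6.Kvb X := ∑ k ∈ Finset.range (r + 2),
      ((-1 : ℤ) ^ k) • (val (N - k + (i : ℕ))).comp (AddMonoidHom.mulLeft (KRR.cl X (M k)))
    have hT : T = 0 := KModel.kvb_ext fun A hA => by
      simp only [T, AddMonoidHom.finsetSum_apply, AddMonoidHom.zero_apply, AddMonoidHom.smul_apply,
        AddMonoidHom.comp_apply, AddMonoidHom.coe_mulLeft]
      refine Eq.trans (Finset.sum_congr rfl fun k hk => congrArg (_ • ·) ?_)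
        (val_rec hE hPB hπ hO1 M hM hA (d := N + (i : ℕ)) (by omega))
      have hk' := Finset.mem_range.1 hk
      rw [KExists.cl_mul (hMf k) hA, hval _ (by omega) _ (isFinLocFree_tensor (hMf k) hA),
        show N - k + (i : ℕ) = N + (i : ℕ) - k by ring]
      rfl
    have h := DFunLike.congr_fun hT (b * a i)
    simp only [T, AddMonoidHom.finsetSum_apply, AddMonoidHom.zero_apply, AddMonoidHom.smul_apply,
      AddMonoidHom.comp_apply, AddMonoidHom.coe_mulLeft] at h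
    exact h
  have hall : ∀ (m : ℕ) (N : ℤ), -(r : ℤ) ≤ N → (N₀ : ℤ) - m ≤ N → f N = 0 := fun m => by
    induction m with
    | zero =>
      intro N _ hN
      obtain ⟨k, rfl⟩ := Int.eq_ofNat_of_zero_le (show (0 : ℤ) ≤ N by omega)
      exact hN₀ k (by omega)
    | succ m ih =>
      intro N hNr hN
      by_cases hN' : (N₀ : ℤ) - m ≤ N
      · exact ih N hNr hN'
      refine AddMonoidHom.ext fun b => ?_
      obtain ⟨u, hu⟩ := isUnit_cl_top hE (hM (r + 1))
      have h := hrec (N + r + 1) (by omega) (↑u⁻¹ * b)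
      rw [Finset.sum_range_succ, Finset.sum_eq_zero fun k hk => ?_, zero_add] at h
      · rw [show N + r + 1 - ((r + 1 : ℕ) : ℤ) = N by push_cast; ring, ← mul_assoc, ← hu, Units.mul_inv, one_mul]
          at h
        rcases neg_one_pow_eq_or ℤ (r + 1) with e | e <;> rw [e] at h <;> simpa using h
      · have hk' := Finset.mem_range.1 hk
        rw [ih (N + r + 1 - k) (by omega) (by omega), AddMonoidHom.zero_apply, smul_zero]
  by_contra hne
  obtain ⟨j, hj, hmax⟩ := Finset.exists_max_image ((Finset.univ : Finset (Fin (r + 1))).filter fun i => a i ≠ 0)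
    (fun i => i) (by
      obtain ⟨i, hi⟩ := Function.ne_iff.1 hne
      exact ⟨i, by simpa using hi⟩)
  have hfj := DFunLike.congr_fun (hall (N₀ + j) (-((j : ℕ) : ℤ)) (by omega) (by push_cast; omega)) 1
  simp only [f, AddMonoidHom.mk'_apply, one_mul, AddMonoidHom.zero_apply] at hfj
  rw [Finset.sum_eq_single j (fun i _ hij => ?_) (by simp)] at hfj
  · refine (Finset.mem_filter.1 hj).2 ?_
    rw [neg_add_cancel] at hfj
    have hid : val 0 = AddMonoidHom.id _ := KModel.kvb_ext fun A hA => by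
      rw [hval 0 (by omega) A hA, hπ.val_zero hA]; rfl
    rwa [hid] at hfj
  · by_cases hai : a i = 0
    · rw [hai, map_zero]
    have hlt : (i : ℕ) < j := lt_of_le_of_ne (hmax i (by simpa using hai)) fun h => hij (Fin.ext h)
    have hz : val (-((j : ℕ) : ℤ) + (i : ℕ)) = 0 := KModel.kvb_ext fun A hA => by
      rw [hval _ (by omega) A hA, hπ.val_neg (by omega) (by omega) hA]; rfl
    rw [hz, AddMonoidHom.zero_apply]

open H22Alg.PB.IsPn (PP ε) in
theorem finLocFree_Fk (hπ : IsPn r π O) {F : P.Modules} (hF : FlatMod.IsFinLocFree F)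
    (h : Reg π O F) : ∀ k, FlatMod.IsFinLocFree (Fk π O F k)
  | 0 => hF
  | k + 1 => by
    have ih := finLocFree_Fk hπ hF h k
    have hg := hπ.good (H8Props.FinLocFree.isQCoh_of_isFinLocFree _ hF) h k
    haveI := hπ.epi_counit hg.1 hg.2
    exact hπ.finLocFree_tw 1 (isFinLocFree_left (IsPn.shortExact_ker (π := π) (Fk π O F k))
      (isFinLocFree_pullback π (finLocFree_push hπ ih fun i hi => hπ.van_self hg.1 hg.2 hi)) ih)

open H22Alg.PB.IsPn (PP ε) in
/-- The classes of the twists of the iterates lie in the image. -/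
theorem cl_mem (hπ : IsPn r π O) (Ψ : ℤ → (SGA6.Kvb X →+ SGA6.Kvb P))
    (hΨ : ∀ (d : ℤ) A, FlatMod.IsFinLocFree A →
      Ψ d (KRR.cl X A) = KRR.cl P (PB.tw O d ((Scheme.Modules.pullback π).obj A)))
    (R : AddSubgroup (SGA6.Kvb P)) (hR : ∀ d a, Ψ d a ∈ R)
    {F : P.Modules} (hF : FlatMod.IsFinLocFree F) (h : Reg π O F) :
    ∀ (j k : ℕ), r + 1 ≤ k + j → k ≤ r + 1 → ∀ d : ℤ, KRR.cl P (PB.tw O d (Fk π O F k)) ∈ R
  | 0, k, hk, hk', d => by
    obtain rfl : k = r + 1 := by omega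
    rw [KModel.cl_isZero (Functor.map_isZero ((DCoh.tensorBi (X := P)).obj (O d))
      (hπ.isZero_Fk_top (H8Props.FinLocFree.isQCoh_of_isFinLocFree _ hF) h))]
    exact R.zero_mem
  | j + 1, k, hk, hk', d => by
    by_cases hkr : k = r + 1
    · exact cl_mem hπ Ψ hΨ R hR hF h j k (by omega) hk' d
    have hf := finLocFree_Fk hπ hF h k
    have hg := hπ.good (H8Props.FinLocFree.isQCoh_of_isFinLocFree _ hF) h k
    have hT := finLocFree_push hπ hf fun i hi => hπ.van_self hg.1 hg.2 hi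
    haveI := hπ.epi_counit hg.1 hg.2
    have hS := shortExact_tw hπ.tw d (IsPn.shortExact_ker (π := π) (Fk π O F k))
    have hker := isFinLocFree_left (IsPn.shortExact_ker (π := π) (Fk π O F k)) (isFinLocFree_pullback π hT) hf
    have h1 : KRR.cl P (PB.tw O d (PP π (Fk π O F k))) =
        KRR.cl P (PB.tw O d (kernel (ε π (Fk π O F k)))) + KRR.cl P (PB.tw O d (Fk π O F k)) :=
      KModel.cl_add hS (hπ.finLocFree_tw d hker) (hπ.finLocFree_tw d (isFinLocFree_pullback π hT))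
        (hπ.finLocFree_tw d hf)
    rw [← hΨ d _ hT, eq_comm, ← eq_sub_iff_add_eq'] at h1
    rw [h1]
    refine R.sub_mem (hR d _) ?_
    obtain ⟨e⟩ := nonempty_tw_tw hπ.tw (d - 1) 1 d (by ring) (kernel (ε π (Fk π O F k)))
    rw [← KModel.cl_iso (X := P) e (hπ.finLocFree_tw (d - 1) (hπ.finLocFree_tw 1 hker))]
    exact cl_mem hπ Ψ hΨ R hR hF h j (k + 1) (by omega) (by omega) (d - 1)

/-- Generation. -/
theorem surjective [CompactSpace ↥X] (hE : FlatMod.IsFinLocFreeOfRank (r + 1) E) (hPB : KRR.IsProjBundle π E O1 q)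
    (hπ : IsPn r π O) (hO1 : Nonempty (O 1 ≅ O1))
    (Ψ : ℤ → (SGA6.Kvb X →+ SGA6.Kvb P))
    (hΨ : ∀ (d : ℤ) A, FlatMod.IsFinLocFree A →
      Ψ d (KRR.cl X A) = KRR.cl P (tw O d ((Scheme.Modules.pullback π).obj A))) :
    Function.Surjective (Φ fun i : Fin (r + 1) => Ψ ((i : ℕ) : ℤ)) := by
  let R := (Φ fun i : Fin (r + 1) => Ψ ((i : ℕ) : ℤ)).range
  have hR : ∀ d a, Ψ d a ∈ R := fun d a => term_mem hE hPB hπ.tw hO1 Ψ hΨ d.natAbs d (by omega) (by omega) a
  have key : ∀ F, FlatMod.IsFinLocFree F → KRR.cl P F ∈ R := fun F hF => by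
    haveI := hπ.isProper
    obtain ⟨m, hm⟩ := exists_reg_twist hπ hF
    have h := cl_mem hπ Ψ hΨ R hR (hπ.finLocFree_tw (m : ℤ) hF) (hm m le_rfl) (r + 1) 0 (by omega) (by omega) (-(m : ℤ))
    obtain ⟨e⟩ := nonempty_tw_tw hπ.tw (-(m : ℤ)) (m : ℤ) 0 (by ring) F
    obtain ⟨z⟩ := nonempty_tw_zero hπ.tw F
    rw [← KModel.cl_iso (e ≪≫ z) (hπ.finLocFree_tw _ (hπ.finLocFree_tw _ hF))]
    exact h
  intro x
  have hx : ((QuotientAddGroup.mk' R).comp (AddMonoidHom.id _)) x = 0 := by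
    have : (QuotientAddGroup.mk' R).comp (AddMonoidHom.id (SGA6.Kvb P)) = 0 := KModel.kvb_ext fun F hF =>
      (QuotientAddGroup.eq_zero_iff _).2 (key F hF)
    exact DFunLike.congr_fun this x
  exact (QuotientAddGroup.eq_zero_iff _).1 hx

/-- The structure of K₀ of a projective bundle. -/
theorem exists_bijective [CompactSpace ↥X] (hE : FlatMod.IsFinLocFreeOfRank (r + 1) E)
    (hPB : KRR.IsProjBundle π E O1 q) :
    ∃ (O : ℤ → P.Modules) (_ : IsTwistFamily O) (_ : Nonempty (O 1 ≅ O1))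
      (Ψ : ℤ → (SGA6.Kvb X →+ SGA6.Kvb P)),
      (∀ (d : ℤ) A, FlatMod.IsFinLocFree A →
        Ψ d (KRR.cl X A) = KRR.cl P (tw O d ((Scheme.Modules.pullback π).obj A))) ∧
      Function.Bijective (Φ fun i : Fin (r + 1) => Ψ ((i : ℕ) : ℤ)) := by
  have hL := isInvertible_of_rank_one hPB.invertible
  have hπ := isPn_of_isProjBundle hE hPB
  have hO1 := nonempty_pw_one hL
  choose Ψ hΨ using fun d => exists_term π hπ.tw d
  refine ⟨pw hL, hπ.tw, hO1, Ψ, hΨ, ⟨?_, surjective hE hPB hπ hO1 Ψ hΨ⟩⟩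
  refine (injective_iff_map_eq_zero _).2 fun a ha => ?_
  exact injective hE hPB hπ hO1 (fun i => Ψ ((i : ℕ) : ℤ)) (fun i => hΨ _) a ha

end Groth.Agent.H16Derived.PBQC
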