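import Groth.Agent.H16Derived.ShiftHom
import Mathlib.CategoryTheory.Triangulated.Triangulated
import Mathlib.CategoryTheory.Triangulated.TriangleShift
import Mathlib.Algebra.Homology.HomologicalComplex

/-!
# Postnikov systems

A Postnikov system is given by distinguished triangles
`Y (k+1) ⟶ X (k+1) ⟶ Y k ⟶ Y (k+1)⟦1⟧`. We compute vanishing of morphisms into and out of the
`Y k`, and compare morphisms of Postnikov systems.
-/

namespace Groth.Agent.H16Derived.Postnikov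

open CategoryTheory Category Limits Pretriangulated

universe v u

variable {D : Type u} [Category.{v} D] [Preadditive D] [HasZeroObject D] [HasShift D ℤ]
  [∀ n : ℤ, (shiftFunctor D n).Additive] [Pretriangulated D]

variable (D) in
/-- Equal indices give isomorphic shift functors. -/
noncomputable def shiftCongr {i j : ℤ} (h : i = j) : shiftFunctor D i ≅ shiftFunctor D j :=
  eqToIso (congrArg (shiftFunctor D) h)

section tower

variable {X Y : ℕ → D} (n : ℕ) (a : ∀ k, Y k ⟶ X k) (b : ∀ k, X (k + 1) ⟶ Y k)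
  (c : ∀ k, Y k ⟶ (Y (k + 1))⟦(1 : ℤ)⟧)

/-- The triangle `Y k⟦-1⟧⟦m⟧ ⟶ Y (k+1)⟦m⟧ ⟶ X (k+1)⟦m⟧`. -/
noncomputable abbrev fibTriangle (k : ℕ) (m : ℤ) : Triangle D :=
  (Triangle.shiftFunctor D m).obj (Triangle.mk (a (k + 1)) (b k) (c k)).invRotate

lemma fibTriangle_distinguished (hP : ∀ k, k < n → Triangle.mk (a (k + 1)) (b k) (c k) ∈ distTriang D)
    (k : ℕ) (hk : k < n) (m : ℤ) : fibTriangle a b c k m ∈ distTriang D :=
  Triangle.shift_distinguished _ (inv_rot_of_distTriang _ (hP k hk)) m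

variable (h0 : IsIso (a 0))
  (hP : ∀ k, k < n → Triangle.mk (a (k + 1)) (b k) (c k) ∈ distTriang D)

include h0 hP

lemma hom_to_eq_zero (W : D) : ∀ (j : ℕ), j ≤ n → ∀ (m : ℤ),
    (∀ l : ℕ, l ≤ j → ∀ f : W ⟶ (X l)⟦m - ((j : ℤ) - l)⟧, f = 0) →
      ∀ f : W ⟶ (Y j)⟦m⟧, f = 0 := by
  intro j
  induction j with
  | zero =>
    intro _ m h f
    exact hom_eq_zero_of_iso (Iso.refl W) ((shiftFunctor D m).mapIso (asIso (a 0))).symm
      (fun g => by
        refine hom_eq_zero_of_iso (Iso.refl W) ((shiftCongr D ?_).app (X 0))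
          (h 0 le_rfl) g
        push_cast; lia) f
  | succ j ih =>
    intro hj m h f
    have hT := fibTriangle_distinguished n a b c hP j (by lia) m
    obtain ⟨(u : W ⟶ ((Y j)⟦(-1 : ℤ)⟧)⟦m⟧), hu⟩ := Triangle.coyoneda_exact₂ _ hT f
      (hom_eq_zero_of_iso (Iso.refl W) (Iso.refl _) (fun g => by
        refine hom_eq_zero_of_iso (Iso.refl W) ((shiftCongr D ?_).app (X (j + 1)))
          (h (j + 1) le_rfl) g
        simp) _)
    have hu0 : u = 0 := hom_eq_zero_of_iso (Iso.refl W)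
      ((shiftFunctorAdd' D (-1) m (m - 1) (by lia)).app (Y j))
      (ih (by lia) (m - 1) fun l hl g =>
        hom_eq_zero_of_iso (Iso.refl W) ((shiftCongr D (by push_cast; lia)).app (X l))
          (h l (by lia)) g) u
    exact hu.trans (by rw [hu0]; exact zero_comp)

lemma hom_from_eq_zero (W : D) : ∀ (j : ℕ), j ≤ n → ∀ (m : ℤ),
    (∀ l : ℕ, l ≤ j → ∀ f : (X l)⟦m - ((j : ℤ) - l)⟧ ⟶ W, f = 0) →
      ∀ f : (Y j)⟦m⟧ ⟶ W, f = 0 := by
  intro j
  induction j with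
  | zero =>
    intro _ m h f
    exact hom_eq_zero_of_iso ((shiftFunctor D m).mapIso (asIso (a 0))).symm (Iso.refl W)
      (fun g => by
        refine hom_eq_zero_of_iso ((shiftCongr D ?_).app (X 0)) (Iso.refl W)
          (h 0 le_rfl) g
        push_cast; lia) f
  | succ j ih =>
    intro hj m h f
    have hT := fibTriangle_distinguished n a b c hP j (by lia) m
    obtain ⟨(u : (X (j + 1))⟦m⟧ ⟶ W), hu⟩ := Triangle.yoneda_exact₂ _ hT f
      (hom_eq_zero_of_iso ((shiftFunctorAdd' D (-1) m (m - 1) (by lia)).app (Y j)) (Iso.refl W)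
        (ih (by lia) (m - 1) fun l hl g =>
          hom_eq_zero_of_iso ((shiftCongr D (by push_cast; lia)).app (X l)) (Iso.refl W)
            (h l (by lia)) g) _)
    have hu0 : u = 0 := by
      refine hom_eq_zero_of_iso ((shiftCongr D ?_).app (X (j + 1))) (Iso.refl W)
        (h (j + 1) le_rfl) u
      simp
    exact hu.trans (by rw [hu0]; exact comp_zero)

end tower

section morphisms

variable {X Y X' Y' : ℕ → D} {a : ∀ k, Y k ⟶ X k} {b : ∀ k, X (k + 1) ⟶ Y k}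
  {c : ∀ k, Y k ⟶ (Y (k + 1))⟦(1 : ℤ)⟧} {a' : ∀ k, Y' k ⟶ X' k} {b' : ∀ k, X' (k + 1) ⟶ Y' k}
  {c' : ∀ k, Y' k ⟶ (Y' (k + 1))⟦(1 : ℤ)⟧}

/-- The difference `δ` of two morphisms of Postnikov systems over the same map on the `X`s
commutes with the maps `Y k⟦-1⟧⟦m⟧ ⟶ Y (k+1)⟦m⟧`. -/
lemma fib_naturality (k : ℕ) (m : ℤ) (δ₁ : Y (k + 1) ⟶ Y' (k + 1)) (δ₀ : Y k ⟶ Y' k)
    (h₁ : δ₁ ≫ a' (k + 1) = 0) (h₂ : b k ≫ δ₀ = 0) (h₃ : c k ≫ δ₁⟦(1 : ℤ)⟧' = δ₀ ≫ c' k) :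
    (fibTriangle a b c k m).mor₁ ≫ δ₁⟦m⟧' =
      (δ₀⟦(-1 : ℤ)⟧')⟦m⟧' ≫ (fibTriangle a' b' c' k m).mor₁ := by
  let Φ : Triangle.mk (a (k + 1)) (b k) (c k) ⟶ Triangle.mk (a' (k + 1)) (b' k) (c' k) :=
    Triangle.homMk _ _ δ₁ 0 δ₀
      (show a (k + 1) ≫ (0 : X (k + 1) ⟶ X' (k + 1)) = δ₁ ≫ a' (k + 1) by rw [h₁, comp_zero])
      (show b k ≫ δ₀ = (0 : X (k + 1) ⟶ X' (k + 1)) ≫ b' k by rw [h₂, zero_comp])
      h₃
  exact ((Triangle.shiftFunctor D m).map ((Pretriangulated.invRotate D).map Φ)).comm₁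

variable (n : ℕ) (hP : ∀ k, k < n → Triangle.mk (a (k + 1)) (b k) (c k) ∈ distTriang D)
  (h0' : IsIso (a' 0)) (δ : ∀ k, Y k ⟶ Y' k) (ha : ∀ k, k ≤ n → δ k ≫ a' k = 0)
  (hb : ∀ k, k < n → b k ≫ δ k = 0) (hc : ∀ k, k < n → c k ≫ (δ (k + 1))⟦(1 : ℤ)⟧' = δ k ≫ c' k)

include hP h0' ha hb hc

/-- The difference of two morphisms of Postnikov systems, followed by any map to `W`, vanishes
when there are no maps from the shifted `X l`, `1 ≤ l`, to `W`. -/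
lemma diff_comp_eq_zero (W : D) : ∀ (k : ℕ), k ≤ n → ∀ (m : ℤ),
    (∀ l : ℕ, 1 ≤ l → l ≤ k → ∀ f : (X l)⟦m - ((k : ℤ) - l)⟧ ⟶ W, f = 0) →
      ∀ ψ : (Y' k)⟦m⟧ ⟶ W, (δ k)⟦m⟧' ≫ ψ = 0 := by
  intro k
  induction k with
  | zero =>
    intro hk m _ ψ
    have : δ 0 = 0 := by rw [← cancel_mono (a' 0), zero_comp, ha 0 hk]
    rw [this, Functor.map_zero, zero_comp]
  | succ k ih =>
    intro hk m h ψ
    have hT := fibTriangle_distinguished n a b c hP k (by lia) m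
    have hnat := fib_naturality (a := a) (b' := fun _ => 0) k m (δ (k + 1)) (δ k) (ha _ hk)
      (hb k (by lia)) (hc k (by lia))
    have key : ∀ ψ' : ((Y' k)⟦(-1 : ℤ)⟧)⟦m⟧ ⟶ W, ((δ k)⟦(-1 : ℤ)⟧')⟦m⟧' ≫ ψ' = 0 := by
      intro ψ'
      let e := shiftFunctorAdd' D (-1) m (m - 1) (by lia)
      have hnat' : ((δ k)⟦(-1 : ℤ)⟧')⟦m⟧' ≫ e.inv.app (Y' k) = e.inv.app (Y k) ≫ (δ k)⟦m - 1⟧' :=
        e.inv.naturality (δ k)
      have h' := ih (by lia) (m - 1)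
        (fun l hl hl' f => hom_eq_zero_of_iso
          ((shiftCongr D (by push_cast; lia)).app (X l)) (Iso.refl W) (h l hl (by lia)) f)
        (e.hom.app (Y' k) ≫ ψ')
      rw [← cancel_epi (e.hom.app (Y k)), comp_zero]
      refine Eq.trans ?_ h'
      rw [← assoc, ← assoc]
      congr 1
      exact (e.hom.naturality (δ k)).symm
    obtain ⟨(u : (X (k + 1))⟦m⟧ ⟶ W), (hu : (δ (k + 1))⟦m⟧' ≫ ψ = _ ≫ u)⟩ :=
      Triangle.yoneda_exact₂ _ hT ((δ (k + 1))⟦m⟧' ≫ ψ) (by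
        refine (assoc _ _ _).symm.trans ?_
        refine (congrArg (· ≫ ψ) hnat).trans ?_
        exact (assoc _ _ _).trans (key _))
    have hu0 : u = 0 := by
      refine hom_eq_zero_of_iso ((shiftCongr D ?_).app (X (k + 1))) (Iso.refl W)
        (h (k + 1) (by lia) le_rfl) u
      simp
    rw [hu, hu0]
    exact comp_zero

/-- The difference of two morphisms of Postnikov systems vanishes everywhere. -/
lemma diff_eq_zero (h0 : IsIso (a 0))
    (hP' : ∀ k, k < n → Triangle.mk (a' (k + 1)) (b' k) (c' k) ∈ distTriang D)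
    (hv₁ : ∀ k l : ℕ, l ≤ k → k < n → ∀ f : (X l)⟦(l : ℤ) - k⟧ ⟶ X' (k + 1), f = 0)
    (hv₂ : ∀ k l : ℕ, l ≤ k → k < n → ∀ f : X (k + 1) ⟶ (X' l)⟦(l : ℤ) - k - 1⟧, f = 0) :
    ∀ k, k ≤ n → δ k = 0 := by
  intro k
  induction k with
  | zero =>
    intro hk
    rw [← cancel_mono (a' 0), zero_comp, ha 0 hk]
  | succ k ih =>
    intro hk
    have hδ := ih (by lia)
    have hT := inv_rot_of_distTriang _ (hP k (by lia))
    let Φ : Triangle.mk (a (k + 1)) (b k) (c k) ⟶ Triangle.mk (a' (k + 1)) (b' k) (c' k) :=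
      Triangle.homMk _ _ (δ (k + 1)) 0 (δ k)
        (show a (k + 1) ≫ (0 : X (k + 1) ⟶ X' (k + 1)) = δ (k + 1) ≫ a' (k + 1) by
          rw [ha _ hk, comp_zero])
        (show b k ≫ δ k = (0 : X (k + 1) ⟶ X' (k + 1)) ≫ b' k by
          rw [hb k (by lia), zero_comp])
        (hc k (by lia))
    obtain ⟨(w : X (k + 1) ⟶ Y' (k + 1)), (hw : δ (k + 1) = a (k + 1) ≫ w)⟩ :=
      Triangle.yoneda_exact₂ _ hT (δ (k + 1)) (by
        have h : _ ≫ δ (k + 1) = (δ k)⟦(-1 : ℤ)⟧' ≫ _ := ((Pretriangulated.invRotate D).map Φ).comm₁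
        refine h.trans ?_
        rw [hδ, Functor.map_zero]
        exact zero_comp)
    obtain ⟨(u : Y k ⟶ X' (k + 1)), (hu : w ≫ a' (k + 1) = b k ≫ u)⟩ :=
      Triangle.yoneda_exact₂ _ (hP k (by lia)) (w ≫ a' (k + 1))
        (show a (k + 1) ≫ w ≫ a' (k + 1) = 0 by rw [← assoc, ← hw, ha _ hk])
    have hu0 : u = 0 := hom_eq_zero_of_iso ((shiftFunctorZero D ℤ).app (Y k)) (Iso.refl _)
      (hom_from_eq_zero n a b c h0 hP _ k (by lia) 0 fun l hl f =>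
        hom_eq_zero_of_iso ((shiftCongr D (by lia)).app (X l)) (Iso.refl _)
          (hv₁ k l hl (by lia)) f) u
    rw [hu0, comp_zero] at hu
    obtain ⟨(r : X (k + 1) ⟶ (Y' k)⟦(-1 : ℤ)⟧), (hr : w = r ≫ _)⟩ :=
      Triangle.coyoneda_exact₂ _ (inv_rot_of_distTriang _ (hP' k (by lia))) w hu
    have hr0 : r = 0 := hom_to_eq_zero n a' b' c' h0' hP' _ k (by lia) (-1)
      (fun l hl f => hom_eq_zero_of_iso (Iso.refl _)
        ((shiftCongr D (by lia)).app (X' l)) (hv₂ k l hl (by lia)) f) r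
    rw [hw, hr, hr0, zero_comp, comp_zero]

end morphisms

end Groth.Agent.H16Derived.Postnikov
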