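import Groth.Agent.H16Derived.EssConst
import Groth.Agent.H16Derived.DTrunc
import Mathlib.CategoryTheory.Abelian.Basic

/-!
# Pro-isomorphisms of inverse systems in triangulated and derived categories
-/

universe w v u v' u'

open CategoryTheory CategoryTheory.Limits CategoryTheory.Pretriangulated
  CategoryTheory.Triangulated Opposite

set_option linter.unusedSectionVars false

namespace Groth.Agent.H16Derived.ProIso

open EssConst

variable {C : Type u} [Category.{v} C]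

lemma tr_nat {X Y : ARSys.PS C} (f : X ⟶ Y) {n m : ℕ} (h : n ≤ m) :
    ARSys.tr X h ≫ f.app (op n) = f.app (op m) ≫ ARSys.tr Y h :=
  f.naturality _

lemma map_functor {D : Type u'} [Category.{v'} D] (F : C ⥤ D) {X Y : ARSys.PS C} {a : X ⟶ Y}
    (h : DerCA.IsProIso a) : DerCA.IsProIso (Functor.whiskerRight a F) := fun n => by
  obtain ⟨m, hm, b, h1, h2⟩ := h n
  exact ⟨m, hm, F.map b, (F.map_comp _ _).symm.trans (congrArg F.map h1),
    (F.map_comp _ _).symm.trans (congrArg F.map h2)⟩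

lemma of_square {X Y X' Y' : ARSys.PS C} {a : X ⟶ Y} {a' : X' ⟶ Y'} (eX : X ⟶ X') (eY : Y ⟶ Y')
    [∀ n, IsIso (eX.app n)] [∀ n, IsIso (eY.app n)] (w : a ≫ eY = eX ≫ a')
    (h : DerCA.IsProIso a) : DerCA.IsProIso a' := fun n => by
  obtain ⟨m, hm, b, h1, h2⟩ := h n
  have hw : ∀ k, a.app k ≫ eY.app k = eX.app k ≫ a'.app k := fun k =>
    congrArg (fun t => t.app k) w
  refine ⟨m, hm, inv (eY.app (op m)) ≫ b ≫ eX.app (op n), ?_, ?_⟩
  · rw [← cancel_epi (eX.app (op m)), ← reassoc_of% (hw (op m)), IsIso.hom_inv_id_assoc,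
      ← Category.assoc, h1]
    exact eX.naturality _
  · rw [← cancel_epi (eY.app (op m)), Category.assoc, Category.assoc, IsIso.hom_inv_id_assoc,
      ← hw (op n), ← Category.assoc, h2]
    exact eY.naturality _

section Zero

variable [HasZeroMorphisms C]

lemma of_isZero {X Y : ARSys.PS C} (a : X ⟶ Y) (hX : ∀ n, IsZero (X.obj (op n)))
    (hY : ∀ n, IsZero (Y.obj (op n))) : DerCA.IsProIso a := fun n =>
  ⟨n, le_rfl, 0, (hX n).eq_of_src _ _, (hY n).eq_of_src _ _⟩

end Zero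

lemma inj_of_proIso {X Y : ARSys.PS C} [HasZeroMorphisms C] {a : X ⟶ Y} (h : DerCA.IsProIso a)
    {n : ℕ} {W : C} (φ : Y.obj (op n) ⟶ W) (hφ : a.app (op n) ≫ φ = 0) :
    ∃ (m : ℕ) (hm : n ≤ m), ARSys.tr Y hm ≫ φ = 0 := by
  obtain ⟨m, hm, b, -, h2⟩ := h n
  exact ⟨m, hm, by rw [← h2, Category.assoc, hφ, comp_zero]⟩

lemma surj_of_proIso {X Y : ARSys.PS C} {a : X ⟶ Y} (h : DerCA.IsProIso a)
    {n : ℕ} {W : C} (φ : X.obj (op n) ⟶ W) :
    ∃ (m : ℕ) (hm : n ≤ m) (ψ : Y.obj (op m) ⟶ W), a.app (op m) ≫ ψ = ARSys.tr X hm ≫ φ := by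
  obtain ⟨m, hm, b, h1, -⟩ := h n
  exact ⟨m, hm, b ≫ φ, by rw [← Category.assoc, h1]⟩

lemma proIso_of_inj_surj [Preadditive C] {X Y : ARSys.PS C} {a : X ⟶ Y}
    (hinj : ∀ (n : ℕ) (W : C) (φ : Y.obj (op n) ⟶ W), a.app (op n) ≫ φ = 0 →
      ∃ (m : ℕ) (hm : n ≤ m), ARSys.tr Y hm ≫ φ = 0)
    (hsurj : ∀ (n : ℕ) (W : C) (φ : X.obj (op n) ⟶ W),
      ∃ (m : ℕ) (hm : n ≤ m) (ψ : Y.obj (op m) ⟶ W), a.app (op m) ≫ ψ = ARSys.tr X hm ≫ φ) :
    DerCA.IsProIso a := fun n => by
  obtain ⟨m, hm, b, hb⟩ := hsurj n _ (𝟙 (X.obj (op n)))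
  rw [Category.comp_id] at hb
  obtain ⟨l, hl, hl'⟩ := hinj m _ (b ≫ a.app (op n) - ARSys.tr Y hm) (by
    rw [Preadditive.comp_sub, ← Category.assoc, hb, tr_nat, sub_self])
  refine ⟨l, hm.trans hl, ARSys.tr Y hl ≫ b, ?_, ?_⟩
  · rw [← Category.assoc, ← tr_nat, Category.assoc, hb, tr_trans]
  · rw [Preadditive.comp_sub, sub_eq_zero, tr_trans] at hl'
    rw [Category.assoc, hl']

section EssConstant

variable [Preadditive C]

lemma isEssConstant_iff_proIso {X : ARSys.PS C} {A : C}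
    (c : (Functor.const ℕᵒᵖ).obj A ⟶ X) : DerCA.IsEssConstant X A c ↔ DerCA.IsProIso c := by
  constructor
  · intro h n
    obtain ⟨V, rfl⟩ := exists_val h
    obtain ⟨k, hk, hi, h⟩ := V.deep n
    exact ⟨k, hk, V.s k hi, V.c_s k hi, h.symm⟩
  · intro h
    obtain ⟨i, hi, s, h1, -⟩ := h 0
    have hcs : c.app (op i) ≫ s = 𝟙 A := h1
    refine ⟨i, s, hcs, fun j => ?_⟩
    obtain ⟨l, hl, b, hb, hb'⟩ := h (max i j)
    have hb₁ : c.app (op l) ≫ b = 𝟙 A := hb
    refine ⟨l, (le_max_left i j).trans hl, (le_max_right i j).trans hl, ?_⟩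
    have e : ARSys.tr X ((le_max_left i j).trans hl) ≫ s = b := by
      rw [← tr_trans X (le_max_left i j) hl, ← hb', Category.assoc, Category.assoc,
        reassoc_of% (cone_tr c (le_max_left i j)), hcs]
      exact Category.comp_id b
    rw [← Category.assoc, e, ← tr_trans X (le_max_right i j) hl, ← hb', Category.assoc,
      cone_tr c (le_max_right i j)]

end EssConstant

section Tri

variable [Preadditive C] [HasZeroObject C] [HasShift C ℤ]
  [∀ n : ℤ, (shiftFunctor C n).Additive] [Pretriangulated C]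

/-- The five lemma. -/
theorem five {X₁ X₂ X₃ Y₁ Y₂ Y₃ : ARSys.PS C} (f : X₁ ⟶ X₂) (g : X₂ ⟶ X₃)
    (h : X₃ ⟶ X₁ ⋙ shiftFunctor C (1 : ℤ)) (f' : Y₁ ⟶ Y₂) (g' : Y₂ ⟶ Y₃)
    (h' : Y₃ ⟶ Y₁ ⋙ shiftFunctor C (1 : ℤ))
    (hX : ∀ n, Triangle.mk (f.app (op n)) (g.app (op n)) (h.app (op n)) ∈ distTriang C)
    (hY : ∀ n, Triangle.mk (f'.app (op n)) (g'.app (op n)) (h'.app (op n)) ∈ distTriang C)
    (a : X₁ ⟶ Y₁) (b : X₂ ⟶ Y₂) (c : X₃ ⟶ Y₃)
    (w₁ : f ≫ b = a ≫ f') (w₂ : g ≫ c = b ≫ g')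
    (w₃ : h ≫ Functor.whiskerRight a _ = c ≫ h')
    (ha : DerCA.IsProIso a) (hc : DerCA.IsProIso c) : DerCA.IsProIso b := by
  let S : C ⥤ C := shiftFunctor C (1 : ℤ)
  have haS : DerCA.IsProIso (Functor.whiskerRight a S) := map_functor S ha
  have q₁ : ∀ k, f.app (op k) ≫ b.app (op k) = a.app (op k) ≫ f'.app (op k) := fun k =>
    congrArg (fun t => t.app (op k)) w₁
  have q₂ : ∀ k, g.app (op k) ≫ c.app (op k) = b.app (op k) ≫ g'.app (op k) := fun k =>
    congrArg (fun t => t.app (op k)) w₂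
  have q₃ : ∀ k, h.app (op k) ≫ S.map (a.app (op k)) = c.app (op k) ≫ h'.app (op k) := fun k =>
    congrArg (fun t => t.app (op k)) w₃
  have z₁ : ∀ k, f.app (op k) ≫ g.app (op k) = 0 := fun k =>
    comp_distTriang_mor_zero₁₂ _ (hX k)
  have z₂' : ∀ k, g'.app (op k) ≫ h'.app (op k) = 0 := fun k =>
    comp_distTriang_mor_zero₂₃ _ (hY k)
  have z₃ : ∀ k, h.app (op k) ≫ S.map (f.app (op k)) = 0 := fun k =>
    comp_distTriang_mor_zero₃₁ _ (hX k)
  refine proIso_of_inj_surj (fun n W φ hφ => ?_) (fun n W φ => ?_)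
  · obtain ⟨m, hm, e1⟩ := inj_of_proIso ha (f'.app (op n) ≫ φ)
      (by rw [← reassoc_of% (q₁ n), hφ, comp_zero])
    rw [reassoc_of% (tr_nat f' hm)] at e1
    obtain ⟨γ₀, hγ⟩ := Triangle.yoneda_exact₂ _ (hY m) (ARSys.tr Y₂ hm ≫ φ) e1
    let γ : Y₃.obj (op m) ⟶ W := γ₀
    have hγ' : ARSys.tr Y₂ hm ≫ φ = g'.app (op m) ≫ γ := hγ
    have e2 : g.app (op m) ≫ c.app (op m) ≫ γ = 0 := by
      rw [reassoc_of% (q₂ m), ← hγ', ← reassoc_of% (tr_nat b hm), hφ, comp_zero]
    obtain ⟨u₀, hu⟩ := Triangle.yoneda_exact₃ _ (hX m) (c.app (op m) ≫ γ) e2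
    let u : S.obj (X₁.obj (op m)) ⟶ W := u₀
    have hu' : c.app (op m) ≫ γ = h.app (op m) ≫ u := hu
    obtain ⟨m', hm', v₀, hv⟩ := surj_of_proIso haS (n := m) u
    let v : S.obj (Y₁.obj (op m')) ⟶ W := v₀
    have hv' : S.map (a.app (op m')) ≫ v = S.map (ARSys.tr X₁ hm') ≫ u := hv
    obtain ⟨m'', hm'', e3⟩ := inj_of_proIso hc (ARSys.tr Y₃ hm' ≫ γ - h'.app (op m') ≫ v) (by
      have hn : ARSys.tr X₃ hm' ≫ h.app (op m) = h.app (op m') ≫ S.map (ARSys.tr X₁ hm') :=
        h.naturality _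
      rw [Preadditive.comp_sub, ← reassoc_of% (q₃ m'), hv', ← reassoc_of% hn, ← hu',
        reassoc_of% (tr_nat c hm'), sub_self])
    rw [Preadditive.comp_sub, sub_eq_zero] at e3
    refine ⟨m'', hm.trans (hm'.trans hm''), ?_⟩
    rw [← tr_trans Y₂ hm (hm'.trans hm''), Category.assoc, hγ',
      reassoc_of% (tr_nat g' (hm'.trans hm'')), ← tr_trans Y₃ hm' hm'', Category.assoc, e3,
      ← reassoc_of% (tr_nat g' hm''), reassoc_of% (z₂' m'), zero_comp, comp_zero]
  · obtain ⟨m, hm, ψ, hψ⟩ := surj_of_proIso ha (f.app (op n) ≫ φ)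
    have e1 : c.app (op m) ≫ h'.app (op m) ≫ S.map ψ = 0 := by
      rw [← reassoc_of% (q₃ m), ← S.map_comp, hψ, reassoc_of% (tr_nat f hm), S.map_comp,
        reassoc_of% (z₃ m), zero_comp]
    obtain ⟨m₁, hm₁, e2⟩ := inj_of_proIso hc (h'.app (op m) ≫ S.map ψ) e1
    have hn : ARSys.tr Y₃ hm₁ ≫ h'.app (op m) = h'.app (op m₁) ≫ S.map (ARSys.tr Y₁ hm₁) :=
      h'.naturality _
    rw [reassoc_of% hn, ← S.map_comp] at e2
    obtain ⟨w₀, hw⟩ := Triangle.yoneda_exact₂ _
      (rot_of_distTriang _ (rot_of_distTriang _ (hY m₁))) (S.map (ARSys.tr Y₁ hm₁ ≫ ψ)) e2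
    let wt : S.obj (Y₂.obj (op m₁)) ⟶ S.obj W := w₀
    let ψ₂ := -(S.preimage wt)
    have hψ₂ : f'.app (op m₁) ≫ ψ₂ = ARSys.tr Y₁ hm₁ ≫ ψ := S.map_injective (by
      have hw' : S.map (ARSys.tr Y₁ hm₁ ≫ ψ) = (-(S.map (f'.app (op m₁)))) ≫ wt := hw
      rw [hw', S.map_comp, Functor.map_neg, S.map_preimage, Preadditive.comp_neg,
        Preadditive.neg_comp])
    have e3 : f.app (op m₁) ≫ (ARSys.tr X₂ (hm.trans hm₁) ≫ φ - b.app (op m₁) ≫ ψ₂) = 0 := by
      rw [Preadditive.comp_sub, reassoc_of% (q₁ m₁), hψ₂, ← reassoc_of% (tr_nat a hm₁), hψ,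
        ← reassoc_of% (tr_nat f (hm.trans hm₁)), ← Category.assoc (ARSys.tr X₁ hm₁), tr_trans,
        sub_self]
    obtain ⟨γ₀, hγ⟩ := Triangle.yoneda_exact₂ _ (hX m₁) _ e3
    let γ : X₃.obj (op m₁) ⟶ W := γ₀
    have hγ' : ARSys.tr X₂ (hm.trans hm₁) ≫ φ - b.app (op m₁) ≫ ψ₂ = g.app (op m₁) ≫ γ := hγ
    obtain ⟨m₂, hm₂, γ', hγc⟩ := surj_of_proIso hc γ
    refine ⟨m₂, (hm.trans hm₁).trans hm₂, ARSys.tr Y₂ hm₂ ≫ ψ₂ + g'.app (op m₂) ≫ γ', ?_⟩
    rw [Preadditive.comp_add, ← reassoc_of% (q₂ m₂), hγc, ← reassoc_of% (tr_nat g hm₂), ← hγ',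
      ← reassoc_of% (tr_nat b hm₂), Preadditive.comp_sub,
      ← Category.assoc (ARSys.tr X₂ hm₂) (ARSys.tr X₂ (hm.trans hm₁)), tr_trans]
    abel

end Tri

section Derived

open DerivedCategory DerivedCategory.TStructure

variable {A : Type u'} [Category.{v'} A] [Abelian A] [HasDerivedCategory.{w} A]

lemma exists_map_eq {X W : DerivedCategory A} (m : ℤ) [X.IsGE m] [X.IsLE m] [W.IsGE m] [W.IsLE m]
    (φ : (homologyFunctor A m).obj X ⟶ (homologyFunctor A m).obj W) :
    ∃ g : X ⟶ W, (homologyFunctor A m).map g = φ := by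
  obtain ⟨M, ⟨e⟩⟩ := X.exists_iso_singleFunctor_obj_of_isGE_of_isLE m
  obtain ⟨N, ⟨e'⟩⟩ := W.exists_iso_singleFunctor_obj_of_isGE_of_isLE m
  let σ := singleFunctorCompHomologyFunctorIso A m
  let ψ : M ⟶ N := σ.inv.app M ≫ (homologyFunctor A m).map e.inv ≫ φ ≫
    (homologyFunctor A m).map e'.hom ≫ σ.hom.app N
  refine ⟨e.hom ≫ (singleFunctor A m).map ψ ≫ e'.inv, ?_⟩
  have h1 : (homologyFunctor A m).map ((singleFunctor A m).map ψ) =
      σ.hom.app M ≫ ψ ≫ σ.inv.app N := by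
    rw [← Category.assoc]
    have := σ.hom.naturality ψ
    simp only [Functor.comp_map, Functor.id_map] at this
    rw [← this, Category.assoc, Iso.hom_inv_id_app]
    exact (Category.comp_id _).symm
  rw [Functor.map_comp, Functor.map_comp, h1]
  simp only [ψ, Category.assoc, Iso.hom_inv_id_app, Iso.hom_inv_id_app_assoc]
  simp [← Functor.map_comp, ← Functor.map_comp_assoc]

lemma map_injective {X W : DerivedCategory A} (m : ℤ) [X.IsGE m] [X.IsLE m] [W.IsGE m] [W.IsLE m]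
    {g g' : X ⟶ W} (h : (homologyFunctor A m).map g = (homologyFunctor A m).map g') : g = g' :=
  sub_eq_zero.1 (DTrunc.eq_zero_of_heart _ m (by rw [Functor.map_sub, h, sub_self]))

lemma proIso_heart {X Y : ARSys.PS (DerivedCategory A)} (f : X ⟶ Y) (m : ℤ)
    [∀ n, (X.obj n).IsGE m] [∀ n, (X.obj n).IsLE m] [∀ n, (Y.obj n).IsGE m]
    [∀ n, (Y.obj n).IsLE m] (h : DerCA.IsProIso (Functor.whiskerRight f (homologyFunctor A m))) :
    DerCA.IsProIso f := fun n => by
  obtain ⟨k, hk, b, h1, h2⟩ := h n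
  obtain ⟨g, hg⟩ := exists_map_eq m (X := Y.obj (op k)) (W := X.obj (op n)) b
  refine ⟨k, hk, g, map_injective m ?_, map_injective m ?_⟩
  · rw [Functor.map_comp, hg]; exact h1
  · rw [Functor.map_comp, hg]; exact h2

lemma val_heart {X : ARSys.PS (DerivedCategory A)} (m : ℤ)
    [∀ n, (X.obj n).IsGE m] [∀ n, (X.obj n).IsLE m]
    (h : ∃ (B : A) (c : (Functor.const ℕᵒᵖ).obj B ⟶ X ⋙ homologyFunctor A m),
      DerCA.IsEssConstant (X ⋙ homologyFunctor A m) B c) :
    ∃ (L : DerivedCategory A) (c : (Functor.const ℕᵒᵖ).obj L ⟶ X),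
      DerCA.IsEssConstant X L c := by
  obtain ⟨B, c, hc⟩ := h
  let L := (singleFunctor A m).obj B
  let σ := (singleFunctorCompHomologyFunctorIso A m).app B
  choose g hg using fun n => exists_map_eq m (X := L) (W := X.obj n) (σ.hom ≫ c.app n)
  let c' : (Functor.const ℕᵒᵖ).obj L ⟶ X :=
    { app := g
      naturality := fun n n' φ => by
        refine (Category.id_comp _).trans (map_injective m ?_)
        rw [Functor.map_comp, hg, hg, Category.assoc]
        exact congrArg (σ.hom ≫ ·) ((Category.id_comp _).symm.trans (c.naturality φ)) }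
  have : ∀ n, DerivedCategory.IsGE (((Functor.const ℕᵒᵖ).obj L).obj n) m := fun n =>
    inferInstanceAs (L.IsGE m)
  have : ∀ n, DerivedCategory.IsLE (((Functor.const ℕᵒᵖ).obj L).obj n) m := fun n =>
    inferInstanceAs (L.IsLE m)
  refine ⟨L, c', (isEssConstant_iff_proIso _).2 (proIso_heart c' m ?_)⟩
  let eX : (Functor.const ℕᵒᵖ).obj B ⟶ (Functor.const ℕᵒᵖ).obj L ⋙ homologyFunctor A m :=
    { app := fun _ => σ.inv
      naturality := fun _ _ _ => by
        refine (Category.id_comp _).trans ?_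
        exact ((congrArg (σ.inv ≫ ·) ((homologyFunctor A m).map_id L)).trans
          (Category.comp_id _)).symm }
  have : ∀ n, IsIso (eX.app n) := fun n => inferInstanceAs (IsIso σ.inv)
  refine of_square eX (𝟙 _) ?_ ((isEssConstant_iff_proIso _).1 hc)
  ext n
  change c.app n ≫ 𝟙 _ = σ.inv ≫ (homologyFunctor A m).map (g n)
  rw [hg, Iso.inv_hom_id_assoc]
  exact Category.comp_id _

/-- The system of left truncations. -/
noncomputable abbrev lt (X : ARSys.PS (DerivedCategory A)) (n : ℤ) :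
    ARSys.PS (DerivedCategory A) := X ⋙ t.truncLT n

/-- The system of right truncations. -/
noncomputable abbrev ge (X : ARSys.PS (DerivedCategory A)) (n : ℤ) :
    ARSys.PS (DerivedCategory A) := X ⋙ t.truncGE n

lemma proIso_lt {X Y : ARSys.PS (DerivedCategory A)} (f : X ⟶ Y) (n i : ℤ)
    (h : DerCA.IsProIso (Functor.whiskerRight f (homologyFunctor A i))) :
    DerCA.IsProIso (Functor.whiskerRight (Functor.whiskerRight f (t.truncLT n))
      (homologyFunctor A i)) := by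
  rcases lt_or_ge i n with hi | hi
  · let e : ∀ Z : ARSys.PS (DerivedCategory A), Z ⋙ homologyFunctor A i ⟶
        lt Z n ⋙ homologyFunctor A i := fun Z =>
      haveI : ∀ k, IsIso ((homologyFunctor A i).map ((t.truncLTι n).app (Z.obj k))) := fun k =>
        DTrunc.isIso_homology_truncLTι _ n i hi
      { app := fun k => inv ((homologyFunctor A i).map ((t.truncLTι n).app (Z.obj k)))
        naturality := fun k l φ => by
          rw [IsIso.comp_inv_eq, Category.assoc, IsIso.eq_inv_comp]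
          change _ = (homologyFunctor A i).map ((t.truncLT n).map (Z.map φ)) ≫ _
          rw [← Functor.map_comp, NatTrans.naturality, Functor.id_map, Functor.map_comp]
          rfl }
    have : ∀ (Z : ARSys.PS (DerivedCategory A)) k, IsIso ((e Z).app k) := fun Z k => by
      have := DTrunc.isIso_homology_truncLTι (Z.obj k) n i hi
      dsimp [e]; infer_instance
    refine of_square (e X) (e Y) ?_ h
    ext k
    have := DTrunc.isIso_homology_truncLTι (X.obj k) n i hi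
    have := DTrunc.isIso_homology_truncLTι (Y.obj k) n i hi
    change (homologyFunctor A i).map (f.app k) ≫ inv _ =
      inv _ ≫ (homologyFunctor A i).map ((t.truncLT n).map (f.app k))
    rw [IsIso.comp_inv_eq, Category.assoc, IsIso.eq_inv_comp, ← Functor.map_comp,
      ← Functor.map_comp, NatTrans.naturality]
    rfl
  · have : ∀ Z : DerivedCategory A, IsZero ((homologyFunctor A i).obj ((t.truncLT n).obj Z)) :=
      fun Z => by
        have : DerivedCategory.IsLE ((t.truncLT n).obj Z) (n - 1) :=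
          inferInstanceAs (t.IsLE _ (n - 1))
        exact DerivedCategory.isZero_of_isLE _ (n - 1) i (by lia)
    exact of_isZero _ (fun k => this _) fun k => this _

lemma proIso_ge {X Y : ARSys.PS (DerivedCategory A)} (f : X ⟶ Y) (n i : ℤ)
    (h : DerCA.IsProIso (Functor.whiskerRight f (homologyFunctor A i))) :
    DerCA.IsProIso (Functor.whiskerRight (Functor.whiskerRight f (t.truncGE n))
      (homologyFunctor A i)) := by
  rcases le_or_gt n i with hi | hi
  · let e : ∀ Z : ARSys.PS (DerivedCategory A), Z ⋙ homologyFunctor A i ⟶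
        ge Z n ⋙ homologyFunctor A i := fun Z =>
      Functor.whiskerRight (Functor.whiskerLeft Z (t.truncGEπ n)) (homologyFunctor A i)
    have : ∀ (Z : ARSys.PS (DerivedCategory A)) k, IsIso ((e Z).app k) := fun Z k =>
      DTrunc.isIso_homology_truncGEπ (Z.obj k) n i hi
    refine of_square (e X) (e Y) ?_ h
    ext k
    change (homologyFunctor A i).map (f.app k) ≫ (homologyFunctor A i).map _ =
      (homologyFunctor A i).map _ ≫ (homologyFunctor A i).map ((t.truncGE n).map (f.app k))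
    rw [← Functor.map_comp, ← Functor.map_comp]
    exact congrArg (homologyFunctor A i).map ((t.truncGEπ n).naturality (f.app k))
  · have : ∀ Z : DerivedCategory A, IsZero ((homologyFunctor A i).obj ((t.truncGE n).obj Z)) :=
      fun Z => by
        have : DerivedCategory.IsGE ((t.truncGE n).obj Z) n := inferInstanceAs (t.IsGE _ n)
        exact DerivedCategory.isZero_of_isGE _ n i hi
    exact of_isZero _ (fun k => this _) fun k => this _

/-- The truncation maps of systems. -/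
noncomputable abbrev tι (X : ARSys.PS (DerivedCategory A)) (n : ℤ) : lt X n ⟶ X :=
  { app := fun k => (t.truncLTι n).app (X.obj k)
    naturality := fun _ _ φ => (t.truncLTι n).naturality (X.map φ) }

/-- The truncation maps of systems. -/
noncomputable abbrev tπ (X : ARSys.PS (DerivedCategory A)) (n : ℤ) : X ⟶ ge X n :=
  { app := fun k => (t.truncGEπ n).app (X.obj k)
    naturality := fun _ _ φ => (t.truncGEπ n).naturality (X.map φ) }

/-- The connecting maps of systems. -/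
noncomputable abbrev tδ (X : ARSys.PS (DerivedCategory A)) (n : ℤ) :
    ge X n ⟶ lt X n ⋙ shiftFunctor _ (1 : ℤ) :=
  { app := fun k => (t.truncGEδLT n).app (X.obj k)
    naturality := fun _ _ φ => (t.truncGEδLT n).naturality (X.map φ) }

lemma tri (X : ARSys.PS (DerivedCategory A)) (n : ℤ) (k : ℕ) :
    Triangle.mk ((tι X n).app (op k)) ((tπ X n).app (op k)) ((tδ X n).app (op k)) ∈
      distTriang (DerivedCategory A) :=
  t.triangleLTGE_distinguished n (X.obj (op k))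

lemma bounds_lt {X : ARSys.PS (DerivedCategory A)} (a n : ℤ) (h : ∀ k, (X.obj k).IsGE a) :
    (∀ k, ((lt X n).obj k).IsGE a) ∧ (∀ k, ((lt X n).obj k).IsLE (n - 1)) :=
  ⟨fun k => have := h k; DTrunc.isGE_truncLT (X.obj k) n a,
    fun k => inferInstanceAs (t.IsLE ((t.truncLT n).obj (X.obj k)) (n - 1))⟩

lemma bounds_ge {X : ARSys.PS (DerivedCategory A)} (n : ℤ) (h : ∀ k, (X.obj k).IsLE n) :
    (∀ k, ((ge X n).obj k).IsGE n) ∧ (∀ k, ((ge X n).obj k).IsLE n) :=
  ⟨fun k => inferInstanceAs (t.IsGE ((t.truncGE n).obj (X.obj k)) n),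
    fun k => have := h k; DTrunc.isLE_truncGE (X.obj k) n n⟩

lemma bounds_of_isZero {X : ARSys.PS (DerivedCategory A)} (a b : ℤ)
    (hX : ∀ (n : ℕ) (i : ℤ), i < a ∨ b < i → IsZero ((homologyFunctor A i).obj (X.obj (op n)))) :
    (∀ k, (X.obj k).IsGE a) ∧ (∀ k, (X.obj k).IsLE b) :=
  ⟨fun k => (DerivedCategory.isGE_iff _ _).2 fun i hi => hX k.unop i (Or.inl hi),
    fun k => (DerivedCategory.isLE_iff _ _).2 fun i hi => hX k.unop i (Or.inr hi)⟩

/-- A map of bounded systems inducing pro-isomorphisms on cohomology is a pro-isomorphism. -/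
theorem proIso_of_homology {X Y : ARSys.PS (DerivedCategory A)} (f : X ⟶ Y) (a : ℤ) (N : ℕ)
    (hX : ∀ k, (X.obj k).IsGE a) (hX' : ∀ k, (X.obj k).IsLE (a + N))
    (hY : ∀ k, (Y.obj k).IsGE a) (hY' : ∀ k, (Y.obj k).IsLE (a + N))
    (hH : ∀ i : ℤ, DerCA.IsProIso (Functor.whiskerRight f (homologyFunctor A i))) :
    DerCA.IsProIso f := by
  induction N generalizing X Y with
  | zero =>
    have : ∀ k, (X.obj k).IsLE a := fun k => by simpa using hX' k
    have : ∀ k, (Y.obj k).IsLE a := fun k => by simpa using hY' k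
    exact proIso_heart f a (hH a)
  | succ N ih =>
    let n : ℤ := a + (N + 1 : ℕ)
    obtain ⟨g1, l1⟩ := bounds_lt (X := X) a n hX
    obtain ⟨g1', l1'⟩ := bounds_lt (X := Y) a n hY
    obtain ⟨g3, l3⟩ := bounds_ge (X := X) n hX'
    obtain ⟨g3', l3'⟩ := bounds_ge (X := Y) n hY'
    refine five (tι X n) (tπ X n) (tδ X n) (tι Y n) (tπ Y n) (tδ Y n) (tri X n) (tri Y n)
      (Functor.whiskerRight f (t.truncLT n)) f (Functor.whiskerRight f (t.truncGE n)) ?_ ?_ ?_ ?_
      (proIso_heart _ n (proIso_ge f n n (hH n)))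
    · ext k; exact ((t.truncLTι n).naturality (f.app k)).symm
    · ext k; exact ((t.truncGEπ n).naturality (f.app k)).symm
    · ext k; exact ((t.truncGEδLT n).naturality (f.app k)).symm
    · have e : n - 1 = a + (N : ℤ) := by simp only [n]; push_cast; ring
      exact ih _ g1 (fun k => e ▸ l1 k) g1' (fun k => e ▸ l1' k) fun i => proIso_lt f n i (hH i)

lemma exists_val_lt {X : ARSys.PS (DerivedCategory A)} (n i : ℤ)
    (h : ∃ (B : A) (c : (Functor.const ℕᵒᵖ).obj B ⟶ X ⋙ homologyFunctor A i),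
      DerCA.IsEssConstant (X ⋙ homologyFunctor A i) B c) :
    ∃ (B : A) (c : (Functor.const ℕᵒᵖ).obj B ⟶ lt X n ⋙ homologyFunctor A i),
      DerCA.IsEssConstant (lt X n ⋙ homologyFunctor A i) B c := by
  rcases lt_or_ge i n with hi | hi
  · obtain ⟨B, c, hc⟩ := h
    let e : lt X n ⋙ homologyFunctor A i ⟶ X ⋙ homologyFunctor A i :=
      Functor.whiskerRight (tι X n) (homologyFunctor A i)
    have he : ∀ k, IsIso (e.app k) := fun k => DTrunc.isIso_homology_truncLTι (X.obj k) n i hi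
    have := NatIso.isIso_of_isIso_app e
    refine ⟨B, c ≫ inv e, (isEssConstant_iff_proIso _).2 ?_⟩
    exact of_square (𝟙 _) (inv e) (by simp) ((isEssConstant_iff_proIso _).1 hc)
  · have hz : ∀ Z : DerivedCategory A, IsZero ((homologyFunctor A i).obj ((t.truncLT n).obj Z)) :=
      fun Z => by
        have : DerivedCategory.IsLE ((t.truncLT n).obj Z) (n - 1) :=
          inferInstanceAs (t.IsLE _ (n - 1))
        exact DerivedCategory.isZero_of_isLE _ (n - 1) i (by lia)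
    obtain ⟨Z₀, hZ₀⟩ : ∃ Z₀ : A, IsZero Z₀ := ⟨_, isZero_zero A⟩
    exact ⟨Z₀, ⟨fun _ => 0, fun _ _ _ => hZ₀.eq_of_src _ _⟩, (isEssConstant_iff_proIso _).2
      (of_isZero _ (fun _ => hZ₀) fun k => hz _)⟩

/-- A bounded system with essentially constant cohomology is essentially constant. -/
theorem essConstant_of_homology {X : ARSys.PS (DerivedCategory A)} (a : ℤ) (N : ℕ)
    (hX : ∀ k, (X.obj k).IsGE a) (hX' : ∀ k, (X.obj k).IsLE (a + N))
    (hH : ∀ i : ℤ, ∃ (B : A) (c : (Functor.const ℕᵒᵖ).obj B ⟶ X ⋙ homologyFunctor A i),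
      DerCA.IsEssConstant (X ⋙ homologyFunctor A i) B c) :
    ∃ (L : DerivedCategory A) (c : (Functor.const ℕᵒᵖ).obj L ⟶ X),
      DerCA.IsEssConstant X L c := by
  induction N generalizing X with
  | zero =>
    have : ∀ k, (X.obj k).IsLE a := fun k => by simpa using hX' k
    exact val_heart a (hH a)
  | succ N ih =>
    let n : ℤ := a + (N + 1 : ℕ)
    obtain ⟨g1, l1⟩ := bounds_lt (X := X) a n hX
    obtain ⟨g3, l3⟩ := bounds_ge (X := X) n hX'
    have e : n - 1 = a + (N : ℤ) := by simp only [n]; push_cast; ring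
    obtain ⟨L₁, c₁, h₁⟩ := ih g1 (fun k => e ▸ l1 k) fun i => exists_val_lt n i (hH i)
    obtain ⟨L₃, c₃, h₃⟩ : ∃ (L : DerivedCategory A) (c : (Functor.const ℕᵒᵖ).obj L ⟶ ge X n),
        DerCA.IsEssConstant (ge X n) L c := by
      refine val_heart n ?_
      obtain ⟨B, c, hc⟩ := hH n
      let e' : X ⋙ homologyFunctor A n ⟶ ge X n ⋙ homologyFunctor A n :=
        Functor.whiskerRight (tπ X n) (homologyFunctor A n)
      have he : ∀ k, IsIso (e'.app k) := fun k =>
        DTrunc.isIso_homology_truncGEπ (X.obj k) n n le_rfl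
      refine ⟨B, c ≫ e', (isEssConstant_iff_proIso _).2 ?_⟩
      exact of_square (𝟙 _) e' (by simp) ((isEssConstant_iff_proIso _).1 hc)
    obtain ⟨V₁, -⟩ := exists_val h₁
    obtain ⟨V₃, -⟩ := exists_val h₃
    exact middle (tι X n) (tπ X n) (tδ X n) (tri X n) V₁ V₃

end Derived

end Groth.Agent.H16Derived.ProIso
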