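import Groth.Agent.H16Derived.UnitPlus
import Groth.Agent.H16Derived.Horseshoe
import Mathlib.CategoryTheory.Abelian.Exact

/-!
# The long exact sequence of hypercohomology on bounded below complexes
-/

universe w w' v v' u u'

open CategoryTheory CategoryTheory.Limits

namespace Groth.Agent.H16Derived.RFPlusLES


open CategoryTheory CategoryTheory.Limits

variable {C : Type u} [Category.{v} C] [Abelian C] [HasDerivedCategory.{w} C] [EnoughInjectives C]
  {D : Type u'} [Category.{v'} D] [Abelian D] [HasDerivedCategory.{w'} D] (F : C ⥤ D) [F.Additive]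

/-- Termwise application of `F` followed by cohomology. -/
noncomputable abbrev termwise (i : ℤ) : CochainComplex.Plus C ⥤ D :=
  CochainComplex.Plus.ι C ⋙ F.mapHomologicalComplex (ComplexShape.up ℤ) ⋙
    HomologicalComplex.homologyFunctor D (ComplexShape.up ℤ) i

/-- The hypercohomology of `RF`. -/
noncomputable abbrev hyper (i : ℤ) : CochainComplex.Plus C ⥤ D :=
  HomotopyCategory.Plus.quotient C ⋙ DerivedCategory.Plus.Qh ⋙ F.rightDerivedFunctorPlus ⋙
    DerivedCategory.Plus.ι ⋙ DerivedCategory.homologyFunctor D i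

/-- The comparison from termwise application. -/
noncomputable def compare (i : ℤ) : termwise F i ⟶ hyper F i :=
  (Functor.isoWhiskerLeft (CochainComplex.Plus.ι C ⋙ F.mapHomologicalComplex (ComplexShape.up ℤ))
    ((DerivedCategory.homologyFunctorFactors D i).symm ≪≫
      Functor.isoWhiskerRight (DerivedCategory.quotientCompQhIso D).symm
        (DerivedCategory.homologyFunctor D i))).hom ≫
    Functor.whiskerRight (Functor.whiskerLeft (HomotopyCategory.Plus.quotient C)
      F.rightDerivedFunctorPlusUnit) (DerivedCategory.Plus.ι ⋙ DerivedCategory.homologyFunctor D i)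

lemma isIso_compare (i : ℤ) (L : CochainComplex.Plus (InjectiveObject C)) :
    IsIso ((compare F i).app ((InjectiveObject.ι C).mapCochainComplexPlus.obj L)) := by
  have : IsIso (F.rightDerivedFunctorPlusUnit.app ((HomotopyCategory.Plus.quotient C).obj
      ((InjectiveObject.ι C).mapCochainComplexPlus.obj L))) := inferInstance
  rw [compare, NatTrans.comp_app]
  exact IsIso.comp_isIso' inferInstance
    (inferInstanceAs (IsIso ((DerivedCategory.Plus.ι ⋙ DerivedCategory.homologyFunctor D i).map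
      (F.rightDerivedFunctorPlusUnit.app _))))

lemma isIso_hyper_map (i : ℤ) {K L : CochainComplex.Plus C} (φ : K ⟶ L) (h : QuasiIso φ.hom) :
    IsIso ((hyper F i).map φ) := by
  let w := (HomotopyCategory.Plus.quotient C).map φ
  have hw : HomotopyCategory.Plus.quasiIso C w :=
    (HomotopyCategory.quotient_map_mem_quasiIso_iff φ.hom).2 h
  have : IsIso (DerivedCategory.Plus.Qh.map w) :=
    Localization.inverts DerivedCategory.Plus.Qh (HomotopyCategory.Plus.quasiIso C) w hw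
  exact inferInstanceAs (IsIso ((F.rightDerivedFunctorPlus ⋙ DerivedCategory.Plus.ι ⋙
    DerivedCategory.homologyFunctor D i).map (DerivedCategory.Plus.Qh.map w)))

omit [HasDerivedCategory.{w'} D] in
lemma exact_of_iso {X Y Z X' Y' Z' : D} {a : X ⟶ Y} {b : Y ⟶ Z} {a' : X' ⟶ Y'} {b' : Y' ⟶ Z'}
    (eX : X ≅ X') (eY : Y ≅ Y') (eZ : Z ≅ Z') (ha : a ≫ eY.hom = eX.hom ≫ a')
    (hb : b ≫ eZ.hom = eY.hom ≫ b') {w : a' ≫ b' = 0} (h : (ShortComplex.mk a' b' w).Exact) :
    kernelSubobject b = imageSubobject a := by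
  have w' : a ≫ b = 0 := by
    rw [← cancel_mono eZ.hom, Category.assoc, hb, reassoc_of% ha, w, comp_zero, zero_comp]
  exact ((ShortComplex.mk a b w').exact_iff_image_eq_kernel.1
    ((ShortComplex.exact_iff_of_iso (ShortComplex.isoMk eX eY eZ ha.symm hb.symm :
      ShortComplex.mk a b w' ≅ ShortComplex.mk a' b' w)).2 h)).symm

/-- Long exact sequence of `RF` for a short exact sequence of bounded below complexes. -/
theorem exists_les {X₁ X₂ X₃ : CochainComplex.Plus C} (f : X₁ ⟶ X₂) (g : X₂ ⟶ X₃)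
    (hf : Mono ((CochainComplex.Plus.ι C).map f)) (hg : Epi ((CochainComplex.Plus.ι C).map g))
    (hex : kernelSubobject ((CochainComplex.Plus.ι C).map g) =
      imageSubobject ((CochainComplex.Plus.ι C).map f))
    (i : ℤ) :
    kernelSubobject ((hyper F i).map g) = imageSubobject ((hyper F i).map f) ∧
      ∃ δ : (hyper F i).obj X₃ ⟶ (hyper F (i + 1)).obj X₁,
        kernelSubobject δ = imageSubobject ((hyper F i).map g) ∧
          kernelSubobject ((hyper F (i + 1)).map f) = imageSubobject δ := by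
  have w : f.hom ≫ g.hom = 0 := by
    have : imageSubobject f.hom ≤ kernelSubobject g.hom := hex.ge
    rw [← imageSubobject_arrow_comp f.hom, Category.assoc, ← Subobject.ofLE_arrow this,
      Category.assoc, kernelSubobject_arrow_comp, comp_zero, comp_zero]
  let S := ShortComplex.mk f.hom g.hom w
  have hS : S.ShortExact :=
    { exact := S.exact_iff_image_eq_kernel.2 hex.symm
      mono_f := hf
      epi_g := hg }
  obtain ⟨a₁, ha₁⟩ := X₁.property
  obtain ⟨a₃, ha₃⟩ := X₃.property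
  have : X₁.obj.IsStrictlyGE (min a₁ a₃) := X₁.obj.isStrictlyGE_of_ge _ a₁ (min_le_left _ _)
  have : X₃.obj.IsStrictlyGE (min a₁ a₃) := X₃.obj.isStrictlyGE_of_ge _ a₃ (min_le_right _ _)
  have : S.X₁.IsStrictlyGE (min a₁ a₃) := ‹X₁.obj.IsStrictlyGE (min a₁ a₃)›
  have : S.X₃.IsStrictlyGE (min a₁ a₃) := ‹X₃.obj.IsStrictlyGE (min a₁ a₃)›
  obtain ⟨T, φ, hT, hT₁, hT₂, hT₃, hinj, hφ₁, hφ₂, hφ₃⟩ :=
    Groth.Agent.H16Derived.Horseshoe.exists_injective_resolution S hS (min a₁ a₃)
  let mkL (M : CochainComplex C ℤ) (hM : M.IsStrictlyGE (min a₁ a₃))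
      (hMi : ∀ n, Injective (M.X n)) : CochainComplex.Plus (InjectiveObject C) :=
    ⟨HomologicalComplex.liftObjectProperty _ M hMi, min a₁ a₃, by
      rw [← CochainComplex.isStrictlyGE_mapHomologicalComplex_obj_iff _ (InjectiveObject.ι _)]
      exact hM⟩
  let ι' := (InjectiveObject.ι C).mapCochainComplexPlus
  let I₁ := ι'.obj (mkL T.X₁ hT₁ fun n => (hinj n).1)
  let I₂ := ι'.obj (mkL T.X₂ hT₂ fun n => (hinj n).2.1)
  let I₃ := ι'.obj (mkL T.X₃ hT₃ fun n => (hinj n).2.2)
  let p₁ : X₁ ⟶ I₁ := ObjectProperty.homMk φ.τ₁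
  let p₂ : X₂ ⟶ I₂ := ObjectProperty.homMk φ.τ₂
  let p₃ : X₃ ⟶ I₃ := ObjectProperty.homMk φ.τ₃
  let u : I₁ ⟶ I₂ := ObjectProperty.homMk T.f
  let v : I₂ ⟶ I₃ := ObjectProperty.homMk T.g
  have hu : f ≫ p₂ = p₁ ≫ u := ObjectProperty.hom_ext _ φ.comm₁₂.symm
  have hv : g ≫ p₃ = p₂ ≫ v := ObjectProperty.hom_ext _ φ.comm₂₃.symm
  let E (k : ℤ) (K I : CochainComplex.Plus C) (p : K ⟶ I) (hp : IsIso ((hyper F k).map p))
      (hc : IsIso ((compare F k).app I)) : (hyper F k).obj K ≅ (termwise F k).obj I :=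
    @asIso _ _ _ _ ((hyper F k).map p) hp ≪≫ (@asIso _ _ _ _ ((compare F k).app I) hc).symm
  let e₁ (k : ℤ) := E k X₁ I₁ p₁ (isIso_hyper_map F k p₁ hφ₁) (isIso_compare F k _)
  let e₂ (k : ℤ) := E k X₂ I₂ p₂ (isIso_hyper_map F k p₂ hφ₂) (isIso_compare F k _)
  let e₃ (k : ℤ) := E k X₃ I₃ p₃ (isIso_hyper_map F k p₃ hφ₃) (isIso_compare F k _)
  have comm : ∀ (k : ℤ) {K K' J J' : CochainComplex.Plus C} (h : K ⟶ K') (p : K ⟶ J)
      (p' : K' ⟶ J') (m : J ⟶ J') (_ : h ≫ p' = p ≫ m) (hp : IsIso ((hyper F k).map p))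
      (hp' : IsIso ((hyper F k).map p')) (hc : IsIso ((compare F k).app J))
      (hc' : IsIso ((compare F k).app J')),
      (hyper F k).map h ≫ (E k K' J' p' hp' hc').hom =
        (E k K J p hp hc).hom ≫ (termwise F k).map m := by
    intro k K K' J J' h p p' m hsq hp hp' hc hc'
    simp only [E, Iso.trans_hom, Iso.symm_hom, asIso_hom, asIso_inv, Category.assoc]
    rw [← Functor.map_comp_assoc, hsq, Functor.map_comp_assoc]
    congr 1
    rw [IsIso.comp_inv_eq, Category.assoc, (compare F k).naturality, IsIso.inv_hom_id_assoc]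
  have hFT := Groth.Agent.H16Derived.AcyclicLES.shortExact_map_of_injective F hT fun n => (hinj n).1
  refine ⟨?_, (e₃ i).hom ≫ hFT.δ i (i + 1) rfl ≫ (e₁ (i + 1)).inv, ?_, ?_⟩
  · exact exact_of_iso (e₁ i) (e₂ i) (e₃ i) (comm i f p₁ p₂ u hu _ _ _ _)
      (comm i g p₂ p₃ v hv _ _ _ _) (hFT.homology_exact₂ i)
  · exact exact_of_iso (e₂ i) (e₃ i) (e₁ (i + 1)) (comm i g p₂ p₃ v hv _ _ _ _)
      (b' := hFT.δ i (i + 1) rfl) (by simp; rfl) (hFT.homology_exact₃ i (i + 1) rfl)
  · exact exact_of_iso (e₃ i) (e₁ (i + 1)) (e₂ (i + 1)) (a' := hFT.δ i (i + 1) rfl) (by simp; rfl)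
      (comm (i + 1) f p₁ p₂ u hu _ _ _ _) (hFT.homology_exact₁ i (i + 1) rfl)

end Groth.Agent.H16Derived.RFPlusLES
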