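import Groth.Agent.H15Site.RDerPlus
import Groth.Agent.H16Derived.QCohD.Tower
import Groth.Agent.H16Derived.InjDim
import Groth.Agent.H16Derived.KInjRes.Countable

/-!
# Vanishing of the cohomology of a right derived functor on bounded objects
-/

set_option autoImplicit false
set_option linter.style.haveILetI false

open CategoryTheory CategoryTheory.Limits CategoryTheory.Pretriangulated
open DerivedCategory DerivedCategory.TStructure

universe w w' v u u'

namespace Groth.Agent.H16Derived.RFVanish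

open H15Site H15Site.FlatAdjD

variable {A : Type u} [Category.{v} A] [Abelian A] [HasDerivedCategory.{w} A]
  {B : Type u'} [Category.{v} B] [Abelian B] [HasDerivedCategory.{w'} B] [IsGrothendieckAbelian.{v} B]
  (F : B ⥤ A) [F.Additive]
  [(toD F).HasRightDerivedFunctor (HomotopyCategory.quasiIso B (ComplexShape.up ℤ))]

/-- The cohomology of the derived functor. -/
noncomputable abbrev RH (i : ℤ) (X : DerivedCategory B) : A :=
  (homologyFunctor A i).obj (((toD F).totalRightDerived DerivedCategory.Qh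
      (HomotopyCategory.quasiIso B (ComplexShape.up ℤ))).obj X)

omit [HasDerivedCategory.{w} A] in
theorem exists_rep (X : DerivedCategory B) :
    ∃ I : CochainComplex B ℤ, I.IsKInjective ∧ Nonempty (X ≅ Q.obj I) := by
  obtain ⟨I, hI, s, hs⟩ := exists_local ((HomotopyCategory.quotient _ _).obj (Q.objPreimage X))
  haveI : IsIso (Qh.map s) := Localization.inverts Qh _ s hs
  exact ⟨I, hI, ⟨(Q.objObjPreimageIso X).symm ≪≫ ((quotientCompQhIso B).app _).symm ≪≫
    asIso (Qh.map s) ≪≫ (quotientCompQhIso B).app I⟩⟩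

theorem nonempty_shift (X : DerivedCategory B) (n : ℤ) :
    Nonempty (((toD F).totalRightDerived DerivedCategory.Qh
      (HomotopyCategory.quasiIso B (ComplexShape.up ℤ))).obj (X⟦n⟧) ≅
      (((toD F).totalRightDerived DerivedCategory.Qh
      (HomotopyCategory.quasiIso B (ComplexShape.up ℤ))).obj X)⟦n⟧) := by
  obtain ⟨I, hI, ⟨e⟩⟩ := exists_rep X
  obtain ⟨a⟩ := RDerPlus.nonempty_obj_iso F I
  obtain ⟨b⟩ := RDerPlus.nonempty_obj_iso F (I⟦n⟧)
  let R := (toD F).totalRightDerived DerivedCategory.Qh (HomotopyCategory.quasiIso B (ComplexShape.up ℤ))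
  exact ⟨R.mapIso ((CategoryTheory.shiftFunctor _ n).mapIso e ≪≫ ((Q.commShiftIso n).app I).symm) ≪≫ b ≪≫
    Q.mapIso (((F.mapHomologicalComplex (ComplexShape.up ℤ)).commShiftIso n).app I) ≪≫
    (Q.commShiftIso n).app _ ≪≫ (CategoryTheory.shiftFunctor _ n).mapIso (R.mapIso e ≪≫ a).symm⟩

theorem isZero_obj₃ {T : Triangle (DerivedCategory B)} (hT : T ∈ distTriang (DerivedCategory B))
    (i : ℤ) (h₂ : IsZero (RH F i T.obj₂)) (h₁ : IsZero (RH F (i + 1) T.obj₁)) :
    IsZero (RH F i T.obj₃) := by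
  obtain ⟨I₁, hI₁, ⟨e₁⟩⟩ := exists_rep T.obj₁
  obtain ⟨I₂, hI₂, ⟨e₂⟩⟩ := exists_rep T.obj₂
  obtain ⟨g, hg⟩ := InjDim.exists_chain_map I₂ I₁ (e₁.inv ≫ T.mor₁ ≫ e₂.hom)
  haveI := KInjRes.Countable.isKInjective_mappingCone g hI₁ hI₂
  let R := (toD F).totalRightDerived DerivedCategory.Qh (HomotopyCategory.quasiIso B (ComplexShape.up ℤ))
  let φ := isoTriangleOfIso₁₂ T (Q.mapTriangle.obj (CochainComplex.mappingCone.triangle g)) hT
    (mappingCone_triangle_distinguished g) e₁ e₂ (by
      show T.mor₁ ≫ e₂.hom = e₁.hom ≫ Q.map g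
      rw [hg, Iso.hom_inv_id_assoc])
  obtain ⟨a₁⟩ := RDerPlus.nonempty_obj_iso F I₁
  obtain ⟨a₂⟩ := RDerPlus.nonempty_obj_iso F I₂
  obtain ⟨a₃⟩ := RDerPlus.nonempty_obj_iso F (CochainComplex.mappingCone g)
  let g' := (F.mapHomologicalComplex (ComplexShape.up ℤ)).map g
  have hz := (HomologySequence.exact₃ _ (mappingCone_triangle_distinguished g') i (i + 1) rfl).isZero_of_both_zeros
    ((h₂.of_iso ((homologyFunctor A i).mapIso (R.mapIso e₂ ≪≫ a₂).symm)).eq_of_src _ _)
    ((h₁.of_iso ((homologyFunctor A (i + 1)).mapIso (R.mapIso e₁ ≪≫ a₁).symm)).eq_of_tgt _ _)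
  exact hz.of_iso ((homologyFunctor A i).mapIso (R.mapIso (Triangle.π₃.mapIso φ) ≪≫ a₃ ≪≫
    Q.mapIso (CochainComplex.mappingCone.mapHomologicalComplexIso g F)))

theorem isZero_singleAt [HasInjectiveResolutions B] (M : B) (c : ℤ) (i : ℤ) (p : ℕ) (h : i = c + p)
    (hz : IsZero ((F.rightDerived p).obj M)) : IsZero (RH F i ((singleFunctor B c).obj M)) := by
  obtain ⟨e⟩ := RDerPlus.nonempty_homology_single_iso F M p
  let s : ((singleFunctor B 0).obj M)⟦-c⟧ ≅ (singleFunctor B c).obj M :=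
    ((singleFunctors B).shiftIso (-c) c 0 (by omega)).app M
  obtain ⟨t⟩ := nonempty_shift F ((singleFunctor B 0).obj M) (-c)
  exact hz.of_iso ((homologyFunctor A i).mapIso
    (((toD F).totalRightDerived DerivedCategory.Qh _).mapIso s.symm ≪≫ t) ≪≫
    ((homologyFunctor A 0).shiftIso (-c) i (p : ℤ) (by omega)).app _ ≪≫ e)

variable (P : B → Prop) (hiso : ∀ {M M' : B}, (M ≅ M') → P M → P M') (hzero : ∀ M : B, IsZero M → P M)

include hiso hzero in
/-- Dévissage. -/
theorem isZero_of_bounded [HasInjectiveResolutions B] (N : ℕ)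
    (hN : ∀ M : B, P M → ∀ p : ℕ, N ≤ p → IsZero ((F.rightDerived p).obj M)) :
    ∀ (k : ℕ) (a b : ℤ), b - a + 1 ≤ k → ∀ (K : DerivedCategory B), K.IsGE a → K.IsLE b →
      QCohD.HomP P K → ∀ i, b + N ≤ i → IsZero (RH F i K) := by
  intro k
  induction k with
  | zero =>
    intro a b hk K _ _ _ i hi
    haveI : DerivedCategory.IsGE K (i + 1) := t.isGE_of_iso
      (IsZero.iso (isZero_zero _) (t.isZero K b a (by omega))) (i + 1)
    haveI := RDerPlus.isGE_obj F K (i + 1)
    exact DerivedCategory.isZero_of_isGE _ (i + 1) i (by omega)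
  | succ k ih =>
    intro a b hk K _ _ hK i hi
    have hT := t.triangleLTGE_distinguished b K
    haveI : DerivedCategory.IsGE ((t.truncGE b).obj K) b := inferInstanceAs (t.IsGE _ b)
    haveI : DerivedCategory.IsLE ((t.truncGE b).obj K) b := DTrunc.isLE_truncGE K b b
    obtain ⟨M, ⟨e⟩⟩ := ((t.truncGE b).obj K).exists_iso_singleFunctor_obj_of_isGE_of_isLE b
    have hM : P M := hiso ((homologyFunctor B b).mapIso e ≪≫
      (singleFunctorCompHomologyFunctorIso B b).app M) (QCohD.homP_truncGE P hiso hzero hK b b)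
    have h1 := ih a (b - 1) (by omega) _ (DTrunc.isGE_truncLT K b a)
      (inferInstanceAs (t.IsLE ((t.truncLT b).obj K) (b - 1))) (QCohD.homP_truncLT P hiso hzero hK b)
      i (by omega)
    obtain ⟨p, hp⟩ := Int.eq_ofNat_of_zero_le (show 0 ≤ i - b by omega)
    have h2 : IsZero (RH F i ((t.truncGE b).obj K)) :=
      (isZero_singleAt F M b i p (by omega) (hN M hM p (by omega))).of_iso
        ((homologyFunctor A i).mapIso (((toD F).totalRightDerived DerivedCategory.Qh _).mapIso e))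
    refine isZero_obj₃ F (inv_rot_of_distTriang _ hT) i h1 ?_
    obtain ⟨s⟩ := nonempty_shift F ((t.truncGE b).obj K) (-1)
    exact h2.of_iso ((homologyFunctor A (i + 1)).mapIso s ≪≫
      ((homologyFunctor A 0).shiftIso (-1) (i + 1) i (by omega)).app _)

end Groth.Agent.H16Derived.RFVanish
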