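import Groth.Agent.H16Derived.RelPCOpen

/-!
# Relative pseudo-coherence on nested opens
-/

set_option autoImplicit false
set_option linter.style.haveILetI false
set_option backward.isDefEq.respectTransparency false

universe u

open CategoryTheory CategoryTheory.Limits AlgebraicGeometry

attribute [local instance] HasDerivedCategory.standard

namespace Groth.Agent.H16Derived.RelPCOpen

open H16Derived.KFlat.Stalk H8Props.PushPC H8Props.RelPC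

variable {X Y : Scheme.{u}}

/-- Charts from relative pseudo-coherence on an open. -/
theorem chart_of_rel_restrict {f : X ⟶ Y} {m : ℤ} {K : DCoh.D X} (U : X.Opens)
    (h : DerSch.IsPseudoCoherentRel (U.ι ≫ f) m ((rd U.ι).obj K)) {D : X.Opens} (hD : IsAffineOpen D)
    (hDU : D ≤ U) {V : Y.Opens} (hV : IsAffineOpen V) (e : D ≤ f ⁻¹ᵁ V) {n : ℕ}
    (φ : MvPolynomial (Fin n) Γ(Y, V) →+* Γ(X, D)) (hφ : DerSch.IsChart f D V e φ) :
    DerSch.ChartPC m K D V φ := by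
  obtain ⟨D', rfl⟩ : ∃ D', U.ι ''ᵁ D' = D :=
    ⟨U.ι ⁻¹ᵁ D, by rw [Scheme.Hom.image_preimage_eq_opensRange_inf, Scheme.Opens.opensRange_ι,
      inf_eq_right.2 hDU]⟩
  have hD' : IsAffineOpen D' := (U.ι.isAffineOpen_iff_of_isOpenImmersion).1 hD
  have hle' : D' ≤ (U.ι ≫ f) ⁻¹ᵁ V := fun y hy => e ⟨y, hy, rfl⟩
  have hφ' := (isChart_restrict f U hle' e φ).2 hφ
  exact (chartPC_restrict_iff U hD' φ hφ'.1 m K).1 (chartPC_of_rel h hD' hV hle' φ hφ')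

/-- Relative pseudo-coherence on an open of an open. -/
theorem rel_image {f : X ⟶ Y} [LocallyOfFiniteType f] {m : ℤ} {K : DCoh.D X} (W : X.Opens)
    (Z : (W : Scheme.{u}).Opens)
    (h : DerSch.IsPseudoCoherentRel (Z.ι ≫ W.ι ≫ f) m ((rd Z.ι).obj ((rd W.ι).obj K))) :
    DerSch.IsPseudoCoherentRel ((W.ι ''ᵁ Z).ι ≫ f) m ((rd (W.ι ''ᵁ Z).ι).obj K) := by
  let O := W.ι ''ᵁ Z
  refine (rel_iff_forall (O.ι ≫ f) m _).2 fun U' V hle => ?_
  obtain ⟨n, φ, hφ⟩ := exists_isChart (O.ι ≫ f) _ _ hle ((O.ι ≫ f).finiteType_appLE V.2 U'.2 hle)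
  refine ⟨n, φ, hφ, (chartPC_restrict_iff O U'.2 φ hφ.1 m K).2 ?_⟩
  have hle' : O.ι ''ᵁ (U' : (O : Scheme.{u}).Opens) ≤ f ⁻¹ᵁ (V : Y.Opens) := by
    rintro x ⟨y, hy, rfl⟩
    exact hle hy
  have hφ₁ := (isChart_restrict f O hle hle' φ).1 hφ
  let D := O.ι ''ᵁ (U' : (O : Scheme.{u}).Opens)
  have hD : IsAffineOpen D := U'.2.image_of_isOpenImmersion O.ι
  have hDO : D ≤ O := by
    rintro x ⟨y, -, rfl⟩
    exact y.2
  suffices key : ∀ (D : X.Opens), IsAffineOpen D → D ≤ O → ∀ (hD : D ≤ f ⁻¹ᵁ (V : Y.Opens)) (k : ℕ)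
      (ψ : MvPolynomial (Fin k) Γ(Y, (V : Y.Opens)) →+* Γ(X, D)), DerSch.IsChart f D V hD ψ →
        DerSch.ChartPC (Y := Y) m K D (V : Y.Opens) ψ from key D hD hDO hle' n φ hφ₁
  intro D hD hDO hDV k ψ hψ
  obtain ⟨D', rfl⟩ : ∃ D', W.ι ''ᵁ D' = D :=
    ⟨W.ι ⁻¹ᵁ D, by
      rw [Scheme.Hom.image_preimage_eq_opensRange_inf, Scheme.Opens.opensRange_ι, inf_eq_right.2 (hDO.trans ?_)]
      rintro x ⟨y, -, rfl⟩
      exact y.2⟩
  have hD' : IsAffineOpen D' := (W.ι.isAffineOpen_iff_of_isOpenImmersion).1 hD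
  have hle₁ : D' ≤ (W.ι ≫ f) ⁻¹ᵁ (V : Y.Opens) := fun y hy => hDV ⟨y, hy, rfl⟩
  have hψ' := (isChart_restrict f W hle₁ hDV ψ).2 hψ
  have hDZ : D' ≤ Z := fun y hy => by
    obtain ⟨z, hz, e⟩ := hDO ⟨y, hy, rfl⟩
    exact W.ι.isOpenEmbedding.injective e ▸ hz
  exact (chartPC_restrict_iff W hD' ψ hψ'.1 m K).1
    (chart_of_rel_restrict (f := W.ι ≫ f) Z h hD' hDZ V.2 hle₁ ψ hψ')

end Groth.Agent.H16Derived.RelPCOpen
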