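import Groth.Prelude.Def_SGA6

set_option autoImplicit false
set_option linter.style.haveILetI false
set_option linter.unusedSectionVars false
universe v u
open CategoryTheory CategoryTheory.Limits ZeroObject

namespace Groth.Agent.H16Derived.ResThm

variable {C : Type u} [Category.{v} C] [Abelian C] (P₀ P₁ : ObjectProperty C)

/-- A presentation `0 → K → L → A → 0` with `L` in `P₀`. -/
structure Cov (A : C) where
  K : C
  L : C
  i : K ⟶ L
  p : L ⟶ A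
  w : i ≫ p = 0
  se : (ShortComplex.mk i p w).ShortExact
  hL : P₀ L

variable {P₀}

noncomputable def Cov.ofEpi {A L : C} (p : L ⟶ A) [Epi p] (hL : P₀ L) : Cov P₀ A where
  K := kernel p
  L := L
  i := kernel.ι p
  p := p
  w := kernel.condition p
  se :=
    { exact := ShortComplex.exact_of_f_is_kernel _ (kernelIsKernel p)
      mono_f := inferInstanceAs (Mono (kernel.ι p))
      epi_g := inferInstanceAs (Epi p) }
  hL := hL

variable (P₀)

/-- The hypotheses of the resolution theorem. -/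
structure Data : Prop where
  iso₀ : P₀.IsClosedUnderIsomorphisms
  iso₁ : P₁.IsClosedUnderIsomorphisms
  hle : ∀ X, P₀ X → P₁ X
  ext₀ : ∀ S : ShortComplex C, S.ShortExact → P₀ S.X₁ → P₀ S.X₃ → P₀ S.X₂
  ext₁ : ∀ S : ShortComplex C, S.ShortExact → P₁ S.X₁ → P₁ S.X₃ → P₁ S.X₂
  ker₀ : ∀ S : ShortComplex C, S.ShortExact → P₀ S.X₂ → P₀ S.X₃ → P₀ S.X₁
  ker₁ : ∀ S : ShortComplex C, S.ShortExact → P₁ S.X₂ → P₁ S.X₃ → P₁ S.X₁
  cov : ∀ A, P₁ A → Nonempty (Cov P₀ A)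

/-- `A` has every partial `P₀`-resolution ending in `P₀` after `n` steps. -/
def Q : ℕ → C → Prop
  | 0, A => P₀ A
  | n + 1, A => P₁ A ∧ ∀ c : Cov P₀ A, Q n c.K

open Classical in
/-- Euler characteristic of a chosen partial resolution. -/
noncomputable def chi : ℕ → C → KZero.K0sub P₀
  | 0, A => KZero.clSub P₀ A
  | n + 1, A => if h : Nonempty (Cov P₀ A) then
      KZero.clSub P₀ h.some.L - chi n h.some.K else 0

variable {P₀ P₁}

theorem clSub_ses {P : ObjectProperty C} {S : ShortComplex C} (hS : S.ShortExact) (h₁ : P S.X₁) (h₂ : P S.X₂)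
    (h₃ : P S.X₃) : KZero.clSub P S.X₂ = KZero.clSub P S.X₁ + KZero.clSub P S.X₃ := by
  simp only [KZero.clSub, dif_pos h₁, dif_pos h₂, dif_pos h₃]
  refine (QuotientAddGroup.eq.mpr ?_).symm
  refine AddSubgroup.subset_closure ⟨S, h₁, h₂, h₃, hS, ?_⟩
  exact (neg_add_eq_sub _ _).trans (sub_sub _ _ _).symm

variable (H : Data P₀ P₁)
include H

theorem mem₁ : ∀ {n : ℕ} {A : C}, Q P₀ P₁ n A → P₁ A
  | 0, A, h => H.hle A h
  | _ + 1, _, h => h.1

theorem mem_of_P₀ : ∀ (n : ℕ) {A : C}, P₀ A → Q P₀ P₁ n A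
  | 0, _, h => h
  | n + 1, A, h => ⟨H.hle A h, fun c => mem_of_P₀ n (H.ker₀ _ c.se c.hL h)⟩

theorem mem_succ : ∀ (n : ℕ) {A : C}, Q P₀ P₁ n A → Q P₀ P₁ (n + 1) A
  | 0, _, h => mem_of_P₀ H 1 h
  | n + 1, _, h => ⟨h.1, fun c => mem_succ n (h.2 c)⟩

theorem mem_le {m n : ℕ} (hmn : m ≤ n) {A : C} (h : Q P₀ P₁ m A) : Q P₀ P₁ n A := by
  induction hmn with
  | refl => exact h
  | step _ ih => exact mem_succ H _ ih

/-- kernel of the composite of a presentation of `X₂` with `X₂ → X₃`. -/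
theorem exists_ker_comp {S : ShortComplex C} (hS : S.ShortExact) (c : Cov P₀ S.X₂) :
    ∃ (c' : Cov P₀ S.X₃) (a : c.K ⟶ c'.K) (b : c'.K ⟶ S.X₁) (w : a ≫ b = 0),
      c'.L = c.L ∧ (ShortComplex.mk a b w).ShortExact := by
  haveI := hS.mono_f
  haveI := hS.epi_g
  haveI : Mono c.i := c.se.mono_f
  haveI : Epi c.p := c.se.epi_g
  let ι := kernel.ι (c.p ≫ S.g)
  obtain ⟨b, hb⟩ : ∃ b : kernel (c.p ≫ S.g) ⟶ S.X₁, b ≫ S.f = ι ≫ c.p :=
    ⟨hS.exact.lift (ι ≫ c.p) (by rw [Category.assoc]; exact kernel.condition _), hS.exact.lift_f _ _⟩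
  let a : c.K ⟶ kernel (c.p ≫ S.g) := kernel.lift _ c.i (by rw [reassoc_of% c.w, zero_comp])
  have ha : a ≫ ι = c.i := kernel.lift_ι _ _ _
  have w : a ≫ b = 0 := by
    rw [← cancel_mono S.f, Category.assoc, hb, reassoc_of% ha, zero_comp, c.w]
  refine ⟨Cov.ofEpi (c.p ≫ S.g) c.hL, a, b, w, rfl, ?_⟩
  haveI : Mono a := by
    haveI : Mono (a ≫ ι) := by rw [ha]; infer_instance
    exact mono_of_mono a ι
  haveI : Epi b := by
    rw [epi_iff_surjective_up_to_refinements]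
    intro T y
    obtain ⟨T', π, hπ, x, hx⟩ := surjective_up_to_refinements_of_epi c.p (y ≫ S.f)
    refine ⟨T', π, hπ, kernel.lift _ x (by rw [← reassoc_of% hx, S.zero, comp_zero, comp_zero]), ?_⟩
    rw [← cancel_mono S.f, Category.assoc, Category.assoc, hb, kernel.lift_ι_assoc, hx]
  refine { exact := ?_, mono_f := inferInstanceAs (Mono a), epi_g := inferInstanceAs (Epi b) }
  refine ShortComplex.exact_of_f_is_kernel _ (KernelFork.IsLimit.ofι' a w (fun k hk => ?_))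
  have h1 : (k ≫ ι) ≫ c.p = 0 := by
    rw [Category.assoc, ← hb, reassoc_of% hk, zero_comp]
  haveI : Mono (ShortComplex.mk c.i c.p c.w).f := c.se.mono_f
  refine ⟨c.se.exact.lift (k ≫ ι) h1, (cancel_mono ι).1 ?_⟩
  rw [Category.assoc, ha]
  exact c.se.exact.lift_f _ _

omit H in
/-- the pullback of two epimorphisms gives two short exact sequences. -/
theorem pullback_ses {A L L' K : C} (p : L ⟶ A) (q : L' ⟶ A) (i : K ⟶ L') (w : i ≫ q = 0)
    (se : (ShortComplex.mk i q w).ShortExact) :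
    ∃ (a : K ⟶ pullback p q) (w' : a ≫ pullback.fst p q = 0),
      (ShortComplex.mk a (pullback.fst p q) w').ShortExact := by
  haveI : Mono i := se.mono_f
  haveI : Epi q := se.epi_g
  let a : K ⟶ pullback p q := pullback.lift 0 i (by rw [zero_comp, w])
  have hf : a ≫ pullback.fst p q = 0 := pullback.lift_fst _ _ _
  have hs : a ≫ pullback.snd p q = i := pullback.lift_snd _ _ _
  refine ⟨a, hf, ?_⟩
  haveI : Mono a := by
    haveI : Mono (a ≫ pullback.snd p q) := by rw [hs]; infer_instance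
    exact mono_of_mono a (pullback.snd p q)
  refine { exact := ?_, mono_f := inferInstanceAs (Mono a), epi_g := inferInstanceAs (Epi (pullback.fst p q)) }
  refine ShortComplex.exact_of_f_is_kernel _ (KernelFork.IsLimit.ofι' a hf (fun k hk => ?_))
  have h1 : (k ≫ pullback.snd p q) ≫ q = 0 := by
    rw [Category.assoc, ← pullback.condition, reassoc_of% hk, zero_comp]
  haveI : Mono (ShortComplex.mk i q w).f := se.mono_f
  refine ⟨se.exact.lift (k ≫ pullback.snd p q) h1, ?_⟩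
  refine pullback.hom_ext ?_ ?_
  · rw [Category.assoc, hf, comp_zero, hk]
  · rw [Category.assoc, hs]
    exact se.exact.lift_f _ _

omit H in
theorem pullback_ses' {A L L' K : C} (p : L ⟶ A) (q : L' ⟶ A) (i : K ⟶ L) (w : i ≫ p = 0)
    (se : (ShortComplex.mk i p w).ShortExact) :
    ∃ (a : K ⟶ pullback p q) (w' : a ≫ pullback.snd p q = 0),
      (ShortComplex.mk a (pullback.snd p q) w').ShortExact := by
  obtain ⟨a, w', hse⟩ := pullback_ses q p i w se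
  refine ⟨a ≫ (pullbackSymmetry q p).hom, by simp [w'], ShortComplex.shortExact_of_iso ?_ hse⟩
  exact ShortComplex.isoMk (Iso.refl _) (pullbackSymmetry q p) (Iso.refl _) (by simp) (by simp)

theorem ext_mem : ∀ (n : ℕ) (S : ShortComplex C), S.ShortExact → Q P₀ P₁ n S.X₁ → P₀ S.X₃ →
    Q P₀ P₁ n S.X₂
  | 0, S, hS, h₁, h₃ => H.ext₀ S hS h₁ h₃
  | n + 1, S, hS, h₁, h₃ => by
      refine ⟨H.ext₁ S hS h₁.1 (H.hle _ h₃), fun c => ?_⟩
      obtain ⟨c', a, b, w, -, hse⟩ := exists_ker_comp H hS c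
      exact h₁.2 ⟨c.K, c'.K, a, b, w, hse, H.ker₀ _ c'.se c'.hL h₃⟩

/-- The invariant of `chi n`. -/
structure Good (P₀ P₁ : ObjectProperty C) (n : ℕ) : Prop where
  base : ∀ A, P₀ A → chi P₀ n A = KZero.clSub P₀ A
  add : ∀ S : ShortComplex C, S.ShortExact → Q P₀ P₁ n S.X₁ → Q P₀ P₁ n S.X₂ → Q P₀ P₁ n S.X₃ →
    chi P₀ n S.X₂ = chi P₀ n S.X₁ + chi P₀ n S.X₃

theorem chi_succ_eq {n : ℕ} (G : Good P₀ P₁ n) {A : C} (hA : Q P₀ P₁ (n + 1) A) (c : Cov P₀ A) :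
    chi P₀ (n + 1) A = KZero.clSub P₀ c.L - chi P₀ n c.K := by
  have hne : Nonempty (Cov P₀ A) := ⟨c⟩
  simp only [chi, dif_pos hne]
  set c₀ := hne.some
  haveI : Epi c.p := c.se.epi_g
  haveI : Epi c₀.p := c₀.se.epi_g
  obtain ⟨a, w, h⟩ := pullback_ses c.p c₀.p c₀.i c₀.w c₀.se
  obtain ⟨a', w', h'⟩ := pullback_ses' c.p c₀.p c.i c.w c.se
  have hF : Q P₀ P₁ n (pullback c.p c₀.p) := ext_mem H n _ h (hA.2 c₀) c.hL
  have e := G.add _ h (hA.2 c₀) hF (mem_of_P₀ H n c.hL)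
  have e' := G.add _ h' (hA.2 c) hF (mem_of_P₀ H n c₀.hL)
  dsimp only at e e'
  rw [G.base _ c.hL] at e
  rw [G.base _ c₀.hL, e] at e'
  rw [sub_eq_sub_iff_add_eq_add]
  linear_combination (norm := abel) -e'

theorem chi_quot {n : ℕ} (G : Good P₀ P₁ n) (S : ShortComplex C) (hS : S.ShortExact) (h₁ : Q P₀ P₁ n S.X₁)
    (h₂ : Q P₀ P₁ n S.X₂) (h₃ : Q P₀ P₁ (n + 1) S.X₃) :
    chi P₀ (n + 1) S.X₃ = chi P₀ n S.X₂ - chi P₀ n S.X₁ := by
  obtain ⟨c⟩ := H.cov _ h₃.1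
  haveI : Epi c.p := c.se.epi_g
  haveI : Epi S.g := hS.epi_g
  rw [chi_succ_eq H G h₃ c]
  obtain ⟨a, w, h⟩ := pullback_ses c.p S.g S.f S.zero hS
  obtain ⟨a', w', h'⟩ := pullback_ses' c.p S.g c.i c.w c.se
  have hF : Q P₀ P₁ n (pullback c.p S.g) := ext_mem H n _ h h₁ c.hL
  have e := G.add _ h h₁ hF (mem_of_P₀ H n c.hL)
  have e' := G.add _ h' (h₃.2 c) hF h₂
  dsimp only at e e'
  rw [G.base _ c.hL, e'] at e
  rw [sub_eq_sub_iff_add_eq_add]
  linear_combination (norm := abel) -e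

theorem good_all : ∀ n : ℕ, Good P₀ P₁ n
  | 0 => ⟨fun _ _ => rfl, fun S hS h₁ h₂ h₃ => clSub_ses hS h₁ h₂ h₃⟩
  | n + 1 => by
      have G := good_all n
      refine ⟨fun A hA => ?_, fun S hS h₁ h₂ h₃ => ?_⟩
      · obtain ⟨c⟩ := H.cov _ (H.hle _ hA)
        have hK : P₀ c.K := H.ker₀ _ c.se c.hL hA
        rw [chi_succ_eq H G (mem_of_P₀ H _ hA) c, G.base _ hK, sub_eq_iff_eq_add']
        exact clSub_ses c.se hK c.hL hA
      · obtain ⟨c⟩ := H.cov _ h₂.1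
        obtain ⟨c', a, b, w, hL, hse⟩ := exists_ker_comp H hS c
        have e := chi_quot H G _ hse (h₂.2 c) (h₃.2 c') h₁
        dsimp only at e
        rw [chi_succ_eq H G h₂ c, chi_succ_eq H G h₃ c', e, hL]
        abel

theorem chi_succ {n : ℕ} {A : C} (hA : Q P₀ P₁ n A) : chi P₀ (n + 1) A = chi P₀ n A := by
  have G := good_all H n
  obtain ⟨c⟩ := H.cov _ (mem₁ H hA)
  have hK : Q P₀ P₁ n c.K := (mem_succ H n hA).2 c
  rw [chi_succ_eq H G (mem_succ H n hA) c, sub_eq_iff_eq_add', ← G.base _ c.hL]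
  exact G.add _ c.se hK (mem_of_P₀ H n c.hL) hA

theorem chi_le {m n : ℕ} (hmn : m ≤ n) {A : C} (hA : Q P₀ P₁ m A) : chi P₀ n A = chi P₀ m A := by
  induction hmn with
  | refl => rfl
  | step hle ih => rw [chi_succ H (mem_le H hle hA), ih]

theorem map_chi (φ : KZero.K0sub P₀ →+ KZero.K0sub P₁)
    (hφ : ∀ A, P₀ A → φ (KZero.clSub P₀ A) = KZero.clSub P₁ A) :
    ∀ (n : ℕ) (A : C), Q P₀ P₁ n A → φ (chi P₀ n A) = KZero.clSub P₁ A
  | 0, A, hA => hφ A hA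
  | n + 1, A, hA => by
      obtain ⟨c⟩ := H.cov _ hA.1
      rw [chi_succ_eq H (good_all H n) hA c, map_sub, map_chi φ hφ n _ (hA.2 c), hφ _ c.hL,
        sub_eq_iff_eq_add']
      exact clSub_ses c.se (mem₁ H (hA.2 c)) (H.hle _ c.hL) hA.1

theorem bijective_of_forall_exists_mem (φ : KZero.K0sub P₀ →+ KZero.K0sub P₁)
    (hφ : ∀ A, P₀ A → φ (KZero.clSub P₀ A) = KZero.clSub P₁ A)
    (hQ : ∀ A, P₁ A → ∃ n, Q P₀ P₁ n A) : Function.Bijective φ := by
  classical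
  choose N hN using hQ
  let g : Subtype P₁ → KZero.K0sub P₀ := fun A => chi P₀ (N A.1 A.2) A.1
  have hg : ∀ (n : ℕ) (A : Subtype P₁), Q P₀ P₁ n A.1 → g A = chi P₀ n A.1 := fun n A hA => by
    show chi P₀ _ _ = _
    rw [← chi_le H (le_max_left (N A.1 A.2) n) (hN A.1 A.2), chi_le H (le_max_right (N A.1 A.2) n) hA]
  have hrel : KZero.relSub P₁ ≤ (FreeAbelianGroup.lift g).ker := by
    rw [KZero.relSub, AddSubgroup.closure_le]
    rintro x ⟨S, h₁, h₂, h₃, hS, rfl⟩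
    obtain ⟨n, n₁, n₂, n₃⟩ : ∃ n, Q P₀ P₁ n S.X₁ ∧ Q P₀ P₁ n S.X₂ ∧ Q P₀ P₁ n S.X₃ :=
      ⟨N _ h₁ + N _ h₂ + N _ h₃, mem_le H (by omega) (hN _ h₁), mem_le H (by omega) (hN _ h₂),
        mem_le H (by omega) (hN _ h₃)⟩
    simp only [SetLike.mem_coe, AddMonoidHom.mem_ker, map_sub, FreeAbelianGroup.lift_apply_of]
    rw [hg n ⟨_, h₁⟩ n₁, hg n ⟨_, h₂⟩ n₂, hg n ⟨_, h₃⟩ n₃, (good_all H n).add S hS n₁ n₂ n₃]
    abel
  let ψ : KZero.K0sub P₁ →+ KZero.K0sub P₀ := QuotientAddGroup.lift _ (FreeAbelianGroup.lift g) hrel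
  have hψ : ∀ A : Subtype P₁, ψ (QuotientAddGroup.mk (FreeAbelianGroup.of A)) = g A := fun A =>
    FreeAbelianGroup.lift_apply_of _ _
  have h1 : φ.comp ψ = AddMonoidHom.id _ := by
    refine QuotientAddGroup.addMonoidHom_ext _ (FreeAbelianGroup.lift_ext _ _ fun A => ?_)
    show φ (ψ (QuotientAddGroup.mk (FreeAbelianGroup.of A))) = _
    rw [hψ]
    refine (map_chi H φ hφ _ _ (hN A.1 A.2)).trans ?_
    rw [KZero.clSub, dif_pos A.2]
    rfl
  have h2 : ψ.comp φ = AddMonoidHom.id _ := by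
    refine QuotientAddGroup.addMonoidHom_ext _ (FreeAbelianGroup.lift_ext _ _ fun A => ?_)
    show ψ (φ (QuotientAddGroup.mk (FreeAbelianGroup.of A))) = _
    have e : KZero.clSub P₀ A.1 = QuotientAddGroup.mk (FreeAbelianGroup.of A) := by
      rw [KZero.clSub, dif_pos A.2]
    rw [← e, hφ A.1 A.2, KZero.clSub, dif_pos (H.hle _ A.2), hψ,
      hg 0 ⟨A.1, H.hle _ A.2⟩ A.2]
    show KZero.clSub P₀ A.1 = _
    rw [e]
    rfl
  exact Function.bijective_iff_has_inverse.2 ⟨ψ, fun x => DFunLike.congr_fun h2 x, fun x => DFunLike.congr_fun h1 x⟩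

end Groth.Agent.H16Derived.ResThm
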