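import Groth.Agent.H16Derived.ResolutionThm
import Mathlib.Algebra.Homology.ShortComplex.HomologicalComplex

set_option autoImplicit false
set_option linter.style.haveILetI false
set_option linter.unusedSectionVars false
universe v u
open CategoryTheory CategoryTheory.Limits

namespace Groth.Agent.H16Derived.ResThm

variable {C : Type u} [Category.{v} C] [Abelian C] {P₀ P₁ : ObjectProperty C}

/-- the target of the `i`th presentation -/
def prev (A : C) (Z : ℕ → C) : ℕ → C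
  | 0 => A
  | i + 1 => Z i

/-- A sequence of presentations linked at the kernels. -/
structure Seq' (P₀ : ObjectProperty C) (A : C) where
  Z : ℕ → C
  L : ℕ → C
  inc : ∀ i, Z i ⟶ L i
  proj : ∀ i, L i ⟶ prev A Z i
  w : ∀ i, inc i ≫ proj i = 0
  se : ∀ i, (ShortComplex.mk (inc i) (proj i) (w i)).ShortExact
  hL : ∀ i, P₀ (L i)

/-- prepend a presentation -/
def Seq'.cons {A : C} (c : Cov P₀ A) (t : Seq' P₀ c.K) : Seq' P₀ A where
  Z := fun | 0 => c.K | i + 1 => t.Z i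
  L := fun | 0 => c.L | i + 1 => t.L i
  inc := fun | 0 => c.i | i + 1 => t.inc i
  proj := fun | 0 => c.p | 1 => t.proj 0 | i + 2 => t.proj (i + 1)
  w := fun | 0 => c.w | 1 => t.w 0 | i + 2 => t.w (i + 1)
  se := fun | 0 => c.se | 1 => t.se 0 | i + 2 => t.se (i + 1)
  hL := fun | 0 => c.hL | i + 1 => t.hL i

/-- presentations chosen recursively -/
noncomputable def stepObj (H : Data P₀ P₁) (A : C) (hA : P₁ A) : ℕ → {X : C // P₁ X}
  | 0 => ⟨A, hA⟩
  | i + 1 =>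
    let c := (H.cov _ (stepObj H A hA i).2).some
    ⟨c.K, H.ker₁ _ c.se (H.hle _ c.hL) (stepObj H A hA i).2⟩

noncomputable def stepCov (H : Data P₀ P₁) (A : C) (hA : P₁ A) (i : ℕ) :
    Cov P₀ (stepObj H A hA i).1 :=
  (H.cov _ (stepObj H A hA i).2).some

theorem nonempty_seq (H : Data P₀ P₁) (A : C) (hA : P₁ A) : Nonempty (Seq' P₀ A) :=
  ⟨{ Z := fun i => (stepCov H A hA i).K
     L := fun i => (stepCov H A hA i).L
     inc := fun i => (stepCov H A hA i).i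
     proj := fun | 0 => (stepCov H A hA 0).p | i + 1 => (stepCov H A hA (i + 1)).p
     w := fun | 0 => (stepCov H A hA 0).w | i + 1 => (stepCov H A hA (i + 1)).w
     se := fun | 0 => (stepCov H A hA 0).se | i + 1 => (stepCov H A hA (i + 1)).se
     hL := fun i => (stepCov H A hA i).hL }⟩

theorem mem_of_seq (H : Data P₀ P₁) : ∀ (n : ℕ) (A : C), P₁ A →
    (∀ t : Seq' P₀ A, P₀ (t.Z n)) → Q P₀ P₁ (n + 1) A
  | 0, A, hA, h => ⟨hA, fun c => by
      obtain ⟨t⟩ := nonempty_seq H c.K (H.ker₁ _ c.se (H.hle _ c.hL) hA)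
      exact h (t.cons c)⟩
  | n + 1, A, hA, h => ⟨hA, fun c =>
      mem_of_seq H n c.K (H.ker₁ _ c.se (H.hle _ c.hL) hA) (fun t => h (t.cons c))⟩

namespace Seq'

variable {A : C} (t : Seq' P₀ A)

/-- the spliced resolution -/
noncomputable def cx : ChainComplex C ℕ :=
  ChainComplex.of t.L (fun i => t.proj (i + 1) ≫ t.inc i) (fun i => by
    have hw : t.inc (i + 1) ≫ t.proj (i + 1) = 0 := t.w (i + 1)
    rw [Category.assoc]
    exact (congrArg (t.proj (i + 1 + 1) ≫ ·) ((reassoc_of% hw) (t.inc i))).trans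
      ((congrArg (t.proj (i + 1 + 1) ≫ ·) zero_comp).trans comp_zero))

theorem cx_X (i : ℕ) : t.cx.X i = t.L i := rfl

theorem cx_d (i : ℕ) : t.cx.d (i + 1) i = t.proj (i + 1) ≫ t.inc i := by
  simp [cx]

theorem exactAt (i : ℕ) (hi : 1 ≤ i) : t.cx.ExactAt i := by
  obtain ⟨j, rfl⟩ : ∃ j, i = j + 1 := ⟨i - 1, by omega⟩
  rw [HomologicalComplex.exactAt_iff' _ (j + 2) (j + 1) j (by simp) (by simp),
    ShortComplex.exact_iff_exact_up_to_refinements]
  intro T x hx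
  have hx' : (x ≫ t.proj (j + 1)) ≫ t.inc j = 0 := by
    rw [Category.assoc]
    exact (congrArg (x ≫ ·) (t.cx_d j).symm).trans hx
  haveI : Mono (t.inc j) := (t.se j).mono_f
  haveI : Mono (ShortComplex.mk _ _ (t.w (j + 1))).f := (t.se (j + 1)).mono_f
  have hx'' : x ≫ t.proj (j + 1) = 0 := (cancel_mono (t.inc j)).1 (hx'.trans zero_comp.symm)
  haveI : Epi (t.proj (j + 2)) := (t.se (j + 2)).epi_g
  obtain ⟨T', π, hπ, y, hy⟩ := surjective_up_to_refinements_of_epi (t.proj (j + 2))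
    (show T ⟶ prev A t.Z (j + 2) from (t.se (j + 1)).exact.lift x hx'')
  refine ⟨T', π, hπ, y, ?_⟩
  have hl : (t.se (j + 1)).exact.lift x hx'' ≫ t.inc (j + 1) = x := (t.se (j + 1)).exact.lift_f _ _
  refine Eq.trans ?_ (congrArg (y ≫ ·) (t.cx_d (j + 1)).symm)
  show π ≫ x = y ≫ t.proj (j + 2) ≫ t.inc (j + 1)
  calc π ≫ x = π ≫ (t.se (j + 1)).exact.lift x hx'' ≫ t.inc (j + 1) := congrArg (π ≫ ·) hl.symm
    _ = (π ≫ (t.se (j + 1)).exact.lift x hx'') ≫ t.inc (j + 1) := (Category.assoc _ _ _).symm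
    _ = (y ≫ t.proj (j + 2)) ≫ t.inc (j + 1) := congrArg (· ≫ t.inc (j + 1)) hy
    _ = y ≫ t.proj (j + 2) ≫ t.inc (j + 1) := Category.assoc _ _ _

theorem nonempty_homology_iso : Nonempty (t.cx.homology 0 ≅ A) := by
  haveI : Epi (t.proj 1) := (t.se 1).epi_g
  haveI : Epi (ShortComplex.mk _ _ (t.w 0)).g := (t.se 0).epi_g
  have hz : t.cx.d 1 0 ≫ t.proj 0 = 0 := by
    refine (congrArg (· ≫ t.proj 0) (t.cx_d 0)).trans ?_
    exact (Category.assoc _ _ _).trans ((congrArg (t.proj 1 ≫ ·) (t.w 0)).trans comp_zero)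
  have hc : IsColimit (CokernelCofork.ofπ (f := t.cx.d 1 0) (t.proj 0) hz) :=
    @isCokernelEpiComp _ _ _ _ _ _ _ (t.se 0).gIsCokernel _ (t.proj 1) (t.se 1).epi_g _ (t.cx_d 0)
  exact ⟨t.cx.isoHomologyι 0 0 (by simp) (t.cx.shape _ _ (by simp)) ≪≫
    (t.cx.opcyclesIsCokernel 1 0 (by simp)).coconePointUniqueUpToIso hc⟩

theorem nonempty_cycles_iso (i : ℕ) : Nonempty (t.cx.cycles (i + 1) ≅ t.Z (i + 1)) := by
  haveI : Mono (t.inc i) := (t.se i).mono_f
  haveI : Mono (ShortComplex.mk _ _ (t.w (i + 1))).f := (t.se (i + 1)).mono_f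
  have hz : t.inc (i + 1) ≫ t.cx.d (i + 1) i = 0 := by
    refine (congrArg (t.inc (i + 1) ≫ ·) (t.cx_d i)).trans ?_
    exact (Category.assoc _ _ _).symm.trans ((congrArg (· ≫ t.inc i) (t.w (i + 1))).trans zero_comp)
  have hc : IsLimit (KernelFork.ofι (f := t.cx.d (i + 1) i) (t.inc (i + 1)) hz) :=
    @isKernelCompMono _ _ _ _ _ _ _ (t.se (i + 1)).fIsKernel _ (t.inc i) (t.se i).mono_f _ (t.cx_d i)
  exact ⟨(t.cx.cyclesIsKernel (i + 1) i (by simp)).conePointUniqueUpToIso hc⟩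

end Seq'

theorem exists_mem (H : Data P₀ P₁)
    (h3 : ∀ A : C, P₁ A → ∃ d : ℕ, ∀ L : ChainComplex C ℕ, (∀ i, P₀ (L.X i)) → (∀ i, 1 ≤ i → L.ExactAt i) →
      Nonempty (L.homology 0 ≅ A) → P₀ (L.cycles (d + 1)))
    (A : C) (hA : P₁ A) : ∃ n, Q P₀ P₁ n A := by
  obtain ⟨d, hd⟩ := h3 A hA
  haveI := H.iso₀
  refine ⟨d + 1 + 1, mem_of_seq H _ A hA fun t => ?_⟩
  obtain ⟨e⟩ := t.nonempty_cycles_iso d
  exact P₀.prop_of_iso e (hd t.cx t.hL t.exactAt t.nonempty_homology_iso)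

end Groth.Agent.H16Derived.ResThm
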