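import Mathlib.CategoryTheory.Subobject.Lattice
import Mathlib.CategoryTheory.Subobject.Limits
import Mathlib.CategoryTheory.Subobject.NoetherianObject
import Mathlib.CategoryTheory.Abelian.Refinements
import Mathlib.CategoryTheory.Simple
import Mathlib.Algebra.Homology.ShortComplex.Exact
import Mathlib.CategoryTheory.Abelian.Exact
import Mathlib.Order.ModularLattice
import Mathlib.Order.Cover

/-!
# The lattice of subobjects in an abelian category
-/

universe v u

open CategoryTheory CategoryTheory.Limits

set_option linter.unusedSectionVars false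

namespace Groth.Agent.H16Derived.SubLattice

variable {A : Type u} [Category.{v} A] [Abelian A] {X : A}

lemma le_of_forall {U V : Subobject X}
    (h : ∀ ⦃T : A⦄ (x : T ⟶ X), U.Factors x → V.Factors x) : U ≤ V := by
  exact Subobject.le_of_comm (V.factorThru _ (h U.arrow (Subobject.factors_self U)))
    (Subobject.factorThru_arrow _ _ _)

lemma factors_sub {T : A} {U : Subobject X} {f g : T ⟶ X} (hf : U.Factors f) (hg : U.Factors g) :
    U.Factors (f - g) := by
  have h : f - g = (U.factorThru f hf - U.factorThru g hg) ≫ U.arrow := by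
    simp [Preadditive.sub_comp]
  rw [h]
  exact Subobject.factors_comp_arrow _

lemma factors_comp {T T' : A} {U : Subobject X} (π : T' ⟶ T) {f : T ⟶ X} (hf : U.Factors f) :
    U.Factors (π ≫ f) := by
  have h : π ≫ f = (π ≫ U.factorThru f hf) ≫ U.arrow := by simp
  rw [h]
  exact Subobject.factors_comp_arrow _

lemma factors_of_epi {T T' : A} {U : Subobject X} (π : T' ⟶ T) [Epi π] {f : T ⟶ X}
    (hf : U.Factors (π ≫ f)) : U.Factors f := by
  let K := cokernel.π U.arrow
  have h1 : π ≫ f ≫ K = π ≫ 0 := by
    rw [comp_zero, ← Category.assoc, ← Subobject.factorThru_arrow U _ hf, Category.assoc,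
      cokernel.condition, comp_zero]
  have h2 : f ≫ K = 0 := (cancel_epi π).1 h1
  have hex : (ShortComplex.mk U.arrow K (cokernel.condition _)).Exact :=
    ShortComplex.exact_cokernel _
  have : Mono (ShortComplex.mk U.arrow K (cokernel.condition _)).f := inferInstanceAs (Mono U.arrow)
  rw [← hex.lift_f f h2]
  exact Subobject.factors_comp_arrow _

lemma imageSubobject_factors_iff {Z T : A} (f : Z ⟶ X) (x : T ⟶ X) :
    (imageSubobject f).Factors x ↔
      ∃ (T' : A) (π : T' ⟶ T) (_ : Epi π) (z : T' ⟶ Z), π ≫ x = z ≫ f := by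
  constructor
  · intro h
    obtain ⟨T', π, hπ, z, hz⟩ := surjective_up_to_refinements_of_epi (factorThruImageSubobject f)
      ((imageSubobject f).factorThru x h)
    refine ⟨T', π, hπ, z, ?_⟩
    calc π ≫ x = (π ≫ (imageSubobject f).factorThru x h) ≫ (imageSubobject f).arrow := by simp
      _ = z ≫ f := by rw [hz, Category.assoc, imageSubobject_arrow_comp]
  · rintro ⟨T', π, hπ, z, hz⟩
    apply factors_of_epi π
    rw [hz]
    exact imageSubobject_factors_comp_self (f := f) z

lemma sup_eq_imageSubobject (U V : Subobject X) :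
    U ⊔ V = imageSubobject (biprod.desc U.arrow V.arrow) := by
  apply le_antisymm
  · refine sup_le (Subobject.le_of_comm (biprod.inl ≫ factorThruImageSubobject _) ?_)
      (Subobject.le_of_comm (biprod.inr ≫ factorThruImageSubobject _) ?_)
    · rw [Category.assoc, imageSubobject_arrow_comp, biprod.inl_desc]
    · rw [Category.assoc, imageSubobject_arrow_comp, biprod.inr_desc]
  · refine imageSubobject_le _
      (biprod.desc (Subobject.ofLE U (U ⊔ V) le_sup_left) (Subobject.ofLE V (U ⊔ V) le_sup_right))
      ?_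
    apply biprod.hom_ext' <;> simp

/-- Membership in a supremum. -/
lemma sup_factors_iff (U V : Subobject X) {T : A} (x : T ⟶ X) :
    (U ⊔ V).Factors x ↔ ∃ (T' : A) (π : T' ⟶ T) (_ : Epi π) (u v : T' ⟶ X),
      U.Factors u ∧ V.Factors v ∧ π ≫ x = u + v := by
  rw [sup_eq_imageSubobject, imageSubobject_factors_iff]
  constructor
  · rintro ⟨T', π, hπ, z, hz⟩
    refine ⟨T', π, hπ, (z ≫ biprod.fst) ≫ U.arrow, (z ≫ biprod.snd) ≫ V.arrow,
      Subobject.factors_comp_arrow _, Subobject.factors_comp_arrow _, ?_⟩
    rw [hz, Category.assoc, Category.assoc, ← Preadditive.comp_add]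
    congr 1
    apply biprod.hom_ext' <;> simp
  · rintro ⟨T', π, hπ, u, v, hu, hv, h⟩
    exact ⟨T', π, hπ, biprod.lift (U.factorThru u hu) (V.factorThru v hv), by simp [h]⟩

instance isModularLattice (X : A) : IsModularLattice (Subobject X) := ⟨fun {U} V {W} hUW => by
  apply le_of_forall
  intro T x hx
  rw [Subobject.inf_factors] at hx
  obtain ⟨T', π, hπ, u, v, hu, hv, h⟩ := (sup_factors_iff U V x).1 hx.1
  rw [sup_factors_iff]
  refine ⟨T', π, hπ, u, v, hu, ?_, h⟩
  rw [Subobject.inf_factors]
  refine ⟨hv, ?_⟩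
  rw [show v = π ≫ x - u by rw [h]; abel]
  exact factors_sub (factors_comp π hx.2) (Subobject.factors_of_le u hUW hu)⟩

section Quotient

variable {U V : Subobject X} (h : U ≤ V)

/-- An element of `V` vanishes in `V/U` iff it lies in `U`. -/
lemma comp_π_eq_zero_iff {T : A} (z : T ⟶ (V : A)) :
    z ≫ cokernel.π (Subobject.ofLE U V h) = 0 ↔ U.Factors (z ≫ V.arrow) := by
  constructor
  · intro hz
    have hex : (ShortComplex.mk (Subobject.ofLE U V h) _ (cokernel.condition _)).Exact :=
      ShortComplex.exact_cokernel _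
    have : Mono (ShortComplex.mk (Subobject.ofLE U V h) _ (cokernel.condition _)).f :=
      inferInstanceAs (Mono (Subobject.ofLE U V h))
    rw [← hex.lift_f z hz, Category.assoc]
    erw [Subobject.ofLE_arrow]
    exact Subobject.factors_comp_arrow _
  · intro hz
    have e : z = U.factorThru _ hz ≫ Subobject.ofLE U V h := by
      rw [← cancel_mono V.arrow, Category.assoc, Subobject.ofLE_arrow, Subobject.factorThru_arrow]
    rw [e, Category.assoc, cokernel.condition, comp_zero]

lemma isZero_cokernel_iff : IsZero (cokernel (Subobject.ofLE U V h)) ↔ U = V := by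
  constructor
  · intro hz
    refine le_antisymm h (le_of_forall fun T x hx => ?_)
    have := (comp_π_eq_zero_iff h (V.factorThru x hx)).1 (hz.eq_of_tgt _ _)
    rwa [Subobject.factorThru_arrow] at this
  · rintro rfl
    rw [IsZero.iff_id_eq_zero, ← cancel_epi (cokernel.π (Subobject.ofLE U U h)), comp_zero,
      Category.comp_id]
    have := (comp_π_eq_zero_iff h (𝟙 (U : A))).2 (by
      rw [Category.id_comp]; exact Subobject.factors_self U)
    rwa [Category.id_comp] at this

lemma simple_cokernel_of_covBy (hc : U ⋖ V) : Simple (cokernel (Subobject.ofLE U V hc.le)) := by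
  refine ⟨fun {Y} f _ => ⟨fun hf hf0 => ?_, fun hf0 => ?_⟩⟩
  · have : IsZero (cokernel (Subobject.ofLE U V hc.le)) := by
      rw [IsZero.iff_id_eq_zero, ← cancel_epi f, Category.comp_id, comp_zero, hf0]
    exact hc.lt.ne ((isZero_cokernel_iff hc.le).1 this)
  · let p := cokernel.π (Subobject.ofLE U V hc.le)
    let W := imageSubobject (pullback.snd f p ≫ V.arrow)
    have hW : ∀ {T : A} (x : T ⟶ X) (hx : V.Factors x),
        W.Factors x ↔ ∃ (T' : A) (π : T' ⟶ T) (_ : Epi π) (y : T' ⟶ Y),
          π ≫ V.factorThru x hx ≫ p = y ≫ f := by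
      intro T x hx
      rw [imageSubobject_factors_iff]
      constructor
      · rintro ⟨T', π, hπ, z, hz⟩
        refine ⟨T', π, hπ, z ≫ pullback.fst f p, ?_⟩
        have e : π ≫ V.factorThru x hx = z ≫ pullback.snd f p := by
          rw [← cancel_mono V.arrow, Category.assoc, Category.assoc, Subobject.factorThru_arrow, hz]
        rw [reassoc_of% e, Category.assoc, pullback.condition]
      · rintro ⟨T', π, hπ, y, hy⟩
        exact ⟨T', π, hπ, pullback.lift y (π ≫ V.factorThru x hx) (by rw [Category.assoc, hy]),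
          by rw [pullback.lift_snd_assoc, Category.assoc, Subobject.factorThru_arrow]⟩
    have hWV : W ≤ V := imageSubobject_le _ (pullback.snd f p) rfl
    have hUW : U ≤ W := le_of_forall fun T x hx => by
      rw [hW x (Subobject.factors_of_le x hc.le hx)]
      refine ⟨T, 𝟙 T, inferInstance, 0, ?_⟩
      rw [Category.id_comp, zero_comp, comp_π_eq_zero_iff, Subobject.factorThru_arrow]
      exact hx
    have : Epi f := by
      rcases hc.eq_or_eq hUW hWV with e | e
      · exfalso
        apply hf0
        have : Epi (pullback.fst f p) := inferInstance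
        rw [← cancel_epi (pullback.fst f p), comp_zero, pullback.condition, comp_π_eq_zero_iff]
        refine (congrArg (fun S : Subobject X => S.Factors _) e).mp ?_
        rw [imageSubobject_factors_iff]
        exact ⟨_, 𝟙 _, inferInstance, 𝟙 _, by simp⟩
      · rw [epi_iff_surjective_up_to_refinements]
        intro T a
        obtain ⟨T₁, π₁, hπ₁, b, hb⟩ := surjective_up_to_refinements_of_epi p a
        obtain ⟨T₂, π₂, hπ₂, y, hy⟩ := (hW (b ≫ V.arrow) (Subobject.factors_comp_arrow b)).1
          (by rw [e]; exact Subobject.factors_comp_arrow b)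
        refine ⟨T₂, π₂ ≫ π₁, inferInstance, y, ?_⟩
        have eb : V.factorThru (b ≫ V.arrow) (Subobject.factors_comp_arrow b) = b := by
          rw [← cancel_mono V.arrow]; simp
        rw [eb] at hy
        rw [Category.assoc, hb, hy]
    exact isIso_of_mono_of_epi f

lemma covBy_of_simple (hs : Simple (cokernel (Subobject.ofLE U V h))) : U ⋖ V := by
  refine ⟨lt_of_le_of_ne h fun e => Simple.not_isZero _ ((isZero_cokernel_iff h).2 e),
    fun W hUW hWV => ?_⟩
  let p := cokernel.π (Subobject.ofLE U V h)
  let i : cokernel (Subobject.ofLE U W hUW.le) ⟶ cokernel (Subobject.ofLE U V h) :=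
    cokernel.desc _ (Subobject.ofLE W V hWV.le ≫ p) (by
      rw [← Category.assoc, Subobject.ofLE_comp_ofLE, cokernel.condition])
  have hm : Mono i := by
    rw [Preadditive.mono_iff_cancel_zero]
    intro T a ha
    obtain ⟨T₁, π, hπ, b, hb⟩ :=
      surjective_up_to_refinements_of_epi (cokernel.π (Subobject.ofLE U W hUW.le)) a
    rw [← cancel_epi π, comp_zero, hb, comp_π_eq_zero_iff]
    have h1 : (b ≫ Subobject.ofLE W V hWV.le) ≫ p = 0 := by
      have : (π ≫ a) ≫ i = 0 := by rw [Category.assoc, ha, comp_zero]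
      rw [hb] at this
      simpa [i] using this
    have h2 := (comp_π_eq_zero_iff h _).1 h1
    rwa [Category.assoc, Subobject.ofLE_arrow] at h2
  by_cases hi : i = 0
  · refine hUW.ne ((isZero_cokernel_iff hUW.le).1 ?_)
    rw [IsZero.iff_id_eq_zero, ← cancel_mono i, hi, comp_zero, comp_zero]
  · have := isIso_of_mono_of_nonzero hi
    refine hWV.ne (le_antisymm hWV.le (le_of_forall fun T x hx => ?_))
    obtain ⟨T₁, π, hπ, b, hb⟩ := surjective_up_to_refinements_of_epi
      (cokernel.π (Subobject.ofLE U W hUW.le)) ((V.factorThru x hx ≫ p) ≫ inv i)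
    apply factors_of_epi π
    have h1 : (π ≫ V.factorThru x hx - b ≫ Subobject.ofLE W V hWV.le) ≫ p = 0 := by
      have := congrArg (· ≫ i) hb
      simp only [Category.assoc, IsIso.inv_hom_id, Category.comp_id] at this
      rw [Preadditive.sub_comp, Category.assoc, this, sub_eq_zero]
      simp [i]
    have h2 := (comp_π_eq_zero_iff h _).1 h1
    rw [Preadditive.sub_comp, Category.assoc, Category.assoc, Subobject.ofLE_arrow,
      Subobject.factorThru_arrow] at h2
    have h3 : π ≫ x = (π ≫ x - b ≫ W.arrow) + b ≫ W.arrow := by abel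
    rw [h3]
    exact Subobject.factors_add _ _ (Subobject.factors_of_le _ hUW.le h2)
      (Subobject.factors_comp_arrow b)

end Quotient

/-- The second isomorphism theorem. -/
lemma nonempty_cokernel_sup_iso (U V : Subobject X) :
    Nonempty (cokernel (Subobject.ofLE (U ⊓ V) V inf_le_right) ≅
      cokernel (Subobject.ofLE U (U ⊔ V) le_sup_left)) := by
  let φ : cokernel (Subobject.ofLE (U ⊓ V) V inf_le_right) ⟶
      cokernel (Subobject.ofLE U (U ⊔ V) le_sup_left) :=
    cokernel.desc _ (Subobject.ofLE V (U ⊔ V) le_sup_right ≫ cokernel.π _) (by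
      rw [← Category.assoc, comp_π_eq_zero_iff, Category.assoc, Subobject.ofLE_arrow,
        Subobject.ofLE_arrow]
      exact Subobject.factors_of_le _ inf_le_left (Subobject.factors_self _))
  have : Mono φ := by
    rw [Preadditive.mono_iff_cancel_zero]
    intro T a ha
    obtain ⟨T₁, π, hπ, b, hb⟩ := surjective_up_to_refinements_of_epi (cokernel.π _) a
    rw [← cancel_epi π, comp_zero, hb, comp_π_eq_zero_iff, Subobject.inf_factors]
    refine ⟨?_, Subobject.factors_comp_arrow b⟩
    have h1 : (π ≫ a) ≫ φ = 0 := by rw [Category.assoc, ha, comp_zero]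
    rw [hb, Category.assoc, cokernel.π_desc, ← Category.assoc, comp_π_eq_zero_iff] at h1
    rwa [Category.assoc, Subobject.ofLE_arrow] at h1
  have : Epi φ := by
    rw [epi_iff_surjective_up_to_refinements]
    intro T a
    obtain ⟨T₁, π₁, hπ₁, b, hb⟩ := surjective_up_to_refinements_of_epi
      (cokernel.π (Subobject.ofLE U (U ⊔ V) le_sup_left)) a
    obtain ⟨T₂, π₂, hπ₂, u, v, hu, hv, h⟩ :=
      (sup_factors_iff U V (b ≫ (U ⊔ V).arrow)).1 (Subobject.factors_comp_arrow b)
    refine ⟨T₂, π₂ ≫ π₁, inferInstance, V.factorThru v hv ≫ cokernel.π _, ?_⟩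
    rw [Category.assoc, hb, Category.assoc, cokernel.π_desc, ← sub_eq_zero,
      ← Category.assoc, ← Category.assoc, ← Preadditive.sub_comp, comp_π_eq_zero_iff,
      Preadditive.sub_comp, Category.assoc, Category.assoc, Subobject.ofLE_arrow, h,
      Subobject.factorThru_arrow, add_sub_cancel_right]
    exact hu
  have := isIso_of_mono_of_epi φ
  exact ⟨asIso φ⟩

/-- The quotient intervals determine a subobject along a finite chain. -/
lemma eq_of_chain {n : ℕ} (F : Fin (n + 1) → Subobject X) (h0 : F 0 = ⊥) (hn : F (Fin.last n) = ⊤)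
    {W W' : Subobject X} (hle : W ≤ W')
    (h : ∀ i : Fin n, (W' ⊓ F i.succ) ⊔ F i.castSucc ≤ (W ⊓ F i.succ) ⊔ F i.castSucc) : W = W' := by
  suffices key : ∀ i : Fin (n + 1), W' ⊓ F i ≤ W by
    refine le_antisymm hle ?_
    have := key (Fin.last n)
    rwa [hn, inf_top_eq] at this
  intro i
  induction i using Fin.induction with
  | zero => rw [h0, inf_bot_eq]; exact bot_le
  | succ i ih =>
    calc W' ⊓ F i.succ ≤ ((W' ⊓ F i.succ) ⊔ F i.castSucc) ⊓ W' := le_inf le_sup_left inf_le_left
      _ ≤ ((W ⊓ F i.succ) ⊔ F i.castSucc) ⊓ W' := inf_le_inf_right _ (h i)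
      _ ≤ (W ⊓ F i.succ) ⊔ (F i.castSucc ⊓ W') :=
        IsModularLattice.sup_inf_le_assoc_of_le _ (inf_le_left.trans hle)
      _ ≤ W := sup_le inf_le_left (by rw [inf_comm]; exact ih)

end Groth.Agent.H16Derived.SubLattice
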