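import Groth.Agent.H16Derived.KInjRes.Products
import Groth.Prelude.Def_SpSeq
import Mathlib.Algebra.Homology.GrothendieckAbelian
import Mathlib.CategoryTheory.Abelian.GrothendieckAxioms.Colim
import Mathlib.CategoryTheory.Functor.OfSequence

/-!
# Filtered complexes representing inverse systems in derived categories
-/

set_option autoImplicit false

universe w v u

open CategoryTheory CategoryTheory.Limits CochainComplex

namespace Groth.Agent.H16Derived.SystemRep

variable {A : Type u} [Category.{v} A] [Abelian A]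

/-- A family over `ℤ` for a functional relation, built upwards and downwards from `0`. -/
lemma exists_int_family {α : ℤ → Type*} (up : ∀ i, α i → α (i + 1)) (P : ∀ i, α i → Prop)
    (x₀ : α 0) (h₀ : P 0 x₀) (hup : ∀ i x, P i x → P (i + 1) (up i x))
    (hdown : ∀ i y, P (i + 1) y → ∃ x, P i x ∧ up i x = y) :
    ∃ f : ∀ i, α i, ∀ i, P i (f i) ∧ up i (f i) = f (i + 1) := by
  choose down hd using fun i (y : {y : α (i + 1) // P (i + 1) y}) => hdown i y.1 y.2
  let U : ∀ n : ℕ, {x : α (Int.ofNat n) // P (Int.ofNat n) x} :=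
    fun n => Nat.rec ⟨x₀, h₀⟩ (fun k p => ⟨up (Int.ofNat k) p.1, hup _ _ p.2⟩) n
  let D : ∀ n : ℕ, {x : α (Int.negSucc n) // P (Int.negSucc n) x} :=
    fun n => Nat.rec ⟨down (Int.negSucc 0) (U 0), (hd (Int.negSucc 0) (U 0)).1⟩
      (fun k p => ⟨down (Int.negSucc (k + 1)) p, (hd (Int.negSucc (k + 1)) p).1⟩) n
  let f : ∀ i, α i := fun i => match i with
    | Int.ofNat n => (U n).1
    | Int.negSucc n => (D n).1
  refine ⟨f, fun i => ?_⟩
  match i with
  | Int.ofNat n => exact ⟨(U n).2, rfl⟩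
  | Int.negSucc 0 => exact ⟨(D 0).2, (hd (Int.negSucc 0) (U 0)).2⟩
  | Int.negSucc (n + 1) => exact ⟨(D (n + 1)).2, (hd (Int.negSucc (n + 1)) (D n)).2⟩

/-- A null homotopic morphism into a complex of injectives extends, as a null homotopic morphism,
along monomorphisms. -/
lemma exists_null_extension {X Y I : CochainComplex A ℤ} (f : X ⟶ Y) [Mono f]
    (hI : ∀ n, Injective (I.X n)) (φ : X ⟶ I) (h : Homotopy φ 0) :
    ∃ Φ : Y ⟶ I, f ≫ Φ = φ ∧ Nonempty (Homotopy Φ 0) := by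
  let hom : ∀ i j, (ComplexShape.up ℤ).Rel j i → (Y.X i ⟶ I.X j) := fun i j _ =>
    Injective.factorThru (h.hom i j) (f.f i)
  refine ⟨Homotopy.nullHomotopicMap' hom, ?_, ⟨Homotopy.nullHomotopy' hom⟩⟩
  rw [Homotopy.comp_nullHomotopicMap']
  ext n
  rw [Homotopy.nullHomotopicMap'_f (show (ComplexShape.up ℤ).Rel (n - 1) n by simp)
    (show (ComplexShape.up ℤ).Rel n (n + 1) from rfl), h.comm n,
    dNext_eq _ (show (ComplexShape.up ℤ).Rel n (n + 1) from rfl),
    prevD_eq _ (show (ComplexShape.up ℤ).Rel (n - 1) n by simp)]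
  simp [hom]

variable [IsGrothendieckAbelian.{v} A]

/-- Any inverse system of complexes can be replaced, up to homotopy equivalence, by one with
monomorphic transition maps. -/
lemma exists_mono_system (X : ℤ → CochainComplex A ℤ) (t : ∀ i, X (i + 1) ⟶ X i) :
    ∃ (J : ℤ → CochainComplex A ℤ) (t' : ∀ i, J (i + 1) ⟶ J i) (p : ∀ i, J i ⟶ X i)
      (s : ∀ i, X i ⟶ J i), (∀ i, Mono (t' i)) ∧ (∀ i, t' i ≫ p i = p (i + 1) ≫ t i) ∧
        ∀ i, s i ≫ p i = 𝟙 _ ∧ Nonempty (Homotopy (p i ≫ s i - 𝟙 _) 0) := by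
  let X' : ULift.{v} ℤ → CochainComplex A ℤ := fun k => X k.down
  let D := mappingCone (𝟙 (∐ X'))
  let W := ∏ᶜ fun _ : ULift.{v} ℕ => D
  let ι : ∀ i, X i ⟶ D := fun i => Sigma.ι X' ⟨i⟩ ≫ mappingCone.inr (𝟙 (∐ X'))
  have hι : ∀ i, Mono (ι i) := fun i => inferInstanceAs (Mono (_ ≫ _))
  let c : ∀ i, X (i + 1) ⊞ W ⟶ W := fun i =>
    Pi.lift fun n => match n with
      | ⟨0⟩ => biprod.fst ≫ ι (i + 1)
      | ⟨k + 1⟩ => biprod.snd ≫ Pi.π _ ⟨k⟩
  refine ⟨fun i => X i ⊞ W, fun i => biprod.lift (biprod.fst ≫ t i) (c i),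
    fun i => biprod.fst, fun i => biprod.inl, fun i => ⟨fun {Z} a b hab => ?_⟩,
    fun i => biprod.lift_fst _ _, fun i => ⟨biprod.inl_fst, ?_⟩⟩
  · have hc : a ≫ c i = b ≫ c i := by simpa using hab =≫ biprod.snd
    apply biprod.hom_ext
    · rw [← cancel_mono (ι (i + 1))]
      simpa [c] using hc =≫ Pi.π _ (⟨0⟩ : ULift.{v} ℕ)
    · refine Pi.hom_ext _ _ fun n => ?_
      simpa [c] using hc =≫ Pi.π _ (⟨n.down + 1⟩ : ULift.{v} ℕ)
  · obtain ⟨hW⟩ : Nonempty (Homotopy (𝟙 W) 0) := KInjRes.nonempty_homotopy_zero_of_fan _ (productIsProduct fun _ : ULift.{v} ℕ => D)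
      (𝟙 W) fun n => ⟨(Homotopy.ofEq (show 𝟙 W ≫ Pi.π _ n = Pi.π _ n ≫ 𝟙 D by simp)).trans
        (((TermwiseSplit.homotopyIdZero (∐ X')).compLeft _).trans (Homotopy.ofEq (by simp)))⟩
    refine ⟨(Homotopy.ofEq ?_).trans (((hW.compLeft (biprod.snd : X i ⊞ W ⟶ W)).compRight
      (-biprod.inr)).trans (Homotopy.ofEq (by simp)))⟩
    apply biprod.hom_ext <;> simp

/-- Monomorphisms from all the terms of a system with monomorphic transition maps into a fixed
contractible complex. -/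
lemma exists_common_mono (J : ℤ → CochainComplex A ℤ) (t : ∀ i, J (i + 1) ⟶ J i)
    [∀ i, Mono (t i)] :
    ∃ (P : CochainComplex A ℤ) (_ : Homotopy (𝟙 P) 0) (m : ∀ i, J i ⟶ P),
      (∀ i, Mono (m i)) ∧ ∀ i, t i ≫ m i = m (i + 1) := by
  let S : ℕ → CochainComplex A ℤ := fun n => match n with
    | 0 => J 0
    | k + 1 => J (Int.negSucc k)
  let g : ∀ n, S n ⟶ S (n + 1) := fun n => match n with
    | 0 => t (Int.negSucc 0)
    | k + 1 => t (Int.negSucc (k + 1))
  let F : ℕ ⥤ CochainComplex A ℤ := Functor.ofSequence g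
  have hg : ∀ n, Mono (g n) := fun n => match n with
    | 0 => inferInstanceAs (Mono (t (Int.negSucc 0)))
    | k + 1 => inferInstanceAs (Mono (t (Int.negSucc (k + 1))))
  have hF : ∀ (p q : ℕ) (h : p ⟶ q), Mono (F.map h) := by
    intro p q h
    obtain ⟨k, rfl⟩ := Nat.exists_eq_add_of_le (leOfHom h)
    induction k with
    | zero => rw [Subsingleton.elim h (𝟙 p), F.map_id]; infer_instance
    | succ k ih =>
      rw [Subsingleton.elim h (homOfLE (Nat.le_add_right p k) ≫ homOfLE (Nat.le_succ _)), F.map_comp]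
      haveI := ih (homOfLE (Nat.le_add_right p k))
      haveI : Mono (F.map (homOfLE (Nat.le_succ (p + k)))) := by
        rw [Functor.ofSequence_map_homOfLE_succ]; exact hg _
      exact mono_comp _ _
  haveI : AB5OfSize.{0, 0} (CochainComplex A ℤ) := AB5OfSize_shrink.{0, 0, v, v} (CochainComplex A ℤ)
  have hm : ∀ n, Mono (colimit.ι F n) := fun n =>
    haveI := hF
    (colimit.isColimit F).mono_ι_app_of_isFiltered n
  have w : ∀ n, g n ≫ colimit.ι F (n + 1) = colimit.ι F n := fun n => by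
    have e := colimit.w F (homOfLE (Nat.le_succ n))
    rwa [Functor.ofSequence_map_homOfLE_succ] at e
  let inr := mappingCone.inr (𝟙 (colimit F))
  let U : ∀ n : ℕ, J (Int.ofNat n) ⟶ colimit F :=
    fun n => Nat.rec (colimit.ι F 0) (fun k p => t (Int.ofNat k) ≫ p) n
  let m : ∀ i, J i ⟶ colimit F := fun i => match i with
    | Int.ofNat n => U n
    | Int.negSucc k => colimit.ι F (k + 1)
  refine ⟨mappingCone (𝟙 (colimit F)), TermwiseSplit.homotopyIdZero _,
    fun i => m i ≫ inr, fun i => ?_, fun i => ?_⟩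
  · have : Mono (m i) := by
      match i with
      | Int.ofNat n =>
        induction n with
        | zero => exact hm 0
        | succ k ih => exact @mono_comp _ _ _ _ _ (t (Int.ofNat k)) _ _ ih
      | Int.negSucc k => exact hm (k + 1)
    exact mono_comp _ _
  · rw [← Category.assoc]
    congr 1
    match i with
    | Int.ofNat n => rfl
    | Int.negSucc 0 => exact w 0
    | Int.negSucc (k + 1) => exact w (k + 1)

variable [HasDerivedCategory.{w} A]

open DerivedCategory in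
lemma isIso_Q_map {K L : CochainComplex A ℤ} (p : K ⟶ L) (s : L ⟶ K) (h₁ : s ≫ p = 𝟙 _)
    (h₂ : Homotopy (p ≫ s - 𝟙 _) 0) : IsIso (Q.map p) := by
  refine ⟨Q.map s, ?_, by rw [← Functor.map_comp, h₁, CategoryTheory.Functor.map_id]⟩
  have e := Q_map_eq_of_homotopy A h₂
  rwa [Functor.map_zero, Functor.map_sub, sub_eq_zero, Functor.map_comp, CategoryTheory.Functor.map_id] at e

open DerivedCategory in
theorem exists_filtered_complex (E : DerivedCategory A) (Es : ℤ → DerivedCategory A)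
    (t : ∀ i : ℤ, Es (i + 1) ⟶ Es i) (a : ∀ i : ℤ, Es i ⟶ E)
    (hat : ∀ i : ℤ, t i ≫ a i = a (i + 1)) :
    ∃ (K : SpSeq.FilCx A) (e : Q.obj K.obj ≅ E) (ei : ∀ i : ℤ, Q.obj (K.step i) ≅ Es i),
      (∀ i : ℤ, Q.map (K.fil i).arrow ≫ e.hom = (ei i).hom ≫ a i) ∧
      (∀ i : ℤ, Q.map (K.stepLE (le_of_lt (Int.lt_succ_self i))) ≫ (ei i).hom =
        (ei (i + 1)).hom ≫ t i) := by
  obtain ⟨N, j, hN⟩ := KInjRes.exists_resolution_functor (A := A)
  haveI : ∀ M, (N.obj M).IsKInjective := fun M => (hN M).2.2.1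
  haveI : ∀ M, IsIso (Q.map (j.app M)) := fun M =>
    haveI := (hN M).2.1
    inferInstance
  let X : ℤ → CochainComplex A ℤ := fun i => N.obj (Q.objPreimage (Es i))
  let I : CochainComplex A ℤ := N.obj (Q.objPreimage E)
  let ε : ∀ i, Q.obj (X i) ≅ Es i := fun i =>
    (asIso (Q.map (j.app (Q.objPreimage (Es i))))).symm ≪≫ Q.objObjPreimageIso (Es i)
  let e₀ : Q.obj I ≅ E :=
    (asIso (Q.map (j.app (Q.objPreimage E)))).symm ≪≫ Q.objObjPreimageIso E
  choose T hT using fun i => KInjRes.exists_Q_map_eq ((ε (i + 1)).hom ≫ t i ≫ (ε i).inv)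
  obtain ⟨J, t', p, s, hmono, hp, hs⟩ := exists_mono_system X T
  haveI : ∀ i, IsIso (Q.map (p i)) := fun i => isIso_Q_map (p i) (s i) (hs i).1 (hs i).2.some
  let η : ∀ i, Q.obj (J i) ≅ Es i := fun i => asIso (Q.map (p i)) ≪≫ ε i
  have hη : ∀ i, Q.map (t' i) ≫ (η i).hom = (η (i + 1)).hom ≫ t i := fun i => by
    simp only [η, Iso.trans_hom, asIso_hom, ← Functor.map_comp_assoc, hp, Functor.map_comp,
      Category.assoc, hT, Iso.inv_hom_id, Category.comp_id]
  obtain ⟨b, hb⟩ : ∃ b : ∀ i, J i ⟶ I, ∀ i,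
      Q.map (b i) = (η i).hom ≫ a i ≫ e₀.inv ∧ t' i ≫ b i = b (i + 1) := by
    obtain ⟨x₀, hx₀⟩ := KInjRes.exists_Q_map_eq ((η 0).hom ≫ a 0 ≫ e₀.inv)
    refine exists_int_family (α := fun i => J i ⟶ I) (fun i x => t' i ≫ x)
      (fun i x => Q.map x = (η i).hom ≫ a i ≫ e₀.inv) x₀ hx₀ (fun i x hx => ?_) (fun i y hy => ?_)
    · rw [Functor.map_comp, hx, reassoc_of% (hη i), ← hat i]
      simp
    · obtain ⟨g, hg⟩ := KInjRes.exists_Q_map_eq ((η i).hom ≫ a i ≫ e₀.inv)
      obtain ⟨h⟩ : Nonempty (Homotopy (y - t' i ≫ g) 0) := by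
        apply KInjRes.nonempty_homotopy_of_Q_map_eq
        rw [hy, Functor.map_comp, hg, reassoc_of% (hη i), ← hat i]
        simp
      haveI := hmono i
      obtain ⟨Φ, hΦ, ⟨hΦ₀⟩⟩ := exists_null_extension (t' i) (hN _).2.2.2 _ h
      refine ⟨g + Φ, ?_, ?_⟩
      · rw [Functor.map_add, hg, Q_map_eq_of_homotopy A hΦ₀, Functor.map_zero, add_zero]
      · rw [Preadditive.comp_add, hΦ]
        simp
  haveI := hmono
  obtain ⟨P, hP, m, hm, hmt⟩ := exists_common_mono J t'
  let f : ∀ i, J i ⟶ I ⊞ P := fun i => biprod.lift (b i) (m i)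
  haveI : ∀ i, Mono (f i) := fun i =>
    haveI := hm i
    mono_of_mono_fac (biprod.lift_snd (b i) (m i))
  have hf : ∀ i, t' i ≫ f i = f (i + 1) := fun i => by
    apply biprod.hom_ext <;> simp [f, (hb i).2, hmt i]
  let K : SpSeq.FilCx A :=
    { obj := I ⊞ P
      fil := fun i => Subobject.mk (f i)
      anti := antitone_int_of_succ_le fun i => Subobject.mk_le_mk_of_comm (t' i) (hf i) }
  haveI : IsIso (Q.map (biprod.fst : I ⊞ P ⟶ I)) :=
    isIso_Q_map _ biprod.inl biprod.inl_fst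
      ((Homotopy.ofEq (show biprod.fst ≫ biprod.inl - 𝟙 _ = biprod.snd ≫ 𝟙 P ≫ (-biprod.inr) by
        apply biprod.hom_ext <;> simp)).trans
      (((hP.compRight (-biprod.inr)).compLeft (biprod.snd : I ⊞ P ⟶ P)).trans
        (Homotopy.ofEq (by simp))))
  let ei : ∀ i, Q.obj (K.step i) ≅ Es i := fun i =>
    Q.mapIso (Subobject.underlyingIso (f i)) ≪≫ η i
  have hu : ∀ i, (K.fil i).arrow = (Subobject.underlyingIso (f i)).hom ≫ f i := fun i =>
    (Subobject.underlyingIso_hom_comp_eq_mk (f i)).symm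
  refine ⟨K, asIso (Q.map (biprod.fst : I ⊞ P ⟶ I)) ≪≫ e₀, ei, fun i => ?_, fun i => ?_⟩
  · change Q.map (K.fil i).arrow ≫ Q.map biprod.fst ≫ e₀.hom =
      (Q.map (Subobject.underlyingIso (f i)).hom ≫ (η i).hom) ≫ a i
    rw [← Functor.map_comp_assoc, hu, Category.assoc, biprod.lift_fst, Functor.map_comp,
      (hb i).1]
    simp
  · have hle : K.stepLE (show i ≤ i + 1 from le_of_lt (Int.lt_succ_self i)) ≫ (Subobject.underlyingIso (f i)).hom =
        (Subobject.underlyingIso (f (i + 1))).hom ≫ t' i := by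
      rw [← cancel_mono (f i), Category.assoc, Category.assoc, hf]
      exact ((congrArg (K.stepLE _ ≫ ·) (hu i).symm).trans (Subobject.ofLE_arrow _)).trans (hu (i + 1))
    change Q.map (K.stepLE (show i ≤ i + 1 from le_of_lt (Int.lt_succ_self i))) ≫ Q.map (Subobject.underlyingIso (f i)).hom ≫ (η i).hom =
      (Q.map (Subobject.underlyingIso (f (i + 1))).hom ≫ (η (i + 1)).hom) ≫ t i
    rw [Category.assoc, ← hη]
    have e := congrArg (fun z => Q.map z ≫ (η i).hom) hle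
    simp only [Functor.map_comp, Category.assoc] at e
    exact e

end Groth.Agent.H16Derived.SystemRep
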