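import Groth.Agent.H16Derived.AcyclicLES
import Mathlib.Algebra.Homology.DerivedCategory.RightDerivedFunctorPlus

/-!
# The unit of the right derived functor on the bounded below homotopy category
-/

universe w w' v v' u u'

open CategoryTheory CategoryTheory.Limits

namespace Groth.Agent.H16Derived.UnitPlus

variable {A : Type u} [Category.{v} A] [Abelian A] [HasDerivedCategory.{w} A] [EnoughInjectives A]
  {B : Type u'} [Category.{v'} B] [Abelian B] [HasDerivedCategory.{w'} B]
  (F : A ⥤ B) [F.Additive]

/-- The unit at a complex is invertible iff `F` of an injective resolution of it is a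
quasi-isomorphism. -/
lemma isIso_unit_iff (K : CochainComplex.Plus A) (L : CochainComplex.Plus (InjectiveObject A))
    (i : K ⟶ (InjectiveObject.ι A).mapCochainComplexPlus.obj L)
    (hi : CochainComplex.Plus.quasiIso A i) :
    IsIso (F.rightDerivedFunctorPlusUnit.app ((HomotopyCategory.Plus.quotient A).obj K)) ↔
      QuasiIso ((F.mapHomologicalComplex (ComplexShape.up ℤ)).map i.hom) := by
  let w := (HomotopyCategory.Plus.quotient A).map i
  have hw : HomotopyCategory.Plus.quasiIso A w :=
    (HomotopyCategory.quotient_map_mem_quasiIso_iff i.hom).2 hi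
  have : IsIso (DerivedCategory.Plus.Qh.map w) :=
    Localization.inverts DerivedCategory.Plus.Qh (HomotopyCategory.Plus.quasiIso A) w hw
  have hJ : IsIso (F.rightDerivedFunctorPlusUnit.app ((HomotopyCategory.Plus.quotient A).obj
      ((InjectiveObject.ι A).mapCochainComplexPlus.obj L))) := inferInstance
  have nat := F.rightDerivedFunctorPlusUnit.naturality w
  have h1 : IsIso (F.rightDerivedFunctorPlusUnit.app ((HomotopyCategory.Plus.quotient A).obj K)) ↔
      IsIso ((F.mapHomotopyCategoryPlus ⋙ DerivedCategory.Plus.Qh).map w) := by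
    constructor
    · intro h
      have : IsIso ((F.mapHomotopyCategoryPlus ⋙ DerivedCategory.Plus.Qh).map w ≫
          F.rightDerivedFunctorPlusUnit.app _) := by
        rw [nat, Functor.comp_map DerivedCategory.Plus.Qh]
        exact IsIso.comp_isIso' h inferInstance
      exact @IsIso.of_isIso_comp_right _ _ _ _ _ _ _ hJ this
    · intro h
      have : IsIso (F.rightDerivedFunctorPlusUnit.app ((HomotopyCategory.Plus.quotient A).obj K) ≫
          F.rightDerivedFunctorPlus.map (DerivedCategory.Plus.Qh.map w)) := by
        rw [← Functor.comp_map DerivedCategory.Plus.Qh, ← nat]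
        exact IsIso.comp_isIso' h hJ
      exact IsIso.of_isIso_comp_right _ (F.rightDerivedFunctorPlus.map (DerivedCategory.Plus.Qh.map w))
  rw [h1, ← isIso_iff_of_reflects_iso _ DerivedCategory.Plus.ι,
    ← DerivedCategory.isIso_Q_map_iff_quasiIso]
  exact NatIso.isIso_map_iff (DerivedCategory.quotientCompQhIso B)
    ((F.mapHomologicalComplex (ComplexShape.up ℤ)).map i.hom)

end Groth.Agent.H16Derived.UnitPlus
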