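import Mathlib.CategoryTheory.Triangulated.TStructure.TruncLEGT
import Mathlib.CategoryTheory.Triangulated.TStructure.Heart
import Mathlib.CategoryTheory.Triangulated.Subcategory
import Mathlib.CategoryTheory.Localization.CalculusOfFractions
import Mathlib.CategoryTheory.Triangulated.Functor

/-!
# t-structures on Verdier quotients
-/

set_option autoImplicit false
set_option linter.style.haveILetI false
set_option linter.unusedSectionVars false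

universe v v' u u'

open CategoryTheory CategoryTheory.Limits CategoryTheory.Pretriangulated CategoryTheory.Triangulated

namespace Groth.Agent.H16Derived.VerdierT

variable {C : Type u} [Category.{v} C] [Preadditive C] [HasZeroObject C] [HasShift C ℤ]
  [∀ n : ℤ, (shiftFunctor C n).Additive] [Pretriangulated C] [IsTriangulated C]
  (t : TStructure C) (D : ObjectProperty C) [D.IsTriangulated] [D.IsClosedUnderIsomorphisms]

lemma isLE_of_isZero {C' : Type*} [Category C'] [Preadditive C'] [HasZeroObject C'] [HasShift C' ℤ]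
    [∀ n : ℤ, (shiftFunctor C' n).Additive] [Pretriangulated C'] (t' : TStructure C')
    {X : C'} (hX : IsZero X) (n : ℤ) : t'.IsLE X n := by
  obtain ⟨P, Q, hP, hQ, f, g, h, hT⟩ := t'.exists_triangle X n (n + 1) rfl
  haveI : t'.IsLE P n := ⟨hP⟩
  haveI : t'.IsGE Q (n + 1) := ⟨hQ⟩
  have h₂ := (Triangle.isZero₂_iff_isIso₃ _ hT).1 hX
  haveI : IsIso h := h₂
  haveI : t'.IsLE Q n := by
    haveI : t'.IsLE (P⟦(1 : ℤ)⟧) (n - 1) := t'.isLE_shift P n 1 (n - 1)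
    haveI : t'.IsLE (P⟦(1 : ℤ)⟧) n := t'.isLE_of_le _ (n - 1) n
    exact t'.isLE_of_iso (asIso h).symm n
  have hQ0 : IsZero Q := t'.isZero Q n (n + 1)
  have hP0 : IsZero P := (shiftFunctor C' (1 : ℤ)).map_isZero hQ0 |> fun _ => by
    have : IsZero (P⟦(1 : ℤ)⟧) := hQ0.of_iso (asIso h).symm
    rw [IsZero.iff_id_eq_zero] at this ⊢
    exact (shiftFunctor C' (1 : ℤ)).map_injective (by
      rw [CategoryTheory.Functor.map_id, this, Functor.map_zero])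
  exact t'.isLE_of_iso (hP0.iso hX) n

variable (h1 : ∀ X : C, D X → ∀ n : ℤ, D ((t.truncGELE n n).obj X))

include h1 in
lemma truncLE_mem {Z : C} (hZ : D Z) {a : ℤ} [t.IsGE Z a] (n : ℤ) : D ((t.truncLE n).obj Z) := by
  rcases lt_or_ge n a with hn | hn
  · haveI : t.IsGE Z (n + 1) := t.isGE_of_ge Z (n + 1) a
    exact D.prop_of_isZero (t.isZero_truncLE_obj_of_isGE n (n + 1) rfl Z)
  · suffices ∀ k : ℕ, D ((t.truncLE (a - 1 + k)).obj Z) by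
      obtain ⟨k, hk⟩ := Int.eq_ofNat_of_zero_le (show 0 ≤ n - (a - 1) by lia)
      have := this k
      rwa [show a - 1 + k = n by lia] at this
    intro k
    induction k with
    | zero =>
      haveI : t.IsGE Z (a - 1 + 1) := t.isGE_of_ge Z (a - 1 + 1) a
      simpa using D.prop_of_isZero (t.isZero_truncLE_obj_of_isGE (a - 1) (a - 1 + 1) rfl Z)
    | succ k ih =>
      have hm : a - 1 + ((k + 1 : ℕ) : ℤ) = a - 1 + k + 1 := by push_cast; lia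
      rw [hm]
      haveI := t.isIso_truncLE_map_truncLEι_app (a - 1 + k) (a - 1 + k + 1) (by lia) Z
      exact D.ext_of_isTriangulatedClosed₂ _
        (t.triangleLEGE_distinguished (a - 1 + k) (a - 1 + k + 1) rfl
          ((t.truncLE (a - 1 + k + 1)).obj Z))
        (D.prop_of_iso (asIso ((t.truncLE (a - 1 + k)).map ((t.truncLEι (a - 1 + k + 1)).app Z))).symm ih)
        (h1 Z hZ (a - 1 + k + 1))

variable (hb : ∀ X : C, t.bounded X)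
variable (h2 : ∀ (X Y Z : C) (f : X ⟶ Y) (g : Y ⟶ Z) (h : Z ⟶ X⟦(1 : ℤ)⟧),
  Triangle.mk f g h ∈ distTriang C → t.heart X → t.heart Y → t.heart Z → D Y → D X ∧ D Z)

include h1 hb in
lemma truncLE_mem' {Z : C} (hZ : D Z) (n : ℤ) : D ((t.truncLE n).obj Z) := by
  obtain ⟨a, ha⟩ := (hb Z).1
  haveI : t.IsGE Z a := ha
  exact truncLE_mem t D h1 hZ (a := a) n

include h1 hb h2 in
/-- A quotient in the heart of an object of `D` lies in `D`. -/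
lemma quotient_mem {Z Q M : C} (f : Z ⟶ Q) (g : Q ⟶ M) (h : M ⟶ Z⟦(1 : ℤ)⟧)
    (hT : Triangle.mk f g h ∈ distTriang C) (hZ : D Z) [t.IsLE Z 0] [t.IsLE Q 0] [t.IsGE Q 0]
    [t.IsLE M (-1)] : D Q := by
  let T₀ := (t.triangleLEGE (-1) 0 (by lia)).obj Z
  have hT₀ : T₀ ∈ distTriang C := t.triangleLEGE_distinguished (-1) 0 (by lia) Z
  let L := (t.truncLE (-1)).obj Z
  let P := (t.truncGE 0).obj Z
  let π : Z ⟶ P := (t.truncGEπ 0).app Z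
  have hP : D P := D.ext_of_isTriangulatedClosed₃ T₀ hT₀ (truncLE_mem' t D h1 hb hZ (-1)) hZ
  haveI : t.IsLE L (-1) := by dsimp [L]; infer_instance
  haveI : t.IsGE P 0 := by dsimp [P]; infer_instance
  haveI : t.IsLE (L⟦(1 : ℤ)⟧) (-2) := t.isLE_shift L (-1) 1 (-2)
  haveI : t.IsLE (L⟦(1 : ℤ)⟧) 0 := t.isLE_of_le _ (-2) 0
  haveI : t.IsLE P 0 := t.isLE₂ _ (rot_of_distTriang T₀ hT₀) 0 (by assumption) (by assumption)
  obtain ⟨k, hk⟩ := Triangle.yoneda_exact₂ T₀ hT₀ f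
    (t.zero_of_isLE_of_isGE _ (-1) 0 (by lia) (inferInstanceAs (t.IsLE ((t.truncLE (-1)).obj Z) (-1))) inferInstance)
  change P ⟶ Q at k
  change f = π ≫ k at hk
  obtain ⟨N, g', h', hN⟩ := distinguished_cocone_triangle k
  obtain o := Triangulated.someOctahedron hk.symm (rot_of_distTriang T₀ hT₀) hN hT
  haveI : t.IsLE N (-1) := by
    haveI : t.IsLE ((L⟦(1 : ℤ)⟧)⟦(1 : ℤ)⟧) (-3) := t.isLE_shift _ (-2) 1 (-3)
    exact t.isLE₂ _ (rot_of_distTriang _ o.mem) (-1) (by assumption)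
      (t.isLE_of_le ((L⟦(1 : ℤ)⟧)⟦(1 : ℤ)⟧) (-3) (-1))
  have hI := inv_rot_of_distTriang _ hN
  haveI : t.IsLE (N⟦(-1 : ℤ)⟧) 0 := t.isLE_shift N (-1) (-1) 0
  haveI : t.IsGE (Q⟦(-1 : ℤ)⟧) 1 := t.isGE_shift Q 0 (-1) 1
  haveI : t.IsGE (N⟦(-1 : ℤ)⟧) 0 :=
    t.isGE₂ _ (inv_rot_of_distTriang _ hI) 0 (t.isGE_of_ge (Q⟦(-1 : ℤ)⟧) 0 1) (by assumption)
  exact (h2 _ _ _ _ _ _ hI ((t.mem_heart_iff _).2 ⟨by assumption, by assumption⟩)
    ((t.mem_heart_iff _).2 ⟨by assumption, by assumption⟩)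
    ((t.mem_heart_iff _).2 ⟨by assumption, by assumption⟩) hP).2

include h1 hb h2 in
lemma exists_le_trW {X₁ X Z₀ : C} (s : X₁ ⟶ X) (c : X ⟶ Z₀) (d : Z₀ ⟶ X₁⟦(1 : ℤ)⟧)
    (hT : Triangle.mk s c d ∈ distTriang C) (hZ : D Z₀) [t.IsLE X 0] [t.IsLE Z₀ 0] :
    ∃ (X₂ : C) (u : X₂ ⟶ X₁), t.IsLE X₂ 0 ∧ D.trW u := by
  haveI : t.IsLE (X⟦(1 : ℤ)⟧) (-1) := t.isLE_shift X 0 1 (-1)
  haveI : t.IsLE (X⟦(1 : ℤ)⟧) 0 := t.isLE_of_le _ (-1) 0
  have hb' := rot_of_distTriang _ (rot_of_distTriang _ hT)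
  let Cc := X₁⟦(1 : ℤ)⟧
  haveI : t.IsLE Cc 0 := t.isLE₂ _ hb' 0 (by assumption) (by assumption)
  let T₁ := (t.triangleLEGE (-1) 0 (by lia)).obj Cc
  have hT₁ : T₁ ∈ distTriang C := t.triangleLEGE_distinguished (-1) 0 (by lia) Cc
  let L := (t.truncLE (-1)).obj Cc
  let Q := (t.truncGE 0).obj Cc
  haveI : t.IsLE L (-1) := by dsimp [L]; infer_instance
  haveI : t.IsGE Q 0 := by dsimp [Q]; infer_instance
  haveI : t.IsLE (L⟦(1 : ℤ)⟧) (-2) := t.isLE_shift L (-1) 1 (-2)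
  haveI : t.IsLE (L⟦(1 : ℤ)⟧) 0 := t.isLE_of_le _ (-2) 0
  haveI : t.IsLE Q 0 := t.isLE₂ _ (rot_of_distTriang T₁ hT₁) 0 (by assumption) (by assumption)
  obtain ⟨M, g, h, hM⟩ := distinguished_cocone_triangle (d ≫ T₁.mor₂)
  obtain o := Triangulated.someOctahedron rfl hb' (rot_of_distTriang T₁ hT₁) hM
  haveI : t.IsLE M (-1) := t.isLE₂ _ o.mem (-1) (by assumption)
    (t.isLE_of_le (L⟦(1 : ℤ)⟧) (-2) (-1))
  have hQ : D Q := quotient_mem t D h1 hb h2 (Q := Q) (d ≫ T₁.mor₂) g h hM hZ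
  let ι : L ⟶ Cc := (t.truncLEι (-1)).app Cc
  have hι : D.trW ι := ⟨Q, _, _, hT₁, hQ⟩
  refine ⟨L⟦(-1 : ℤ)⟧, ι⟦(-1 : ℤ)⟧' ≫ ((shiftEquiv C (1 : ℤ)).unitIso.app X₁).inv,
    t.isLE_shift L (-1) (-1) 0, ?_⟩
  refine (D.trW.cancel_right_of_respectsIso _ _).2 ?_
  exact (MorphismProperty.IsCompatibleWithShift.iff D.trW ι (-1 : ℤ)).2 hι

section Quotient

variable {E : Type u'} [Category.{v'} E] [Preadditive E] [HasZeroObject E] [HasShift E ℤ]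
  [∀ n : ℤ, (shiftFunctor E n).Additive] [Pretriangulated E]
  (q : C ⥤ E) [q.CommShift ℤ] [q.IsTriangulated] [q.IsLocalization D.trW]

include h1 hb h2 in
lemma hom_eq_zero {X Y : C} [t.IsLE X 0] [t.IsGE Y 1] (φ : q.obj X ⟶ q.obj Y) : φ = 0 := by
  haveI : q.Additive := inferInstance
  obtain ⟨r, rfl⟩ := Localization.exists_rightFraction q D.trW φ
  obtain ⟨Z, c, d, hT, hZ⟩ := r.hs
  let Z₀ := (t.truncLE 0).obj Z
  have hZ₀ : D Z₀ := truncLE_mem' t D h1 hb hZ 0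
  haveI : t.IsLE Z₀ 0 := by dsimp [Z₀]; infer_instance
  let c₀ : X ⟶ Z₀ := t.liftTruncLE c 0
  obtain ⟨X₁, s₁, d₁, hT₁⟩ := distinguished_cocone_triangle₁ c₀
  obtain ⟨a, ha, -⟩ := complete_distinguished_triangle_morphism₁ _ _ hT₁ hT (𝟙 X)
    ((t.truncLEι 0).app Z) (by show c₀ ≫ _ = 𝟙 X ≫ c; rw [Category.id_comp]; exact t.liftTruncLE_ι c 0)
  change X₁ ⟶ r.X' at a
  change s₁ ≫ 𝟙 X = a ≫ r.s at ha
  rw [Category.comp_id] at ha
  obtain ⟨X₂, u, hX₂, hu⟩ := exists_le_trW t D h1 hb h2 s₁ c₀ d₁ hT₁ hZ₀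
  have h0 : u ≫ a ≫ r.f = 0 := t.zero_of_isLE_of_isGE _ 0 1 (by lia) hX₂ inferInstance
  haveI : IsIso (q.map s₁) := Localization.inverts q D.trW _ ⟨_, _, _, hT₁, hZ₀⟩
  haveI : IsIso (q.map u) := Localization.inverts q D.trW _ hu
  rw [← cancel_epi (q.map s₁), ← cancel_epi (q.map u), comp_zero, comp_zero]
  rw [ha, Functor.map_comp, Category.assoc, MorphismProperty.RightFraction.map_s_comp_map,
    ← Functor.map_comp, ← Functor.map_comp, h0, Functor.map_zero]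

/-- The `≤ n` part on the quotient. -/
def qLE (n : ℤ) : ObjectProperty E := fun Y => ∃ X : C, t.IsLE X n ∧ Nonempty (q.obj X ≅ Y)

/-- The `≥ n` part on the quotient. -/
def qGE (n : ℤ) : ObjectProperty E := fun Y => ∃ X : C, t.IsGE X n ∧ Nonempty (q.obj X ≅ Y)

include D in
/-- The t-structure on the quotient. -/
noncomputable def quotientT (h1 : ∀ X : C, D X → ∀ n : ℤ, D ((t.truncGELE n n).obj X))
    (hb : ∀ X : C, t.bounded X)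
    (h2 : ∀ (X Y Z : C) (f : X ⟶ Y) (g : Y ⟶ Z) (h : Z ⟶ X⟦(1 : ℤ)⟧),
      Triangle.mk f g h ∈ distTriang C → t.heart X → t.heart Y → t.heart Z → D Y → D X ∧ D Z) :
    TStructure E where
  le := qLE t q
  ge := qGE t q
  le_isClosedUnderIsomorphisms n := ⟨fun e ⟨X, hX, ⟨e'⟩⟩ => ⟨X, hX, ⟨e' ≪≫ e⟩⟩⟩
  ge_isClosedUnderIsomorphisms n := ⟨fun e ⟨X, hX, ⟨e'⟩⟩ => ⟨X, hX, ⟨e' ≪≫ e⟩⟩⟩
  le_shift := fun n a n' h Y ⟨X, hX, ⟨e⟩⟩ =>
    ⟨X⟦a⟧, t.isLE_shift X n a n', ⟨(q.commShiftIso a).app X ≪≫ (shiftFunctor E a).mapIso e⟩⟩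
  ge_shift := fun n a n' h Y ⟨X, hX, ⟨e⟩⟩ =>
    ⟨X⟦a⟧, t.isGE_shift X n a n', ⟨(q.commShiftIso a).app X ≪≫ (shiftFunctor E a).mapIso e⟩⟩
  zero' := fun Y Y' f ⟨X, hX, ⟨e⟩⟩ ⟨X', hX', ⟨e'⟩⟩ => by
    rw [← cancel_epi e.hom, ← cancel_mono e'.inv, Category.assoc, comp_zero, zero_comp]
    exact hom_eq_zero t D h1 hb h2 q _
  le_zero_le := fun Y ⟨X, hX, e⟩ => ⟨X, t.isLE_of_le X 0 1, e⟩
  ge_one_le := fun Y ⟨X, hX, e⟩ => ⟨X, t.isGE_of_ge X 0 1, e⟩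
  exists_triangle_zero_one := fun Y => by
    haveI := Localization.essSurj q D.trW
    obtain ⟨X', Y', hX', hY', f, g, h, hT⟩ := t.exists_triangle_zero_one (q.objPreimage Y)
    let e := q.objObjPreimageIso Y
    refine ⟨q.obj X', q.obj Y', ⟨X', ⟨hX'⟩, ⟨Iso.refl _⟩⟩, ⟨Y', ⟨hY'⟩, ⟨Iso.refl _⟩⟩,
      q.map f ≫ e.hom, e.inv ≫ q.map g, q.map h ≫ (q.commShiftIso (1 : ℤ)).hom.app X', ?_⟩
    refine isomorphic_distinguished _ (q.map_distinguished _ hT) _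
      (Triangle.isoMk _ _ (Iso.refl _) e.symm (Iso.refl _) ?_ ?_ ?_)
    · show (q.map f ≫ e.hom) ≫ e.inv = 𝟙 (q.obj X') ≫ q.map f
      simp
    · show (e.inv ≫ q.map g) ≫ 𝟙 (q.obj Y') = e.inv ≫ q.map g
      simp
    · show (q.map h ≫ (q.commShiftIso (1 : ℤ)).hom.app X') ≫ (shiftFunctor E (1 : ℤ)).map (𝟙 (q.obj X')) =
        𝟙 (q.obj Y') ≫ q.map h ≫ (q.commShiftIso (1 : ℤ)).hom.app X'
      simp

theorem ext_of_le {E' : Type*} [Category E'] [Preadditive E'] [HasZeroObject E'] [HasShift E' ℤ]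
    [∀ n : ℤ, (shiftFunctor E' n).Additive] [Pretriangulated E'] (t₁ t₂ : TStructure E')
    (hle : ∀ n, t₁.le n ≤ t₂.le n) (hge : ∀ n, t₁.ge n ≤ t₂.ge n) : t₁ = t₂ := by
  have h₁ : ∀ n, t₂.le n ≤ t₁.le n := by
    intro n Y hY
    obtain ⟨P, Q, hP, hQ, f, g, h, hT⟩ := t₁.exists_triangle Y n (n + 1) rfl
    haveI : t₂.IsLE P n := ⟨hle n P hP⟩
    haveI : t₂.IsLE Y n := ⟨hY⟩
    haveI : t₂.IsGE Q (n + 1) := ⟨hge _ Q hQ⟩
    haveI : t₂.IsLE (P⟦(1 : ℤ)⟧) (n - 1) := t₂.isLE_shift P n 1 (n - 1)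
    haveI : t₂.IsLE Q n := t₂.isLE₂ _ (rot_of_distTriang _ hT) n (by assumption)
      (t₂.isLE_of_le (P⟦(1 : ℤ)⟧) (n - 1) n)
    have hQ0 : IsZero Q := t₂.isZero Q n (n + 1)
    haveI : IsIso f := (Triangle.isZero₃_iff_isIso₁ _ hT).1 hQ0
    exact (t₁.le n).prop_of_iso (asIso f) hP
  have h₂ : ∀ n, t₂.ge n ≤ t₁.ge n := by
    intro n Y hY
    obtain ⟨P, Q, hP, hQ, f, g, h, hT⟩ := t₁.exists_triangle Y (n - 1) n (by lia)
    haveI : t₂.IsLE P (n - 1) := ⟨hle _ P hP⟩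
    haveI : t₂.IsGE Y n := ⟨hY⟩
    haveI : t₂.IsGE Q n := ⟨hge _ Q hQ⟩
    haveI : t₂.IsGE (Q⟦(-1 : ℤ)⟧) (n + 1) := t₂.isGE_shift Q n (-1) (n + 1)
    haveI : t₂.IsGE P n := t₂.isGE₂ _ (inv_rot_of_distTriang _ hT) n
      (t₂.isGE_of_ge (Q⟦(-1 : ℤ)⟧) n (n + 1)) (by assumption)
    have hP0 : IsZero P := t₂.isZero P (n - 1) n
    haveI : IsIso g := (Triangle.isZero₁_iff_isIso₂ _ hT).1 hP0
    exact (t₁.ge n).prop_of_iso (asIso g).symm hQ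
  have e₁ : t₁.le = t₂.le := funext fun n => le_antisymm (hle n) (h₁ n)
  have e₂ : t₁.ge = t₂.ge := funext fun n => le_antisymm (hge n) (h₂ n)
  cases t₁; cases t₂
  cases e₁; cases e₂
  rfl

include h1 hb h2 in
theorem existsUnique_tStructure :
    ∃ t' : TStructure E,
      (∀ (X : C) (n : ℤ), t.IsLE X n → t'.IsLE (q.obj X) n) ∧
      (∀ (X : C) (n : ℤ), t.IsGE X n → t'.IsGE (q.obj X) n) ∧
      (∀ (Y : E) (n : ℤ), t'.IsLE Y n ↔ ∃ X : C, t.IsLE X n ∧ Nonempty (q.obj X ≅ Y)) ∧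
      (∀ (Y : E) (n : ℤ), t'.IsGE Y n ↔ ∃ X : C, t.IsGE X n ∧ Nonempty (q.obj X ≅ Y)) ∧
      ∀ t'' : TStructure E,
        (∀ (X : C) (n : ℤ), t.IsLE X n → t''.IsLE (q.obj X) n) →
        (∀ (X : C) (n : ℤ), t.IsGE X n → t''.IsGE (q.obj X) n) → t'' = t' := by
  refine ⟨quotientT t D q h1 hb h2, fun X n hX => ⟨⟨X, hX, ⟨Iso.refl _⟩⟩⟩,
    fun X n hX => ⟨⟨X, hX, ⟨Iso.refl _⟩⟩⟩, fun Y n => ⟨fun h => h.le, fun h => ⟨h⟩⟩,
    fun Y n => ⟨fun h => h.ge, fun h => ⟨h⟩⟩, fun t'' hle hge => (ext_of_le _ _ ?_ ?_).symm⟩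
  · rintro n Y ⟨X, hX, ⟨e⟩⟩
    exact (t''.le n).prop_of_iso e (hle X n hX).le
  · rintro n Y ⟨X, hX, ⟨e⟩⟩
    exact (t''.ge n).prop_of_iso e (hge X n hX).ge

end Quotient

end Groth.Agent.H16Derived.VerdierT
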